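import Mathlib
import Groth.Prelude.Def_CohB1
import Groth.Agent.Lib.Helper5.ProjBaseChange

set_option autoImplicit false
universe u
open CategoryTheory CategoryTheory.Limits AlgebraicGeometry

namespace Groth.Agent.Lib.Helper93.ProjOverIso

section Irrelevant
variable (n : ℕ) (R : Type u) [CommRing R]

theorem proj_eq_homogeneousComponent (i : ℕ) (a : MvPolynomial (Fin (n + 1)) R) :
    GradedRing.proj (CohB1.polyGrading n R) i a = MvPolynomial.homogeneousComponent i a := by
  rw [GradedRing.proj_apply]
  exact MvPolynomial.decomposition.decompose'_apply a i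

theorem mem_irrelevant_iff (a : MvPolynomial (Fin (n + 1)) R) :
    a ∈ (HomogeneousIdeal.irrelevant (CohB1.polyGrading n R)).toIdeal ↔
      MvPolynomial.constantCoeff a = 0 := by
  change GradedRing.proj (CohB1.polyGrading n R) 0 a = 0 ↔ _
  rw [proj_eq_homogeneousComponent, MvPolynomial.homogeneousComponent_zero]
  simp [MvPolynomial.constantCoeff_eq]

theorem X_mem_irrelevant (i : Fin (n + 1)) :
    (MvPolynomial.X i : MvPolynomial (Fin (n + 1)) R) ∈
      (HomogeneousIdeal.irrelevant (CohB1.polyGrading n R)).toIdeal := by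
  rw [mem_irrelevant_iff]; simp

theorem irrelevant_le_span_X :
    (HomogeneousIdeal.irrelevant (CohB1.polyGrading n R)).toIdeal ≤
      Ideal.span ((MvPolynomial.X : Fin (n + 1) → MvPolynomial (Fin (n + 1)) R) '' Set.univ) := by
  intro a ha
  rw [mem_irrelevant_iff, MvPolynomial.constantCoeff_eq] at ha
  rw [MvPolynomial.mem_ideal_span_X_image]
  intro m hm
  rw [MvPolynomial.mem_support_iff] at hm
  have hm0 : m ≠ 0 := by
    rintro rfl
    exact hm ha
  obtain ⟨i, hi⟩ := Finsupp.ne_iff.mp hm0
  exact ⟨i, Set.mem_univ _, by simpa using hi⟩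

end Irrelevant

section
variable (n : ℕ) {R' R : Type u} [CommRing R'] [CommRing R] [Algebra R' R]

attribute [local instance] MvPolynomial.algebraMvPolynomial

/-- `MvPolynomial.map` as a graded ring hom. -/
noncomputable def mapGr : CohB1.polyGrading n R' →+*ᵍ CohB1.polyGrading n R :=
  { MvPolynomial.map (algebraMap R' R) with
    map_mem := fun {i x} hx => by
      have hx' : x.IsHomogeneous i := (MvPolynomial.mem_homogeneousSubmodule i x).mp hx
      exact (MvPolynomial.mem_homogeneousSubmodule i _).mpr (hx'.map _) }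

theorem mapGr_apply (p : MvPolynomial (Fin (n + 1)) R') :
    mapGr n (R' := R') (R := R) p = MvPolynomial.map (algebraMap R' R) p := rfl

theorem irrelevant_le :
    HomogeneousIdeal.irrelevant (CohB1.polyGrading n R) ≤
      (HomogeneousIdeal.irrelevant (CohB1.polyGrading n R')).map (mapGr n (R' := R') (R := R)) := by
  intro a ha
  have h1 := irrelevant_le_span_X n R ha
  refine (Ideal.span_le.mpr ?_ : Ideal.span _ ≤ _) h1
  rintro _ ⟨i, -, rfl⟩
  have : (MvPolynomial.X i : MvPolynomial (Fin (n + 1)) R) =
      mapGr n (R' := R') (R := R) (MvPolynomial.X i) := by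
    rw [mapGr_apply, MvPolynomial.map_X]
  rw [this]
  exact Ideal.mem_map_of_mem _ (X_mem_irrelevant n R' i)

variable (R' R) in
/-- The base change morphism `P^n_R ⟶ P^n_{R'}`. -/
noncomputable def bcMap : CohB1.ProjSpace n R ⟶ CohB1.ProjSpace n R' :=
  Proj.map (mapGr n (R' := R') (R := R)) (irrelevant_le n)

theorem isPullback_projSpace :
    IsPullback (bcMap n R' R)
      (CohB1.ProjSpace.toSpec n R) (CohB1.ProjSpace.toSpec n R')
      (Spec.map (CommRingCat.ofHom (algebraMap R' R))) :=
  Groth.Agent.Lib.Helper5.proj_baseChange_isPullback (ℬ := CohB1.polyGrading n R')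
    (𝒜 := CohB1.polyGrading n R) (mapGr n) (fun _ => rfl) (irrelevant_le n)

end

section Over
variable (n : ℕ) (R : Type u) [CommRing R]

attribute [local instance] ULift.algebra'

/-- `P^n_{Spec R} ≅ P^n_R`, at the level of the defining pullback. -/
noncomputable def overIso' :
    pullback (CohB1.ProjSpace.toSpec n (ULift.{u} ℤ))
      (specULiftZIsTerminal.from (Spec (CommRingCat.of R))) ≅ CohB1.ProjSpace n R :=
  ((isPullback_projSpace n (R' := ULift.{u} ℤ) (R := R)).isoPullback.trans
    (pullback.congrHom rfl (specULiftZIsTerminal.hom_ext _ _))).symm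

theorem overIso'_hom_toSpec :
    (overIso' n R).hom ≫ CohB1.ProjSpace.toSpec n R = pullback.snd _ _ := by
  unfold overIso'
  rw [Iso.symm_hom, Iso.trans_inv, Category.assoc, IsPullback.isoPullback_inv_snd,
    pullback.congrHom_inv, pullback.lift_snd, Category.comp_id]

theorem overIso'_hom_bcMap :
    (overIso' n R).hom ≫ bcMap n (ULift.{u} ℤ) R = pullback.fst _ _ := by
  unfold overIso'
  rw [Iso.symm_hom, Iso.trans_inv, Category.assoc, IsPullback.isoPullback_inv_fst,
    pullback.congrHom_inv, pullback.lift_fst, Category.comp_id]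

/-- `P^n_{Spec R} ≅ P^n_R`. -/
noncomputable def overIso : CohB1.ProjSpaceOver n (Spec (CommRingCat.of R)) ≅ CohB1.ProjSpace n R :=
  overIso' n R

theorem overIso_hom_toSpec :
    (overIso n R).hom ≫ CohB1.ProjSpace.toSpec n R =
      CohB1.ProjSpaceOver.toBase n (Spec (CommRingCat.of R)) :=
  overIso'_hom_toSpec n R

theorem overIso_inv_toBase :
    (overIso n R).inv ≫ CohB1.ProjSpaceOver.toBase n (Spec (CommRingCat.of R)) =
      CohB1.ProjSpace.toSpec n R := by
  rw [← overIso_hom_toSpec, Iso.inv_hom_id_assoc]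

end Over

end Groth.Agent.Lib.Helper93.ProjOverIso
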