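import Mathlib
set_option autoImplicit false
universe u

namespace Groth.Agent.Lib.Helper93.BiratAlg

variable {B A : Type u} [CommRing B] [CommRing A] (φ : B →+* A)
  (q : Ideal B) [q.IsPrime] (p : Ideal A) [p.IsPrime]

theorem exists_dvd_map
    (hb : ∀ p' : Ideal A, p'.IsPrime → p'.comap φ ≤ q → p' = p)
    {t : A} (ht : t ∉ p) : ∃ s : B, s ∉ q ∧ t ∣ φ s := by
  by_contra hcon
  push Not at hcon
  have hdisj : Disjoint ((Ideal.span {t} : Ideal A) : Set A)
      ((q.primeCompl.map φ : Submonoid A) : Set A) := by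
    rw [Set.disjoint_left]
    rintro a ha ⟨s, hs, rfl⟩
    exact hcon s hs (Ideal.mem_span_singleton.mp ha)
  obtain ⟨p', hp', hle, hd⟩ := Ideal.exists_le_prime_disjoint _ _ hdisj
  have hp'p : p' = p := by
    apply hb p' hp'
    intro b hb'
    by_contra hbq
    exact Set.disjoint_left.mp hd hb' ⟨b, hbq, rfl⟩
  subst hp'p
  exact ht (hle (Ideal.mem_span_singleton_self t))

theorem exists_mul_eq_map (hq : q = p.comap φ)
    (hb : ∀ p' : Ideal A, p'.IsPrime → p'.comap φ ≤ q → p' = p)
    (hsurj : Function.Surjective (Localization.localRingHom q p φ hq)) (a : A) :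
    ∃ g : B, g ∉ q ∧ ∃ b : B, φ g * a = φ b := by
  obtain ⟨β, hβ⟩ := hsurj (algebraMap A (Localization.AtPrime p) a)
  obtain ⟨b, s, rfl⟩ := IsLocalization.exists_mk'_eq q.primeCompl β
  rw [Localization.localRingHom_mk', IsLocalization.mk'_eq_iff_eq_mul, ← map_mul,
    IsLocalization.eq_iff_exists p.primeCompl] at hβ
  obtain ⟨t, ht⟩ := hβ
  obtain ⟨s', hs', c, hc⟩ := exists_dvd_map φ q p hb t.2
  refine ⟨s' * s, ?_, s' * b, ?_⟩
  · intro h
    rcases (Ideal.IsPrime.mem_or_mem inferInstance h) with h | h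
    · exact hs' h
    · exact s.2 h
  · have ht' : (t : A) * φ b = t * (a * φ s) := ht
    rw [map_mul, map_mul, hc]
    calc (t : A) * c * φ s * a = c * ((t : A) * (a * φ s)) := by ring
      _ = c * ((t : A) * φ b) := by rw [ht']
      _ = (t : A) * c * φ b := by ring

theorem exists_pow_mul_eq_map (hq : q = p.comap φ) (hft : φ.FiniteType)
    (hb : ∀ p' : Ideal A, p'.IsPrime → p'.comap φ ≤ q → p' = p)
    (hsurj : Function.Surjective (Localization.localRingHom q p φ hq)) :
    ∃ g : B, g ∉ q ∧ ∀ a : A, ∃ (n : ℕ) (b : B), φ g ^ n * a = φ b := by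
  classical
  let _ := φ.toAlgebra
  obtain ⟨s, hs⟩ := (hft : Algebra.FiniteType B A).out
  choose G hG bb hbb using exists_mul_eq_map φ q p hq hb hsurj
  refine ⟨∏ a ∈ s, G a, ?_, ?_⟩
  · intro h
    rw [Ideal.IsPrime.prod_mem_iff] at h
    obtain ⟨a, -, ha⟩ := h
    exact hG a ha
  · intro a
    have ha : a ∈ Algebra.adjoin B (s : Set A) := by rw [hs]; trivial
    induction ha using Algebra.adjoin_induction with
    | mem x hx =>
      refine ⟨1, (∏ a ∈ s.erase x, G a) * bb x, ?_⟩
      rw [pow_one, ← Finset.prod_erase_mul s G hx, map_mul, map_mul, ← hbb x]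
      ring
    | algebraMap r =>
      exact ⟨0, r, by rw [pow_zero, one_mul]; rfl⟩
    | add x y _ _ hx hy =>
      obtain ⟨n, b, h1⟩ := hx
      obtain ⟨m, b', h2⟩ := hy
      refine ⟨n + m, (∏ a ∈ s, G a) ^ m * b + (∏ a ∈ s, G a) ^ n * b', ?_⟩
      rw [map_add, map_mul, map_mul, map_pow, map_pow, ← h1, ← h2]
      ring
    | mul x y _ _ hx hy =>
      obtain ⟨n, b, h1⟩ := hx
      obtain ⟨m, b', h2⟩ := hy
      refine ⟨n + m, b * b', ?_⟩
      rw [map_mul, ← h1, ← h2]
      ring

theorem away_map_bijective (g : B)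
    (hs : ∀ a : A, ∃ (n : ℕ) (b : B), φ g ^ n * a = φ b)
    (hi : ∀ b : B, φ b = 0 → ∃ n : ℕ, g ^ n * b = 0)
    (B' A' : Type u) [CommRing B'] [CommRing A'] [Algebra B B'] [Algebra A A']
    [IsLocalization.Away g B'] [IsLocalization.Away (φ g) A'] :
    Function.Bijective (IsLocalization.Away.map B' A' φ g) := by
  constructor
  · rw [injective_iff_map_eq_zero]
    intro β hβ
    obtain ⟨b, s, rfl⟩ := IsLocalization.exists_mk'_eq (Submonoid.powers g) β
    rw [IsLocalization.Away.map, IsLocalization.map_mk', IsLocalization.mk'_eq_zero_iff] at hβ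
    obtain ⟨⟨_, m, rfl⟩, hm⟩ := hβ
    have hm' : φ (g ^ m * b) = 0 := by rw [map_mul, map_pow]; exact hm
    obtain ⟨n, hn⟩ := hi _ hm'
    rw [IsLocalization.mk'_eq_zero_iff]
    refine ⟨⟨g ^ (n + m), n + m, rfl⟩, ?_⟩
    change g ^ (n + m) * b = 0
    rw [pow_add, mul_assoc]; exact hn
  · intro α
    obtain ⟨a, ⟨_, k, rfl⟩, rfl⟩ := IsLocalization.exists_mk'_eq (Submonoid.powers (φ g)) α
    obtain ⟨n, b, hnb⟩ := hs a
    refine ⟨IsLocalization.mk' B' b (⟨g ^ (n + k), n + k, rfl⟩ : Submonoid.powers g), ?_⟩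
    rw [IsLocalization.Away.map, IsLocalization.map_mk', IsLocalization.mk'_eq_iff_eq]
    simp only [map_pow]
    rw [← hnb]
    congr 1
    ring

theorem exists_inj_of_finitePresentation (hq : q = p.comap φ) (hfp : φ.FinitePresentation)
    (hinj : Function.Injective (Localization.localRingHom q p φ hq))
    (g₁ : B) (hg₁ : g₁ ∉ q) (hs₁ : ∀ a : A, ∃ (n : ℕ) (b : B), φ g₁ ^ n * a = φ b) :
    ∃ t : B, t ∉ q ∧ ∀ b : B, φ b = 0 → ∃ n : ℕ, g₁ ^ n * (t * b) = 0 := by
  classical
  let _ := φ.toAlgebra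
  have hφ : algebraMap B A = φ := rfl
  have : Algebra.FinitePresentation B A := hfp
  let B₁ := Localization.Away g₁
  let A₁ := Localization.Away (algebraMap B A g₁)
  have hunit : IsUnit ((Algebra.ofId B A₁) g₁) := by
    rw [Algebra.ofId_apply, IsScalarTower.algebraMap_apply B A A₁]
    exact IsLocalization.Away.algebraMap_isUnit _
  let f : B₁ →ₐ[B] A₁ := IsLocalization.Away.liftAlgHom g₁ (f := Algebra.ofId B A₁) hunit
  have hf_alg : ∀ b : B, f (algebraMap B B₁ b) = algebraMap A A₁ (φ b) := by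
    intro b
    rw [AlgHom.commutes, IsScalarTower.algebraMap_apply B A A₁]
    rfl
  have hfsurj : Function.Surjective f := by
    intro α
    obtain ⟨a, ⟨_, k, rfl⟩, rfl⟩ :=
      IsLocalization.exists_mk'_eq (Submonoid.powers (algebraMap B A g₁)) α
    obtain ⟨n, b, hnb⟩ := hs₁ a
    refine ⟨IsLocalization.mk' B₁ b (⟨g₁ ^ (n + k), n + k, rfl⟩ : Submonoid.powers g₁), ?_⟩
    have h1 : f (IsLocalization.mk' B₁ b (⟨g₁ ^ (n + k), n + k, rfl⟩ : Submonoid.powers g₁)) *
        algebraMap A A₁ (φ g₁ ^ (n + k)) = algebraMap A A₁ (φ b) := by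
      rw [← map_pow, ← hf_alg, ← map_mul, ← hf_alg]
      congr 1
      exact IsLocalization.mk'_spec B₁ b (⟨g₁ ^ (n + k), n + k, rfl⟩ : Submonoid.powers g₁)
    rw [IsLocalization.eq_mk'_iff_mul_eq]
    have hu : IsUnit (algebraMap A A₁ (φ g₁ ^ n)) := by
      rw [map_pow]
      exact (IsLocalization.Away.algebraMap_isUnit (S := A₁) (algebraMap B A g₁)).pow _
    apply hu.mul_left_injective
    change _ * algebraMap A A₁ (φ g₁ ^ k) * _ = _ * _
    rw [mul_assoc, ← map_mul, ← pow_add, add_comm k n, h1, ← hnb, map_mul, mul_comm]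
  have : Algebra.FinitePresentation B B₁ := IsLocalization.Away.finitePresentation g₁
  have : Algebra.FinitePresentation A A₁ :=
    IsLocalization.Away.finitePresentation (algebraMap B A g₁)
  have : Algebra.FinitePresentation B A₁ := Algebra.FinitePresentation.trans B A A₁
  obtain ⟨K, hK⟩ := Algebra.FinitePresentation.ker_fG_of_surjective f hfsurj
  have hkill : ∀ k : B₁, f k = 0 → ∃ t : B, t ∉ q ∧ algebraMap B B₁ t * k = 0 := by
    intro k hk
    obtain ⟨b, ⟨_, j, rfl⟩, rfl⟩ := IsLocalization.exists_mk'_eq (Submonoid.powers g₁) k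
    have h1 : algebraMap A A₁ (φ b) = 0 := by
      rw [← hf_alg, ← IsLocalization.mk'_spec B₁ b (⟨g₁ ^ j, j, rfl⟩ : Submonoid.powers g₁),
        map_mul, hk, zero_mul]
    rw [IsLocalization.map_eq_zero_iff (Submonoid.powers (algebraMap B A g₁))] at h1
    obtain ⟨⟨_, m, rfl⟩, hm⟩ := h1
    have h2 : φ (g₁ ^ m * b) = 0 := by rw [map_mul, map_pow]; exact hm
    have h3 : algebraMap B (Localization.AtPrime q) (g₁ ^ m * b) = 0 := by
      apply hinj
      rw [Localization.localRingHom_to_map, h2, map_zero, map_zero]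
    rw [IsLocalization.map_eq_zero_iff q.primeCompl] at h3
    obtain ⟨s, hs⟩ := h3
    refine ⟨s * g₁ ^ m, ?_, ?_⟩
    · intro h
      rcases Ideal.IsPrime.mem_or_mem inferInstance h with h | h
      · exact s.2 h
      · exact hg₁ (Ideal.IsPrime.mem_of_pow_mem inferInstance _ h)
    · rw [← IsLocalization.mk'_one (M := Submonoid.powers g₁) B₁ (s * g₁ ^ m),
        ← IsLocalization.mk'_mul, IsLocalization.mk'_eq_zero_iff]
      refine ⟨1, ?_⟩
      rw [OneMemClass.coe_one, one_mul, mul_assoc]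
      exact hs
  choose! T hT hTk using hkill
  have hTall' : ∀ β : B₁, β ∈ Ideal.span (K : Set B₁) →
      algebraMap B B₁ (∏ k ∈ K, T k) * β = 0 := by
    intro β hmem
    induction hmem using Submodule.span_induction with
    | mem x hx =>
      have hxK : x ∈ K := hx
      have hfx : f x = 0 := by
        have : x ∈ RingHom.ker f.toRingHom := by rw [← hK]; exact Ideal.subset_span hx
        exact this
      rw [← Finset.prod_erase_mul K T hxK, map_mul, mul_assoc, hTk x hfx, mul_zero]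
    | zero => rw [mul_zero]
    | add x y _ _ hx hy => rw [mul_add, hx, hy, add_zero]
    | smul c x _ hx => rw [smul_eq_mul, mul_left_comm, hx, mul_zero]
  have hTall : ∀ β : B₁, f β = 0 → algebraMap B B₁ (∏ k ∈ K, T k) * β = 0 := by
    intro β hβ
    apply hTall'
    rw [hK]
    exact hβ
  refine ⟨∏ k ∈ K, T k, ?_, ?_⟩
  · intro h
    rw [Ideal.IsPrime.prod_mem_iff] at h
    obtain ⟨k, hkK, hk⟩ := h
    have hfk : f k = 0 := by
      have : k ∈ RingHom.ker f.toRingHom := by rw [← hK]; exact Ideal.subset_span hkK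
      exact this
    exact hT k hfk hk
  · intro b hb
    have h1 : f (algebraMap B B₁ b) = 0 := by rw [hf_alg, hb, map_zero]
    have h2 := hTall _ h1
    rw [← map_mul, IsLocalization.map_eq_zero_iff (Submonoid.powers g₁)] at h2
    obtain ⟨⟨_, n, rfl⟩, hn⟩ := h2
    exact ⟨n, hn⟩


theorem exists_away_bijective (hq : q = p.comap φ) (hft : φ.FiniteType)
    (hb : ∀ p' : Ideal A, p'.IsPrime → p'.comap φ ≤ q → p' = p)
    (hbij : Function.Bijective (Localization.localRingHom q p φ hq))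
    (h : φ.FinitePresentation ∨ (∀ b s : B, s ∉ q → s * b = 0 → b = 0)) :
    ∃ g : B, g ∉ q ∧ ∀ (B' A' : Type u) [CommRing B'] [CommRing A'] [Algebra B B'] [Algebra A A']
      [IsLocalization.Away g B'] [IsLocalization.Away (φ g) A'],
      Function.Bijective (IsLocalization.Away.map B' A' φ g) := by
  obtain ⟨g₁, hg₁, hs₁⟩ := exists_pow_mul_eq_map φ q p hq hft hb hbij.2
  rcases h with hfp | htf
  · obtain ⟨t, ht, hti⟩ := exists_inj_of_finitePresentation φ q p hq hfp hbij.1 g₁ hg₁ hs₁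
    refine ⟨g₁ * t, ?_, ?_⟩
    · intro h
      rcases Ideal.IsPrime.mem_or_mem inferInstance h with h | h
      · exact hg₁ h
      · exact ht h
    · intro B' A' _ _ _ _ _ _
      apply away_map_bijective φ (g₁ * t)
      · intro a
        obtain ⟨n, b, hnb⟩ := hs₁ a
        refine ⟨n, t ^ n * b, ?_⟩
        rw [map_mul, map_mul, map_pow, ← hnb, mul_pow]
        ring
      · intro b hb0
        obtain ⟨n, hn⟩ := hti b hb0
        refine ⟨n + 1, ?_⟩
        calc (g₁ * t) ^ (n + 1) * b = (g₁ * t ^ n) * (g₁ ^ n * (t * b)) := by ring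
          _ = 0 := by rw [hn, mul_zero]
  · refine ⟨g₁, hg₁, ?_⟩
    intro B' A' _ _ _ _ _ _
    apply away_map_bijective φ g₁ hs₁
    intro b hb0
    have h3 : algebraMap B (Localization.AtPrime q) b = 0 := by
      apply hbij.1
      rw [Localization.localRingHom_to_map, hb0, map_zero, map_zero]
    rw [IsLocalization.map_eq_zero_iff q.primeCompl] at h3
    obtain ⟨s, hs⟩ := h3
    exact ⟨0, by rw [pow_zero, one_mul]; exact htf b s s.2 hs⟩

theorem exists_lift_away {R A B Bp : Type u} [CommRing R] [CommRing A] [CommRing B] [CommRing Bp]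
    [Algebra R A] [Algebra R B] [Algebra B Bp] [Algebra R Bp] [IsScalarTower R B Bp]
    [Algebra.FinitePresentation R A] (p : Ideal B) [p.IsPrime] [IsLocalization.AtPrime Bp p]
    (φ : A →ₐ[R] Bp) :
    ∃ (a : B) (_ : a ∉ p) (ψ : A →ₐ[R] Localization.Away a) (l : Localization.Away a →ₐ[B] Bp),
      (l.restrictScalars R).comp ψ = φ := by
  classical
  obtain ⟨n, f, hf, K, hK⟩ := Algebra.FinitePresentation.out (R := R) (A := A)
  let z : Fin n → Bp := fun i => φ (f (MvPolynomial.X i))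
  obtain ⟨s, hs⟩ := IsLocalization.exist_integer_multiples_of_finite p.primeCompl z
  choose b hb using hs
  have hsu : IsUnit ((Algebra.ofId B Bp) (s : B)) := IsLocalization.map_units Bp s
  let Bs := Localization.Away (s : B)
  let ls : Bs →ₐ[B] Bp := IsLocalization.Away.liftAlgHom (s : B) (f := Algebra.ofId B Bp) hsu
  let sp : Submonoid.powers (s : B) := ⟨s, 1, pow_one _⟩
  let θ₀ : MvPolynomial (Fin n) R →ₐ[R] Bs :=
    MvPolynomial.aeval (fun i => IsLocalization.mk' Bs (b i) sp)
  have hls : ∀ c : B, ls (algebraMap B Bs c) = algebraMap B Bp c := fun c => ls.commutes c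
  have h0 : (ls.restrictScalars R).comp θ₀ = φ.comp f := by
    apply MvPolynomial.algHom_ext
    intro i
    simp only [AlgHom.comp_apply, AlgHom.restrictScalars_apply, θ₀, MvPolynomial.aeval_X]
    apply hsu.mul_left_injective
    change ls _ * algebraMap B Bp s = z i * algebraMap B Bp s
    have : IsLocalization.mk' Bs (b i) sp * algebraMap B Bs (s : B) = algebraMap B Bs (b i) :=
      IsLocalization.mk'_spec Bs (b i) sp
    calc ls (IsLocalization.mk' Bs (b i) sp) * algebraMap B Bp s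
        = ls (IsLocalization.mk' Bs (b i) sp) * ls (algebraMap B Bs (s : B)) := by rw [hls]
      _ = ls (IsLocalization.mk' Bs (b i) sp * algebraMap B Bs (s : B)) := (map_mul _ _ _).symm
      _ = algebraMap B Bp (b i) := by rw [this, hls]
      _ = z i * algebraMap B Bp s := by rw [hb i, Algebra.smul_def, mul_comm]
  have h0' : ∀ P, ls (θ₀ P) = φ (f P) := fun P => DFunLike.congr_fun h0 P
  have hk : ∀ F : MvPolynomial (Fin n) R, f F = 0 →
      ∃ t : B, t ∉ p ∧ algebraMap B Bs t * θ₀ F = 0 := by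
    intro F hF
    obtain ⟨c, ⟨_, k, rfl⟩, hc⟩ := IsLocalization.exists_mk'_eq (Submonoid.powers (s : B)) (θ₀ F)
    have h1 : algebraMap B Bp c = 0 := by
      rw [← hls, ← IsLocalization.mk'_spec Bs c (⟨(s : B) ^ k, k, rfl⟩ : Submonoid.powers (s : B)),
        map_mul, hc, h0', hF, map_zero, zero_mul]
    rw [IsLocalization.map_eq_zero_iff p.primeCompl] at h1
    obtain ⟨t, ht⟩ := h1
    refine ⟨t, t.2, ?_⟩
    rw [← hc, ← IsLocalization.mk'_one (M := Submonoid.powers (s : B)) Bs (t : B),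
      ← IsLocalization.mk'_mul, IsLocalization.mk'_eq_zero_iff]
    exact ⟨1, by rw [OneMemClass.coe_one, one_mul]; exact ht⟩
  choose! T hT hTk using hk
  have hKker : ∀ F ∈ K, f F = 0 := by
    intro F hF
    have : F ∈ RingHom.ker f.toRingHom := by rw [← hK]; exact Ideal.subset_span hF
    exact this
  obtain ⟨t, ht⟩ : ∃ t : B, t = ∏ F ∈ K, T F := ⟨_, rfl⟩
  have htp : t ∉ p := by
    intro h
    rw [ht, Ideal.IsPrime.prod_mem_iff] at h
    obtain ⟨F, hFK, hF⟩ := h
    exact hT F (hKker F hFK) hF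
  obtain ⟨a, ha⟩ : ∃ a : B, a = s * t := ⟨_, rfl⟩
  have hap : a ∉ p := by
    intro h
    rw [ha] at h
    rcases Ideal.IsPrime.mem_or_mem inferInstance h with h | h
    · exact s.2 h
    · exact htp h
  let Ba := Localization.Away a
  have hau : IsUnit (algebraMap B Ba a) := IsLocalization.Away.algebraMap_isUnit a
  have hau2 : IsUnit (algebraMap B Ba (s : B) * algebraMap B Ba t) := by
    rw [← map_mul]
    exact (congrArg (algebraMap B Ba) ha) ▸ hau
  have hsu' : IsUnit ((Algebra.ofId B Ba) (s : B)) := isUnit_of_mul_isUnit_left hau2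
  have htu : ∀ F ∈ K, IsUnit (algebraMap B Ba (T F)) := by
    intro F hF
    have h3 := isUnit_of_mul_isUnit_right hau2
    rw [ht, ← Finset.prod_erase_mul K T hF, map_mul] at h3
    exact isUnit_of_mul_isUnit_right h3
  let μ : Bs →ₐ[B] Ba := IsLocalization.Away.liftAlgHom (s : B) (f := Algebra.ofId B Ba) hsu'
  let θ : MvPolynomial (Fin n) R →ₐ[R] Ba := (μ.restrictScalars R).comp θ₀
  have hθK : ∀ F ∈ K, θ F = 0 := by
    intro F hF
    have h1 : algebraMap B Ba (T F) * μ (θ₀ F) = 0 := by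
      rw [← μ.commutes, ← map_mul, hTk F (hKker F hF), map_zero]
    exact ((htu F hF).mul_right_eq_zero).mp h1
  have hθker : ∀ F : MvPolynomial (Fin n) R, F ∈ RingHom.ker f.toRingHom → θ F = 0 := by
    intro F hF
    rw [← hK] at hF
    have : Ideal.span (K : Set (MvPolynomial (Fin n) R)) ≤ RingHom.ker θ.toRingHom := by
      rw [Ideal.span_le]
      intro G hG
      exact hθK G hG
    exact this hF
  let ψ : A →ₐ[R] Ba :=
    (Ideal.Quotient.liftₐ (RingHom.ker f.toRingHom) θ hθker).comp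
      (Ideal.quotientKerAlgEquivOfSurjective hf).symm.toAlgHom
  have hψ : ∀ P, ψ (f P) = θ P := by
    intro P
    change (Ideal.Quotient.liftₐ (RingHom.ker f.toRingHom) θ hθker)
      ((Ideal.quotientKerAlgEquivOfSurjective hf).symm (f P)) = θ P
    rw [Ideal.quotientKerAlgEquivOfSurjective_symm_apply]
    rfl
  have hau' : IsUnit ((Algebra.ofId B Bp) a) := IsLocalization.map_units Bp (⟨a, hap⟩ : p.primeCompl)
  let la : Ba →ₐ[B] Bp := IsLocalization.Away.liftAlgHom a (f := Algebra.ofId B Bp) hau'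
  refine ⟨a, hap, ψ, la, ?_⟩
  apply AlgHom.ext
  intro x
  obtain ⟨P, rfl⟩ := hf x
  change la (ψ (f P)) = φ (f P)
  rw [hψ, ← h0']
  change la (μ (θ₀ P)) = ls (θ₀ P)
  have : (la.comp μ) = ls := by
    have := IsLocalization.algHom_subsingleton (R := B) (S := Bs) (P := Bp) (Submonoid.powers (s : B))
    exact Subsingleton.elim _ _
  exact DFunLike.congr_fun this (θ₀ P)

end Groth.Agent.Lib.Helper93.BiratAlg
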