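import Mathlib
import Groth.Agent.Lib.Helper93.BiratAlg

set_option autoImplicit false
universe u
open CategoryTheory CategoryTheory.Limits AlgebraicGeometry

namespace Groth.Agent.Lib.Helper93.Birat

theorem eq_of_specializes_of_generic {T : Type*} [TopologicalSpace T] [T0Space T]
    {y y' : T} (hy : closure {y} ∈ irreducibleComponents T) (h : y' ⤳ y) : y' = y := by
  have h1 : closure {y} ⊆ closure {y'} := by
    rw [← specializes_iff_closure_subset]; exact h
  have h2 : closure {y'} ⊆ closure {y} :=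
    hy.2 (isIrreducible_singleton.closure) h1
  have h3 : y ⤳ y' := by
    rw [specializes_iff_closure_subset]; exact h2
  exact (h.antisymm h3).eq

theorem exists_generic_specializes {T : Type*} [TopologicalSpace T] [QuasiSober T] (x' : T) :
    ∃ ξ : T, closure {ξ} ∈ irreducibleComponents T ∧ ξ ⤳ x' := by
  have hZ : irreducibleComponent x' ∈ irreducibleComponents T := irreducibleComponent_mem_irreducibleComponents x'
  obtain ⟨ξ, hξ⟩ := QuasiSober.sober (isIrreducible_irreducibleComponent (x := x'))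
    (isClosed_irreducibleComponent (x := x'))
  have hξ' : closure {ξ} = irreducibleComponent x' := hξ.def
  refine ⟨ξ, hξ' ▸ hZ, ?_⟩
  rw [specializes_iff_mem_closure, hξ']
  exact mem_irreducibleComponent

theorem specializes_of_surjective_stalkSpecializes {X : Scheme.{u}} {x x' : X} (h : x ⤳ x')
    (hs : Function.Surjective (X.presheaf.stalkSpecializes h).hom) : x' ⤳ x := by
  have hce := PrimeSpectrum.isClosedEmbedding_comap_of_surjective _ _ hs
  have hclosed : IsClosed (Set.range (Spec.map (X.presheaf.stalkSpecializes h))) := hce.isClosed_range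
  have hmem : IsLocalRing.closedPoint (X.presheaf.stalk x') ∈
      Set.range (Spec.map (X.presheaf.stalkSpecializes h)) := by
    have hne : (Set.range (Spec.map (X.presheaf.stalkSpecializes h))).Nonempty :=
      ⟨_, ⟨IsLocalRing.closedPoint _, rfl⟩⟩
    obtain ⟨z, hz⟩ := hne
    exact (IsLocalRing.specializes_closedPoint z).mem_closed hclosed hz
  obtain ⟨t, ht⟩ := hmem
  have h1 : X.fromSpecStalk x t = x' := by
    rw [← Scheme.SpecMap_stalkSpecializes_fromSpecStalk h, Scheme.Hom.comp_apply, ht,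
      Scheme.fromSpecStalk_closedPoint]
  have h2 : x' ∈ Set.range (X.fromSpecStalk x) := ⟨t, h1⟩
  rw [Scheme.range_fromSpecStalk] at h2
  exact h2

theorem fiber_generic_eq {X Y : Scheme.{u}} (f : X ⟶ Y)
    (hinj : Set.InjOn (fun x : X => f.base x) {x : X | closure {x} ∈ irreducibleComponents ↥X})
    (hiso : ∀ x : X, closure {x} ∈ irreducibleComponents ↥X → IsIso (f.stalkMap x))
    (y : Y) (hy : closure {y} ∈ irreducibleComponents ↥Y)
    (x : X) (hx : closure {x} ∈ irreducibleComponents ↥X) (hxy : f.base x = y)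
    (x' : X) (hx' : f.base x' = y) : x' = x := by
  obtain ⟨ξ, hξ, hξx'⟩ := exists_generic_specializes x'
  have h1 : f.base ξ ⤳ y := hx' ▸ (hξx'.map f.base.hom.continuous)
  have h2 : f.base ξ = y := eq_of_specializes_of_generic hy h1
  have h3 : ξ = x := hinj hξ hx (h2.trans hxy.symm)
  subst h3
  have := hiso ξ hξ
  have hcomm := f.stalkSpecializes_stalkMap ξ x' hξx'
  have hsp : f.base x' ⤳ f.base ξ := by rw [hx', h2]
  have hiso2 : IsIso (Y.presheaf.stalkSpecializes (f.base.hom.map_specializes hξx')) := by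
    refine ⟨Y.presheaf.stalkSpecializes hsp, ?_, ?_⟩ <;>
    · rw [TopCat.Presheaf.stalkSpecializes_comp]; exact TopCat.Presheaf.stalkSpecializes_refl _ _
  have hsurj : Function.Surjective (X.presheaf.stalkSpecializes hξx').hom := by
    have h4 : IsIso (f.stalkMap x' ≫ X.presheaf.stalkSpecializes hξx') := by
      rw [← hcomm]; infer_instance
    have h5 : Function.Surjective (f.stalkMap x' ≫ X.presheaf.stalkSpecializes hξx').hom :=
      ((ConcreteCategory.isIso_iff_bijective _).mp h4).2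
    intro a
    obtain ⟨b, hb⟩ := h5 a
    exact ⟨(f.stalkMap x').hom b, hb⟩
  exact ((specializes_of_surjective_stalkSpecializes hξx' hsurj).antisymm hξx').eq


theorem exists_factor_fromSpecStalk {X : Scheme.{u}} {C : CommRingCat.{u}} [IsLocalRing C]
    (a : Spec C ⟶ X) (x₀ : X) (h : a (IsLocalRing.closedPoint C) = x₀) :
    ∃ t : Spec C ⟶ Spec (X.presheaf.stalk x₀), t ≫ X.fromSpecStalk x₀ = a := by
  subst h
  exact ⟨_, Scheme.Spec_stalkClosedPointTo_fromSpecStalk a⟩

theorem isAffine_of_forall_eq (P : Scheme.{u}) (p₀ : P) (h : ∀ z : P, z = p₀) : IsAffine P := by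
  obtain ⟨W, hW, hp₀, -⟩ := exists_isAffineOpen_mem_and_subset (x := p₀) (U := ⊤) trivial
  have hWtop : W = ⊤ := by
    ext z
    simp only [TopologicalSpace.Opens.coe_top, Set.mem_univ, iff_true]
    rw [h z]; exact hp₀
  subst hWtop
  have : IsAffine (⊤ : P.Opens).toScheme := hW
  exact IsAffine.of_isIso P.topIso.inv

theorem isLocalRing_of_forall_eq (P : Scheme.{u}) [IsAffine P] (p₀ : P) (h : ∀ z : P, z = p₀) :
    IsLocalRing Γ(P, ⊤) := by
  have hsub : Subsingleton (PrimeSpectrum Γ(P, ⊤)) := by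
    constructor
    intro a b
    have hinj : Function.Injective P.isoSpec.inv := by
      have : IsIso P.isoSpec.inv := inferInstance
      exact (P.isoSpec.inv.homeomorph).injective
    apply hinj
    rw [h (P.isoSpec.inv a), h (P.isoSpec.inv b)]
  have hne : Nonempty (PrimeSpectrum Γ(P, ⊤)) := ⟨P.isoSpec.hom p₀⟩
  have : Nontrivial Γ(P, ⊤) := (PrimeSpectrum.nonempty_iff_nontrivial).mp hne
  have : Subsingleton (MaximalSpectrum Γ(P, ⊤)) :=
    ⟨fun a b => MaximalSpectrum.toPrimeSpectrum_injective (Subsingleton.elim _ _)⟩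
  have : Nonempty (MaximalSpectrum Γ(P, ⊤)) := by
    obtain ⟨m, hm⟩ := Ideal.exists_maximal Γ(P, ⊤)
    exact ⟨⟨m, hm⟩⟩
  exact IsLocalRing.of_singleton_maximalSpectrum


theorem isIso_pullback_snd_fromSpecStalk {X Y : Scheme.{u}} (f : X ⟶ Y)
    (hinj : Set.InjOn (fun x : X => f.base x) {x : X | closure {x} ∈ irreducibleComponents ↥X})
    (hiso : ∀ x : X, closure {x} ∈ irreducibleComponents ↥X → IsIso (f.stalkMap x))
    (x₀ : X) (hx₀ : closure {x₀} ∈ irreducibleComponents ↥X)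
    (hy : closure {f.base x₀} ∈ irreducibleComponents ↥Y) :
    IsIso (pullback.snd f (Y.fromSpecStalk (f.base x₀))) := by
  have := hiso x₀ hx₀
  set P := pullback f (Y.fromSpecStalk (f.base x₀)) with hP
  let s : Spec (X.presheaf.stalk x₀) ⟶ P :=
    pullback.lift (X.fromSpecStalk x₀) (Spec.map (f.stalkMap x₀))
      (Scheme.SpecMap_stalkMap_fromSpecStalk (f := f) (x := x₀)).symm
  have hs1 : s ≫ pullback.fst _ _ = X.fromSpecStalk x₀ := pullback.lift_fst _ _ _
  have hs2 : s ≫ pullback.snd _ _ = Spec.map (f.stalkMap x₀) := pullback.lift_snd _ _ _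
  have hpts : ∀ z : P, (pullback.fst f (Y.fromSpecStalk (f.base x₀))) z = x₀ := by
    intro z
    apply fiber_generic_eq f hinj hiso (f.base x₀) hy x₀ hx₀ rfl
    have h1 : f.base ((pullback.fst f (Y.fromSpecStalk (f.base x₀))) z) =
        (Y.fromSpecStalk (f.base x₀)) ((pullback.snd f (Y.fromSpecStalk (f.base x₀))) z) := by
      have := congrArg (fun g => g z) (congrArg (fun g : P ⟶ Y => (g.base : P → Y))
        (pullback.condition (f := f) (g := Y.fromSpecStalk (f.base x₀))))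
      simpa using this
    have h2 : f.base ((pullback.fst f (Y.fromSpecStalk (f.base x₀))) z) ∈
        Set.range (Y.fromSpecStalk (f.base x₀)) := ⟨_, h1.symm⟩
    rw [Scheme.range_fromSpecStalk] at h2
    exact eq_of_specializes_of_generic hy h2
  let p₀ : P := s (IsLocalRing.closedPoint _)
  have hp₀ : ∀ z : P, z = p₀ := by
    intro z
    apply (pullback.fst f (Y.fromSpecStalk (f.base x₀))).isEmbedding.injective
    rw [hpts z, hpts p₀]
  have : IsAffine P := isAffine_of_forall_eq P p₀ hp₀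
  have : IsLocalRing Γ(P, ⊤) := isLocalRing_of_forall_eq P p₀ hp₀
  obtain ⟨t', ht'⟩ := exists_factor_fromSpecStalk (P.isoSpec.inv ≫ pullback.fst _ _) x₀
    (by rw [Scheme.Hom.comp_apply]; exact hpts _)
  let t : P ⟶ Spec (X.presheaf.stalk x₀) := P.isoSpec.hom ≫ t'
  have ht : t ≫ X.fromSpecStalk x₀ = pullback.fst _ _ := by
    simp only [t, Category.assoc, ht', Iso.hom_inv_id_assoc]
  have hsnd : pullback.snd f (Y.fromSpecStalk (f.base x₀)) = t ≫ Spec.map (f.stalkMap x₀) := by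
    rw [← cancel_mono (Y.fromSpecStalk (f.base x₀)), ← pullback.condition, Category.assoc,
      Scheme.SpecMap_stalkMap_fromSpecStalk, ← Category.assoc, ht]
  have hst : s ≫ t = 𝟙 _ := by
    rw [← cancel_mono (X.fromSpecStalk x₀), Category.assoc, ht, hs1, Category.id_comp]
  have hts : t ≫ s = 𝟙 _ := by
    apply pullback.hom_ext
    · rw [Category.assoc, hs1, ht, Category.id_comp]
    · rw [Category.assoc, hs2, ← hsnd, Category.id_comp]
  have : IsIso t := ⟨s, hts, hst⟩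
  rw [hsnd]
  infer_instance


theorem not_mem_primeIdealOf_iff {X : Scheme.{u}} {U : X.Opens} (hU : IsAffineOpen U) (x : X)
    (hx : x ∈ U) (s : Γ(X, U)) :
    s ∉ (hU.primeIdealOf ⟨x, hx⟩).asIdeal ↔ x ∈ X.basicOpen s := by
  rw [X.mem_basicOpen s x hx, hU.primeIdealOf_eq_map_closedPoint ⟨x, hx⟩]
  change ¬ ((X.presheaf.germ U x hx).hom s ∈ IsLocalRing.maximalIdeal _) ↔ _
  rw [IsLocalRing.mem_maximalIdeal, mem_nonunits_iff, not_not]

theorem isIso_of_arrow_iso {C : Type*} [Category C] {a b c d : C} {f : a ⟶ b} {g : c ⟶ d}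
    (e : Arrow.mk f ≅ Arrow.mk g) [IsIso f] : IsIso g :=
  ((MorphismProperty.isomorphisms C).arrow_mk_iso_iff e).mp ‹IsIso f›

theorem exists_isIso_resLE {X Y : Scheme.{u}} (f : X ⟶ Y) (x : X)
    (hfib : ∀ x' : X, f.base x' ⤳ f.base x → x' = x)
    [IsIso (f.stalkMap x)] [LocallyOfFiniteType f]
    (V₀ : Y.Opens) (hV₀ : IsAffineOpen V₀) (hxV₀ : f.base x ∈ V₀)
    (h : LocallyOfFinitePresentation f ∨
      Function.Injective (Y.presheaf.germ V₀ (f.base x) hxV₀).hom) :
    ∃ (V : Y.Opens) (U : X.Opens) (hUV : U ≤ f ⁻¹ᵁ V), V ≤ V₀ ∧ f.base x ∈ V ∧ x ∈ U ∧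
      IsIso (f.resLE V U hUV) := by
  obtain ⟨_, ⟨W, hW, rfl⟩, hxW, e⟩ := X.isBasis_affineOpens.exists_subset_of_mem_open
    (show x ∈ (f ⁻¹ᵁ V₀ : Set X) from hxV₀) (f ⁻¹ᵁ V₀).2
  have e' : W ≤ f ⁻¹ᵁ V₀ := e
  set φ := (f.appLE V₀ W e').hom with hφ
  set p := (hW.primeIdealOf ⟨x, hxW⟩).asIdeal with hp
  set q := (hV₀.primeIdealOf ⟨f.base x, hxV₀⟩).asIdeal with hq'
  have hq : q = p.comap φ :=
    congr($(IsAffineOpen.comap_primeIdealOf_appLE V₀ hV₀ W hW e' hxW).1).symm
  have hbij : Function.Bijective (Localization.localRingHom q p φ hq) := by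
    have := isIso_of_arrow_iso (IsAffineOpen.arrowStalkMapIso f V₀ hV₀ W hW e' hxW)
    exact (ConcreteCategory.isIso_iff_bijective _).mp this
  have hb : ∀ p' : Ideal Γ(X, W), p'.IsPrime → p'.comap φ ≤ q → p' = p := by
    intro p' hp' hle
    let z : W := hW.isoSpec.inv ⟨p', hp'⟩
    have hz : hW.primeIdealOf z = ⟨p', hp'⟩ := by
      change hW.isoSpec.hom (hW.isoSpec.inv _) = _
      rw [← Scheme.Hom.comp_apply, Iso.inv_hom_id]; rfl
    have hz' : hW.primeIdealOf ⟨z.1, z.2⟩ = ⟨p', hp'⟩ := hz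
    have hcm := IsAffineOpen.comap_primeIdealOf_appLE V₀ hV₀ W hW e' z.2
    rw [hz'] at hcm
    have hle' : hV₀.primeIdealOf ⟨f.base z.1, e' z.2⟩ ≤ hV₀.primeIdealOf ⟨f.base x, hxV₀⟩ := by
      rw [← hcm]; exact hle
    rw [PrimeSpectrum.le_iff_specializes] at hle'
    have hsp := hle'.map hV₀.isoSpec.inv.continuous
    change hV₀.isoSpec.inv (hV₀.isoSpec.hom _) ⤳ hV₀.isoSpec.inv (hV₀.isoSpec.hom _) at hsp
    rw [← Scheme.Hom.comp_apply, ← Scheme.Hom.comp_apply, Iso.hom_inv_id] at hsp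
    have hsp' := hsp.map V₀.ι.continuous
    have hzx : z.1 = x := hfib z.1 hsp'
    have : z = ⟨x, hxW⟩ := Subtype.ext hzx
    rw [this] at hz
    exact (congrArg PrimeSpectrum.asIdeal hz).symm
  have hft : φ.FiniteType := f.finiteType_appLE hV₀ hW e'
  have hcase : φ.FinitePresentation ∨
      (∀ b s : Γ(Y, V₀), s ∉ q → s * b = 0 → b = 0) := by
    rcases h with h | h
    · exact Or.inl (f.finitePresentation_appLE hV₀ hW e')
    · refine Or.inr fun b s hs hsb => ?_
      apply h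
      rw [map_zero]
      have hu : IsUnit ((Y.presheaf.germ V₀ (f.base x) hxV₀).hom s) := by
        rw [not_mem_primeIdealOf_iff hV₀ _ hxV₀, Y.mem_basicOpen s _ hxV₀] at hs
        exact hs
      have h0 : (Y.presheaf.germ V₀ (f.base x) hxV₀).hom s *
          (Y.presheaf.germ V₀ (f.base x) hxV₀).hom b = 0 := by
        rw [← map_mul, hsb, map_zero]
      exact (hu.mul_right_eq_zero).mp h0
  obtain ⟨g, hg, hgbij⟩ := BiratAlg.exists_away_bijective φ q p hq hft hb hbij hcase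
  have hUV : X.basicOpen (f.appLE V₀ W e' g) ≤ f ⁻¹ᵁ Y.basicOpen g := by
    simp [Scheme.Hom.appLE]
  refine ⟨Y.basicOpen g, X.basicOpen (f.appLE V₀ W e' g), hUV, Y.basicOpen_le g, ?_, ?_, ?_⟩
  · exact (not_mem_primeIdealOf_iff hV₀ _ hxV₀ g).mp hg
  · apply (not_mem_primeIdealOf_iff hW _ hxW _).mp
    intro hmem
    apply hg
    rw [hq]
    exact hmem
  · have hVaff : IsAffineOpen (Y.basicOpen g) := hV₀.basicOpen g
    have hUaff : IsAffineOpen (X.basicOpen (f.appLE V₀ W e' g)) := hW.basicOpen _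
    have : IsAffine (Y.basicOpen g).toScheme := hVaff
    have : IsAffine (X.basicOpen (f.appLE V₀ W e' g)).toScheme := hUaff
    have hiso : IsIso (f.appLE (Y.basicOpen g) (X.basicOpen (f.appLE V₀ W e' g)) hUV) := by
      rw [IsAffineOpen.appLE_eq_away_map f hV₀ hW e' g]
      rw [ConcreteCategory.isIso_iff_bijective]
      let _ := hV₀.isLocalization_basicOpen g
      let _ := hW.isLocalization_basicOpen (f.appLE V₀ W e' g)
      exact hgbij _ _
    have hiso2 : IsIso (f.resLE (Y.basicOpen g) (X.basicOpen (f.appLE V₀ W e' g)) hUV).appTop :=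
      isIso_of_arrow_iso (arrowResLEAppIso f _ _ hUV).symm
    exact (HasAffineProperty.iff_of_isAffine (P := MorphismProperty.isomorphisms Scheme)).mpr
      ⟨inferInstance, hiso2⟩

theorem isIso_resLE_of_iSup {X Y : Scheme.{u}} (f : X ⟶ Y) {ι : Type u} (V : ι → Y.Opens)
    (U : X.Opens) (hU : U ≤ f ⁻¹ᵁ (⨆ i, V i))
    (h : ∀ i, IsIso (f.resLE (V i) (U ⊓ f ⁻¹ᵁ V i) inf_le_right)) :
    IsIso (f.resLE (⨆ i, V i) U hU) := by
  let 𝒰 : (⨆ i, V i).toScheme.OpenCover :=
    Scheme.Cover.mkOfCovers ι (fun i => (V i).toScheme) (fun i => Y.homOfLE (le_iSup V i)) (by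
      intro z
      obtain ⟨i, hi⟩ := TopologicalSpace.Opens.mem_iSup.mp z.2
      exact ⟨i, ⟨z.1, hi⟩, Subtype.ext (by simp)⟩)
  change MorphismProperty.isomorphisms Scheme _
  apply IsZariskiLocalAtTarget.of_openCover 𝒰
  intro (i : ι)
  have sq := Scheme.Hom.isPullback_resLE (IsPullback.id_horiz f) (US := ⨆ i, V i) (UT := V i)
    (UX := U) (le_iSup V i) hU (UY := U ⊓ f ⁻¹ᵁ V i) (by simp)
  have h1 : (𝟙 Y : Y ⟶ Y).resLE (⨆ i, V i) (V i) (le_iSup V i) = Y.homOfLE (le_iSup V i) :=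
    Scheme.Hom.resLE_id _
  rw [h1] at sq
  have hi : IsIso (f.resLE (V i) (U ⊓ f ⁻¹ᵁ V i) inf_le_right) := h i
  have key : pullback.snd (f.resLE (⨆ i, V i) U hU) (Y.homOfLE (le_iSup V i)) =
      sq.isoPullback.inv ≫ f.resLE (V i) (U ⊓ f ⁻¹ᵁ V i) inf_le_right := by
    rw [Iso.eq_inv_comp]; exact sq.isoPullback_hom_snd
  change IsIso (pullback.snd (f.resLE (⨆ i, V i) U hU) (Y.homOfLE (le_iSup V i)))
  rw [key]
  exact IsIso.comp_isIso' inferInstance hi

theorem exists_open_nhds_generic {T : Type*} [TopologicalSpace T] [T0Space T]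
    (hfin : (irreducibleComponents T).Finite) (y : T)
    (hy : closure {y} ∈ irreducibleComponents T) :
    ∃ O : TopologicalSpace.Opens T, y ∈ O ∧ (O : Set T) ⊆ closure {y} ∧
      ∀ y', closure {y'} ∈ irreducibleComponents T → y' ≠ y → ∀ z ∈ O, z ∉ closure {y'} := by
  set S := irreducibleComponents T \ {closure {y}} with hS
  have hSfin : S.Finite := hfin.subset Set.sdiff_subset
  have hclosed : IsClosed (⋃₀ S) := by
    rw [Set.sUnion_eq_biUnion]
    apply hSfin.isClosed_biUnion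
    intro Z hZ
    exact isClosed_of_mem_irreducibleComponents Z hZ.1
  refine ⟨⟨(⋃₀ S)ᶜ, hclosed.isOpen_compl⟩, ?_, ?_, ?_⟩
  · rintro ⟨Z, ⟨hZ, hZne⟩, hyZ⟩
    apply hZne
    have h1 : closure {y} ⊆ Z :=
      (isClosed_of_mem_irreducibleComponents Z hZ).closure_subset_iff.mpr
        (Set.singleton_subset_iff.mpr hyZ)
    exact (Set.Subset.antisymm h1 (hy.2 hZ.1 h1)).symm
  · intro z hz
    by_contra hzy
    apply hz
    refine ⟨irreducibleComponent z, ⟨irreducibleComponent_mem_irreducibleComponents z, ?_⟩,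
      mem_irreducibleComponent⟩
    intro h
    apply hzy
    rw [Set.mem_singleton_iff] at h
    rw [← h]
    exact mem_irreducibleComponent
  · intro y' hy' hne z hz hzy'
    apply hz
    refine ⟨closure {y'}, ⟨hy', ?_⟩, hzy'⟩
    intro h
    rw [Set.mem_singleton_iff] at h
    apply hne
    have : Inseparable y' y := by
      rw [inseparable_iff_closure_eq]; exact h
    exact this.eq

theorem germ_injective_of_reduced {Y : Scheme.{u}} [IsReduced Y] (V₀ : Y.Opens) (y : Y)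
    (hy : y ∈ V₀) (hsub : (V₀ : Set Y) ⊆ closure {y}) :
    Function.Injective (Y.presheaf.germ V₀ y hy).hom := by
  rw [injective_iff_map_eq_zero]
  intro b hb
  apply AlgebraicGeometry.eq_zero_of_basicOpen_eq_bot
  by_contra hne
  rw [← TopologicalSpace.Opens.not_nonempty_iff_eq_bot, not_not] at hne
  obtain ⟨z, hz⟩ := hne
  have hzV : z ∈ V₀ := Y.basicOpen_le b hz
  have hsp : y ⤳ z := by
    rw [specializes_iff_mem_closure]; exact hsub hzV
  have hyb : y ∈ Y.basicOpen b := hsp.mem_open (Y.basicOpen b).2 hz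
  rw [Y.mem_basicOpen b y hy] at hyb
  have : (Y.presheaf.germ V₀ y hy) b = 0 := hb
  rw [this] at hyb
  exact not_isUnit_zero hyb

theorem exists_dense_opens_isIso_resLE {X Y : Scheme.{u}} (f : X ⟶ Y)
    (hYfin : (irreducibleComponents ↥Y).Finite)
    (hbij : Set.BijOn (fun x : X => f.base x) {x : X | closure {x} ∈ irreducibleComponents ↥X}
      {y : Y | closure {y} ∈ irreducibleComponents ↥Y})
    (hiso : ∀ x : X, closure {x} ∈ irreducibleComponents ↥X → IsIso (f.stalkMap x))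
    (hf : (LocallyOfFiniteType f ∧ IsReduced Y) ∨ LocallyOfFinitePresentation f) :
    ∃ (U : X.Opens) (V : Y.Opens) (hUV : U ≤ f ⁻¹ᵁ V), Dense (U : Set ↥X) ∧ Dense (V : Set ↥Y) ∧
      IsIso (f.resLE V U hUV) ∧ (∀ x : X, closure {x} ∈ irreducibleComponents ↥X → x ∈ U) := by
  have hft : LocallyOfFiniteType f := by
    rcases hf with h | h
    · exact h.1
    · infer_instance
  let ι : Type u := {x : X // closure {x} ∈ irreducibleComponents ↥X}
  have hgenY : ∀ i : ι, closure {f.base i.1} ∈ irreducibleComponents ↥Y := fun i => hbij.mapsTo i.2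
  choose O hOmem hOsub hOdisj using fun i : ι => exists_open_nhds_generic hYfin (f.base i.1) (hgenY i)
  have hfib : ∀ i : ι, ∀ x' : X, f.base x' ⤳ f.base i.1 → x' = i.1 := by
    intro i x' hx'
    exact fiber_generic_eq f hbij.injOn hiso _ (hgenY i) i.1 i.2 rfl x'
      (eq_of_specializes_of_generic (hgenY i) hx')
  have hloc : ∀ i : ι, ∃ (V : Y.Opens) (U : X.Opens) (hUV : U ≤ f ⁻¹ᵁ V), V ≤ O i ∧
      f.base i.1 ∈ V ∧ i.1 ∈ U ∧ IsIso (f.resLE V U hUV) := by
    intro i
    obtain ⟨_, ⟨V₀, hV₀, rfl⟩, hyV₀, hV₀O⟩ := Y.isBasis_affineOpens.exists_subset_of_mem_open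
      (hOmem i) (O i).2
    have := hiso i.1 i.2
    have hcase : LocallyOfFinitePresentation f ∨
        Function.Injective (Y.presheaf.germ V₀ (f.base i.1) hyV₀).hom := by
      rcases hf with h | h
      · have := h.2
        exact Or.inr (germ_injective_of_reduced V₀ _ hyV₀ (hV₀O.trans (hOsub i)))
      · exact Or.inl h
    obtain ⟨V, U, hUV, hVV₀, hyV, hxU, hisoVU⟩ :=
      exists_isIso_resLE f i.1 (hfib i) V₀ hV₀ hyV₀ hcase
    exact ⟨V, U, hUV, hVV₀.trans hV₀O, hyV, hxU, hisoVU⟩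
  choose Vx Ux hUVx hVO hyV hxU hisoVU using hloc
  have hUle : (⨆ i, Ux i) ≤ f ⁻¹ᵁ (⨆ i, Vx i) := by
    apply iSup_le
    intro i
    exact (hUVx i).trans (f.preimage_mono (le_iSup Vx i))
  have hinter : ∀ i : ι, (⨆ j, Ux j) ⊓ f ⁻¹ᵁ Vx i = Ux i := by
    intro i
    apply le_antisymm
    · rintro z ⟨hzU, hzV⟩
      obtain ⟨j, hj⟩ := TopologicalSpace.Opens.mem_iSup.mp hzU
      have hji : j = i := by
        by_contra hne
        have hne' : f.base j.1 ≠ f.base i.1 := by
          intro h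
          exact hne (Subtype.ext (hbij.injOn j.2 i.2 h))
        have h1 : f.base z ∈ O i := hVO i hzV
        have h2 : f.base z ∈ O j := hVO j (hUVx j hj)
        exact hOdisj i (f.base j.1) (hgenY j) hne' _ h1 (hOsub j h2)
      exact hji ▸ hj
    · exact le_inf (le_iSup Ux i) (hUVx i)
  have hisos : ∀ i : ι, IsIso (f.resLE (Vx i) ((⨆ j, Ux j) ⊓ f ⁻¹ᵁ Vx i) inf_le_right) := by
    intro i
    have := hisoVU i
    exact (f.resLE_congr (e := hUVx i) rfl (hinter i).symm
      (MorphismProperty.isomorphisms Scheme)).mp this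
  refine ⟨⨆ i, Ux i, ⨆ i, Vx i, hUle, ?_, ?_, isIso_resLE_of_iSup f Vx _ hUle hisos, ?_⟩
  · intro z
    obtain ⟨ξ, hξ, hξz⟩ := exists_generic_specializes z
    have h1 : ξ ∈ ((⨆ i, Ux i : X.Opens) : Set X) :=
      TopologicalSpace.Opens.mem_iSup.mpr ⟨⟨ξ, hξ⟩, hxU ⟨ξ, hξ⟩⟩
    rw [specializes_iff_mem_closure] at hξz
    exact closure_mono (Set.singleton_subset_iff.mpr h1) hξz
  · intro z
    obtain ⟨η, hη, hηz⟩ := exists_generic_specializes z
    obtain ⟨ξ, hξ, rfl⟩ := hbij.surjOn hη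
    have h1 : f.base ξ ∈ ((⨆ i, Vx i : Y.Opens) : Set Y) :=
      TopologicalSpace.Opens.mem_iSup.mpr ⟨⟨ξ, hξ⟩, hyV ⟨ξ, hξ⟩⟩
    rw [specializes_iff_mem_closure] at hηz
    exact closure_mono (Set.singleton_subset_iff.mpr h1) hηz
  · intro x hx
    exact TopologicalSpace.Opens.mem_iSup.mpr ⟨⟨x, hx⟩, hxU ⟨x, hx⟩⟩

theorem generic_mem_of_dense {T : Type*} [TopologicalSpace T] [T0Space T]
    (hfin : (irreducibleComponents T).Finite) (V : TopologicalSpace.Opens T)
    (hV : Dense (V : Set T)) (y : T) (hy : closure {y} ∈ irreducibleComponents T) : y ∈ V := by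
  obtain ⟨O, hyO, hOsub, -⟩ := exists_open_nhds_generic hfin y hy
  obtain ⟨z, hzO, hzV⟩ := hV.inter_open_nonempty O O.2 ⟨y, hyO⟩
  have hsp : y ⤳ z := by
    rw [specializes_iff_mem_closure]; exact hOsub hzO
  exact hsp.mem_open V.2 hzV

theorem isIso_resLE_of_le {X Y : Scheme.{u}} (f : X ⟶ Y) (U : X.Opens) (V V' : Y.Opens)
    (hUV : U ≤ f ⁻¹ᵁ V) (hV' : V' ≤ V) [IsIso (f.resLE V U hUV)] :
    IsIso (f.resLE V' (U ⊓ f ⁻¹ᵁ V') inf_le_right) := by
  have sq := Scheme.Hom.isPullback_resLE (IsPullback.id_horiz f) (US := V) (UT := V')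
    (UX := U) hV' hUV (UY := U ⊓ f ⁻¹ᵁ V') (by simp)
  exact (MorphismProperty.isomorphisms Scheme).of_isPullback sq
    (show MorphismProperty.isomorphisms Scheme (f.resLE V U hUV) from ‹_›)

theorem isIso_morphismRestrict_of_preimage_le {X Y : Scheme.{u}} (f : X ⟶ Y) (U : X.Opens)
    (V V' : Y.Opens) (hUV : U ≤ f ⁻¹ᵁ V) (hV' : V' ≤ V) (hpre : f ⁻¹ᵁ V' ≤ U)
    [IsIso (f.resLE V U hUV)] : IsIso (f ∣_ V') := by
  have h1 := isIso_resLE_of_le f U V V' hUV hV'
  have heq : U ⊓ f ⁻¹ᵁ V' = f ⁻¹ᵁ V' := inf_eq_right.mpr hpre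
  have h2 := (f.resLE_congr (e := inf_le_right) rfl heq
    (MorphismProperty.isomorphisms Scheme)).mp h1
  rw [← f.resLE_eq_morphismRestrict]
  exact h2

theorem preimage_le_of_isSeparated {X Y : Scheme.{u}} (f : X ⟶ Y) [IsSeparated f] (U : X.Opens)
    (V : Y.Opens) (hUV : U ≤ f ⁻¹ᵁ V) [IsIso (f.resLE V U hUV)]
    (hgen : ∀ x : X, closure {x} ∈ irreducibleComponents X → x ∈ U) : f ⁻¹ᵁ V ≤ U := by
  have hsep : IsSeparated (f ∣_ V) := IsZariskiLocalAtTarget.restrict ‹_› V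
  have hci : IsClosedImmersion (X.homOfLE hUV ≫ f ∣_ V) := by
    change IsClosedImmersion (f.resLE V U hUV)
    infer_instance
  have hj : IsClosedImmersion (X.homOfLE hUV) := IsClosedImmersion.of_comp _ (f ∣_ V)
  have hclosed : IsClosed (Set.range (X.homOfLE hUV)) := (X.homOfLE hUV).isClosedEmbedding.isClosed_range
  intro z hz
  obtain ⟨ξ, hξ, hξz⟩ := exists_generic_specializes z
  have hξU : ξ ∈ U := hgen ξ hξ
  have hsp : (⟨ξ, hUV hξU⟩ : (f ⁻¹ᵁ V : X.Opens)) ⤳ ⟨z, hz⟩ := by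
    rw [subtype_specializes_iff]; exact hξz
  have hmem : (⟨ξ, hUV hξU⟩ : (f ⁻¹ᵁ V : X.Opens)) ∈ Set.range (X.homOfLE hUV) :=
    ⟨⟨ξ, hξU⟩, Subtype.ext (by simp)⟩
  obtain ⟨w, hw⟩ := hsp.mem_closed hclosed hmem
  have hwz : w.1 = z := by
    have := congrArg Subtype.val hw
    simpa using this
  rw [← hwz]
  exact w.2

theorem exists_map_mem_of_forall_prime {B A : Type u} [CommRing B] [CommRing A] (φ : B →+* A)
    (q : Ideal B) [q.IsPrime] (I : Ideal A)
    (h : ∀ P : Ideal A, P.IsPrime → I ≤ P → ¬ (P.comap φ ≤ q)) : ∃ s : B, s ∉ q ∧ φ s ∈ I := by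
  by_contra hcon
  push Not at hcon
  have hdisj : Disjoint (I : Set A) ((q.primeCompl.map φ : Submonoid A) : Set A) := by
    rw [Set.disjoint_left]
    rintro a ha ⟨s, hs, rfl⟩
    exact hcon s hs ha
  obtain ⟨P, hP, hle, hd⟩ := Ideal.exists_le_prime_disjoint _ _ hdisj
  apply h P hP hle
  intro b hb'
  by_contra hbq
  exact Set.disjoint_left.mp hd hb' ⟨b, hbq, rfl⟩

theorem specializes_of_primeIdealOf_le {Y : Scheme.{u}} {V₀ : Y.Opens} (hV₀ : IsAffineOpen V₀)
    (y y' : Y) (hy : y ∈ V₀) (hy' : y' ∈ V₀)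
    (h : hV₀.primeIdealOf ⟨y', hy'⟩ ≤ hV₀.primeIdealOf ⟨y, hy⟩) : y' ⤳ y := by
  rw [PrimeSpectrum.le_iff_specializes] at h
  have hsp := h.map hV₀.isoSpec.inv.continuous
  change hV₀.isoSpec.inv (hV₀.isoSpec.hom _) ⤳ hV₀.isoSpec.inv (hV₀.isoSpec.hom _) at hsp
  rw [← Scheme.Hom.comp_apply, ← Scheme.Hom.comp_apply, Iso.hom_inv_id] at hsp
  exact hsp.map V₀.ι.continuous

theorem exists_point_of_prime {X : Scheme.{u}} {W : X.Opens} (hW : IsAffineOpen W)
    (P : Ideal Γ(X, W)) [hP : P.IsPrime] :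
    ∃ (t : X) (ht : t ∈ W), (hW.primeIdealOf ⟨t, ht⟩).asIdeal = P := by
  let z : W := hW.isoSpec.inv ⟨P, hP⟩
  have hz : hW.primeIdealOf z = ⟨P, hP⟩ := by
    change hW.isoSpec.hom (hW.isoSpec.inv _) = _
    rw [← Scheme.Hom.comp_apply, Iso.inv_hom_id]; rfl
  exact ⟨z.1, z.2, congrArg PrimeSpectrum.asIdeal hz⟩

theorem exists_basicOpen_preimage_le {X Y : Scheme.{u}} (f : X ⟶ Y) (U : X.Opens) (η : Y)
    (V₁ : Y.Opens) (hV₁ : IsAffineOpen V₁) (hη : η ∈ V₁) (W : X.Opens) (hW : IsAffineOpen W)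
    (hWV : W ≤ f ⁻¹ᵁ V₁) (hU : ∀ t ∈ W, f.base t ⤳ η → t ∈ U) :
    ∃ s : Γ(Y, V₁), η ∈ Y.basicOpen s ∧ W ⊓ f ⁻¹ᵁ Y.basicOpen s ≤ U := by
  set φ := (f.appLE V₁ W hWV).hom with hφ
  set q := (hV₁.primeIdealOf ⟨η, hη⟩).asIdeal with hq
  let S : Set Γ(X, W) := {a | X.basicOpen a ≤ U}
  have key : ∀ P : Ideal Γ(X, W), P.IsPrime → Ideal.span S ≤ P → ¬ (P.comap φ ≤ q) := by
    intro P hP hIP hle
    obtain ⟨t, ht, htP⟩ := exists_point_of_prime hW P
    have hcm := IsAffineOpen.comap_primeIdealOf_appLE V₁ hV₁ W hW hWV ht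
    have hle' : hV₁.primeIdealOf ⟨f.base t, hWV ht⟩ ≤ hV₁.primeIdealOf ⟨η, hη⟩ := by
      rw [← hcm]
      change Ideal.comap φ (hW.primeIdealOf ⟨t, ht⟩).asIdeal ≤ q
      rw [htP]; exact hle
    have hsp := specializes_of_primeIdealOf_le hV₁ η (f.base t) hη (hWV ht) hle'
    have htU : t ∈ U := hU t ht hsp
    obtain ⟨a, ha, hta⟩ := hW.exists_basicOpen_le ⟨t, htU⟩ ht
    have haP : a ∈ P := hIP (Ideal.subset_span ha)
    rw [← htP] at haP
    exact (not_mem_primeIdealOf_iff hW t ht a).mpr hta haP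
  obtain ⟨s, hs, hsI⟩ := exists_map_mem_of_forall_prime φ q (Ideal.span S) key
  refine ⟨s, (not_mem_primeIdealOf_iff hV₁ η hη s).mp hs, ?_⟩
  rintro z ⟨hzW, hzs⟩
  have hzφ : z ∈ X.basicOpen (f.appLE V₁ W hWV s) := by
    rw [Scheme.Hom.appLE, CommRingCat.comp_apply, Scheme.basicOpen_res]
    exact ⟨hzW, by rw [← Scheme.preimage_basicOpen]; exact hzs⟩
  have hnot : (f.appLE V₁ W hWV s) ∉ (hW.primeIdealOf ⟨z, hzW⟩).asIdeal :=
    (not_mem_primeIdealOf_iff hW z hzW _).mpr hzφ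
  have : ¬ (Ideal.span S ≤ (hW.primeIdealOf ⟨z, hzW⟩).asIdeal) := fun hle => hnot (hle hsI)
  rw [Ideal.span_le] at this
  obtain ⟨a, haS, haz⟩ := Set.not_subset.mp this
  exact haS ((not_mem_primeIdealOf_iff hW z hzW a).mp haz)

theorem exists_nhds_preimage_le_of_quasiCompact {X Y : Scheme.{u}} (f : X ⟶ Y) [QuasiCompact f]
    (U : X.Opens) (V : Y.Opens) (η : Y) (hηV : η ∈ V)
    (hU : ∀ t : X, f.base t ⤳ η → t ∈ U) :
    ∃ V' : Y.Opens, η ∈ V' ∧ V' ≤ V ∧ f ⁻¹ᵁ V' ≤ U := by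
  classical
  obtain ⟨_, ⟨V₁, hV₁, rfl⟩, hηV₁, hV₁V⟩ := Y.isBasis_affineOpens.exists_subset_of_mem_open
    hηV V.2
  have hcomp : IsCompact ((f ⁻¹ᵁ V₁ : X.Opens) : Set X) :=
    QuasiCompact.isCompact_preimage (f := f) _ V₁.2 hV₁.isCompact
  obtain ⟨S, hSfin, hS⟩ := isCompact_iff_finite_and_eq_biUnion_affineOpens.mp hcomp
  have hWle : ∀ W ∈ S, (W : X.Opens) ≤ f ⁻¹ᵁ V₁ := by
    intro W hW
    rw [hS]
    exact le_iSup₂ (f := fun (i : X.affineOpens) (_ : i ∈ S) => (i : X.Opens)) W hW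
  have hex : ∀ W : X.affineOpens, ∃ s : Γ(Y, V₁), W ∈ S →
      (η ∈ Y.basicOpen s ∧ (W : X.Opens) ⊓ f ⁻¹ᵁ Y.basicOpen s ≤ U) := by
    intro W
    by_cases hW : W ∈ S
    · obtain ⟨s, h1, h2⟩ := exists_basicOpen_preimage_le f U η V₁ hV₁ hηV₁ W W.2 (hWle W hW)
        (fun t _ ht => hU t ht)
      exact ⟨s, fun _ => ⟨h1, h2⟩⟩
    · exact ⟨0, fun h => absurd h hW⟩
  choose sW hsW using hex
  refine ⟨Y.basicOpen (∏ W ∈ hSfin.toFinset, sW W), ?_, ?_, ?_⟩
  · rw [← not_mem_primeIdealOf_iff hV₁ η hηV₁, Ideal.IsPrime.prod_mem_iff]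
    rintro ⟨W, hW, hmem⟩
    exact (not_mem_primeIdealOf_iff hV₁ η hηV₁ _).mpr (hsW W (hSfin.mem_toFinset.mp hW)).1 hmem
  · exact (Y.basicOpen_le _).trans hV₁V
  · intro z hz
    have hzV₁ : z ∈ f ⁻¹ᵁ V₁ := Y.basicOpen_le _ hz
    rw [hS] at hzV₁
    simp only [TopologicalSpace.Opens.mem_iSup] at hzV₁
    obtain ⟨W, hW, hzW⟩ := hzV₁
    apply (hsW W hW).2
    refine ⟨hzW, ?_⟩
    have hz' : f.base z ∈ Y.basicOpen (∏ W ∈ hSfin.toFinset, sW W) := hz
    rw [← Finset.prod_erase_mul _ sW (hSfin.mem_toFinset.mpr hW), Scheme.basicOpen_mul] at hz'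
    exact hz'.2

theorem exists_lift_of_finitePresentation {X : Scheme.{u}} {A R : CommRingCat.{u}}
    {x : X} {U : X.Opens} (hxU : x ∈ U)
    (φ : A ⟶ X.presheaf.stalk x) (φRA : R ⟶ A) (φRX : R ⟶ Γ(X, U))
    (hφRA : RingHom.FinitePresentation φRA.hom)
    (e : φRA ≫ φ = φRX ≫ X.presheaf.germ U x hxU) :
    ∃ (V : X.Opens) (hxV : x ∈ V) (φ' : A ⟶ Γ(X, V)) (i : V ≤ U), IsAffineOpen V ∧
      φ = φ' ≫ X.presheaf.germ V x hxV ∧ φRX ≫ X.presheaf.map i.hom.op = φRA ≫ φ' := by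
  obtain ⟨_, ⟨U₁, hU₁, rfl⟩, hxU₁, hU₁U⟩ := X.isBasis_affineOpens.exists_subset_of_mem_open hxU U.2
  have hle : U₁ ≤ U := hU₁U
  let ρ : R ⟶ Γ(X, U₁) := φRX ≫ X.presheaf.map (homOfLE hle).op
  let _ : Algebra R A := φRA.hom.toAlgebra
  let _ : Algebra R Γ(X, U₁) := ρ.hom.toAlgebra
  let _ : Algebra Γ(X, U₁) (X.presheaf.stalk x) := (X.presheaf.germ U₁ x hxU₁).hom.toAlgebra
  let _ : Algebra R (X.presheaf.stalk x) := (φRA ≫ φ).hom.toAlgebra
  have hρ : ρ ≫ X.presheaf.germ U₁ x hxU₁ = φRA ≫ φ := by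
    rw [e, Category.assoc, X.presheaf.germ_res]
  have : IsScalarTower R Γ(X, U₁) (X.presheaf.stalk x) := by
    apply IsScalarTower.of_algebraMap_eq
    intro r
    exact (congrArg (fun g : R ⟶ X.presheaf.stalk x => g.hom r) hρ).symm
  have : Algebra.FinitePresentation R A := hφRA
  have : IsLocalization.AtPrime (X.presheaf.stalk x) (hU₁.primeIdealOf ⟨x, hxU₁⟩).asIdeal :=
    hU₁.isLocalization_stalk ⟨x, hxU₁⟩
  let φa : A →ₐ[R] X.presheaf.stalk x := { φ.hom with commutes' := fun r => rfl }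
  obtain ⟨a, ha, ψ, l, hψ⟩ := BiratAlg.exists_lift_away (hU₁.primeIdealOf ⟨x, hxU₁⟩).asIdeal φa
  have hxV : x ∈ X.basicOpen a := (not_mem_primeIdealOf_iff hU₁ x hxU₁ a).mp ha
  let _ : Algebra Γ(X, U₁) Γ(X, X.basicOpen a) :=
    (X.presheaf.map (homOfLE (X.basicOpen_le a)).op).hom.toAlgebra
  have : IsLocalization.Away a Γ(X, X.basicOpen a) := hU₁.isLocalization_basicOpen a
  let κ : Localization.Away a ≃ₐ[Γ(X, U₁)] Γ(X, X.basicOpen a) :=
    IsLocalization.algEquiv (Submonoid.powers a) _ _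
  let g' : Γ(X, X.basicOpen a) →ₐ[Γ(X, U₁)] X.presheaf.stalk x :=
    { (X.presheaf.germ (X.basicOpen a) x hxV).hom with
      commutes' := fun r => X.presheaf.germ_res_apply (homOfLE (X.basicOpen_le a)) x hxV r }
  have hgl : g'.comp κ.toAlgHom = l := by
    have := IsLocalization.algHom_subsingleton (R := Γ(X, U₁)) (S := Localization.Away a)
      (P := X.presheaf.stalk x) (Submonoid.powers a)
    exact Subsingleton.elim _ _
  refine ⟨X.basicOpen a, hxV, CommRingCat.ofHom (κ.toRingEquiv.toRingHom.comp ψ.toRingHom),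
    (X.basicOpen_le a).trans hle, hU₁.basicOpen a, ?_, ?_⟩
  · ext z
    have h1 : φ.hom z = l (ψ z) := (DFunLike.congr_fun hψ z).symm
    have h2 : l (ψ z) = g' (κ (ψ z)) := (DFunLike.congr_fun hgl (ψ z)).symm
    exact h1.trans h2
  · ext r
    have h1 : ψ (φRA.hom r) = algebraMap R (Localization.Away a) r := ψ.commutes r
    have h2 : algebraMap R (Localization.Away a) r =
        algebraMap Γ(X, U₁) (Localization.Away a) (ρ.hom r) :=
      IsScalarTower.algebraMap_apply R Γ(X, U₁) (Localization.Away a) r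
    have h3 : κ (algebraMap Γ(X, U₁) (Localization.Away a) (ρ.hom r)) =
        algebraMap Γ(X, U₁) Γ(X, X.basicOpen a) (ρ.hom r) := κ.commutes _
    change (X.presheaf.map ((X.basicOpen_le a).trans hle).hom.op).hom (φRX.hom r) =
      κ (ψ (φRA.hom r))
    rw [h1, h2, h3]
    have hcomp : X.presheaf.map ((X.basicOpen_le a).trans hle).hom.op =
        X.presheaf.map (homOfLE hle).op ≫ X.presheaf.map (homOfLE (X.basicOpen_le a)).op := by
      rw [← X.presheaf.map_comp]; rfl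
    rw [hcomp]
    rfl

theorem spread_out_of_locallyOfFinitePresentation {S X Y : Scheme.{u}} (sX : X ⟶ S) (sY : Y ⟶ S)
    [LocallyOfFinitePresentation sY] {x : X} {y : Y}
    (e : sX x = sY y) (φ : Y.presheaf.stalk y ⟶ X.presheaf.stalk x)
    (h : sY.stalkMap y ≫ φ =
      S.presheaf.stalkSpecializes (Inseparable.of_eq e).specializes ≫ sX.stalkMap x) :
    ∃ (U : X.Opens) (hxU : x ∈ U) (f : U.toScheme ⟶ Y),
      Spec.map φ ≫ Y.fromSpecStalk y = U.fromSpecStalkOfMem x hxU ≫ f ∧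
      f ≫ sY = U.ι ≫ sX := by
  obtain ⟨_, ⟨U, hU, rfl⟩, hxU, -⟩ :=
    S.isBasis_affineOpens.exists_subset_of_mem_open (Set.mem_univ (sX x)) isOpen_univ
  have hyU : sY y ∈ U := e ▸ hxU
  obtain ⟨_, ⟨V : Y.Opens, hV, rfl⟩, hyV, iVU⟩ :=
    Y.isBasis_affineOpens.exists_subset_of_mem_open hyU (sY ⁻¹ᵁ U).2
  have : sY.appLE U V iVU ≫ Y.presheaf.germ V y hyV ≫ φ =
      sX.app U ≫ X.presheaf.germ (sX ⁻¹ᵁ U) x hxU := by
    rw [Scheme.Hom.appLE, Category.assoc, Y.presheaf.germ_res_assoc,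
      ← Scheme.Hom.germ_stalkMap_assoc, h]
    simp
  obtain ⟨W, hxW, φ', i, hW, h₁, h₂⟩ :=
    exists_lift_of_finitePresentation (R := Γ(S, U)) (A := Γ(Y, V)) (U := sX ⁻¹ᵁ U) (x := x) hxU
    (Y.presheaf.germ _ y hyV ≫ φ) (sY.appLE U V iVU) (sX.app U)
    (sY.finitePresentation_appLE hU hV _) this
  refine ⟨W, hxW, W.toSpecΓ ≫ Spec.map φ' ≫ hV.fromSpec, ?_, ?_⟩
  · rw [W.fromSpecStalkOfMem_toSpecΓ_assoc x hxW, ← Spec.map_comp_assoc, ← h₁,
      Spec.map_comp, Category.assoc, ← IsAffineOpen.fromSpecStalk,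
      IsAffineOpen.fromSpecStalk_eq_fromSpecStalk]
  · simp only [Category.assoc]
    rw [← IsAffineOpen.SpecMap_appLE_fromSpec sY hU hV iVU, ← Spec.map_comp_assoc, ← h₂,
      ← Scheme.Hom.appLE, ← hW.isoSpec_hom, IsAffineOpen.SpecMap_appLE_fromSpec sX hU hW i,
      ← Iso.eq_inv_comp, IsAffineOpen.isoSpec_inv_ι_assoc]

theorem locallyOfFinitePresentation_of_comp {X Y Z : Scheme.{u}} (f : X ⟶ Y) (g : Y ⟶ Z)
    [LocallyOfFinitePresentation (f ≫ g)] [LocallyOfFiniteType g] :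
    LocallyOfFinitePresentation f := by
  rw [HasRingHomProperty.iff_exists_appLE (P := @LocallyOfFinitePresentation)
    (RingHom.finitePresentation_stableUnderComposition.stableUnderCompositionWithLocalizationAway
      RingHom.finitePresentation_holdsForLocalizationAway).left]
  intro x
  obtain ⟨_, ⟨W, hW, rfl⟩, hxW, -⟩ :=
    Z.isBasis_affineOpens.exists_subset_of_mem_open (Set.mem_univ (g (f x))) isOpen_univ
  obtain ⟨_, ⟨U, hU, rfl⟩, hxU, hUW⟩ :=
    Y.isBasis_affineOpens.exists_subset_of_mem_open (show f x ∈ (g ⁻¹ᵁ W : Set Y) from hxW)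
      (g ⁻¹ᵁ W).2
  obtain ⟨_, ⟨V, hV, rfl⟩, hxV, hVU⟩ :=
    X.isBasis_affineOpens.exists_subset_of_mem_open (show x ∈ (f ⁻¹ᵁ U : Set X) from hxU)
      (f ⁻¹ᵁ U).2
  have hUW' : U ≤ g ⁻¹ᵁ W := hUW
  have hVU' : V ≤ f ⁻¹ᵁ U := hVU
  refine ⟨⟨U, hU⟩, ⟨V, hV⟩, hxV, hVU', ?_⟩
  have hVW : V ≤ (f ≫ g) ⁻¹ᵁ W := hVU'.trans (f.preimage_mono hUW')
  have h1 : ((f ≫ g).appLE W V hVW).hom.FinitePresentation :=
    (f ≫ g).finitePresentation_appLE hW hV hVW
  have h2 : (g.appLE W U hUW').hom.FiniteType := g.finiteType_appLE hW hU hUW'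
  have h3 : (f ≫ g).appLE W V hVW = g.appLE W U hUW' ≫ f.appLE U V hVU' :=
    (Scheme.Hom.appLE_comp_appLE f g W U V hUW' hVU').symm
  rw [h3, CommRingCat.hom_comp] at h1
  exact RingHom.FinitePresentation.of_comp_finiteType _ h1 h2

theorem eqToHom_stalk_eq {S : Scheme.{u}} {a b : S} (h : a = b) :
    eqToHom (congrArg S.presheaf.stalk h) =
      S.presheaf.stalkSpecializes (specializes_of_eq h.symm) := by
  subst h
  simp

theorem stalk_iso_of_openImmersions {S X Y U' : Scheme.{u}} (sX : X ⟶ S) (sY : Y ⟶ S)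
    (j : U' ⟶ X) (g : U' ⟶ Y) [IsOpenImmersion j] [IsOpenImmersion g]
    (hc : g ≫ sY = j ≫ sX) (u : U') (x : X) (y : Y) (hx : j.base u = x) (hy : g.base u = y) :
    ∃ (hs : sX.base x = sY.base y) (e : X.presheaf.stalk x ≅ Y.presheaf.stalk y),
      sX.stalkMap x ≫ e.hom = eqToHom (congrArg S.presheaf.stalk hs) ≫ sY.stalkMap y := by
  subst hx hy
  have hs : sX.base (j.base u) = sY.base (g.base u) := by
    have := congrArg (fun k : U' ⟶ S => k.base u) hc
    simpa using this.symm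
  refine ⟨hs, asIso (j.stalkMap u) ≪≫ (asIso (g.stalkMap u)).symm, ?_⟩
  simp only [Iso.trans_hom, asIso_hom, Iso.symm_hom, asIso_inv]
  rw [← Category.assoc, IsIso.comp_inv_eq, Category.assoc, ← Scheme.Hom.stalkMap_comp,
    ← Scheme.Hom.stalkMap_comp, eqToHom_stalk_eq hs]
  rw [Scheme.Hom.stalkMap_congr_hom (j ≫ sX) (g ≫ sY) hc.symm u]
  rfl

theorem isIso_stalkSpecializes_of_eq {Y : Scheme.{u}} {a b : Y} (h : a = b) :
    IsIso (Y.presheaf.stalkSpecializes (specializes_of_eq h)) := by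
  subst h
  rw [TopCat.Presheaf.stalkSpecializes_refl]
  infer_instance

theorem eq_and_isIso_stalkMap_of_fromSpecStalk {U' Y : Scheme.{u}} (f : U' ⟶ Y) (u : U') (y : Y)
    {R : CommRingCat.{u}} [IsLocalRing R] (a : Y.presheaf.stalk y ⟶ R) [IsIso a]
    (b : U'.presheaf.stalk u ⟶ R) [IsIso b]
    (h : Spec.map a ≫ Y.fromSpecStalk y = Spec.map b ≫ U'.fromSpecStalk u ≫ f) :
    f.base u = y ∧ IsIso (f.stalkMap u) := by
  have hpt : f.base u = y := by
    have := congrArg (fun k : Spec R ⟶ Y => k.base (IsLocalRing.closedPoint R)) h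
    simp only [Scheme.Hom.comp_base, TopCat.hom_comp, ContinuousMap.comp_apply] at this
    rw [Spec_closedPoint, Spec_closedPoint, Scheme.fromSpecStalk_closedPoint,
      Scheme.fromSpecStalk_closedPoint] at this
    exact this.symm
  refine ⟨hpt, ?_⟩
  have hsp : f.base u ⤳ y := specializes_of_eq hpt
  have h1 : U'.fromSpecStalk u ≫ f = Spec.map (f.stalkMap u) ≫
      Spec.map (Y.presheaf.stalkSpecializes hsp) ≫ Y.fromSpecStalk y := by
    rw [Scheme.SpecMap_stalkSpecializes_fromSpecStalk, Scheme.SpecMap_stalkMap_fromSpecStalk]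
  rw [h1, ← Category.assoc, ← Category.assoc, cancel_mono, ← Spec.map_comp, ← Spec.map_comp] at h
  have h2 : a = (Y.presheaf.stalkSpecializes hsp ≫ f.stalkMap u) ≫ b := Spec.map_injective h
  have := isIso_stalkSpecializes_of_eq hpt
  have h3 : f.stalkMap u = inv (Y.presheaf.stalkSpecializes hsp) ≫ a ≫ inv b := by
    rw [h2]; simp
  rw [h3]
  infer_instance

theorem closure_mem_irreducibleComponents_iff {T : Type*} [TopologicalSpace T] [QuasiSober T]
    [T0Space T] [IrreducibleSpace T] (t : T) :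
    closure {t} ∈ irreducibleComponents T ↔ t = genericPoint T := by
  rw [irreducibleComponents_eq_singleton, Set.mem_singleton_iff]
  constructor
  · intro h
    have h1 : IsGenericPoint t Set.univ := h
    exact h1.eq (genericPoint_spec T)
  · rintro rfl
    exact genericPoint_closure T

set_option backward.isDefEq.respectTransparency false in
theorem birationalOver_of_stalk_iso {S X Y : Scheme.{u}} [IrreducibleSpace ↥X]
    [IrreducibleSpace ↥Y] (sX : X ⟶ S) (sY : Y ⟶ S)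
    [LocallyOfFinitePresentation sX] [LocallyOfFinitePresentation sY]
    (hs : sX.base (genericPoint ↥X) = sY.base (genericPoint ↥Y))
    (e : X.presheaf.stalk (genericPoint ↥X) ≅ Y.presheaf.stalk (genericPoint ↥Y))
    (he : sX.stalkMap (genericPoint ↥X) ≫ e.hom =
      eqToHom (congrArg S.presheaf.stalk hs) ≫ sY.stalkMap (genericPoint ↥Y)) :
    Scheme.BirationalOver sX sY := by
  have hcompat : sY.stalkMap (genericPoint ↥Y) ≫ e.inv =
      S.presheaf.stalkSpecializes (Inseparable.of_eq hs).specializes ≫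
        sX.stalkMap (genericPoint ↥X) := by
    rw [eqToHom_stalk_eq hs] at he
    rw [← cancel_mono e.hom, Category.assoc, Iso.inv_hom_id, Category.comp_id, Category.assoc, he,
      ← Category.assoc, TopCat.Presheaf.stalkSpecializes_comp,
      TopCat.Presheaf.stalkSpecializes_refl, Category.id_comp]
  obtain ⟨U, hxU, f, h1, h2⟩ :=
    spread_out_of_locallyOfFinitePresentation sX sY hs e.inv hcompat
  let x' : U := ⟨genericPoint ↥X, hxU⟩
  have : IsLocalRing (X.presheaf.stalk (genericPoint ↥X)) := inferInstance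
  obtain ⟨hfx, hisox⟩ := eq_and_isIso_stalkMap_of_fromSpecStalk f x' (genericPoint ↥Y)
    (a := e.inv) (b := inv (U.ι.stalkMap x')) (by
      rw [h1, Scheme.Opens.fromSpecStalkOfMem, Category.assoc])
  have : Nonempty U := ⟨x'⟩
  have : Nonempty U.toScheme := ⟨x'⟩
  have : IrreducibleSpace U.toScheme := U.ι.isOpenEmbedding.irreducibleSpace
  have hx'gen : x' = genericPoint U.toScheme := by
    apply IsGenericPoint.eq _ (genericPoint_spec U.toScheme)
    change closure {x'} = Set.univ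
    rw [Topology.IsInducing.subtypeVal.closure_eq_preimage_closure_image]
    simp only [Set.image_singleton]
    change Subtype.val ⁻¹' closure {genericPoint ↥X} = Set.univ
    rw [genericPoint_closure, Set.preimage_univ]
  have hfp : LocallyOfFinitePresentation (f ≫ sY) := by rw [h2]; infer_instance
  have hfp' : LocallyOfFinitePresentation f := locallyOfFinitePresentation_of_comp f sY
  have hinj : Set.InjOn (fun u : U.toScheme => f.base u)
      {u : U.toScheme | closure {u} ∈ irreducibleComponents ↥U.toScheme} := by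
    intro u₁ hu₁ u₂ hu₂ _
    rw [Set.mem_ofPred_eq, closure_mem_irreducibleComponents_iff] at hu₁ hu₂
    rw [hu₁, hu₂]
  have hisoall : ∀ u : U.toScheme, closure {u} ∈ irreducibleComponents ↥U.toScheme →
      IsIso (f.stalkMap u) := by
    intro u hu
    rw [closure_mem_irreducibleComponents_iff, ← hx'gen] at hu
    rw [hu]; exact hisox
  have hgY : closure {genericPoint ↥Y} ∈ irreducibleComponents ↥Y :=
    (closure_mem_irreducibleComponents_iff _).mpr rfl
  have hx'c : closure {x'} ∈ irreducibleComponents ↥U.toScheme :=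
    (closure_mem_irreducibleComponents_iff _).mpr hx'gen
  have hfib : ∀ u : U.toScheme, f.base u ⤳ f.base x' → u = x' := by
    intro u hu
    rw [hfx] at hu
    exact fiber_generic_eq f hinj hisoall _ hgY x' hx'c hfx u
      (eq_of_specializes_of_generic hgY hu)
  obtain ⟨_, ⟨V₀, hV₀, rfl⟩, hyV₀, -⟩ :=
    Y.isBasis_affineOpens.exists_subset_of_mem_open (Set.mem_univ (f.base x')) isOpen_univ
  obtain ⟨V, U'', hUV, -, hyV, hxU'', hiso'⟩ :=
    exists_isIso_resLE f x' hfib V₀ hV₀ hyV₀ (Or.inl hfp')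
  refine ⟨{ source := U.ι ''ᵁ U''
            dense_source := ?_
            target := V
            dense_target := ?_
            iso := (U.ι.isoImage U'').symm ≪≫ asIso (f.resLE V U'' hUV) }, ?_⟩
  · exact (U.ι ''ᵁ U'').2.dense ⟨U.ι.base x', ⟨x', hxU'', rfl⟩⟩
  · exact V.2.dense ⟨_, hyV⟩
  · change ((U.ι.isoImage U'').symm ≪≫ asIso (f.resLE V U'' hUV)).hom ≫ V.ι ≫ sY =
      (U.ι ''ᵁ U'').ι ≫ sX
    simp only [Iso.trans_hom, Iso.symm_hom, asIso_hom, Category.assoc]
    rw [Scheme.Hom.resLE_comp_ι_assoc, h2, ← Scheme.Hom.isoImage_inv_ι, Category.assoc,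
      Category.assoc]

set_option backward.isDefEq.respectTransparency false in
theorem birationalOver_of_hom {S X Y : Scheme.{u}} [IrreducibleSpace ↥X]
    [IrreducibleSpace ↥Y] (sX : X ⟶ S) (sY : Y ⟶ S) (U : X.Opens) (hxU : genericPoint ↥X ∈ U)
    (f : U.toScheme ⟶ Y) (h2 : f ≫ sY = U.ι ≫ sX)
    (hfx : f.base ⟨genericPoint ↥X, hxU⟩ = genericPoint ↥Y)
    (hisox : IsIso (f.stalkMap ⟨genericPoint ↥X, hxU⟩)) [LocallyOfFiniteType f]
    (hcase : LocallyOfFinitePresentation f ∨ ∀ (V₀ : Y.Opens)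
      (h : f.base ⟨genericPoint ↥X, hxU⟩ ∈ V₀),
      Function.Injective (Y.presheaf.germ V₀ (f.base ⟨genericPoint ↥X, hxU⟩) h).hom) :
    Scheme.BirationalOver sX sY := by
  let x' : U := ⟨genericPoint ↥X, hxU⟩
  have : Nonempty U := ⟨x'⟩
  have : Nonempty U.toScheme := ⟨x'⟩
  have : IrreducibleSpace U.toScheme := U.ι.isOpenEmbedding.irreducibleSpace
  have hx'gen : x' = genericPoint U.toScheme := by
    apply IsGenericPoint.eq _ (genericPoint_spec U.toScheme)
    change closure {x'} = Set.univ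
    rw [Topology.IsInducing.subtypeVal.closure_eq_preimage_closure_image]
    simp only [Set.image_singleton]
    change Subtype.val ⁻¹' closure {genericPoint ↥X} = Set.univ
    rw [genericPoint_closure, Set.preimage_univ]
  have hinj : Set.InjOn (fun u : U.toScheme => f.base u)
      {u : U.toScheme | closure {u} ∈ irreducibleComponents ↥U.toScheme} := by
    intro u₁ hu₁ u₂ hu₂ _
    rw [Set.mem_ofPred_eq, closure_mem_irreducibleComponents_iff] at hu₁ hu₂
    rw [hu₁, hu₂]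
  have hisoall : ∀ u : U.toScheme, closure {u} ∈ irreducibleComponents ↥U.toScheme →
      IsIso (f.stalkMap u) := by
    intro u hu
    rw [closure_mem_irreducibleComponents_iff, ← hx'gen] at hu
    rw [hu]; exact hisox
  have hgY : closure {genericPoint ↥Y} ∈ irreducibleComponents ↥Y :=
    (closure_mem_irreducibleComponents_iff _).mpr rfl
  have hx'c : closure {x'} ∈ irreducibleComponents ↥U.toScheme :=
    (closure_mem_irreducibleComponents_iff _).mpr hx'gen
  have hfib : ∀ u : U.toScheme, f.base u ⤳ f.base x' → u = x' := by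
    intro u hu
    rw [hfx] at hu
    exact fiber_generic_eq f hinj hisoall _ hgY x' hx'c hfx u
      (eq_of_specializes_of_generic hgY hu)
  obtain ⟨_, ⟨V₀, hV₀, rfl⟩, hyV₀, -⟩ :=
    Y.isBasis_affineOpens.exists_subset_of_mem_open (Set.mem_univ (f.base x')) isOpen_univ
  have hcase' : LocallyOfFinitePresentation f ∨
      Function.Injective (Y.presheaf.germ V₀ (f.base x') hyV₀).hom := by
    rcases hcase with h | h
    · exact Or.inl h
    · exact Or.inr (h V₀ hyV₀)
  obtain ⟨V, U'', hUV, -, hyV, hxU'', hiso'⟩ :=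
    exists_isIso_resLE f x' hfib V₀ hV₀ hyV₀ hcase'
  refine ⟨{ source := U.ι ''ᵁ U''
            dense_source := ?_
            target := V
            dense_target := ?_
            iso := (U.ι.isoImage U'').symm ≪≫ asIso (f.resLE V U'' hUV) }, ?_⟩
  · exact (U.ι ''ᵁ U'').2.dense ⟨U.ι.base x', ⟨x', hxU'', rfl⟩⟩
  · exact V.2.dense ⟨_, hyV⟩
  · change ((U.ι.isoImage U'').symm ≪≫ asIso (f.resLE V U'' hUV)).hom ≫ V.ι ≫ sY =
      (U.ι ''ᵁ U'').ι ≫ sX
    simp only [Iso.trans_hom, Iso.symm_hom, asIso_hom, Category.assoc]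
    rw [Scheme.Hom.resLE_comp_ι_assoc, h2, ← Scheme.Hom.isoImage_inv_ι, Category.assoc,
      Category.assoc]

theorem residueField_iso_of_openImmersions {S X Y U' : Scheme.{u}} (sX : X ⟶ S) (sY : Y ⟶ S)
    (j : U' ⟶ X) (g : U' ⟶ Y) [IsOpenImmersion j] [IsOpenImmersion g]
    (hc : g ≫ sY = j ≫ sX) (u : U') (x : X) (y : Y) (hx : j.base u = x) (hy : g.base u = y) :
    ∃ (hs : sX.base x = sY.base y) (e : X.residueField x ≅ Y.residueField y),
      sX.residueFieldMap x ≫ e.hom = eqToHom (congrArg S.residueField hs) ≫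
        sY.residueFieldMap y := by
  subst hx hy
  have hs : sX.base (j.base u) = sY.base (g.base u) := by
    have := congrArg (fun k : U' ⟶ S => k.base u) hc
    simpa using this.symm
  refine ⟨hs, asIso (j.residueFieldMap u) ≪≫ (asIso (g.residueFieldMap u)).symm, ?_⟩
  simp only [Iso.trans_hom, asIso_hom, Iso.symm_hom, asIso_inv]
  rw [← Category.assoc, IsIso.comp_inv_eq, Category.assoc, ← Scheme.residueFieldMap_comp,
    ← Scheme.residueFieldMap_comp]
  rw [Scheme.Hom.residueFieldMap_congr hc.symm u]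
  rfl

theorem isIso_residue_of_isField {X : Scheme.{u}} (x : X) (h : IsField (X.presheaf.stalk x)) :
    IsIso (X.residue x) := by
  rw [ConcreteCategory.isIso_iff_bijective]
  let _ := h.toField
  exact ⟨RingHom.injective (X.residue x).hom, X.residue_surjective x⟩

theorem eqToHom_residueField_eq {S : Scheme.{u}} {a b : S} (h : a = b) :
    eqToHom (congrArg S.residueField h) = (S.residueFieldCongr h).hom := by
  subst h
  simp

set_option backward.isDefEq.respectTransparency false in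
theorem birationalOver_of_residueField_iso {S X Y : Scheme.{u}} [IsIntegral X] [IsIntegral Y]
    (sX : X ⟶ S) (sY : Y ⟶ S) [LocallyOfFiniteType sX] [LocallyOfFiniteType sY]
    (hs : sX.base (genericPoint ↥X) = sY.base (genericPoint ↥Y))
    (e : X.residueField (genericPoint ↥X) ≅ Y.residueField (genericPoint ↥Y))
    (he : sX.residueFieldMap (genericPoint ↥X) ≫ e.hom =
      eqToHom (congrArg S.residueField hs) ≫ sY.residueFieldMap (genericPoint ↥Y)) :
    Scheme.BirationalOver sX sY := by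
  have hX : IsIso (X.residue (genericPoint ↥X)) :=
    isIso_residue_of_isField _ (Field.toIsField (X.functionField))
  have hY : IsIso (Y.residue (genericPoint ↥Y)) :=
    isIso_residue_of_isField _ (Field.toIsField (Y.functionField))
  let φ : Y.presheaf.stalk (genericPoint ↥Y) ⟶ X.presheaf.stalk (genericPoint ↥X) :=
    Y.residue (genericPoint ↥Y) ≫ e.inv ≫ inv (X.residue (genericPoint ↥X))
  have hφ : IsIso φ := by dsimp only [φ]; infer_instance
  have hcompat : sY.stalkMap (genericPoint ↥Y) ≫ φ =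
      S.presheaf.stalkSpecializes (Inseparable.of_eq hs).specializes ≫
        sX.stalkMap (genericPoint ↥X) := by
    rw [← cancel_mono (X.residue (genericPoint ↥X))]
    dsimp only [φ]
    simp only [Category.assoc, IsIso.inv_hom_id, Category.comp_id]
    rw [← Scheme.residue_residueFieldMap, ← Scheme.residue_residueFieldMap_assoc]
    have he' : sX.residueFieldMap (genericPoint ↥X) =
        (S.residueFieldCongr hs).hom ≫ sY.residueFieldMap (genericPoint ↥Y) ≫ e.inv := by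
      rw [← eqToHom_residueField_eq, ← Category.assoc, ← he, Category.assoc, Iso.hom_inv_id,
        Category.comp_id]
    rw [he', Scheme.residue_residueFieldCongr_assoc, TopCat.Presheaf.stalkCongr_hom,
      ← Category.assoc (S.presheaf.stalkSpecializes _), TopCat.Presheaf.stalkSpecializes_comp,
      TopCat.Presheaf.stalkSpecializes_refl, Category.id_comp]
  obtain ⟨U, hxU, f, h1, h2⟩ := spread_out_of_isGermInjective sX sY hs φ hcompat
  let x' : U := ⟨genericPoint ↥X, hxU⟩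
  have : IsLocalRing (X.presheaf.stalk (genericPoint ↥X)) := inferInstance
  obtain ⟨hfx, hisox⟩ := eq_and_isIso_stalkMap_of_fromSpecStalk f x' (genericPoint ↥Y)
    (a := φ) (b := inv (U.ι.stalkMap x')) (by
      rw [h1, Scheme.Opens.fromSpecStalkOfMem, Category.assoc])
  have hft : LocallyOfFiniteType (f ≫ sY) := by rw [h2]; infer_instance
  have hft' : LocallyOfFiniteType f := locallyOfFiniteType_of_comp f sY
  exact birationalOver_of_hom sX sY U hxU f h2 hfx hisox
    (Or.inr fun V₀ h => germ_injective_of_isIntegral Y _ h)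

end Groth.Agent.Lib.Helper93.Birat
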