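import Mathlib
import Groth.Prelude.Def_ChGrp
import Groth.Prelude.Def_NonAbH2

/-!
# Points-form of pseudo-torsors (`IsPullback act snd φ φ`) and composition of local triviality
-/

set_option autoImplicit false
universe u

open CategoryTheory CategoryTheory.Limits MonoidalCategory CartesianMonoidalCategory MonObj GrpObj
  AlgebraicGeometry

namespace Groth.Agent.Lib.Helper93.TorsorPts

section general
variable {C : Type*} [Category C]

/-- A commutative square is a pullback iff it has the unique-lifting property on points. -/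
lemma isPullback_of_existsUnique {P X Y Z : C} (fst : P ⟶ X) (snd : P ⟶ Y) (f : X ⟶ Z)
    (g : Y ⟶ Z) (w : fst ≫ f = snd ≫ g)
    (h : ∀ (T : C) (x : T ⟶ X) (y : T ⟶ Y), x ≫ f = y ≫ g →
      ∃! t : T ⟶ P, t ≫ fst = x ∧ t ≫ snd = y) : IsPullback fst snd f g := by
  refine ⟨⟨w⟩, ⟨PullbackCone.IsLimit.mk w
    (fun s => (h s.pt s.fst s.snd s.condition).choose)
    (fun s => (h s.pt s.fst s.snd s.condition).choose_spec.1.1)
    (fun s => (h s.pt s.fst s.snd s.condition).choose_spec.1.2)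
    (fun s m h1 h2 => (h s.pt s.fst s.snd s.condition).choose_spec.2 m ⟨h1, h2⟩)⟩⟩

end general

section torsor
variable {S : Scheme.{u}} {G X Y : Over S} [GrpObj G] (b : AlgGrp.Action G X) (φ : X ⟶ Y)

lemma act_comp_of_isPullback (h : IsPullback b.act (snd G X) φ φ) {T : Over S} (g : T ⟶ G)
    (x : T ⟶ X) : (lift g x ≫ b.act) ≫ φ = x ≫ φ := by
  rw [Category.assoc, h.w, lift_snd_assoc]

lemma exists_of_isPullback (h : IsPullback b.act (snd G X) φ φ) {T : Over S} (x' x : T ⟶ X)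
    (hx : x' ≫ φ = x ≫ φ) : ∃ g : T ⟶ G, lift g x ≫ b.act = x' := by
  refine ⟨h.lift x' x hx ≫ fst G X, ?_⟩
  have : lift (h.lift x' x hx ≫ fst G X) x = h.lift x' x hx := by
    apply CartesianMonoidalCategory.hom_ext
    · simp
    · simp [h.lift_snd]
  rw [this, h.lift_fst]

lemma eq_of_isPullback (h : IsPullback b.act (snd G X) φ φ) {T : Over S} (g g' : T ⟶ G)
    (x : T ⟶ X) (hg : lift g x ≫ b.act = lift g' x ≫ b.act) : g = g' := by
  have h1 : lift g x = lift g' x := h.hom_ext hg (by simp)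
  have h2 := congrArg (· ≫ fst G X) h1
  simpa using h2

lemma isPullback_of_points
    (hI : ∀ (T : Over S) (g : T ⟶ G) (x : T ⟶ X), (lift g x ≫ b.act) ≫ φ = x ≫ φ)
    (hE : ∀ (T : Over S) (x' x : T ⟶ X), x' ≫ φ = x ≫ φ → ∃ g : T ⟶ G, lift g x ≫ b.act = x')
    (hU : ∀ (T : Over S) (g g' : T ⟶ G) (x : T ⟶ X),
      lift g x ≫ b.act = lift g' x ≫ b.act → g = g') :
    IsPullback b.act (snd G X) φ φ := by
  apply isPullback_of_existsUnique
  · apply AlgGrp.Action.hom_ext_lift₂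
    intro T g x
    rw [← Category.assoc, hI, lift_snd_assoc]
  · intro T x' x hx
    obtain ⟨g, hg⟩ := hE T x' x hx
    refine ⟨lift g x, ⟨hg, lift_snd _ _⟩, ?_⟩
    rintro t ⟨ht1, ht2⟩
    have ht : t = lift (t ≫ fst G X) x := by
      apply CartesianMonoidalCategory.hom_ext <;> simp [ht2]
    rw [ht]
    congr 1
    apply hU T _ _ x
    rw [← ht, ht1, hg]

end torsor

section loctriv

/-- Local triviality (existence of local sections) is stable under composition. -/
lemma isLocallyTrivialFor_comp {X Y Z : Scheme.{u}} (K : Precoverage Scheme.{u})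
    [K.IsStableUnderBaseChange] [K.IsStableUnderComposition] (f₁ : X ⟶ Y) (f₂ : Y ⟶ Z)
    (h₁ : NonAbH1.IsLocallyTrivialFor K (Over.mk f₁))
    (h₂ : NonAbH1.IsLocallyTrivialFor K (Over.mk f₂)) :
    NonAbH1.IsLocallyTrivialFor K (Over.mk (f₁ ≫ f₂)) := by
  obtain ⟨R₂, hR₂, hs₂⟩ := h₂
  obtain ⟨I₂, W, f, rfl⟩ := R₂.exists_eq_ofArrows
  obtain ⟨R₁, hR₁, hs₁⟩ := h₁
  obtain ⟨I₁, V, g, rfl⟩ := R₁.exists_eq_ofArrows
  have hs₂' : ∀ i, ∃ s : W i ⟶ Y, s ≫ f₂ = f i := fun i => hs₂ (f i) (Presieve.ofArrows.mk i)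
  choose s hs using hs₂'
  have hs₁' : ∀ j, ∃ t : V j ⟶ X, t ≫ f₁ = g j := fun j => hs₁ (g j) (Presieve.ofArrows.mk j)
  choose t ht using hs₁'
  have hcov : ∀ i, Presieve.ofArrows (fun j => pullback (s i) (g j))
      (fun j => pullback.fst (s i) (g j)) ∈ K (W i) := fun i =>
    Precoverage.mem_coverings_of_isPullback g hR₁ (s i) _ (fun j => pullback.snd (s i) (g j))
      (fun j => IsPullback.of_hasPullback _ _)
  refine ⟨_, Precoverage.comp_mem_coverings f hR₂ (fun i j => pullback.fst (s i) (g j)) hcov, ?_⟩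
  rintro S' f' ⟨p⟩
  refine ⟨pullback.snd (s p.1) (g p.2) ≫ t p.2, ?_⟩
  change (pullback.snd (s p.1) (g p.2) ≫ t p.2) ≫ f₁ ≫ f₂ = _
  rw [Category.assoc, ← Category.assoc (t p.2), ht, ← Category.assoc, ← pullback.condition,
    Category.assoc, hs]

end loctriv

end Groth.Agent.Lib.Helper93.TorsorPts
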