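import Mathlib

set_option autoImplicit false
universe u
open CategoryTheory AlgebraicGeometry TopologicalSpace Opposite HomogeneousLocalization

namespace Groth.Agent.Lib.Helper93.ProjGamma

variable {R A : Type u} [CommRing R] [CommRing A] [Algebra R A] (𝒜 : ℕ → Submodule R A)
  [GradedAlgebra 𝒜]

variable {f : A} {d : ℕ} (hf : f ∈ 𝒜 d) (hd : 0 < d)

theorem awayι_preimage_self : Proj.awayι 𝒜 f hf hd ⁻¹ᵁ Proj.basicOpen 𝒜 f = ⊤ := by
  rw [← Proj.opensRange_awayι 𝒜 f hf hd]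
  exact Scheme.Hom.preimage_opensRange _

/-- (after helper60's `ProjUP2`) -/
theorem awayToSection_awayι_appLE :
    Proj.awayToSection 𝒜 f ≫ (Proj.awayι 𝒜 f hf hd).appLE (Proj.basicOpen 𝒜 f) ⊤
      (awayι_preimage_self 𝒜 hf hd).ge = (Scheme.ΓSpecIso _).inv := by
  have h1 := Proj.basicOpenToSpec_app_top 𝒜 f
  rw [← Proj.basicOpenIsoSpec_hom 𝒜 f hf hd] at h1
  have h2 : (Proj.awayι 𝒜 f hf hd).appLE (Proj.basicOpen 𝒜 f) ⊤ (awayι_preimage_self 𝒜 hf hd).ge =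
      (Proj.basicOpen 𝒜 f).ι.appLE (Proj.basicOpen 𝒜 f) ⊤ (by simp) ≫
        (Proj.basicOpenIsoSpec 𝒜 f hf hd).inv.appLE ⊤ ⊤ (by simp) :=
    (Scheme.Hom.appLE_comp_appLE _ _ _ _ _ _ _).symm
  rw [h2]
  have h3 : (Proj.basicOpenIsoSpec 𝒜 f hf hd).inv.appLE ⊤ ⊤ (by simp) =
      (Proj.basicOpenIsoSpec 𝒜 f hf hd).inv.appTop := by
    simp [Scheme.Hom.appLE]
  rw [h3]
  have h4 : (Proj.basicOpen 𝒜 f).ι.appLE (Proj.basicOpen 𝒜 f) ⊤ (by simp) =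
      (Proj.basicOpen 𝒜 f).topIso.inv := by
    rw [Scheme.Opens.ι_appLE]
    rfl
  rw [h4]
  have h5 : (Proj.basicOpenIsoSpec 𝒜 f hf hd).hom.appTop ≫
      (Proj.basicOpenIsoSpec 𝒜 f hf hd).inv.appTop = 𝟙 _ := by
    rw [← Scheme.Hom.comp_appTop, Iso.inv_hom_id]
    rfl
  have h6 : Proj.awayToSection 𝒜 f ≫ (Proj.basicOpen 𝒜 f).topIso.inv =
      (Scheme.ΓSpecIso _).inv ≫ (Proj.basicOpenIsoSpec 𝒜 f hf hd).hom.appTop := by
    rw [Iso.eq_inv_comp]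
    exact h1.symm
  rw [← Category.assoc, h6, Category.assoc, h5, Category.comp_id]

instance isIso_awayι_appLE : IsIso ((Proj.awayι 𝒜 f hf hd).appLE (Proj.basicOpen 𝒜 f) ⊤
      (awayι_preimage_self 𝒜 hf hd).ge) := by
  have h1 : IsIso (Proj.awayToSection 𝒜 f) :=
    (Proj.basicOpenIsoAway 𝒜 f hf hd).isIso_hom
  have h2 : IsIso (Proj.awayToSection 𝒜 f ≫ (Proj.awayι 𝒜 f hf hd).appLE (Proj.basicOpen 𝒜 f) ⊤
      (awayι_preimage_self 𝒜 hf hd).ge) := by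
    rw [awayToSection_awayι_appLE]; infer_instance
  exact IsIso.of_isIso_comp_left (Proj.awayToSection 𝒜 f) _

include hf hd in
/-- The structure map sends `c ∈ 𝒜 0` to the function whose restriction to `D₊(f)` is `c/1`. -/
theorem toSpecZero_appTop_res (c : 𝒜 0) :
    (Proj 𝒜).presheaf.map (homOfLE (le_top : Proj.basicOpen 𝒜 f ≤ ⊤)).op
      ((Proj.toSpecZero 𝒜).appTop.hom ((Scheme.ΓSpecIso (.of (𝒜 0))).inv.hom c)) =
      (Proj.awayToSection 𝒜 f).hom (HomogeneousLocalization.fromZeroRingHom 𝒜 _ c) := by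
  have hinj : Function.Injective ((Proj.awayι 𝒜 f hf hd).appLE (Proj.basicOpen 𝒜 f) ⊤
      (awayι_preimage_self 𝒜 hf hd).ge).hom :=
    (ConcreteCategory.bijective_of_isIso _).1
  apply hinj
  have h1 := Scheme.Hom.map_appLE (Proj.awayι 𝒜 f hf hd) (awayι_preimage_self 𝒜 hf hd).ge
    (homOfLE (le_top : Proj.basicOpen 𝒜 f ≤ ⊤)).op
  have h2 : (Proj.awayι 𝒜 f hf hd).appLE ⊤ ⊤ (by simp) = (Proj.awayι 𝒜 f hf hd).appTop := by
    simp [Scheme.Hom.appLE]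
  have h3 := congrArg (fun φ => φ.hom ((Proj.toSpecZero 𝒜).appTop.hom
    ((Scheme.ΓSpecIso (.of (𝒜 0))).inv.hom c))) (h1.trans h2)
  refine h3.trans ?_
  have h4 := congrArg (fun φ => φ.hom (HomogeneousLocalization.fromZeroRingHom 𝒜 _ c))
    (awayToSection_awayι_appLE 𝒜 hf hd)
  refine Eq.trans ?_ h4.symm
  have h5 := congrArg Scheme.Hom.appTop (Proj.awayι_toSpecZero 𝒜 f hf hd)
  rw [Scheme.Hom.comp_appTop] at h5
  have h6 := congrArg (fun φ => φ.hom ((Scheme.ΓSpecIso (.of (𝒜 0))).inv.hom c)) h5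
  refine h6.trans ?_
  have h7 := Scheme.ΓSpecIso_inv_naturality
    (CommRingCat.ofHom (HomogeneousLocalization.fromZeroRingHom 𝒜 (Submonoid.powers f)))
  exact (congrArg (fun φ => φ.hom c) h7).symm

end Groth.Agent.Lib.Helper93.ProjGamma
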