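import Mathlib
import Groth.Prelude.Def_CohB1

set_option autoImplicit false
universe u
open MvPolynomial HomogeneousLocalization

namespace Groth.Agent.Lib.Helper93.ProjGamma

variable (n : ℕ) (R : Type u) [CommRing R]

/-- If `a * M₁ = b * M₂` for monomials `M₁, M₂`, then the coefficients of `a` at exponents `μ`
with `¬ s₂ ≤ μ + s₁` vanish. -/
theorem coeff_eq_zero_of_mul_monomial_eq {σ : Type*} {a b : MvPolynomial σ R} {s₁ s₂ : σ →₀ ℕ}
    (h : a * monomial s₁ 1 = b * monomial s₂ 1) (μ : σ →₀ ℕ) (hμ : ¬ s₂ ≤ μ + s₁) :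
    coeff μ a = 0 := by
  have h1 : coeff (μ + s₁) (a * monomial s₁ 1) = coeff μ a := by
    rw [coeff_mul_monomial, mul_one]
  have h2 : coeff (μ + s₁) (b * monomial s₂ 1) = 0 := by
    rw [coeff_mul_monomial', if_neg hμ]
  rw [← h1, h, h2]

/-- A homogeneous polynomial of degree `m` all of whose monomials have `X i`-exponent at least `m`
is `c * X i ^ m`. -/
theorem eq_C_mul_X_pow {i : Fin (n + 1)} {m : ℕ} {a : MvPolynomial (Fin (n + 1)) R}
    (ha : a.IsHomogeneous m) (h : ∀ μ : Fin (n + 1) →₀ ℕ, μ i < m → coeff μ a = 0) :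
    a = C (coeff (Finsupp.single i m) a) * X i ^ m := by
  rw [C_mul_X_pow_eq_monomial]
  ext μ
  rw [coeff_monomial]
  split_ifs with hμ
  · rw [hμ]
  · by_cases hdeg : μ.degree = m
    · apply h
      by_contra hlt
      push Not at hlt
      apply hμ
      have hsum : μ.degree = ∑ x, μ x := Finsupp.degree_eq_sum μ
      have hi : μ i ≤ μ.degree := by
        rw [hsum]
        exact Finset.single_le_sum (f := fun x => μ x) (fun _ _ => Nat.zero_le _)
          (Finset.mem_univ i)
      have hpair : ∀ j, j ≠ i → μ i + μ j ≤ μ.degree := by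
        intro j hj
        rw [hsum]
        calc μ i + μ j = ∑ x ∈ ({i, j} : Finset (Fin (n + 1))), μ x := by
              rw [Finset.sum_pair (Ne.symm hj)]
          _ ≤ ∑ x, μ x := Finset.sum_le_sum_of_subset (Finset.subset_univ _)
      ext j
      by_cases hj : j = i
      · subst hj
        rw [Finsupp.single_eq_same]
        omega
      · rw [Finsupp.single_eq_of_ne hj]
        have := hpair j hj
        omega
    · exact (ha.coeff_eq_zero hdeg)

local notation "𝒢" => CohB1.polyGrading n R

theorem X_mem_one (i : Fin (n + 1)) : (X i : MvPolynomial (Fin (n + 1)) R) ∈ 𝒢 1 :=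
  (mem_homogeneousSubmodule 1 _).mpr (isHomogeneous_X R i)

/-- An element of `R[x]_(x_i)` which on each overlap `D₊(x_i x_j)` comes from `R[x]_(x_j)`
is a constant. -/
theorem away_eq_const (i : Fin (n + 1)) (σ : Away 𝒢 (X i : MvPolynomial (Fin (n + 1)) R))
    (hcompat : ∀ j, j ≠ i → ∃ τ : Away 𝒢 (X j : MvPolynomial (Fin (n + 1)) R),
      awayMap 𝒢 (X_mem_one n R j) (rfl : (X i * X j : MvPolynomial (Fin (n + 1)) R) = X i * X j) σ =
        awayMap 𝒢 (X_mem_one n R i) (mul_comm (X i) (X j)) τ) :
    ∃ c : R, σ = fromZeroRingHom 𝒢 _ (algebraMap R (𝒢 0) c) := by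
  obtain ⟨m, a, ha, rfl⟩ := Away.mk_surjective 𝒢 (X_mem_one n R i) σ
  have ha' : a.IsHomogeneous m := by
    have := (mem_homogeneousSubmodule _ _).mp ha
    simpa using this
  have key : ∀ μ : Fin (n + 1) →₀ ℕ, μ i < m → coeff μ a = 0 := by
    intro μ hμ
    by_cases hdeg : μ.degree = m
    · -- find `j ≠ i` with `μ j ≠ 0`
      obtain ⟨j, hji, hj0⟩ : ∃ j, j ≠ i ∧ μ j ≠ 0 := by
        by_contra hcon
        push Not at hcon
        have : μ = Finsupp.single i (μ i) := by
          ext j
          by_cases hj : j = i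
          · subst hj; simp
          · rw [Finsupp.single_eq_of_ne hj, hcon j hj]
        rw [this, Finsupp.degree_single] at hdeg
        omega
      obtain ⟨τ, hτ⟩ := hcompat j hji
      obtain ⟨k, b, hb, rfl⟩ := Away.mk_surjective 𝒢 (X_mem_one n R j) τ
      rw [awayMap_mk, awayMap_mk] at hτ
      have hval := congrArg HomogeneousLocalization.val hτ
      rw [Away.val_mk, Away.val_mk, Localization.mk_eq_mk_iff, Localization.r_iff_exists] at hval
      obtain ⟨⟨_, N, rfl⟩, hN⟩ := hval
      simp only at hN
      -- rewrite as monomial identity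
      have e1 : (X i * X j : MvPolynomial (Fin (n + 1)) R) ^ N * ((X i * X j) ^ k * (a * X j ^ m)) =
          a * monomial (Finsupp.single j (m + k + N) + Finsupp.single i (k + N)) 1 := by
        have : (monomial (Finsupp.single j (m + k + N) + Finsupp.single i (k + N)) 1 :
            MvPolynomial (Fin (n + 1)) R) = X j ^ (m + k + N) * X i ^ (k + N) := by
          rw [X_pow_eq_monomial, X_pow_eq_monomial, monomial_mul, mul_one]
        rw [this]
        ring
      have e2 : (X i * X j : MvPolynomial (Fin (n + 1)) R) ^ N * ((X i * X j) ^ m * (b * X i ^ k)) =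
          b * monomial (Finsupp.single i (k + m + N) + Finsupp.single j (m + N)) 1 := by
        have : (monomial (Finsupp.single i (k + m + N) + Finsupp.single j (m + N)) 1 :
            MvPolynomial (Fin (n + 1)) R) = X i ^ (k + m + N) * X j ^ (m + N) := by
          rw [X_pow_eq_monomial, X_pow_eq_monomial, monomial_mul, mul_one]
        rw [this]
        ring
      rw [e1, e2] at hN
      refine coeff_eq_zero_of_mul_monomial_eq R hN μ ?_
      intro hle
      have := hle i
      simp only [Finsupp.coe_add, Pi.add_apply, Finsupp.single_eq_same,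
        Finsupp.single_eq_of_ne (Ne.symm hji)] at this
      omega
    · exact ha'.coeff_eq_zero hdeg
  have hform := eq_C_mul_X_pow n R ha' key
  refine ⟨coeff (Finsupp.single i m) a, ?_⟩
  ext
  rw [Away.val_mk]
  show _ = Localization.mk _ _
  rw [Localization.mk_eq_mk_iff, Localization.r_iff_exists]
  refine ⟨1, ?_⟩
  show (1 : MvPolynomial (Fin (n + 1)) R) * (1 * a) =
    1 * (X i ^ m * (algebraMap R (MvPolynomial (Fin (n + 1)) R) (coeff (Finsupp.single i m) a)))
  rw [MvPolynomial.algebraMap_eq]
  conv_lhs => rw [hform]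
  ring

end Groth.Agent.Lib.Helper93.ProjGamma
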