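import Mathlib
import Groth.Prelude.Def_CohB1
import Groth.Agent.Lib.Helper93.ProjGamma1
import Groth.Agent.Lib.Helper93.ProjGammaAlg
import Groth.Agent.Lib.Helper93.ProjOverIso

set_option autoImplicit false
universe u
open CategoryTheory AlgebraicGeometry TopologicalSpace Opposite HomogeneousLocalization MvPolynomial

namespace Groth.Agent.Lib.Helper93.ProjGamma

variable (n : ℕ) (R : Type u) [CommRing R]

local notation "𝒢" => CohB1.polyGrading n R
local notation "Sₙ" => MvPolynomial (Fin (n + 1)) R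

/-- The chart `D₊(x_i)`. -/
noncomputable abbrev U (i : Fin (n + 1)) : (Proj 𝒢).Opens := Proj.basicOpen 𝒢 (X i : Sₙ)

theorem iSup_U : ⨆ i, U n R i = ⊤ := by
  apply Proj.iSup_basicOpen_eq_top
  rw [← Set.image_univ]
  exact Groth.Agent.Lib.Helper93.ProjOverIso.irrelevant_le_span_X n R

theorem const_injective {f : Sₙ} (hf : IsRegular f) {c c' : R}
    (h : fromZeroRingHom 𝒢 (.powers f) (algebraMap R (𝒢 0) c) =
      fromZeroRingHom 𝒢 (.powers f) (algebraMap R (𝒢 0) c')) : c = c' := by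
  have hval := congrArg HomogeneousLocalization.val h
  change Localization.mk _ _ = Localization.mk _ _ at hval
  rw [Localization.mk_eq_mk_iff, Localization.r_iff_exists] at hval
  obtain ⟨⟨_, N, rfl⟩, hN⟩ := hval
  have h1 : (1 : Sₙ) * (algebraMap R Sₙ c) = 1 * (algebraMap R Sₙ c') :=
    (hf.pow N).left hN
  rw [one_mul, one_mul, MvPolynomial.algebraMap_eq] at h1
  exact C_injective _ _ h1

/-- Restriction of a global section to `D₊(x_i)`, as an element of `R[x]_(x_i)`. -/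
noncomputable def ρ (i : Fin (n + 1)) (s : Γ(Proj 𝒢, ⊤)) : Away 𝒢 (X i : Sₙ) :=
  (Proj.basicOpenIsoAway 𝒢 (X i : Sₙ) (X_mem_one n R i) one_pos).inv.hom
    ((Proj 𝒢).presheaf.map (homOfLE (le_top : U n R i ≤ ⊤)).op s)

theorem awayToSection_ρ (i : Fin (n + 1)) (s : Γ(Proj 𝒢, ⊤)) :
    (Proj.awayToSection 𝒢 (X i : Sₙ)).hom (ρ n R i s) =
      (Proj 𝒢).presheaf.map (homOfLE (le_top : U n R i ≤ ⊤)).op s := by
  unfold ρ
  have := (Proj.basicOpenIsoAway 𝒢 (X i : Sₙ) (X_mem_one n R i) one_pos).inv_hom_id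
  rw [Proj.basicOpenIsoAway_hom] at this
  have h2 := congrArg (fun φ => φ.hom ((Proj 𝒢).presheaf.map (homOfLE (le_top : U n R i ≤ ⊤)).op s)) this
  exact h2

theorem awayToSection_injective {x : Sₙ} {d : ℕ} (hx : x ∈ 𝒢 d) (hd : 0 < d) :
    Function.Injective (Proj.awayToSection 𝒢 x).hom := by
  have : IsIso (Proj.awayToSection 𝒢 x) := (Proj.basicOpenIsoAway 𝒢 x hx hd).isIso_hom
  exact (ConcreteCategory.bijective_of_isIso _).1

/-- Compatibility of the restrictions on overlaps. -/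
theorem awayMap_ρ (i j : Fin (n + 1)) (s : Γ(Proj 𝒢, ⊤)) :
    awayMap 𝒢 (X_mem_one n R j) (rfl : (X i * X j : Sₙ) = X i * X j) (ρ n R i s) =
      awayMap 𝒢 (X_mem_one n R i) (mul_comm (X i : Sₙ) (X j)) (ρ n R j s) := by
  have hx : (X i * X j : Sₙ) ∈ 𝒢 (1 + 1) :=
    SetLike.mul_mem_graded (X_mem_one n R i) (X_mem_one n R j)
  apply awayToSection_injective n R hx (by norm_num)
  have h1 := Proj.awayMap_awayToSection 𝒢 (f := (X i : Sₙ)) (X_mem_one n R j)
    (rfl : (X i * X j : Sₙ) = X i * X j)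
  have h2 := Proj.awayMap_awayToSection 𝒢 (f := (X j : Sₙ)) (X_mem_one n R i)
    (mul_comm (X i : Sₙ) (X j))
  have e1 := congrArg (fun φ => φ.hom (ρ n R i s)) h1
  have e2 := congrArg (fun φ => φ.hom (ρ n R j s)) h2
  simp only [CommRingCat.hom_comp, RingHom.coe_comp, Function.comp_apply,
    CommRingCat.hom_ofHom] at e1 e2
  rw [e1, e2, awayToSection_ρ, awayToSection_ρ]
  rw [← CommRingCat.comp_apply, ← CommRingCat.comp_apply, ← Functor.map_comp, ← Functor.map_comp]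
  rfl

/-- The canonical map `R → Γ(P^n_R, O)`. -/
noncomputable def ψ : R →+* Γ(Proj 𝒢, ⊤) :=
  ((Proj.toSpecZero 𝒢).appTop.hom.comp (Scheme.ΓSpecIso (.of (𝒢 0))).inv.hom).comp
    (algebraMap R (𝒢 0))

theorem ρ_ψ (i : Fin (n + 1)) (c : R) :
    ρ n R i (ψ n R c) = fromZeroRingHom 𝒢 _ (algebraMap R (𝒢 0) c) := by
  apply awayToSection_injective n R (X_mem_one n R i) one_pos
  rw [awayToSection_ρ]
  exact toSpecZero_appTop_res 𝒢 (X_mem_one n R i) one_pos (algebraMap R (𝒢 0) c)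

theorem ψ_injective : Function.Injective (ψ n R) := by
  intro c c' h
  have h1 := congrArg (ρ n R 0) h
  rw [ρ_ψ, ρ_ψ] at h1
  exact const_injective n R isRegular_X h1

theorem eq_of_res_eq (s t : Γ(Proj 𝒢, ⊤))
    (h : ∀ i, (Proj 𝒢).presheaf.map (homOfLE (le_top : U n R i ≤ ⊤)).op s =
      (Proj 𝒢).presheaf.map (homOfLE (le_top : U n R i ≤ ⊤)).op t) : s = t :=
  TopCat.Sheaf.eq_of_locally_eq' (Proj 𝒢).sheaf (U n R) ⊤ (fun i => homOfLE le_top)
    (iSup_U n R).ge s t h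

theorem ψ_surjective : Function.Surjective (ψ n R) := by
  intro s
  have hc : ∀ i, ∃ c : R, ρ n R i s = fromZeroRingHom 𝒢 _ (algebraMap R (𝒢 0) c) := by
    intro i
    exact away_eq_const n R i (ρ n R i s) (fun j _ => ⟨ρ n R j s, awayMap_ρ n R i j s⟩)
  choose c hc using hc
  have hconst : ∀ i, c i = c 0 := by
    intro i
    have h1 := awayMap_ρ n R i 0 s
    rw [hc i, hc 0, awayMap_fromZeroRingHom, awayMap_fromZeroRingHom] at h1
    exact const_injective n R (isRegular_X.mul isRegular_X) h1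
  refine ⟨c 0, ?_⟩
  apply eq_of_res_eq n R
  intro i
  rw [← awayToSection_ρ, ← awayToSection_ρ, ρ_ψ, hc i, hconst i]

theorem isIso_ofHom_ψ : IsIso (CommRingCat.ofHom (ψ n R)) :=
  (ConcreteCategory.isIso_iff_bijective _).mpr ⟨ψ_injective n R, ψ_surjective n R⟩

theorem appTop_eq :
    (Proj.toSpecZero 𝒢 ≫ Spec.map (CommRingCat.ofHom (algebraMap R (𝒢 0)))).appTop =
      (Scheme.ΓSpecIso (.of R)).hom ≫ CommRingCat.ofHom (ψ n R) := by
  rw [← Iso.inv_comp_eq, Scheme.Hom.comp_appTop, ← Category.assoc,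
    ← Scheme.ΓSpecIso_inv_naturality]
  rfl

/-- `R → Γ(P^n_R, O)` is an isomorphism. -/
theorem isIso_appTop :
    IsIso (Proj.toSpecZero 𝒢 ≫ Spec.map (CommRingCat.ofHom (algebraMap R (𝒢 0)))).appTop := by
  rw [appTop_eq]
  haveI := isIso_ofHom_ψ n R
  infer_instance

end Groth.Agent.Lib.Helper93.ProjGamma
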