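import Mathlib
import Groth.Agent.Lib.Helper93.Birat

set_option autoImplicit false

namespace Groth.Agent.Lib.Helper93.GenFinite

open AlgebraicGeometry CategoryTheory TopologicalSpace Topology
open Groth.Agent.Lib.Helper93.Birat

universe u

/-- A Noetherian sober `T0` space without nontrivial specializations is discrete. -/
theorem discreteTopology_of_noetherianSpace {W : Type*} [TopologicalSpace W] [NoetherianSpace W]
    [QuasiSober W] [T0Space W] (h : ∀ a b : W, a ⤳ b → a = b) : DiscreteTopology W := by
  have hcomp : ∀ w : W, closure {w} ∈ irreducibleComponents W := by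
    intro w
    obtain ⟨ξ, hξ, hs⟩ := exists_generic_specializes w
    rw [← h ξ w hs]; exact hξ
  have hfin : Finite W := by
    have hf := NoetherianSpace.finite_irreducibleComponents (α := W)
    have : Finite (irreducibleComponents W) := hf
    refine Finite.of_injective (fun w : W => (⟨closure {w}, hcomp w⟩ : irreducibleComponents W)) ?_
    intro a b hab
    have hab' : closure {a} = closure {b} := congrArg Subtype.val hab
    apply h
    rw [specializes_iff_closure_subset, hab']
  have : T1Space W := by
    refine ⟨fun w => ?_⟩
    have : closure {w} = {w} := by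
      apply Set.Subset.antisymm
      · intro y hy
        have : w ⤳ y := specializes_iff_mem_closure.2 hy
        rw [h w y this]; rfl
      · exact subset_closure
    rw [← this]; exact isClosed_closure
  infer_instance

/-- If `f` is quasi-finite at `ξ`, then `ξ` has no proper specialization inside its fibre. -/
theorem eq_of_specializes_of_quasiFiniteAt {X Y : Scheme.{u}} (f : X ⟶ Y) [LocallyOfFiniteType f]
    {ξ x : X} (hq : f.QuasiFiniteAt ξ) (hs : ξ ⤳ x) (hfx : f x = f ξ) : x = ξ := by
  rw [Scheme.Hom.quasiFiniteAt_iff_isOpen_singleton_asFiber] at hq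
  have hcl : IsClosed {f.asFiber ξ} :=
    isClosed_singleton_of_isLocallyClosed_singleton hq.isLocallyClosed
  have hx : x ∈ Set.range (f.fiberι (f ξ)) := by rw [Scheme.Hom.range_fiberι]; exact hfx
  obtain ⟨x', rfl⟩ := hx
  have h1 : f.asFiber ξ ⤳ x' := by
    rw [← (f.fiberι (f ξ)).isEmbedding.isInducing.specializes_iff, Scheme.Hom.fiberι_asFiber]
    exact hs
  have h2 : x' ∈ closure {f.asFiber ξ} := specializes_iff_mem_closure.1 h1
  rw [hcl.closure_eq] at h2
  rw [h2, Scheme.Hom.fiberι_asFiber]

/-- If no point of the fibre through `x` has a proper generization in `X`... then `f` is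
quasi-finite at `x`: version with all points of the fibre being generic points of components. -/
theorem quasiFiniteAt_of_fiber_generic {X Y : Scheme.{u}} (f : X ⟶ Y) [LocallyOfFiniteType f]
    (x : X) (H : ∀ x' : X, f x' = f x → closure {x'} ∈ irreducibleComponents X) :
    f.QuasiFiniteAt x := by
  rw [Scheme.Hom.quasiFiniteAt_iff_isOpen_singleton_asFiber]
  have : LocallyOfFiniteType (f.fiberToSpecResidueField (f x)) := by
    unfold Scheme.Hom.fiberToSpecResidueField Scheme.Hom.fiber; infer_instance
  have : IsLocallyNoetherian (f.fiber (f x)) :=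
    LocallyOfFiniteType.isLocallyNoetherian (f.fiberToSpecResidueField (f x))
  obtain ⟨W, hW, hzW, -⟩ := exists_isAffineOpen_mem_and_subset (X := f.fiber (f x)) (U := ⊤)
    (x := f.asFiber x) (by simp)
  have : IsNoetherianRing Γ(f.fiber (f x), W) := IsLocallyNoetherian.component_noetherian ⟨W, hW⟩
  have : NoetherianSpace W := noetherianSpace_of_isAffineOpen W hW
  have : QuasiSober (W : Set (f.fiber (f x))) := W.isOpenEmbedding'.quasiSober
  have : QuasiSober W := this
  have hdisc : DiscreteTopology W := by
    apply discreteTopology_of_noetherianSpace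
    intro a b hab
    have h1 : f.fiberι (f x) a.1 ⤳ f.fiberι (f x) b.1 :=
      (IsInducing.subtypeVal.specializes_iff.2 hab).map (f.fiberι (f x)).continuous
    have h2 : f (f.fiberι (f x) b.1) = f x := by
      have : f.fiberι (f x) b.1 ∈ Set.range (f.fiberι (f x)) := ⟨_, rfl⟩
      rw [Scheme.Hom.range_fiberι] at this
      exact this
    have h3 := eq_of_specializes_of_generic (H _ h2) h1
    exact Subtype.ext ((f.fiberι (f x)).isEmbedding.injective h3)
  have h1 : IsOpen ({⟨f.asFiber x, hzW⟩} : Set W) := isOpen_discrete _
  have h2 := W.isOpen.isOpenMap_subtype_val _ h1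
  convert h2 using 1
  ext y
  constructor
  · intro hy
    exact ⟨⟨f.asFiber x, hzW⟩, rfl, hy.symm⟩
  · rintro ⟨w, hw, rfl⟩
    rw [hw]; rfl

end Groth.Agent.Lib.Helper93.GenFinite
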