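import Mathlib

set_option autoImplicit false

namespace Groth.Agent.Lib.Helper93.GenFiniteAlg

universe u

open Polynomial

section ZMT

variable {B A : Type*} [CommRing B] [CommRing A] [Algebra B A]

/-- the ideal of the integral closure of those `c` with `c x` integral -/
def colonIdeal (x : A) : Ideal (integralClosure B A) where
  carrier := {c | IsIntegral B ((c : A) * x)}
  add_mem' := by
    intro a b ha hb
    show IsIntegral B (((a + b : integralClosure B A) : A) * x)
    rw [Subalgebra.coe_add, add_mul]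
    exact ha.add hb
  zero_mem' := by
    show IsIntegral B (((0 : integralClosure B A) : A) * x)
    rw [Subalgebra.coe_zero, zero_mul]
    exact isIntegral_zero
  smul_mem' := by
    intro c a ha
    show IsIntegral B (((c • a : integralClosure B A) : A) * x)
    rw [smul_eq_mul, Subalgebra.coe_mul, mul_assoc]
    exact c.2.mul ha

theorem mem_colonIdeal (x : A) (c : integralClosure B A) :
    c ∈ colonIdeal x ↔ IsIntegral B ((c : A) * x) := Iff.rfl

/-- Stacks 00QB-type consequence of Zariski's main theorem: if `A` is of finite type over `B` and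
quasi-finite at all primes over a minimal prime `q` of `B`, then after inverting some `g ∉ q` the
algebra becomes integral: every `x` has `g ^ m * x` integral over `B`. -/
theorem exists_pow_mul_isIntegral [Algebra.FiniteType B A] (q : Ideal B) (hq : q ∈ minimalPrimes B)
    (H : ∀ (P : Ideal A) [P.IsPrime], P.comap (algebraMap B A) = q → Algebra.QuasiFiniteAt B P) :
    ∃ g : B, g ∉ q ∧ ∀ x : A, ∃ m : ℕ, IsIntegral B (algebraMap B A g ^ m * x) := by
  have hqp : q.IsPrime := hq.1.1
  let C := integralClosure B A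
  let 𝔠 : Ideal C := ⨅ x : A, (colonIdeal (B := B) x).radical
  have hmem : ∀ r : C, r ∈ 𝔠 ↔ ∀ x : A, ∃ m : ℕ, IsIntegral B ((r : A) ^ m * x) := by
    intro r
    simp only [𝔠, Ideal.mem_iInf]
    refine forall_congr' fun x => ?_
    constructor
    · rintro ⟨m, hm⟩
      refine ⟨m, ?_⟩
      have := (mem_colonIdeal x (r ^ m)).1 hm
      simpa using this
    · rintro ⟨m, hm⟩
      refine ⟨m, (mem_colonIdeal x (r ^ m)).2 ?_⟩
      simpa using hm
  by_contra hcon
  push Not at hcon
  -- `𝔠` is disjoint from the image of `B ∖ q`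
  have hdisj : Disjoint (𝔠 : Set C) ((q.primeCompl.map (algebraMap B C) : Submonoid C) : Set C) := by
    rw [Set.disjoint_left]
    rintro _ hc ⟨g, hg, rfl⟩
    obtain ⟨x, hx⟩ := hcon g hg
    obtain ⟨m, hm⟩ := (hmem _).1 hc x
    exact hx m hm
  obtain ⟨Q, hQ, hcQ, hQd⟩ := Ideal.exists_le_prime_disjoint _ _ hdisj
  have hQq : Q.comap (algebraMap B C) = q := by
    have hle : Q.comap (algebraMap B C) ≤ q := by
      intro b hb
      by_contra hbq
      exact Set.disjoint_left.1 hQd hb ⟨b, hbq, rfl⟩
    exact le_antisymm hle (hq.2 ⟨inferInstance, bot_le⟩ hle)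
  -- `Q` is a minimal prime of `C`
  have hQmin : Q ∈ minimalPrimes C := by
    refine ⟨⟨hQ, bot_le⟩, ?_⟩
    rintro Q' ⟨hQ', -⟩ hle
    by_contra hne
    have hlt : Q' < Q := lt_of_le_of_ne hle (fun h => hne (h ▸ le_rfl))
    obtain ⟨x, hxQ, hxQ'⟩ := SetLike.exists_of_lt hlt
    have h1 := Ideal.comap_lt_comap_of_integral_mem_sdiff (R := B) hle ⟨hxQ, hxQ'⟩
      (Algebra.IsIntegral.isIntegral x)
    have h2 : Q'.comap (algebraMap B C) ≤ q := hQq ▸ Ideal.comap_mono hle
    have h3 : q ≤ Q'.comap (algebraMap B C) := hq.2 ⟨inferInstance, bot_le⟩ h2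
    rw [hQq] at h1
    exact absurd (lt_of_le_of_lt h3 h1) (lt_irrefl _)
  obtain ⟨P, hP, hPQ⟩ := Ideal.exists_comap_eq_of_mem_minimalPrimes_of_injective
    (f := C.val.toRingHom) Subtype.val_injective Q hQmin
  have hPq : P.comap (algebraMap B A) = q := by
    rw [← hQq, ← hPQ, Ideal.comap_comap]
    rfl
  have hqf := H P hPq
  have hzmp := Algebra.ZariskisMainProperty.of_finiteType (R := B) P
  obtain ⟨r, hrP, hrint, hr⟩ := Algebra.zariskisMainProperty_iff.1 hzmp
  have hrc : (⟨r, hrint⟩ : C) ∈ 𝔠 := (hmem _).2 hr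
  have : (⟨r, hrint⟩ : C) ∈ Q := hcQ hrc
  rw [← hPQ] at this
  exact hrP this

end ZMT

section Away

variable {B A : Type u} [CommRing B] [CommRing A]

/-- If every element of `A` becomes integral over `B` after multiplication by a power of `φ g`,
and `φ` is of finite type, then the localized map `B_g → A_g` is finite. -/
theorem away_map_finite (φ : B →+* A) (hft : φ.FiniteType) (g : B)
    (hint : ∀ x : A, ∃ m : ℕ, φ.IsIntegralElem (φ g ^ m * x))
    (B' A' : Type u) [CommRing B'] [CommRing A'] [Algebra B B'] [Algebra A A']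
    [IsLocalization.Away g B'] [IsLocalization.Away (φ g) A'] :
    (IsLocalization.Away.map B' A' φ g).Finite := by
  set ψ := IsLocalization.Away.map B' A' φ g with hψ
  have hcomm : ψ.comp (algebraMap B B') = (algebraMap A A').comp φ := by
    rw [hψ, IsLocalization.Away.map, IsLocalization.map_comp]
  have hψft : ψ.FiniteType := RingHom.localization_away_map_finiteType B A B' A' φ g hft
  refine RingHom.IsIntegral.to_finite ?_ hψft
  intro y
  obtain ⟨x, ⟨_, n, rfl⟩, rfl⟩ := IsLocalization.exists_mk'_eq (Submonoid.powers (φ g)) y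
  obtain ⟨m, hm⟩ := hint x
  -- the image of `φ g ^ m * x` is integral
  have h1 : ψ.IsIntegralElem (algebraMap A A' (φ g ^ m * x)) := by
    have h2 : ((algebraMap A A').comp φ).IsIntegralElem (algebraMap A A' (φ g ^ m * x)) := by
      obtain ⟨P, hP, hPx⟩ := hm
      refine ⟨P, hP, ?_⟩
      rw [← Polynomial.hom_eval₂, hPx, map_zero]
    rw [← hcomm] at h2
    exact RingHom.IsIntegralElem.of_comp h2
  -- the inverse of `g ^ (m + n)`
  have hu : IsUnit (algebraMap B B' g) := IsLocalization.Away.algebraMap_isUnit g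
  obtain ⟨u, hu'⟩ := hu
  have h3 : ψ.IsIntegralElem (ψ ((↑(u⁻¹) : B') ^ (m + n))) := ψ.isIntegralElem_map
  have h4 := RingHom.IsIntegralElem.mul ψ h1 h3
  convert h4 using 1
  rw [IsLocalization.mk'_eq_iff_eq_mul]
  have h5 : ψ (algebraMap B B' g) = algebraMap A A' (φ g) := by
    have := congrArg (fun h => h g) hcomm
    simpa using this
  have h6 : ψ ((↑(u⁻¹) : B')) * algebraMap A A' (φ g) = 1 := by
    rw [← h5, ← map_mul, ← hu', Units.inv_mul, map_one]
  simp only [map_pow, map_mul]
  calc algebraMap A A' x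
      = (ψ ((↑(u⁻¹) : B')) * algebraMap A A' (φ g)) ^ (m + n) * algebraMap A A' x := by
        rw [h6, one_pow, one_mul]
    _ = _ := by rw [mul_pow, pow_add (algebraMap A A' (φ g))]; ring

end Away

end Groth.Agent.Lib.Helper93.GenFiniteAlg
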