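import Mathlib
import Groth.Agent.Lib.Helper93.GenFinite
import Groth.Agent.Lib.Helper93.GenFiniteAlg

set_option autoImplicit false

namespace Groth.Agent.Lib.Helper93.GenFinite

open AlgebraicGeometry CategoryTheory TopologicalSpace Topology
open Groth.Agent.Lib.Helper93.Birat

universe u

theorem primeIdealOf_injective {Y : Scheme.{u}} {V : Y.Opens} (hV : IsAffineOpen V) (y y' : Y)
    (hy : y ∈ V) (hy' : y' ∈ V)
    (h : hV.primeIdealOf ⟨y, hy⟩ = hV.primeIdealOf ⟨y', hy'⟩) : y = y' := by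
  have h1 : y' ⤳ y := specializes_of_primeIdealOf_le hV y y' hy hy' h.ge
  have h2 : y ⤳ y' := specializes_of_primeIdealOf_le hV y' y hy' hy h.le
  exact (h2.antisymm h1).eq

theorem primeIdealOf_mem_minimalPrimes {Y : Scheme.{u}} {V : Y.Opens} (hV : IsAffineOpen V) (η : Y)
    (hηV : η ∈ V) (hη : closure {η} ∈ irreducibleComponents Y) :
    (hV.primeIdealOf ⟨η, hηV⟩).asIdeal ∈ minimalPrimes Γ(Y, V) := by
  refine ⟨⟨(hV.primeIdealOf ⟨η, hηV⟩).isPrime, bot_le⟩, ?_⟩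
  rintro q' ⟨hq', -⟩ hle
  obtain ⟨y', hy', hy'q⟩ := exists_point_of_prime hV q'
  have h1 : hV.primeIdealOf ⟨y', hy'⟩ ≤ hV.primeIdealOf ⟨η, hηV⟩ := by
    change (hV.primeIdealOf ⟨y', hy'⟩).asIdeal ≤ _
    rw [hy'q]; exact hle
  have h2 : y' ⤳ η := specializes_of_primeIdealOf_le hV η y' hηV hy' h1
  have h3 : y' = η := eq_of_specializes_of_generic hη h2
  subst h3
  rw [← hy'q]

set_option backward.isDefEq.respectTransparency.types false in
/-- Core generic finiteness: `U → V` affine opens, all points of `U` over the generic point `η`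
are quasi-finite points; then after shrinking to basic opens the map becomes finite. -/
theorem exists_basicOpen_isFinite_resLE {X Y : Scheme.{u}} (f : X ⟶ Y) [LocallyOfFiniteType f]
    {U : X.Opens} {V : Y.Opens} (hU : IsAffineOpen U) (hV : IsAffineOpen V) (hUV : U ≤ f ⁻¹ᵁ V)
    (η : Y) (hηV : η ∈ V) (hη : closure {η} ∈ irreducibleComponents Y)
    (H : ∀ x ∈ U, f x = η → f.QuasiFiniteAt x) :
    ∃ (g : Γ(Y, V)) (h : X.basicOpen (f.appLE V U hUV g) ≤ f ⁻¹ᵁ Y.basicOpen g),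
      η ∈ Y.basicOpen g ∧
      IsFinite (f.resLE (Y.basicOpen g) (X.basicOpen (f.appLE V U hUV g)) h) := by
  set φ := (f.appLE V U hUV).hom with hφ
  have hft : φ.FiniteType := f.finiteType_appLE hV hU hUV
  set q := (hV.primeIdealOf ⟨η, hηV⟩).asIdeal with hq
  have hqmin : q ∈ minimalPrimes Γ(Y, V) := primeIdealOf_mem_minimalPrimes hV η hηV hη
  algebraize [φ]
  have : Algebra.FiniteType Γ(Y, V) Γ(X, U) := hft
  have H' : ∀ (P : Ideal Γ(X, U)) [P.IsPrime], P.comap (algebraMap Γ(Y, V) Γ(X, U)) = q →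
      Algebra.QuasiFiniteAt Γ(Y, V) P := by
    intro P hP hPq
    obtain ⟨x, hxU, hxP⟩ := exists_point_of_prime hU P
    have hcm := IsAffineOpen.comap_primeIdealOf_appLE V hV U hU hUV hxU
    have hfx : f x = η := by
      apply primeIdealOf_injective hV _ _ (hUV hxU) hηV
      rw [← hcm]
      apply PrimeSpectrum.ext
      change (hU.primeIdealOf ⟨x, hxU⟩).asIdeal.comap φ = q
      rw [hxP]; exact hPq
    have hqf := (H x hxU hfx).quasiFiniteAt hU hV hUV hxU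
    have : (hU.primeIdealOf ⟨x, hxU⟩).asIdeal = P := hxP
    subst this
    exact hqf
  obtain ⟨g, hgq, hg⟩ := GenFiniteAlg.exists_pow_mul_isIntegral q hqmin H'
  have hUV' : X.basicOpen (f.appLE V U hUV g) ≤ f ⁻¹ᵁ Y.basicOpen g := by
    simp [Scheme.Hom.appLE]
  refine ⟨g, hUV', (not_mem_primeIdealOf_iff hV _ hηV g).mp hgq, ?_⟩
  have hVaff : IsAffineOpen (Y.basicOpen g) := hV.basicOpen g
  have hUaff : IsAffineOpen (X.basicOpen (f.appLE V U hUV g)) := hU.basicOpen _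
  have : IsAffine (Y.basicOpen g).toScheme := hVaff
  have : IsAffine (X.basicOpen (f.appLE V U hUV g)).toScheme := hUaff
  have hfin : (f.appLE (Y.basicOpen g) (X.basicOpen (f.appLE V U hUV g)) hUV').hom.Finite := by
    rw [IsAffineOpen.appLE_eq_away_map f hV hU hUV g]
    let _ := hV.isLocalization_basicOpen g
    let _ := hU.isLocalization_basicOpen (f.appLE V U hUV g)
    exact GenFiniteAlg.away_map_finite φ hft g hg _ _
  have hfin2 : (f.resLE (Y.basicOpen g) (X.basicOpen (f.appLE V U hUV g)) hUV').appTop.hom.Finite :=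
    (RingHom.finite_respectsIso.arrow_mk_iso_iff (arrowResLEAppIso f _ _ hUV')).mpr hfin
  exact (HasAffineProperty.iff_of_isAffine (P := @IsFinite)).mpr ⟨inferInstance, hfin2⟩

/-- A property stable under base change passes from `f.resLE V U` to `f ∣_ V'` when `V' ≤ V` and
`f⁻¹ V' ≤ U`. -/
theorem morphismRestrict_of_resLE (P : MorphismProperty Scheme.{u}) [P.IsStableUnderBaseChange]
    {X Y : Scheme.{u}} (f : X ⟶ Y) (U : X.Opens)
    (V V' : Y.Opens) (hUV : U ≤ f ⁻¹ᵁ V) (hV' : V' ≤ V) (hpre : f ⁻¹ᵁ V' ≤ U)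
    (h : P (f.resLE V U hUV)) : P (f ∣_ V') := by
  have sq := Scheme.Hom.isPullback_resLE (IsPullback.id_horiz f) (US := V) (UT := V')
    (UX := U) hV' hUV (UY := U ⊓ f ⁻¹ᵁ V') (by simp)
  have h1 : P (f.resLE V' (U ⊓ f ⁻¹ᵁ V') inf_le_right) := P.of_isPullback sq h
  have heq : U ⊓ f ⁻¹ᵁ V' = f ⁻¹ᵁ V' := inf_eq_right.mpr hpre
  have h2 := (f.resLE_congr (e := inf_le_right) rfl heq P).mp h1
  rw [← f.resLE_eq_morphismRestrict]
  exact h2

theorem mem_basicOpen_appLE {X Y : Scheme.{u}} (f : X ⟶ Y) {U : X.Opens} {V : Y.Opens}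
    (hUV : U ≤ f ⁻¹ᵁ V) (g : Γ(Y, V)) (t : X) (htU : t ∈ U) (htg : f t ∈ Y.basicOpen g) :
    t ∈ X.basicOpen (f.appLE V U hUV g) := by
  simp only [Scheme.Hom.appLE, CommRingCat.comp_apply, Scheme.basicOpen_res,
    ← Scheme.Hom.preimage_basicOpen]
  exact ⟨htU, htg⟩

/-- Generic finiteness over a neighbourhood of a generic point `η`, given a single affine open
`U` containing the whole fibre over `η`, all of whose points are quasi-finite points. -/
theorem exists_affine_isFinite_morphismRestrict {X Y : Scheme.{u}} (f : X ⟶ Y)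
    [LocallyOfFiniteType f] [QuasiCompact f]
    {U : X.Opens} {V : Y.Opens} (hU : IsAffineOpen U) (hV : IsAffineOpen V) (hUV : U ≤ f ⁻¹ᵁ V)
    (η : Y) (hηV : η ∈ V) (hη : closure {η} ∈ irreducibleComponents Y)
    (hfib : ∀ x, f x = η → x ∈ U) (H : ∀ x, f x = η → f.QuasiFiniteAt x) :
    ∃ V' : Y.Opens, IsAffineOpen V' ∧ η ∈ V' ∧ V' ≤ V ∧ IsFinite (f ∣_ V') := by
  obtain ⟨g, h, hηg, hfin⟩ := exists_basicOpen_isFinite_resLE f hU hV hUV η hηV hη
    (fun x _ hx => H x hx)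
  obtain ⟨V'', hηV'', hV''g, hpre⟩ := exists_nhds_preimage_le_of_quasiCompact f
    (X.basicOpen (f.appLE V U hUV g)) (Y.basicOpen g) η hηg (by
      intro t ht
      have h1 : f t = η := eq_of_specializes_of_generic hη ht
      exact mem_basicOpen_appLE f hUV g t (hfib t h1) (h1 ▸ hηg))
  obtain ⟨_, ⟨V', hV', rfl⟩, hηV', hV'V''⟩ := Y.isBasis_affineOpens.exists_subset_of_mem_open
    hηV'' V''.2
  have hV'V''' : V' ≤ V'' := hV'V''
  refine ⟨V', hV', hηV', (hV'V'''.trans hV''g).trans (Y.basicOpen_le g), ?_⟩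
  exact morphismRestrict_of_resLE @IsFinite f _ _ V' h (hV'V'''.trans hV''g)
    ((f.preimage_mono hV'V''').trans hpre) hfin

/-- Version of `exists_basicOpen_preimage_le` for a quasi-compact open `T` of the source. -/
theorem exists_basicOpen_preimage_le_of_isCompact {X Y : Scheme.{u}} (f : X ⟶ Y) (U : X.Opens)
    (η : Y) (V₁ : Y.Opens) (hV₁ : IsAffineOpen V₁) (hηV₁ : η ∈ V₁) (T : X.Opens)
    (hT : IsCompact (T : Set X)) (hTV : T ≤ f ⁻¹ᵁ V₁) (hU : ∀ t ∈ T, f t ⤳ η → t ∈ U) :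
    ∃ s : Γ(Y, V₁), η ∈ Y.basicOpen s ∧ T ⊓ f ⁻¹ᵁ Y.basicOpen s ≤ U := by
  classical
  obtain ⟨S, hSfin, hS⟩ := isCompact_iff_finite_and_eq_biUnion_affineOpens.mp hT
  have hWle : ∀ W ∈ S, (W : X.Opens) ≤ T := by
    intro W hW
    rw [hS]
    exact le_iSup₂ (f := fun (i : X.affineOpens) (_ : i ∈ S) => (i : X.Opens)) W hW
  have hex : ∀ W : X.affineOpens, ∃ s : Γ(Y, V₁), W ∈ S →
      (η ∈ Y.basicOpen s ∧ (W : X.Opens) ⊓ f ⁻¹ᵁ Y.basicOpen s ≤ U) := by
    intro W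
    by_cases hW : W ∈ S
    · obtain ⟨s, h1, h2⟩ := exists_basicOpen_preimage_le f U η V₁ hV₁ hηV₁ W W.2
        ((hWle W hW).trans hTV) (fun t ht ht' => hU t (hWle W hW ht) ht')
      exact ⟨s, fun _ => ⟨h1, h2⟩⟩
    · exact ⟨0, fun h => absurd h hW⟩
  choose sW hsW using hex
  refine ⟨∏ W ∈ hSfin.toFinset, sW W, ?_, ?_⟩
  · rw [← not_mem_primeIdealOf_iff hV₁ η hηV₁, Ideal.IsPrime.prod_mem_iff]
    rintro ⟨W, hW, hmem⟩
    exact (not_mem_primeIdealOf_iff hV₁ η hηV₁ _).mpr (hsW W (hSfin.mem_toFinset.mp hW)).1 hmem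
  · rintro z ⟨hzT, hz⟩
    have hzT' : z ∈ T := hzT
    rw [hS] at hzT'
    simp only [TopologicalSpace.Opens.mem_iSup] at hzT'
    obtain ⟨W, hW, hzW⟩ := hzT'
    apply (hsW W hW).2
    refine ⟨hzW, ?_⟩
    have hz' : f.base z ∈ Y.basicOpen (∏ W ∈ hSfin.toFinset, sW W) := hz
    rw [← Finset.prod_erase_mul _ sW (hSfin.mem_toFinset.mpr hW), Scheme.basicOpen_mul] at hz'
    exact hz'.2

theorem quasiFiniteAt_of_finite_fiber {X Y : Scheme.{u}} (f : X ⟶ Y) [LocallyOfFiniteType f]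
    (x : X) (h : (f ⁻¹' {f x}).Finite) : f.QuasiFiniteAt x := by
  have : Finite (f.fiber (f x)) := (f.fiberHomeo (f x)).finite_iff.mpr h
  exact Scheme.Hom.quasiFiniteAt_iff_isOpen_singleton_asFiber.mpr (isOpen_discrete _)

/-- A quasi-finite point is isolated in its fibre. -/
theorem exists_open_fiber_eq_singleton {X Y : Scheme.{u}} (f : X ⟶ Y) [LocallyOfFiniteType f]
    (ξ : X) (hq : f.QuasiFiniteAt ξ) :
    ∃ O : X.Opens, ξ ∈ O ∧ ∀ t ∈ O, f t = f ξ → t = ξ := by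
  rw [Scheme.Hom.quasiFiniteAt_iff_isOpen_singleton_asFiber] at hq
  obtain ⟨O, hO, hOeq⟩ := (f.fiberι (f ξ)).isEmbedding.isInducing.isOpen_iff.1 hq
  refine ⟨⟨O, hO⟩, ?_, ?_⟩
  · have : f.asFiber ξ ∈ f.fiberι (f ξ) ⁻¹' O := by rw [hOeq]; rfl
    rw [Set.mem_preimage, Scheme.Hom.fiberι_asFiber] at this
    exact this
  · intro t htO ht
    have hx : t ∈ Set.range (f.fiberι (f ξ)) := by rw [Scheme.Hom.range_fiberι]; exact ht
    obtain ⟨z, rfl⟩ := hx
    have : z ∈ f.fiberι (f ξ) ⁻¹' O := htO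
    rw [hOeq] at this
    rw [Set.mem_singleton_iff.1 this, Scheme.Hom.fiberι_asFiber]

theorem basicOpen_appLE_eq {X Y : Scheme.{u}} (f : X ⟶ Y) {U : X.Opens} {V : Y.Opens}
    (hUV : U ≤ f ⁻¹ᵁ V) (g : Γ(Y, V)) :
    X.basicOpen (f.appLE V U hUV g) = U ⊓ f ⁻¹ᵁ Y.basicOpen g := by
  simp only [Scheme.Hom.appLE, CommRingCat.comp_apply, Scheme.basicOpen_res,
    ← Scheme.Hom.preimage_basicOpen]

/-- For a quasi-separated morphism locally of finite type with finite fibre over a generic point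
`η`, there is a single affine open of the source containing the fibre and mapping into an affine
neighbourhood of `η`. -/
theorem exists_affine_nhds_fiber_of_quasiSeparated {X Y : Scheme.{u}} (f : X ⟶ Y)
    [LocallyOfFiniteType f] [QuasiSeparated f] (η : Y)
    (hη : closure {η} ∈ irreducibleComponents Y)
    (V₀ : Y.Opens) (hV₀ : IsAffineOpen V₀) (hηV₀ : η ∈ V₀) (hfin : (f ⁻¹' {η}).Finite) :
    ∃ (V : Y.Opens) (U : X.Opens), IsAffineOpen V ∧ IsAffineOpen U ∧ η ∈ V ∧ V ≤ V₀ ∧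
      U ≤ f ⁻¹ᵁ V ∧ ∀ x, f x = η → x ∈ U := by
  classical
  have : Finite (f ⁻¹' {η}) := hfin
  have hex : ∀ i : (f ⁻¹' {η}), ∃ U : X.Opens, IsAffineOpen U ∧ i.1 ∈ U ∧ U ≤ f ⁻¹ᵁ V₀ ∧
      ∀ t ∈ U, f t = η → t = i.1 := by
    rintro ⟨ξ, hξ⟩
    have hξ' : f ξ = η := hξ
    have hq : f.QuasiFiniteAt ξ := quasiFiniteAt_of_finite_fiber f ξ (by rw [hξ']; exact hfin)
    obtain ⟨O, hξO, hO⟩ := exists_open_fiber_eq_singleton f ξ hq
    obtain ⟨_, ⟨U, hU, rfl⟩, hξU, hUO⟩ := X.isBasis_affineOpens.exists_subset_of_mem_open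
      (show ξ ∈ ((O ⊓ f ⁻¹ᵁ V₀ : X.Opens) : Set X) from ⟨hξO, by
        show f ξ ∈ V₀
        rw [hξ']; exact hηV₀⟩) (O ⊓ f ⁻¹ᵁ V₀).2
    refine ⟨U, hU, hξU, fun t ht => (hUO ht).2, fun t ht hft => ?_⟩
    exact hO t (hUO ht).1 (hft.trans hξ'.symm)
  choose U hUaff hξU hUV₀ hUfib using hex
  let T : X.Opens := ⨆ (i : (f ⁻¹' {η})) (j : (f ⁻¹' {η})) (_ : i ≠ j), U i ⊓ U j
  have hqs := f.isQuasiSeparated_preimage hV₀.isQuasiSeparated
  have hTc : IsCompact (T : Set X) := by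
    simp only [T, TopologicalSpace.Opens.coe_iSup]
    refine isCompact_iUnion fun i => isCompact_iUnion fun j => ?_
    by_cases hij : i ≠ j
    · have : IsCompact ((U i ⊓ U j : X.Opens) : Set X) :=
        hqs (U i) (U j) (hUV₀ i) (U i).2 (hUaff i).isCompact (hUV₀ j) (U j).2 (hUaff j).isCompact
      simpa [hij] using this
    · simp [hij]
  have hTV : T ≤ f ⁻¹ᵁ V₀ := by
    refine iSup_le fun i => iSup_le fun j => iSup_le fun _ => inf_le_left.trans (hUV₀ i)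
  have hT : ∀ t ∈ T, f t ⤳ η → t ∈ (⊥ : X.Opens) := by
    intro t ht hsp
    exfalso
    have hft : f t = η := eq_of_specializes_of_generic hη hsp
    simp only [T, TopologicalSpace.Opens.mem_iSup] at ht
    obtain ⟨i, j, hij, hti, htj⟩ := ht
    apply hij
    apply Subtype.ext
    rw [← hUfib i t hti hft, ← hUfib j t htj hft]
  obtain ⟨s, hηs, hs⟩ := exists_basicOpen_preimage_le_of_isCompact f ⊥ η V₀ hV₀ hηV₀ T hTc hTV hT
  let U' : (f ⁻¹' {η}) → X.Opens := fun i => X.basicOpen (f.appLE V₀ (U i) (hUV₀ i) s)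
  have hU'eq : ∀ i, U' i = U i ⊓ f ⁻¹ᵁ Y.basicOpen s := fun i => basicOpen_appLE_eq f (hUV₀ i) s
  have hU'aff : ∀ i, IsAffineOpen (U' i) := fun i => (hUaff i).basicOpen _
  have hdisj : Pairwise (Function.onFun Disjoint U') := by
    intro i j hij
    show Disjoint (U' i) (U' j)
    rw [disjoint_iff, eq_bot_iff, hU'eq, hU'eq]
    refine le_trans ?_ hs
    refine le_inf ?_ (inf_le_left.trans inf_le_right)
    refine le_trans ?_ (le_iSup₂_of_le i j (le_iSup_of_le hij le_rfl))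
    exact le_inf (inf_le_left.trans inf_le_left) (inf_le_right.trans inf_le_left)
  refine ⟨Y.basicOpen s, ⨆ i, U' i, hV₀.basicOpen s, IsAffineOpen.iSup_of_disjoint hU'aff hdisj,
    hηs, Y.basicOpen_le s, ?_, ?_⟩
  · refine iSup_le fun i => ?_
    rw [hU'eq]; exact inf_le_right
  · intro x hx
    rw [TopologicalSpace.Opens.mem_iSup]
    refine ⟨⟨x, hx⟩, ?_⟩
    rw [hU'eq]
    exact ⟨hξU ⟨x, hx⟩, by show f x ∈ Y.basicOpen s; rw [hx]; exact hηs⟩

end Groth.Agent.Lib.Helper93.GenFinite
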