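import Mathlib
import Groth.Agent.Lib.Helper93.GenFinite3

set_option autoImplicit false

namespace Groth.Agent.Lib.Helper93.GenFinite

open AlgebraicGeometry CategoryTheory CategoryTheory.Limits TopologicalSpace Topology
open Groth.Agent.Lib.Helper93.Birat

universe u

/-- A dominant morphism of irreducible schemes maps the generic point to the generic point. -/
theorem map_genericPoint_of_isDominant {X Y : Scheme.{u}} [IrreducibleSpace X] [IrreducibleSpace Y]
    (f : X ⟶ Y) [IsDominant f] : f (genericPoint X) = genericPoint Y := by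
  have h1 : IsGenericPoint (f (genericPoint X)) (closure (f '' Set.univ)) :=
    (genericPoint_spec X).image f.continuous
  rw [Set.image_univ, f.denseRange.closure_range] at h1
  exact h1.eq (genericPoint_spec Y)

/-- For a ring hom between local rings that are fields, finiteness of the induced map on
residue fields is equivalent to quasi-finiteness of the map. -/
theorem finite_residueField_map_iff_quasiFinite {K L : Type*} [CommRing K] [CommRing L]
    [IsLocalRing K] [IsLocalRing L] (hK : IsField K) (hL : IsField L) (φ : K →+* L)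
    [IsLocalHom φ] :
    (IsLocalRing.ResidueField.map φ).Finite ↔ φ.QuasiFinite := by
  have hsq : (IsLocalRing.ResidueField.map φ).comp (IsLocalRing.residue K) =
      (IsLocalRing.residue L).comp φ := by
    ext x; rfl
  have hinjL : Function.Injective (IsLocalRing.residue L) := by
    let _ := hL.toField
    exact (IsLocalRing.residue L).injective
  let eL : L ≃+* IsLocalRing.ResidueField L :=
    RingEquiv.ofBijective (IsLocalRing.residue L) ⟨hinjL, IsLocalRing.residue_surjective⟩
  have hφfin : (IsLocalRing.ResidueField.map φ).Finite ↔ φ.Finite := by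
    constructor
    · intro h
      have h1 : ((IsLocalRing.ResidueField.map φ).comp (IsLocalRing.residue K)).Finite :=
        h.comp (RingHom.Finite.of_surjective _ IsLocalRing.residue_surjective)
      rw [hsq] at h1
      have h2 : φ = eL.symm.toRingHom.comp ((IsLocalRing.residue L).comp φ) := by
        ext x
        show φ x = eL.symm (eL (φ x))
        rw [RingEquiv.symm_apply_apply]
      rw [h2]
      exact (RingHom.Finite.of_surjective _ eL.symm.surjective).comp h1
    · intro h
      have h1 : ((IsLocalRing.residue L).comp φ).Finite :=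
        (RingHom.Finite.of_surjective _ IsLocalRing.residue_surjective).comp h
      rw [← hsq] at h1
      exact RingHom.Finite.of_comp_finite h1
  rw [hφfin]
  let _ := hK.toField
  algebraize [φ]
  show Module.Finite K L ↔ Algebra.QuasiFinite K L
  exact (Algebra.QuasiFinite.iff_of_isArtinianRing).symm

/-- At the generic points of a dominant morphism of integral schemes, finiteness of the residue
field extension is the same as quasi-finiteness at the generic point. -/
theorem finite_residueFieldMap_iff_quasiFiniteAt {X Y : Scheme.{u}} [IsIntegral X] [IsIntegral Y]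
    (f : X ⟶ Y) [IsDominant f] :
    (letI := (f.residueFieldMap (genericPoint X)).hom.toAlgebra;
      Module.Finite (Y.residueField (f (genericPoint X))) (X.residueField (genericPoint X))) ↔
      f.QuasiFiniteAt (genericPoint X) := by
  have hfξ := map_genericPoint_of_isDominant f
  have hL : IsField (X.presheaf.stalk (genericPoint X)) := Field.toIsField X.functionField
  have hK : IsField (Y.presheaf.stalk (f (genericPoint X))) := by
    rw [hfξ]
    exact Field.toIsField Y.functionField
  exact finite_residueField_map_iff_quasiFinite hK hL (f.stalkMap (genericPoint X)).hom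

theorem quasiFiniteAt_resLE_iff {X Y : Scheme.{u}} (f : X ⟶ Y) (U : X.Opens) (V : Y.Opens)
    (hUV : U ≤ f ⁻¹ᵁ V) (z : U.toScheme) :
    (f.resLE V U hUV).QuasiFiniteAt z ↔ f.QuasiFiniteAt (U.ι z) := by
  rw [← Scheme.Hom.quasiFiniteAt_comp_iff (g := V.ι), Scheme.Hom.resLE_comp_ι,
    Scheme.Hom.quasiFiniteAt_comp_iff_of_isOpenImmersion]

theorem quasiFiniteAt_of_isFinite_resLE {X Y : Scheme.{u}} (f : X ⟶ Y) (U : X.Opens) (V : Y.Opens)
    (hUV : U ≤ f ⁻¹ᵁ V) [IsFinite (f.resLE V U hUV)] (x : X) (hx : x ∈ U) :
    f.QuasiFiniteAt x :=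
  (quasiFiniteAt_resLE_iff f U V hUV ⟨x, hx⟩).1 ((f.resLE V U hUV).quasiFiniteAt ⟨x, hx⟩)

theorem quasiFiniteAt_of_isFinite_morphismRestrict {X Y : Scheme.{u}} (f : X ⟶ Y) (V : Y.Opens)
    [IsFinite (f ∣_ V)] (x : X) (hx : f x ∈ V) : f.QuasiFiniteAt x := by
  have h := (f ∣_ V).quasiFiniteAt (⟨x, hx⟩ : (f ⁻¹ᵁ V).toScheme)
  rw [← Scheme.Hom.resLE_eq_morphismRestrict] at h
  exact (quasiFiniteAt_resLE_iff f _ V le_rfl (⟨x, hx⟩ : (f ⁻¹ᵁ V).toScheme)).1 h

/-- If `f` is separated, `U → V` is universally closed and `U` contains all generic points of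
irreducible components of `X`, then `U` is all of `f⁻¹ V`. -/
theorem preimage_le_of_isSeparated_of_universallyClosed {X Y : Scheme.{u}} (f : X ⟶ Y)
    [IsSeparated f] (U : X.Opens)
    (V : Y.Opens) (hUV : U ≤ f ⁻¹ᵁ V) [UniversallyClosed (f.resLE V U hUV)]
    (hgen : ∀ x : X, closure {x} ∈ irreducibleComponents X → x ∈ U) : f ⁻¹ᵁ V ≤ U := by
  have hsep : IsSeparated (f ∣_ V) := IsZariskiLocalAtTarget.restrict ‹_› V
  have huc : UniversallyClosed (X.homOfLE hUV ≫ f ∣_ V) := by
    change UniversallyClosed (f.resLE V U hUV)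
    infer_instance
  have hj : UniversallyClosed (X.homOfLE hUV) :=
    UniversallyClosed.of_comp_of_isSeparated _ (f ∣_ V)
  have hclosed : IsClosed (Set.range (X.homOfLE hUV)) := (X.homOfLE hUV).isClosedMap.isClosed_range
  intro z hz
  obtain ⟨ξ, hξ, hξz⟩ := exists_generic_specializes z
  have hξU : ξ ∈ U := hgen ξ hξ
  have hsp : (⟨ξ, hUV hξU⟩ : (f ⁻¹ᵁ V : X.Opens)) ⤳ ⟨z, hz⟩ := by
    rw [subtype_specializes_iff]; exact hξz
  have hmem : (⟨ξ, hUV hξU⟩ : (f ⁻¹ᵁ V : X.Opens)) ∈ Set.range (X.homOfLE hUV) :=
    ⟨⟨ξ, hξU⟩, Subtype.ext (by simp)⟩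
  obtain ⟨w, hw⟩ := hsp.mem_closed hclosed hmem
  have hwz : U.ι w = z := by
    have := congrArg (fun t => (f ⁻¹ᵁ V).ι t) hw
    simp only [← Scheme.Hom.comp_apply, Scheme.homOfLE_ι] at this
    exact this
  rw [← hwz]
  exact w.2

end Groth.Agent.Lib.Helper93.GenFinite
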