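import Mathlib
import Groth.Prelude.Def_Formal2
import Groth.Prelude.Def_Formal

/-!
# Multiplication by elements of the base ring on `O_X`-modules, principal ideals
-/

set_option autoImplicit false
universe u

open CategoryTheory CategoryTheory.Limits AlgebraicGeometry Opposite

namespace Groth.Agent.Lib.Helper93.SmulMod

variable {A : Type u} [CommRing A] {X : Scheme.{u}} [X.Over (Spec (CommRingCat.of A))]

lemma smulModΓ_naturality {M N : X.Modules} (φ : M ⟶ N) (r : Coh.Γtop X) :
    Formal.smulModΓ M r ≫ φ = φ ≫ Formal.smulModΓ N r := by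
  apply SheafOfModules.hom_ext
  apply PresheafOfModules.hom_ext
  intro U
  ext m
  exact (φ.val.app U).hom.map_smul (Coh.resTop X U r) m

lemma smulMod_naturality {M N : X.Modules} (φ : M ⟶ N) (a : A) :
    Formal.smulMod A M a ≫ φ = φ ≫ Formal.smulMod A N a :=
  smulModΓ_naturality φ _

lemma smulModΓ_mul (M : X.Modules) (r s : Coh.Γtop X) :
    Formal.smulModΓ M (r * s) = Formal.smulModΓ M s ≫ Formal.smulModΓ M r := by
  apply SheafOfModules.hom_ext
  apply PresheafOfModules.hom_ext
  intro U
  ext m
  change Coh.resTop X U (r * s) • m = Coh.resTop X U r • (Coh.resTop X U s • m)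
  rw [map_mul, mul_smul]

lemma smulModΓ_one (M : X.Modules) : Formal.smulModΓ M (1 : Coh.Γtop X) = 𝟙 M := by
  apply SheafOfModules.hom_ext
  apply PresheafOfModules.hom_ext
  intro U
  ext m
  change Coh.resTop X U 1 • m = m
  rw [map_one, one_smul]

lemma smulMod_mul (M : X.Modules) (a b : A) :
    Formal.smulMod A M (a * b) = Formal.smulMod A M b ≫ Formal.smulMod A M a := by
  unfold Formal.smulMod
  rw [map_mul, smulModΓ_mul]

lemma smulMod_one (M : X.Modules) : Formal.smulMod A M (1 : A) = 𝟙 M := by
  unfold Formal.smulMod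
  rw [map_one, smulModΓ_one]

lemma smulMod_comm (M : X.Modules) (a b : A) :
    Formal.smulMod A M a ≫ Formal.smulMod A M b = Formal.smulMod A M b ≫ Formal.smulMod A M a :=
  smulMod_naturality _ _

lemma smulMod_pow_succ (M : X.Modules) (f : A) (n : ℕ) :
    Formal.smulMod A M (f ^ (n + 1)) = Formal.smulMod A M f ≫ Formal.smulMod A M (f ^ n) := by
  rw [pow_succ, smulMod_mul]

lemma mono_smulMod_pow (M : X.Modules) (f : A) (hf : Mono (Formal.smulMod A M f)) (n : ℕ) :
    Mono (Formal.smulMod A M (f ^ n)) := by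
  induction n with
  | zero => rw [pow_zero, smulMod_one]; infer_instance
  | succ n ih => rw [smulMod_pow_succ]; exact mono_comp _ _

lemma ι_smulFamily (J : Ideal A) (M : X.Modules) (a : J) :
    Sigma.ι (fun _ : J => M) a ≫ Formal.smulFamily J M = Formal.smulMod A M (a : A) := by
  simp [Formal.smulFamily]

/-- For a principal ideal, killing `(f)^n M` is the same as killing `f^n M`. -/
lemma smulFamily_span_pow_comp_eq_zero_iff (f : A) (n : ℕ) {M N : X.Modules} (g : M ⟶ N) :
    Formal.smulFamily ((Ideal.span ({f} : Set A)) ^ n) M ≫ g = 0 ↔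
      Formal.smulMod A M (f ^ n) ≫ g = 0 := by
  constructor
  · intro h
    have hmem : f ^ n ∈ (Ideal.span ({f} : Set A)) ^ n :=
      Ideal.pow_mem_pow (Ideal.subset_span (Set.mem_singleton f)) n
    have := ι_smulFamily ((Ideal.span ({f} : Set A)) ^ n) M ⟨f ^ n, hmem⟩
    rw [← this, Category.assoc, h, comp_zero]
  · intro h
    apply Sigma.hom_ext
    intro a
    rw [comp_zero, ← Category.assoc, ι_smulFamily]
    obtain ⟨a, ha⟩ := a
    rw [Ideal.span_singleton_pow, Ideal.mem_span_singleton'] at ha
    obtain ⟨b, rfl⟩ := ha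
    change Formal.smulMod A M (b * f ^ n) ≫ g = 0
    rw [smulMod_mul, smulMod_comm, Category.assoc, h, comp_zero]

lemma smulMod_pow_comp_modPowπ (f : A) (n : ℕ) (M : X.Modules) :
    Formal.smulMod A M (f ^ n) ≫ Formal.modPowπ (Ideal.span ({f} : Set A)) n M = 0 :=
  (smulFamily_span_pow_comp_eq_zero_iff f n _).mp (cokernel.condition _)

/-- `M ⟶ M/(f)^n M` is a cokernel of multiplication by `f^n`. -/
noncomputable def isColimitModPowπ (f : A) (n : ℕ) (M : X.Modules) :
    IsColimit (CokernelCofork.ofπ (Formal.modPowπ (Ideal.span ({f} : Set A)) n M)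
      (smulMod_pow_comp_modPowπ f n M)) :=
  CokernelCofork.IsColimit.ofπ _ _
    (fun g hg => cokernel.desc _ g ((smulFamily_span_pow_comp_eq_zero_iff f n g).mpr hg))
    (fun g hg => cokernel.π_desc _ _ _)
    (fun g hg m hm => by
      apply (cancel_epi (cokernel.π (Formal.smulFamily ((Ideal.span ({f} : Set A)) ^ n) M))).mp
      rw [cokernel.π_desc]
      exact hm)

instance epi_modPowπ (I : Ideal A) (n : ℕ) (M : X.Modules) : Epi (Formal.modPowπ I n M) := by
  unfold Formal.modPowπ; exact coequalizer.π_epi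

/-- The sequence `F/fF ⟶ F/f^{n+1}F ⟶ F/f^nF`. -/
theorem exists_shortExact (f : A) (F : X.Modules) (hF : Mono (Formal.smulMod A F f)) (n : ℕ) :
    ∃ i : Formal.modPow (Ideal.span ({f} : Set A)) 1 F ⟶
        Formal.modPow (Ideal.span ({f} : Set A)) (n + 1) F,
      Mono i ∧
      Formal2.modPowLE (Ideal.span ({f} : Set A)) (Nat.le_add_left 1 n) F ≫ i =
        Formal.smulMod A (Formal.modPow (Ideal.span ({f} : Set A)) (n + 1) F) (f ^ n) ∧
      ∃ w : i ≫ Formal.modPowTrans (Ideal.span ({f} : Set A)) n F = 0,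
        (ShortComplex.mk i (Formal.modPowTrans (Ideal.span ({f} : Set A)) n F) w).ShortExact := by
  set I := Ideal.span ({f} : Set A) with hI
  -- the map `i`
  have h0 : Formal.smulMod A F (f ^ 1) ≫ (Formal.smulMod A F (f ^ n) ≫ Formal.modPowπ I (n + 1) F) = 0 := by
    rw [← Category.assoc, pow_one, ← smulMod_pow_succ]
    exact smulMod_pow_comp_modPowπ f (n + 1) F
  let i : Formal.modPow I 1 F ⟶ Formal.modPow I (n + 1) F :=
    (isColimitModPowπ f 1 F).desc (CokernelCofork.ofπ _ h0)
  have hi : Formal.modPowπ I 1 F ≫ i = Formal.smulMod A F (f ^ n) ≫ Formal.modPowπ I (n + 1) F :=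
    (isColimitModPowπ f 1 F).fac (CokernelCofork.ofπ _ h0) WalkingParallelPair.one
  have hφn : Mono (Formal.smulMod A F (f ^ n)) := mono_smulMod_pow F f hF n
  -- exactness of `F ⟶ F ⟶ F/f^{n+1}F`
  have hS : (ShortComplex.mk (Formal.smulMod A F (f ^ (n + 1))) (Formal.modPowπ I (n + 1) F)
      (smulMod_pow_comp_modPowπ f (n + 1) F)).Exact :=
    ShortComplex.exact_of_g_is_cokernel _ (isColimitModPowπ f (n + 1) F)
  have hmono : Mono i := by
    apply Preadditive.mono_of_cancel_zero
    intro T t ht
    have hepi : Epi (pullback.fst t (Formal.modPowπ I 1 F)) := Abelian.epi_pullback_of_epi_g _ _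
    have h1 : (pullback.snd t (Formal.modPowπ I 1 F) ≫ Formal.smulMod A F (f ^ n)) ≫
        Formal.modPowπ I (n + 1) F = 0 := by
      rw [Category.assoc, ← hi, ← Category.assoc, ← pullback.condition, Category.assoc, ht,
        comp_zero]
    have hmono' : Mono (Formal.smulMod A F (f ^ (n + 1))) := mono_smulMod_pow F f hF (n + 1)
    have h2' := hS.lift_f (pullback.snd t (Formal.modPowπ I 1 F) ≫ Formal.smulMod A F (f ^ n)) h1
    have h2 : (hS.lift (pullback.snd t (Formal.modPowπ I 1 F) ≫ Formal.smulMod A F (f ^ n)) h1 ≫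
        Formal.smulMod A F f) ≫ Formal.smulMod A F (f ^ n) =
        pullback.snd t (Formal.modPowπ I 1 F) ≫ Formal.smulMod A F (f ^ n) := by
      rw [Category.assoc, ← smulMod_pow_succ]; exact h2'
    rw [cancel_mono] at h2
    have h3 : pullback.fst t (Formal.modPowπ I 1 F) ≫ t = 0 := by
      rw [pullback.condition, ← h2, Category.assoc]
      have := smulMod_pow_comp_modPowπ f 1 F
      rw [pow_one] at this
      rw [this, comp_zero]
    exact (cancel_epi (pullback.fst t (Formal.modPowπ I 1 F))).mp (h3.trans comp_zero.symm)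
  have hw : i ≫ Formal.modPowTrans I n F = 0 := by
    apply (cancel_epi (Formal.modPowπ I 1 F)).mp
    rw [← Category.assoc, hi, Category.assoc, Formal.modPowπ_trans, comp_zero]
    exact smulMod_pow_comp_modPowπ f n F
  refine ⟨i, hmono, ?_, hw, ?_⟩
  · apply (cancel_epi (Formal.modPowπ I (n + 1) F)).mp
    rw [← Category.assoc, Formal2.modPowπ_modPowLE, hi, smulMod_naturality]
  · have hepi : Epi (Formal.modPowTrans I n F) := by
      have : Epi (Formal.modPowπ I (n + 1) F ≫ Formal.modPowTrans I n F) := by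
        rw [Formal.modPowπ_trans]; infer_instance
      exact epi_of_epi (Formal.modPowπ I (n + 1) F) _
    have hcok : IsColimit (CokernelCofork.ofπ (Formal.modPowTrans I n F) hw) := by
      refine CokernelCofork.IsColimit.ofπ _ _
        (fun {Z'} g hg => (isColimitModPowπ f n F).desc (CokernelCofork.ofπ
          (Formal.modPowπ I (n + 1) F ≫ g) (by
            rw [← Category.assoc, ← hi, Category.assoc, hg, comp_zero])))
        (fun {Z'} g hg => ?_) (fun {Z'} g hg m hm => ?_)
      · apply (cancel_epi (Formal.modPowπ I (n + 1) F)).mp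
        rw [← Category.assoc, Formal.modPowπ_trans]
        exact (isColimitModPowπ f n F).fac _ WalkingParallelPair.one
      · apply (cancel_epi (Formal.modPowTrans I n F)).mp
        rw [hm]
        apply (cancel_epi (Formal.modPowπ I (n + 1) F)).mp
        rw [← Category.assoc, Formal.modPowπ_trans]
        exact ((isColimitModPowπ f n F).fac (CokernelCofork.ofπ
          (Formal.modPowπ I (n + 1) F ≫ g) (by
            rw [← Category.assoc, ← hi, Category.assoc, hg, comp_zero])) WalkingParallelPair.one).symm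
    exact ShortComplex.ShortExact.mk' (ShortComplex.exact_of_g_is_cokernel _ hcok) hmono hepi

end Groth.Agent.Lib.Helper93.SmulMod
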