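import Groth.Agent.Lib.Helper93.PnCoh2
import Groth.Agent.Lib.Helper93.ProjOverIso
import Groth.Agent.S0013

/-!
# helper93: vanishing of `H^q(P^n_R, O(d))`
-/

set_option autoImplicit false
universe u
open CategoryTheory AlgebraicGeometry TopologicalSpace Opposite MvPolynomial Limits
open Groth.Agent.Lib.Helper60.TildeSec

namespace Groth.Agent.Lib.Helper93.PnCoh

variable (n : ℕ) (R : Type u) [CommRing R] (d : ℤ)

local notation "𝒜" => CohB1.polyGrading n R
local notation "S" => MvPolynomial (Fin (n + 1)) R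

lemma iSup_U : ⨆ i, U n R i = ⊤ := by
  unfold U
  apply Proj.iSup_basicOpen_eq_top
  refine (Groth.Agent.Lib.Helper93.ProjOverIso.irrelevant_le_span_X n R).trans ?_
  apply Ideal.span_mono
  rintro _ ⟨i, -, rfl⟩
  exact ⟨ULift.up i, rfl⟩

lemma biInf_U (s : Finset (Idx.{u} n)) :
    (⨅ i ∈ s, U n R i) = Proj.basicOpen 𝒜 (∏ i ∈ s, (X i.down : S)) := by
  classical
  induction s using Finset.induction_on with
  | empty =>
    simp only [Finset.notMem_empty, iInf_false, iInf_top, Finset.prod_empty]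
    exact (Proj.basicOpen_one 𝒜).symm
  | insert a s ha ih =>
    rw [Finset.iInf_insert, ih, Finset.prod_insert ha, Proj.basicOpen_mul]
    rfl

lemma isAffineOpen_biInf_U (s : Finset (Idx.{u} n)) (hs : s.Nonempty) :
    IsAffineOpen (⨅ i ∈ s, U n R i) := by
  rw [biInf_U]
  have hmem : (∏ i ∈ s, (X i.down : S)) ∈ 𝒜 s.card := by
    have : (∏ i ∈ s, (X i.down : S)).IsHomogeneous (∑ _i ∈ s, 1) :=
      IsHomogeneous.prod s _ _ (fun i _ => isHomogeneous_X R i.down)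
    simpa using this
  exact Proj.isAffineOpen_basicOpen 𝒜 _ hmem (Finset.card_pos.2 hs)

instance : Coh.IsQCoh (GrMod.tilde 𝒜 𝒜 d) := isQuasicoherent_tilde 𝒜 𝒜 d

/-- **Vanishing of the cohomology of `O(d)` on `P^n_R`.** -/
theorem subsingleton_HH (q : ℕ)
    (h : (q = 0 ∧ d < 0 ∧ 1 ≤ n) ∨ (0 < q ∧ (-((n : ℤ) + 1) < d ∨ q < n ∨ n < q))) :
    Subsingleton (Coh.HH (Proj 𝒜) (GrMod.tilde 𝒜 𝒜 d) q) := by
  obtain ⟨e⟩ := Groth.Agent.S0013.result (Proj 𝒜) (U n R) (iSup_U n R)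
    (isAffineOpen_biInf_U n R) (GrMod.tilde 𝒜 𝒜 d) q
  have hz : IsZero (CohB1.cechH (U n R) (GrMod.tilde 𝒜 𝒜 d) q) := by
    rcases h with ⟨rfl, hd, hn⟩ | ⟨hq, hcase⟩
    · exact isZero_cechH_zero n R d hd hn
    · obtain ⟨p, rfl⟩ := Nat.exists_eq_succ_of_ne_zero hq.ne'
      exact isZero_cechH_succ n R d p hcase
  haveI : Subsingleton ↑(CohB1.cechH (U n R) (GrMod.tilde 𝒜 𝒜 d) q) :=
    AddCommGrpCat.subsingleton_of_isZero hz
  exact e.symm.toEquiv.subsingleton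

end Groth.Agent.Lib.Helper93.PnCoh
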