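import Mathlib

set_option autoImplicit false
open AlgebraicGeometry TopologicalSpace Topology DirectSum

namespace Groth.Agent.Lib.Helper93.ProjAvoid

section Avoid

variable {A σ : Type*} [CommRing A] [SetLike σ A] [AddSubmonoidClass σ A] (𝒜 : ℕ → σ)
  [GradedRing 𝒜]

/-- **Homogeneous prime avoidance.** -/
theorem exists_homogeneous_notMem {ι : Type*} [DecidableEq ι] (J : Ideal A) (s : Finset ι)
    (p : ι → Ideal A) (hp : ∀ i ∈ s, (p i).IsPrime)
    (h : ∀ i ∈ s, ∃ x ∈ J, ∃ d, 0 < d ∧ x ∈ 𝒜 d ∧ x ∉ p i) :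
    ∃ x ∈ J, ∃ d, 0 < d ∧ x ∈ 𝒜 d ∧ ∀ i ∈ s, x ∉ p i := by
  induction s using Finset.strongInduction with
  | H s ih =>
    rcases s.eq_empty_or_nonempty with rfl | ⟨a, ha⟩
    · exact ⟨0, J.zero_mem, 1, one_pos, zero_mem _, by simp⟩
    by_cases hcard : s.card = 1
    · obtain ⟨b, rfl⟩ := Finset.card_eq_one.mp hcard
      obtain ⟨x, hxJ, d, hd, hxd, hx⟩ := h b (Finset.mem_singleton_self b)
      exact ⟨x, hxJ, d, hd, hxd, fun i hi => by rwa [Finset.mem_singleton.mp hi]⟩
    · have key : ∀ i : s, ∃ x ∈ J, ∃ d, 0 < d ∧ x ∈ 𝒜 d ∧ ∀ j ∈ s.erase i.1, x ∉ p j :=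
        fun i => ih (s.erase i.1) (Finset.erase_ssubset i.2)
          (fun j hj => hp j (Finset.mem_of_mem_erase hj))
          (fun j hj => h j (Finset.mem_of_mem_erase hj))
      choose x hxJ d hd hxd hx using key
      by_cases hex : ∃ i : s, x i ∉ p i.1
      · obtain ⟨i, hi⟩ := hex
        refine ⟨x i, hxJ i, d i, hd i, hxd i, fun j hj => ?_⟩
        by_cases hji : j = i.1
        · rw [hji]; exact hi
        · exact hx i j (Finset.mem_erase.mpr ⟨hji, hj⟩)
      · push Not at hex
        let a' : s := ⟨a, ha⟩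
        let t : Finset s := s.attach.erase a'
        have htne : t.Nonempty := by
          have h2 : 2 ≤ s.card := by
            have := Finset.card_pos.mpr ⟨a, ha⟩
            omega
          have : t.card = s.card - 1 := by
            rw [Finset.card_erase_of_mem (Finset.mem_attach _ _), Finset.card_attach]
          exact Finset.card_pos.mp (by omega)
        set w := ∏ j ∈ t, x j with hw
        set D := ∑ j ∈ t, d j with hD
        have hwD : w ∈ 𝒜 D := SetLike.prod_mem_graded _ _ _ (fun j _ => hxd j)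
        have hDpos : 0 < D := Finset.sum_pos (fun j _ => hd j) htne
        have hwJ : w ∈ J := by
          obtain ⟨j, hj⟩ := htne
          exact Ideal.prod_mem J hj (hxJ j)
        refine ⟨x a' ^ D + w ^ (d a'), ?_, D * d a', Nat.mul_pos hDpos (hd a'), ?_, ?_⟩
        · exact J.add_mem (J.pow_mem_of_mem (hxJ a') D hDpos) (J.pow_mem_of_mem hwJ _ (hd a'))
        · refine add_mem ?_ ?_
          · have := SetLike.pow_mem_graded D (hxd a')
            rwa [smul_eq_mul] at this
          · have := SetLike.pow_mem_graded (d a') hwD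
            rwa [smul_eq_mul, mul_comm] at this
        · intro i hi
          have hpi := hp i hi
          by_cases hia : i = a
          · subst hia
            intro hmem
            have h1 : x a' ^ D ∈ p i := (p i).pow_mem_of_mem (hex a') D hDpos
            have h2 : w ^ (d a') ∈ p i := (Ideal.add_mem_iff_right _ h1).mp hmem
            have h3 : w ∈ p i := hpi.mem_of_pow_mem _ h2
            rw [hw, hpi.prod_mem_iff] at h3
            obtain ⟨j, hjt, hj⟩ := h3
            have hja : j ≠ a' := Finset.ne_of_mem_erase hjt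
            exact hx j i (Finset.mem_erase.mpr ⟨fun e => hja (Subtype.ext e.symm), hi⟩) hj
          · intro hmem
            have hit : (⟨i, hi⟩ : s) ∈ t :=
              Finset.mem_erase.mpr ⟨fun e => hia (congrArg Subtype.val e), Finset.mem_attach _ _⟩
            have h1 : w ∈ p i := by
              rw [hw]
              exact Ideal.prod_mem (p i) hit (hex ⟨i, hi⟩)
            have h2 : w ^ (d a') ∈ p i := (p i).pow_mem_of_mem h1 _ (hd a')
            have h3 : x a' ^ D ∈ p i := (Ideal.add_mem_iff_left _ h2).mp hmem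
            have h4 : x a' ∈ p i := hpi.mem_of_pow_mem _ h3
            exact hx a' i (Finset.mem_erase.mpr ⟨hia, hi⟩) h4

end Avoid

section Noeth

variable {A σ : Type*} [CommRing A] [SetLike σ A] [AddSubmonoidClass σ A] (𝒜 : ℕ → σ)
  [GradedRing 𝒜]

theorem noetherianSpace_projectiveSpectrum [IsNoetherianRing A] :
    NoetherianSpace (ProjectiveSpectrum 𝒜) := by
  refine ((noetherianSpace_TFAE _).out 0 1).mpr ?_
  let f : Closeds (ProjectiveSpectrum 𝒜) → Ideal A :=
    fun Z => (ProjectiveSpectrum.vanishingIdeal (Z : Set (ProjectiveSpectrum 𝒜))).toIdeal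
  have hanti : Antitone f := by
    intro Z₁ Z₂ h
    exact ProjectiveSpectrum.vanishingIdeal_anti_mono 𝒜 (s := (Z₁ : Set (ProjectiveSpectrum 𝒜))) (t := (Z₂ : Set (ProjectiveSpectrum 𝒜))) h
  have hinj : Function.Injective f := by
    intro Z₁ Z₂ h
    have h' : ProjectiveSpectrum.vanishingIdeal (Z₁ : Set (ProjectiveSpectrum 𝒜)) =
        ProjectiveSpectrum.vanishingIdeal (Z₂ : Set (ProjectiveSpectrum 𝒜)) :=
      HomogeneousIdeal.toIdeal_injective h
    apply Closeds.ext
    rw [← Z₁.isClosed.closure_eq, ← Z₂.isClosed.closure_eq,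
      ← ProjectiveSpectrum.zeroLocus_vanishingIdeal_eq_closure,
      ← ProjectiveSpectrum.zeroLocus_vanishingIdeal_eq_closure, h']
  exact (hanti.strictAnti_of_injective hinj).wellFoundedLT

end Noeth

/-- In a Noetherian sober space a closed set has finitely many maximal points. -/
theorem finite_maximal_points {T : Type*} [TopologicalSpace T] [NoetherianSpace T] [QuasiSober T]
    [T0Space T] {Z : Set T} (hZ : IsClosed Z) :
    {x | x ∈ Z ∧ ∀ x' ∈ Z, x' ⤳ x → x' = x}.Finite := by
  have : QuasiSober ↥Z := hZ.isClosedEmbedding_subtypeVal.quasiSober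
  have hfin : (irreducibleComponents ↥Z).Finite := NoetherianSpace.finite_irreducibleComponents
  let g : {x | x ∈ Z ∧ ∀ x' ∈ Z, x' ⤳ x → x' = x} → irreducibleComponents ↥Z := fun x =>
    ⟨closure {(⟨x.1, x.2.1⟩ : ↥Z)}, by
      refine ⟨isIrreducible_singleton.closure, ?_⟩
      intro S hS hle
      have hScl : IsIrreducible (closure S) := hS.closure
      obtain ⟨y, hy⟩ := QuasiSober.sober hScl isClosed_closure
      have hxy : (⟨x.1, x.2.1⟩ : ↥Z) ∈ closure {y} := by
        rw [hy.def]
        exact subset_closure (hle (subset_closure rfl))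
      have h1 : y ⤳ (⟨x.1, x.2.1⟩ : ↥Z) := specializes_iff_mem_closure.mpr hxy
      have h2 : y.1 ⤳ x.1 := h1.map continuous_subtype_val
      have h3 : y.1 = x.1 := x.2.2 y.1 y.2 h2
      have h4 : y = ⟨x.1, x.2.1⟩ := Subtype.ext h3
      rw [← h4, hy.def]
      exact subset_closure⟩
  have hg : Function.Injective g := by
    intro x x' hxx'
    have h1 : closure {(⟨x.1, x.2.1⟩ : ↥Z)} = closure {(⟨x'.1, x'.2.1⟩ : ↥Z)} :=
      congrArg Subtype.val hxx'
    have h2 : Inseparable (⟨x.1, x.2.1⟩ : ↥Z) ⟨x'.1, x'.2.1⟩ := inseparable_iff_closure_eq.mpr h1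
    have h3 := h2.eq
    exact Subtype.ext (congrArg (fun z : ↥Z => z.1) h3)
  have : Finite (irreducibleComponents ↥Z) := hfin
  have := Finite.of_injective g hg
  exact Set.toFinite _

section Pos

variable {A σ : Type*} [CommRing A] [SetLike σ A] [AddSubmonoidClass σ A] (𝒜 : ℕ → σ)
  [GradedRing 𝒜]

theorem exists_pos_homogeneous_notMem (J : HomogeneousIdeal 𝒜) (x : ProjectiveSpectrum 𝒜)
    (hx : ¬ J.toIdeal ≤ x.asHomogeneousIdeal.toIdeal) :
    ∃ f ∈ J.toIdeal, ∃ d, 0 < d ∧ f ∈ 𝒜 d ∧ f ∉ x.asHomogeneousIdeal.toIdeal := by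
  obtain ⟨g, hgJ, hgx⟩ := SetLike.not_le_iff_exists.mp hx
  have hxh : x.asHomogeneousIdeal.toIdeal.IsHomogeneous 𝒜 := x.asHomogeneousIdeal.isHomogeneous
  rw [hxh.mem_iff] at hgx
  push Not at hgx
  obtain ⟨i, hi⟩ := hgx
  have hiJ : (decompose 𝒜 g i : A) ∈ J.toIdeal := J.isHomogeneous i hgJ
  have h' : ¬ (HomogeneousIdeal.irrelevant 𝒜).toIdeal ≤ x.asHomogeneousIdeal.toIdeal :=
    x.not_irrelevant_le
  rw [HomogeneousIdeal.toIdeal_irrelevant_le] at h'
  push Not at h'
  obtain ⟨m, hm, hle⟩ := h'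
  obtain ⟨e, he, hex⟩ := SetLike.not_le_iff_exists.mp hle
  have hprime : x.asHomogeneousIdeal.toIdeal.IsPrime := x.isPrime
  refine ⟨(decompose 𝒜 g i : A) * e, J.toIdeal.mul_mem_right _ hiJ, i + m, by omega,
    SetLike.mul_mem_graded (decompose 𝒜 g i).2 he, ?_⟩
  intro hmem
  rcases hprime.mem_or_mem hmem with h | h
  · exact hi h
  · exact hex h

end Pos

end Groth.Agent.Lib.Helper93.ProjAvoid
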