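import Mathlib

set_option autoImplicit false
open AlgebraicGeometry TopologicalSpace Topology Order

namespace Groth.Agent.Lib.Helper93.ProjDim

section Poset

/-- along a strictly decreasing natural valued function, chains are bounded. -/
lemma LTSeries.apply_last_add_length_le {α : Type*} [Preorder α] (p : LTSeries α) (f : α → ℕ)
    (hf : ∀ a b : α, a < b → f b < f a) : f p.last + p.length ≤ f p.head := by
  have key : ∀ (n : ℕ) (hn : n < p.length + 1), f (p ⟨n, hn⟩) + n ≤ f p.head := by
    intro n
    induction n with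
    | zero => intro hn; exact le_of_eq rfl
    | succ n ih =>
      intro hn
      have h1 := ih (by omega)
      have h2 : p ⟨n, by omega⟩ < p ⟨n + 1, hn⟩ := p.strictMono (by simp [Fin.lt_def])
      have := hf _ _ h2
      omega
  exact key p.length (by omega)

/-- Krull dimension of a poset with a "dimension function". -/
theorem krullDim_eq_iSup_of_dimFun {P : Type*} [PartialOrder P] (δ : P → ℕ)
    (ha : ∀ x y : P, x < y → δ y < δ x)
    (hb : ∀ x : P, δ x ≠ 0 → ∃ y, x < y ∧ δ y + 1 = δ x) :
    Order.krullDim P = ⨆ x : P, ((δ x : ℕ) : WithBot ℕ∞) := by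
  apply le_antisymm
  · rw [Order.krullDim]
    refine iSup_le fun p => ?_
    have h := LTSeries.apply_last_add_length_le p δ ha
    have h' : p.length ≤ δ p.head := by omega
    refine le_trans ?_ (le_iSup (fun x : P => ((δ x : ℕ) : WithBot ℕ∞)) p.head)
    exact_mod_cast h'
  · refine iSup_le fun x => ?_
    have key : ∀ (n : ℕ) (x : P), δ x = n → ∃ p : LTSeries P, p.head = x ∧ p.length = n := by
      intro n
      induction n with
      | zero =>
        intro x _
        exact ⟨RelSeries.singleton _ x, rfl, rfl⟩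
      | succ n ih =>
        intro x hx
        obtain ⟨y, hxy, hy⟩ := hb x (by omega)
        obtain ⟨p, hp, hl⟩ := ih y (by omega)
        refine ⟨p.cons x (by rw [hp]; exact hxy), by simp, by simp [hl]⟩
    obtain ⟨p, -, hl⟩ := key (δ x) x rfl
    rw [← hl]
    exact p.length_le_krullDim

end Poset

section Top

variable {Y : Type*} [TopologicalSpace Y] [QuasiSober Y] [T0Space Y] [PartialOrder Y]

/-- The irreducible closed subsets of a sober space, ordered by inclusion, are dual to the points
ordered by generalization. -/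
noncomputable def irreducibleClosedsOrderIso (h : ∀ x y : Y, x ⤳ y ↔ x ≤ y) :
    IrreducibleCloseds Y ≃o Yᵒᵈ where
  toFun s := OrderDual.toDual s.2.genericPoint
  invFun x := ⟨closure ({OrderDual.ofDual x} : Set Y), isIrreducible_singleton.closure,
    isClosed_closure⟩
  left_inv s := by
    refine TopologicalSpace.IrreducibleCloseds.ext ?_
    simp only [OrderDual.ofDual_toDual, IsIrreducible.genericPoint_closure_eq,
      TopologicalSpace.IrreducibleCloseds.coe_mk, closure_eq_iff_isClosed.mpr s.3]
    rfl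
  right_inv x := by
    apply OrderDual.ofDual.injective
    exact isIrreducible_singleton.closure.isGenericPoint_genericPoint_closure.eq
      (by rw [closure_closure]; exact isGenericPoint_closure)
  map_rel_iff' := by
    rintro ⟨s, hs, hs'⟩ ⟨t, ht, ht'⟩
    change ht.genericPoint ≤ hs.genericPoint ↔ s ⊆ t
    rw [← h, specializes_iff_closure_subset]
    simp only [IsIrreducible.genericPoint_closure_eq, closure_eq_iff_isClosed.mpr hs',
      closure_eq_iff_isClosed.mpr ht']

theorem coe_irreducibleClosedsOrderIso_symm (h : ∀ x y : Y, x ⤳ y ↔ x ≤ y) (x : Y) :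
    (((irreducibleClosedsOrderIso h).symm (OrderDual.toDual x) : IrreducibleCloseds Y) : Set Y) =
      closure {x} := rfl

theorem closure_irreducibleClosedsOrderIso (h : ∀ x y : Y, x ⤳ y ↔ x ≤ y)
    (Z : IrreducibleCloseds Y) :
    closure {OrderDual.ofDual (irreducibleClosedsOrderIso h Z)} = (Z : Set Y) := by
  have := coe_irreducibleClosedsOrderIso_symm h (OrderDual.ofDual (irreducibleClosedsOrderIso h Z))
  rw [← this]
  simp

theorem topologicalKrullDim_eq_krullDim (h : ∀ x y : Y, x ⤳ y ↔ x ≤ y) :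
    topologicalKrullDim Y = Order.krullDim Y := by
  rw [topologicalKrullDim, Order.krullDim_eq_of_orderIso (irreducibleClosedsOrderIso h),
    Order.krullDim_orderDual]

end Top

section PS

universe u
variable {R A : Type u} [CommRing R] [CommRing A] [Algebra R A] {𝒜 : ℕ → Submodule R A}
  [GradedAlgebra 𝒜]

instance instQuasiSoberPS : QuasiSober (ProjectiveSpectrum 𝒜) :=
  inferInstanceAs (QuasiSober (Proj 𝒜))

instance instT0SpacePS : T0Space (ProjectiveSpectrum 𝒜) :=
  inferInstanceAs (T0Space (Proj 𝒜))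

theorem specializes_iff_le {x y : ProjectiveSpectrum 𝒜} : x ⤳ y ↔ x ≤ y := by
  rw [specializes_iff_mem_closure, ProjectiveSpectrum.le_iff_mem_closure]

theorem mem_closure_singleton_iff {x y : ProjectiveSpectrum 𝒜} : y ∈ closure {x} ↔ x ≤ y := by
  rw [ProjectiveSpectrum.le_iff_mem_closure]

theorem exists_closure_singleton_eq {Z : Set (ProjectiveSpectrum 𝒜)} (hZc : IsClosed Z)
    (hZi : IsIrreducible Z) : ∃ x, closure {x} = Z := by
  obtain ⟨x, hx⟩ := QuasiSober.sober hZi hZc
  exact ⟨x, hx.def⟩

theorem closure_singleton_eq_zeroLocus (x : ProjectiveSpectrum 𝒜) :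
    closure {x} = ProjectiveSpectrum.zeroLocus 𝒜 (x.asHomogeneousIdeal.toIdeal : Set A) := by
  rw [← ProjectiveSpectrum.zeroLocus_vanishingIdeal_eq_closure,
    ProjectiveSpectrum.vanishingIdeal_singleton]
  rfl

theorem mem_zeroLocus_iff_le {x : ProjectiveSpectrum 𝒜} {s : Set A} :
    x ∈ ProjectiveSpectrum.zeroLocus 𝒜 s ↔ s ⊆ x.asHomogeneousIdeal.toIdeal := Iff.rfl

section Dim

variable (δ : ProjectiveSpectrum 𝒜 → ℕ) (ha : ∀ x y, x < y → δ y < δ x)
  (hb : ∀ x, δ x ≠ 0 → ∃ y, x < y ∧ δ y + 1 = δ x)
variable {Y : Type*} [TopologicalSpace Y] {g : Y → ProjectiveSpectrum 𝒜}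
include ha hb

/-- Dimension of a space closed-embedded in the projective spectrum, via a dimension function. -/
theorem topologicalKrullDim_eq_iSup_of_isClosedEmbedding (hg : IsClosedEmbedding g) :
    topologicalKrullDim Y = ⨆ y : Y, ((δ (g y) : ℕ) : WithBot ℕ∞) := by
  have : QuasiSober Y := hg.quasiSober
  have : T0Space Y := hg.isEmbedding.t0Space
  let _ : PartialOrder Y := PartialOrder.lift g hg.injective
  have h : ∀ x y : Y, x ⤳ y ↔ x ≤ y := by
    intro x y
    rw [← hg.isInducing.specializes_iff, specializes_iff_le]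
    rfl
  rw [topologicalKrullDim_eq_krullDim h, krullDim_eq_iSup_of_dimFun (fun y => δ (g y))]
  · intro x y hxy
    exact ha _ _ hxy
  · intro x hx
    obtain ⟨z, hz, hδ⟩ := hb (g x) hx
    have hz' : z ∈ Set.range g :=
      (specializes_iff_le.mpr hz.le).mem_closed hg.isClosed_range ⟨x, rfl⟩
    obtain ⟨y, rfl⟩ := hz'
    exact ⟨y, hz, hδ⟩

omit hb in
theorem dimFun_le_of_le {x y : ProjectiveSpectrum 𝒜} (hxy : x ≤ y) : δ y ≤ δ x := by
  rcases hxy.lt_or_eq with h | h
  · exact (ha _ _ h).le
  · rw [h]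

/-- Dimension of a space closed-embedded in the projective spectrum with a generic point. -/
theorem topologicalKrullDim_eq_of_isClosedEmbedding_of_generic (hg : IsClosedEmbedding g)
    (y₀ : Y) (hy₀ : ∀ y, g y₀ ≤ g y) :
    topologicalKrullDim Y = ((δ (g y₀) : ℕ) : WithBot ℕ∞) := by
  rw [topologicalKrullDim_eq_iSup_of_isClosedEmbedding δ ha hb hg]
  apply le_antisymm
  · refine iSup_le fun y => ?_
    exact_mod_cast dimFun_le_of_le δ ha (hy₀ y)
  · exact le_iSup (fun y : Y => ((δ (g y) : ℕ) : WithBot ℕ∞)) y₀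

theorem topologicalKrullDim_closed_eq_iSup {Z : Set (ProjectiveSpectrum 𝒜)} (hZ : IsClosed Z) :
    topologicalKrullDim ↥Z = ⨆ z : ↥Z, ((δ z.1 : ℕ) : WithBot ℕ∞) :=
  topologicalKrullDim_eq_iSup_of_isClosedEmbedding δ ha hb hZ.isClosedEmbedding_subtypeVal

theorem topologicalKrullDim_closure_singleton (x : ProjectiveSpectrum 𝒜) :
    topologicalKrullDim ↥(closure ({x} : Set (ProjectiveSpectrum 𝒜))) = ((δ x : ℕ) : WithBot ℕ∞) :=
  topologicalKrullDim_eq_of_isClosedEmbedding_of_generic δ ha hb
    (Y := ↥(closure ({x} : Set (ProjectiveSpectrum 𝒜))))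
    isClosed_closure.isClosedEmbedding_subtypeVal ⟨x, subset_closure (Set.mem_singleton x)⟩
    (fun y => (ProjectiveSpectrum.le_iff_mem_closure 𝒜 _ _).mpr y.2)

theorem topologicalKrullDim_univ :
    topologicalKrullDim (ProjectiveSpectrum 𝒜) = ⨆ z : ProjectiveSpectrum 𝒜, ((δ z : ℕ) : WithBot ℕ∞) :=
  topologicalKrullDim_eq_iSup_of_isClosedEmbedding δ ha hb (g := id) IsClosedEmbedding.id

/-- Dimension of the closure of a point in a closed subspace. -/
theorem topologicalKrullDim_subtype_closure_singleton {W : Set (ProjectiveSpectrum 𝒜)}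
    (hW : IsClosed W) (C : Set ↥W) (c : ↥W) (hc : closure {c} = C) :
    topologicalKrullDim ↥C = ((δ c.1 : ℕ) : WithBot ℕ∞) := by
  have hCc : IsClosed C := by rw [← hc]; exact isClosed_closure
  have hg : IsClosedEmbedding (fun y : ↥C => (y.1.1 : ProjectiveSpectrum 𝒜)) :=
    hW.isClosedEmbedding_subtypeVal.comp hCc.isClosedEmbedding_subtypeVal
  have hcC : c ∈ C := by rw [← hc]; exact subset_closure rfl
  refine topologicalKrullDim_eq_of_isClosedEmbedding_of_generic δ ha hb hg ⟨c, hcC⟩ ?_
  intro y
  have : y.1 ∈ closure {c} := by rw [hc]; exact y.2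
  have h1 : c ⤳ y.1 := specializes_iff_mem_closure.mpr this
  have h2 : c.1 ⤳ y.1.1 := h1.map continuous_subtype_val
  exact specializes_iff_le.mp h2

end Dim

/-- Irreducible components of a closed subset are closures of minimal points. -/
theorem exists_generic_of_mem_irreducibleComponents {W : Set (ProjectiveSpectrum 𝒜)}
    (hW : IsClosed W) {C : Set ↥W} (hC : C ∈ irreducibleComponents ↥W) :
    ∃ c : ↥W, closure {c} = C ∧ ∀ w : ↥W, w.1 ≤ c.1 → w = c := by
  have : QuasiSober ↥W := hW.isClosedEmbedding_subtypeVal.quasiSober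
  have hCc : IsClosed C := isClosed_of_mem_irreducibleComponents C hC
  obtain ⟨c, hc⟩ := QuasiSober.sober hC.1 hCc
  refine ⟨c, hc.def, ?_⟩
  intro w hw
  have h1 : w ⤳ c := by
    rw [← IsInducing.subtypeVal.specializes_iff]
    exact specializes_iff_le.mpr hw
  have h2 : closure {c} ⊆ closure {w} := specializes_iff_closure_subset.mp h1
  have h3 : closure {w} ⊆ C := hC.2 isIrreducible_singleton.closure (by rw [← hc.def]; exact h2)
  have h4 : w ∈ closure {c} := by rw [hc.def]; exact h3 (subset_closure rfl)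
  have h5 : c ⤳ w := specializes_iff_mem_closure.mpr h4
  exact (h1.antisymm h5).eq

end PS

end Groth.Agent.Lib.Helper93.ProjDim
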