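import Mathlib
import Groth.Agent.Lib.Helper73.DimFT.Spec

set_option autoImplicit false
open Groth.Agent.Lib.Helper73

namespace Groth.Agent.Lib.Helper93.ProjDim

universe u
variable {k A : Type u} [Field k] [CommRing A] [Algebra k A]
variable (𝒜 : ℕ → Submodule k A) [GradedAlgebra 𝒜]

/-- A minimal prime over a homogeneous ideal is homogeneous. -/
theorem isHomogeneous_of_mem_minimalPrimes {I : Ideal A} (hI : I.IsHomogeneous 𝒜) {q : Ideal A}
    (hq : q ∈ I.minimalPrimes) : q.IsHomogeneous 𝒜 := by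
  have hqp : q.IsPrime := hq.1.1
  have hcp : (q.homogeneousCore 𝒜).toIdeal.IsPrime := hqp.homogeneousCore
  have hIc : I ≤ (q.homogeneousCore 𝒜).toIdeal := by
    have := Ideal.homogeneousCore_mono 𝒜 hq.1.2
    rw [← hI.toIdeal_homogeneousCore_eq_self]
    exact this
  have hle : (q.homogeneousCore 𝒜).toIdeal ≤ q := Ideal.toIdeal_homogeneousCore_le 𝒜 q
  have : q ≤ (q.homogeneousCore 𝒜).toIdeal := hq.2 ⟨hcp, hIc⟩ hle
  have e : (q.homogeneousCore 𝒜).toIdeal = q := le_antisymm hle this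
  rw [← e]
  exact (q.homogeneousCore 𝒜).isHomogeneous

/-- A proper homogeneous ideal lies in the irrelevant ideal when the latter is maximal. -/
theorem le_irrelevant_of_isHomogeneous
    (hmax : (HomogeneousIdeal.irrelevant 𝒜).toIdeal.IsMaximal) {I : Ideal A}
    (hI : I.IsHomogeneous 𝒜) (hne : I ≠ ⊤) : I ≤ (HomogeneousIdeal.irrelevant 𝒜).toIdeal := by
  have hsup : I ⊔ (HomogeneousIdeal.irrelevant 𝒜).toIdeal ≠ ⊤ := by
    intro h
    have h1 : (1 : A) ∈ I ⊔ (HomogeneousIdeal.irrelevant 𝒜).toIdeal := by rw [h]; trivial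
    obtain ⟨a, ha, b, hb, hab⟩ := Submodule.mem_sup.mp h1
    have hb0 : GradedRing.proj 𝒜 0 b = 0 := (HomogeneousIdeal.mem_irrelevant_iff 𝒜 b).mp hb
    have ha0 : (GradedRing.proj 𝒜 0 a : A) ∈ I := hI 0 ha
    have h1' : GradedRing.proj 𝒜 0 (1 : A) = 1 := by
      rw [GradedRing.proj_apply]
      exact DirectSum.decompose_of_mem_same 𝒜 (SetLike.GradedOne.one_mem)
    have : GradedRing.proj 𝒜 0 a = 1 := by
      rw [← h1', ← hab, map_add, hb0, add_zero]
    apply hne
    rw [Ideal.eq_top_iff_one, ← this]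
    exact ha0
  have := hmax.eq_of_le hsup le_sup_right
  rw [this]
  exact le_sup_left

section FT

variable [Algebra.FiniteType k A]

include k in
/-- Krull's principal ideal theorem + dimension formula: a minimal prime over `x + (f)`, `f ∉ x`,
drops the dimension of the quotient by exactly one. -/
theorem ringKrullDim_quotient_add_one_of_mem_minimalPrimes (x q : Ideal A) [hx : x.IsPrime] (f : A)
    (hfx : f ∉ x) (hq : q ∈ (x ⊔ Ideal.span {f}).minimalPrimes) :
    ringKrullDim (A ⧸ q) + 1 = ringKrullDim (A ⧸ x) := by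
  have hqp : q.IsPrime := hq.1.1
  have hxq : x ≤ q := le_sup_left.trans hq.1.2
  have hfq : f ∈ q := hq.1.2 (Ideal.mem_sup_right (Ideal.mem_span_singleton_self f))
  let mk := Ideal.Quotient.mk x
  have hsurj : Function.Surjective mk := Ideal.Quotient.mk_surjective
  have hq' : q.map mk ∈ (Ideal.span {mk f}).minimalPrimes := by
    have := Ideal.minimalPrimes_map_of_surjective hsurj (Ideal.span {f})
    rw [Ideal.map_span, Set.image_singleton] at this
    rw [this]
    refine ⟨q, ?_, rfl⟩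
    rw [Ideal.mk_ker, sup_comm]
    exact hq
  have hq'p : (q.map mk).IsPrime := hq'.1.1
  have hA : IsNoetherianRing A := Algebra.FiniteType.isNoetherianRing k A
  have hle1 : (q.map mk).height ≤ 1 :=
    Ideal.height_le_one_of_isPrincipal_of_mem_minimalPrimes _ _ hq'
  have hne0 : (q.map mk).height ≠ 0 := by
    rw [Ne, Ideal.height_eq_zero_iff_eq_bot]
    intro hbot
    have : mk f ∈ q.map mk := Ideal.mem_map_of_mem _ hfq
    rw [hbot, Ideal.mem_bot, Ideal.Quotient.eq_zero_iff_mem] at this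
    exact hfx this
  have h1 : (q.map mk).height = 1 := le_antisymm hle1 (Order.one_le_iff_ne_zero.mpr hne0)
  have h2 := ringKrullDim_quotient_add_one_of_height_eq_one k (q.map mk) h1
  rw [← h2, ringKrullDim_eq_of_ringEquiv (DoubleQuot.quotQuotEquivQuotOfLE hxq)]

include k in
/-- Krull's height theorem + dimension formula. -/
theorem ringKrullDim_quotient_le_of_mem_minimalPrimes (x q : Ideal A) [hx : x.IsPrime]
    (s : Finset A) (hq : q ∈ (x ⊔ Ideal.span (s : Set A)).minimalPrimes) :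
    ringKrullDim (A ⧸ x) ≤ ringKrullDim (A ⧸ q) + (s.card : WithBot ℕ∞) := by
  classical
  have hqp : q.IsPrime := hq.1.1
  have hxq : x ≤ q := le_sup_left.trans hq.1.2
  let mk := Ideal.Quotient.mk x
  have hsurj : Function.Surjective mk := Ideal.Quotient.mk_surjective
  have hq' : q.map mk ∈ (Ideal.span ((s.image mk : Finset (A ⧸ x)) : Set (A ⧸ x))).minimalPrimes := by
    have := Ideal.minimalPrimes_map_of_surjective hsurj (Ideal.span (s : Set A))
    rw [Ideal.map_span] at this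
    rw [Finset.coe_image, this]
    refine ⟨q, ?_, rfl⟩
    rw [Ideal.mk_ker, sup_comm]
    exact hq
  have hq'p : (q.map mk).IsPrime := hq'.1.1
  have hA : IsNoetherianRing A := Algebra.FiniteType.isNoetherianRing k A
  have hle1 : (q.map mk).height ≤ (s.image mk).card :=
    Ideal.height_le_card_of_mem_minimalPrimes_span_finset hq'
  have hle2 : (q.map mk).height ≤ (s.card : ℕ∞) :=
    hle1.trans (by exact_mod_cast Finset.card_image_le)
  have h2 := height_add_ringKrullDim_quotient k (q.map mk)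
  rw [← h2, ringKrullDim_eq_of_ringEquiv (DoubleQuot.quotQuotEquivQuotOfLE hxq), add_comm]
  gcongr
  exact_mod_cast hle2

end FT

variable {𝒜}

/-- The underlying point of the prime spectrum. -/
def toPrime (y : ProjectiveSpectrum 𝒜) : PrimeSpectrum A :=
  ⟨y.asHomogeneousIdeal.toIdeal, y.isPrime⟩

theorem toPrime_le_iff {x y : ProjectiveSpectrum 𝒜} : toPrime x ≤ toPrime y ↔ x ≤ y := by
  rw [← ProjectiveSpectrum.as_ideal_le_as_ideal]
  exact Iff.rfl

theorem toPrime_lt_iff {x y : ProjectiveSpectrum 𝒜} : toPrime x < toPrime y ↔ x < y := by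
  rw [lt_iff_le_not_ge, lt_iff_le_not_ge, toPrime_le_iff, toPrime_le_iff]

theorem toPrime_strictMono : StrictMono (toPrime (𝒜 := 𝒜)) := fun _ _ h => toPrime_lt_iff.mpr h

/-- Build a point from a homogeneous prime that does not contain the irrelevant ideal. -/
def mkPt (q : Ideal A) (hq : q.IsPrime) (hqh : q.IsHomogeneous 𝒜)
    (hrel : ¬ (HomogeneousIdeal.irrelevant 𝒜).toIdeal ≤ q) : ProjectiveSpectrum 𝒜 :=
  ⟨⟨q, hqh⟩, hq, fun h => hrel h⟩

@[simp] theorem mkPt_toIdeal (q : Ideal A) (hq : q.IsPrime) (hqh : q.IsHomogeneous 𝒜)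
    (hrel : ¬ (HomogeneousIdeal.irrelevant 𝒜).toIdeal ≤ q) :
    (mkPt q hq hqh hrel).asHomogeneousIdeal.toIdeal = q := rfl

theorem le_iff_toIdeal_le {x y : ProjectiveSpectrum 𝒜} :
    x ≤ y ↔ x.asHomogeneousIdeal.toIdeal ≤ y.asHomogeneousIdeal.toIdeal := by
  rw [← ProjectiveSpectrum.as_ideal_le_as_ideal]
  exact Iff.rfl

theorem lt_iff_toIdeal_lt {x y : ProjectiveSpectrum 𝒜} :
    x < y ↔ x.asHomogeneousIdeal.toIdeal < y.asHomogeneousIdeal.toIdeal := by
  rw [lt_iff_le_not_ge, lt_iff_le_not_ge, le_iff_toIdeal_le, le_iff_toIdeal_le]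

/-- The projective dimension function: `dim A/y - 1`. -/
noncomputable def pdim (y : ProjectiveSpectrum 𝒜) : ℕ := quotDim (toPrime y) - 1

theorem isHomogeneous_sup_span (x : ProjectiveSpectrum 𝒜) (s : Set A)
    (hs : ∀ f ∈ s, SetLike.IsHomogeneousElem 𝒜 f) :
    (x.asHomogeneousIdeal.toIdeal ⊔ Ideal.span s).IsHomogeneous 𝒜 :=
  x.asHomogeneousIdeal.isHomogeneous.sup (Ideal.homogeneous_span 𝒜 s hs)

theorem exists_homogeneous_mem_irrelevant_notMem (x : ProjectiveSpectrum 𝒜) :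
    ∃ f : A, SetLike.IsHomogeneousElem 𝒜 f ∧ f ∈ (HomogeneousIdeal.irrelevant 𝒜).toIdeal ∧
      f ∉ x.asHomogeneousIdeal.toIdeal := by
  have h := x.not_irrelevant_le
  have h' : ¬ (HomogeneousIdeal.irrelevant 𝒜).toIdeal ≤ x.asHomogeneousIdeal.toIdeal := h
  rw [HomogeneousIdeal.toIdeal_irrelevant_le] at h'
  push Not at h'
  obtain ⟨i, hi, hle⟩ := h'
  obtain ⟨f, hf, hfx⟩ := SetLike.not_le_iff_exists.mp hle
  exact ⟨f, ⟨i, hf⟩, HomogeneousIdeal.mem_irrelevant_of_mem 𝒜 hi hf, hfx⟩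

section FT2
variable [Algebra.FiniteType k A]

/-- V1: a hypersurface step between two points. -/
theorem exists_between {x z : ProjectiveSpectrum 𝒜} (hxz : x ≤ z) {f : A}
    (hf : SetLike.IsHomogeneousElem 𝒜 f) (hfz : f ∈ z.asHomogeneousIdeal.toIdeal)
    (hfx : f ∉ x.asHomogeneousIdeal.toIdeal) :
    ∃ y : ProjectiveSpectrum 𝒜, x < y ∧ y ≤ z ∧ f ∈ y.asHomogeneousIdeal.toIdeal ∧
      ringKrullDim (A ⧸ y.asHomogeneousIdeal.toIdeal) + 1 =
        ringKrullDim (A ⧸ x.asHomogeneousIdeal.toIdeal) := by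
  have hIz : x.asHomogeneousIdeal.toIdeal ⊔ Ideal.span {f} ≤ z.asHomogeneousIdeal.toIdeal :=
    sup_le (le_iff_toIdeal_le.mp hxz) ((Ideal.span_singleton_le_iff_mem _).mpr hfz)
  obtain ⟨q, hq, hqz⟩ := Ideal.exists_minimalPrimes_le hIz
  have hqh : q.IsHomogeneous 𝒜 := isHomogeneous_of_mem_minimalPrimes 𝒜
    (isHomogeneous_sup_span x {f} (by simpa using hf)) hq
  have hrel : ¬ (HomogeneousIdeal.irrelevant 𝒜).toIdeal ≤ q :=
    fun h => z.not_irrelevant_le (h.trans hqz)
  have hfq : f ∈ q := hq.1.2 (Ideal.mem_sup_right (Ideal.mem_span_singleton_self f))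
  refine ⟨mkPt q hq.1.1 hqh hrel, ?_, ?_, hfq, ?_⟩
  · rw [lt_iff_toIdeal_lt]
    refine lt_of_le_of_ne (le_sup_left.trans hq.1.2) ?_
    intro h
    apply hfx
    rw [h]
    exact hfq
  · rw [le_iff_toIdeal_le]; exact hqz
  · exact ringKrullDim_quotient_add_one_of_mem_minimalPrimes (k := k)
      x.asHomogeneousIdeal.toIdeal q f hfx hq

end FT2

section Max

variable [Algebra.FiniteType k A]
variable (hmax : (HomogeneousIdeal.irrelevant 𝒜).toIdeal.IsMaximal)
include hmax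

omit [Algebra.FiniteType k A] in
theorem toIdeal_lt_irrelevant (y : ProjectiveSpectrum 𝒜) :
    y.asHomogeneousIdeal.toIdeal < (HomogeneousIdeal.irrelevant 𝒜).toIdeal := by
  refine lt_of_le_of_ne ?_ ?_
  · exact le_irrelevant_of_isHomogeneous 𝒜 hmax y.asHomogeneousIdeal.isHomogeneous
      y.isPrime.ne_top
  · intro h
    exact y.not_irrelevant_le (show (HomogeneousIdeal.irrelevant 𝒜).toIdeal ≤
      y.asHomogeneousIdeal.toIdeal from h.ge)

theorem one_le_quotDim (y : ProjectiveSpectrum 𝒜) : 1 ≤ quotDim (toPrime y) := by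
  let m : PrimeSpectrum A := ⟨_, hmax.isPrime⟩
  have hlt : toPrime y < m := toIdeal_lt_irrelevant hmax y
  have h0 : quotDim m = 0 := quotDim_eq_zero_of_isMaximal k m hmax
  have := quotDim_lt_of_lt k hlt
  omega

theorem pdim_add_one (y : ProjectiveSpectrum 𝒜) : pdim y + 1 = quotDim (toPrime y) := by
  have := one_le_quotDim hmax y
  unfold pdim
  omega

theorem coe_pdim_add_one (y : ProjectiveSpectrum 𝒜) :
    ((pdim y : ℕ) : WithBot ℕ∞) + 1 = ringKrullDim (A ⧸ y.asHomogeneousIdeal.toIdeal) := by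
  have h := coe_quotDim k (toPrime y)
  rw [← pdim_add_one hmax y] at h
  rw [← show (toPrime y).asIdeal = y.asHomogeneousIdeal.toIdeal from rfl, ← h]
  push_cast
  rfl

theorem pdim_lt_of_lt {x y : ProjectiveSpectrum 𝒜} (hxy : x < y) : pdim y < pdim x := by
  have := quotDim_lt_of_lt k (toPrime_lt_iff.mpr hxy)
  have h1 := pdim_add_one hmax x
  have h2 := pdim_add_one hmax y
  omega

theorem pdim_le_of_le {x y : ProjectiveSpectrum 𝒜} (hxy : x ≤ y) : pdim y ≤ pdim x := by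
  rcases hxy.lt_or_eq with h | h
  · exact (pdim_lt_of_lt hmax h).le
  · rw [h]

/-- From dimension equality of quotients to `pdim`. -/
theorem pdim_add_one_eq_of_ringKrullDim {x y : ProjectiveSpectrum 𝒜}
    (h : ringKrullDim (A ⧸ y.asHomogeneousIdeal.toIdeal) + 1 =
      ringKrullDim (A ⧸ x.asHomogeneousIdeal.toIdeal)) : pdim y + 1 = pdim x := by
  rw [← coe_pdim_add_one hmax x, ← coe_pdim_add_one hmax y] at h
  have : ((pdim y + 1 + 1 : ℕ) : WithBot ℕ∞) = ((pdim x + 1 : ℕ) : WithBot ℕ∞) := by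
    push_cast
    exact h
  have : pdim y + 1 + 1 = pdim x + 1 := by exact_mod_cast this
  omega

/-- V1 in terms of `pdim`. -/
theorem exists_between_pdim {x z : ProjectiveSpectrum 𝒜} (hxz : x ≤ z) {f : A}
    (hf : SetLike.IsHomogeneousElem 𝒜 f) (hfz : f ∈ z.asHomogeneousIdeal.toIdeal)
    (hfx : f ∉ x.asHomogeneousIdeal.toIdeal) :
    ∃ y : ProjectiveSpectrum 𝒜, x < y ∧ y ≤ z ∧ f ∈ y.asHomogeneousIdeal.toIdeal ∧
      pdim y + 1 = pdim x := by
  obtain ⟨y, h1, h2, h3, h4⟩ := exists_between (k := k) hxz hf hfz hfx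
  exact ⟨y, h1, h2, h3, pdim_add_one_eq_of_ringKrullDim hmax h4⟩

omit [Algebra.FiniteType k A] in
theorem ringKrullDim_quotient_irrelevant :
    ringKrullDim (A ⧸ (HomogeneousIdeal.irrelevant 𝒜).toIdeal) = 0 := by
  let _ : Field (A ⧸ (HomogeneousIdeal.irrelevant 𝒜).toIdeal) := Ideal.Quotient.field _
  exact ringKrullDim_eq_zero_of_field _

/-- V2: hypersurface sections of positive dimensional points are nonempty. -/
theorem exists_gt_of_pdim_ne_zero {x : ProjectiveSpectrum 𝒜} {f : A}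
    (hf : SetLike.IsHomogeneousElem 𝒜 f) (hfi : f ∈ (HomogeneousIdeal.irrelevant 𝒜).toIdeal)
    (hfx : f ∉ x.asHomogeneousIdeal.toIdeal) (hx : pdim x ≠ 0) :
    ∃ y : ProjectiveSpectrum 𝒜, x < y ∧ f ∈ y.asHomogeneousIdeal.toIdeal ∧
      pdim y + 1 = pdim x := by
  have hIz : x.asHomogeneousIdeal.toIdeal ⊔ Ideal.span {f} ≤
      (HomogeneousIdeal.irrelevant 𝒜).toIdeal :=
    sup_le (toIdeal_lt_irrelevant hmax x).le ((Ideal.span_singleton_le_iff_mem _).mpr hfi)
  have := hmax.isPrime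
  obtain ⟨q, hq, hqz⟩ := Ideal.exists_minimalPrimes_le hIz
  have hqh : q.IsHomogeneous 𝒜 := isHomogeneous_of_mem_minimalPrimes 𝒜
    (isHomogeneous_sup_span x {f} (by simpa using hf)) hq
  have hdim := ringKrullDim_quotient_add_one_of_mem_minimalPrimes (k := k)
      x.asHomogeneousIdeal.toIdeal q f hfx hq
  have hrel : ¬ (HomogeneousIdeal.irrelevant 𝒜).toIdeal ≤ q := by
    intro h
    have e : q = (HomogeneousIdeal.irrelevant 𝒜).toIdeal := le_antisymm hqz h
    rw [e, ringKrullDim_quotient_irrelevant hmax, ← coe_pdim_add_one hmax x] at hdim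
    have : ((0 + 1 : ℕ) : WithBot ℕ∞) = ((pdim x + 1 : ℕ) : WithBot ℕ∞) := by
      push_cast
      exact hdim
    have : 0 + 1 = pdim x + 1 := by exact_mod_cast this
    omega
  have hfq : f ∈ q := hq.1.2 (Ideal.mem_sup_right (Ideal.mem_span_singleton_self f))
  refine ⟨mkPt q hq.1.1 hqh hrel, ?_, hfq, ?_⟩
  · rw [lt_iff_toIdeal_lt]
    refine lt_of_le_of_ne (le_sup_left.trans hq.1.2) ?_
    intro h
    apply hfx
    rw [h]
    exact hfq
  · exact pdim_add_one_eq_of_ringKrullDim hmax hdim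

/-- (b'): a point of nonzero `pdim` has a specialization with `pdim` one less. -/
theorem exists_gt_pdim_add_one {x : ProjectiveSpectrum 𝒜} (hx : pdim x ≠ 0) :
    ∃ y : ProjectiveSpectrum 𝒜, x < y ∧ pdim y + 1 = pdim x := by
  obtain ⟨f, hf, hfi, hfx⟩ := exists_homogeneous_mem_irrelevant_notMem x
  obtain ⟨y, h1, -, h2⟩ := exists_gt_of_pdim_ne_zero hmax hf hfi hfx hx
  exact ⟨y, h1, h2⟩

/-- V2': `r` hypersurfaces meet a point of `pdim ≥ r`. -/
theorem exists_ge_of_card_le_pdim {x : ProjectiveSpectrum 𝒜} (s : Finset A)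
    (hs : ∀ f ∈ s, SetLike.IsHomogeneousElem 𝒜 f)
    (hsi : ∀ f ∈ s, f ∈ (HomogeneousIdeal.irrelevant 𝒜).toIdeal) (hcard : s.card ≤ pdim x) :
    ∃ y : ProjectiveSpectrum 𝒜, x ≤ y ∧ ∀ f ∈ s, f ∈ y.asHomogeneousIdeal.toIdeal := by
  have hIz : x.asHomogeneousIdeal.toIdeal ⊔ Ideal.span (s : Set A) ≤
      (HomogeneousIdeal.irrelevant 𝒜).toIdeal :=
    sup_le (toIdeal_lt_irrelevant hmax x).le (Ideal.span_le.mpr fun f hf => hsi f hf)
  have := hmax.isPrime
  obtain ⟨q, hq, hqz⟩ := Ideal.exists_minimalPrimes_le hIz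
  have hqh : q.IsHomogeneous 𝒜 := isHomogeneous_of_mem_minimalPrimes 𝒜
    (isHomogeneous_sup_span x (s : Set A) (fun f hf => hs f hf)) hq
  have hdim := ringKrullDim_quotient_le_of_mem_minimalPrimes (k := k)
      x.asHomogeneousIdeal.toIdeal q s hq
  have hrel : ¬ (HomogeneousIdeal.irrelevant 𝒜).toIdeal ≤ q := by
    intro h
    have e : q = (HomogeneousIdeal.irrelevant 𝒜).toIdeal := le_antisymm hqz h
    rw [e, ringKrullDim_quotient_irrelevant hmax, ← coe_pdim_add_one hmax x] at hdim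
    have : ((pdim x + 1 : ℕ) : WithBot ℕ∞) ≤ ((0 + s.card : ℕ) : WithBot ℕ∞) := by
      push_cast
      exact hdim
    have : pdim x + 1 ≤ 0 + s.card := by exact_mod_cast this
    omega
  refine ⟨mkPt q hq.1.1 hqh hrel, ?_, ?_⟩
  · rw [le_iff_toIdeal_le]
    exact le_sup_left.trans hq.1.2
  · intro f hf
    exact hq.1.2 (Ideal.mem_sup_right (Ideal.subset_span hf))

/-- V3: minimal points over a hypersurface section. -/
theorem pdim_add_one_of_minimal {x y : ProjectiveSpectrum 𝒜} {f : A}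
    (hf : SetLike.IsHomogeneousElem 𝒜 f) (hfx : f ∉ x.asHomogeneousIdeal.toIdeal)
    (hxy : x ≤ y) (hfy : f ∈ y.asHomogeneousIdeal.toIdeal)
    (hmin : ∀ w : ProjectiveSpectrum 𝒜, x ≤ w → f ∈ w.asHomogeneousIdeal.toIdeal → w ≤ y →
      w = y) : pdim y + 1 = pdim x := by
  obtain ⟨w, h1, h2, h3, h4⟩ := exists_between_pdim hmax hxy hf hfy hfx
  rw [← hmin w h1.le h3 h2]
  exact h4

/-- V3': minimal points over an intersection of `r` hypersurfaces. -/
theorem pdim_le_of_minimal {x y : ProjectiveSpectrum 𝒜} (s : Finset A)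
    (hs : ∀ f ∈ s, SetLike.IsHomogeneousElem 𝒜 f)
    (hxy : x ≤ y) (hsy : ∀ f ∈ s, f ∈ y.asHomogeneousIdeal.toIdeal)
    (hmin : ∀ w : ProjectiveSpectrum 𝒜, x ≤ w → (∀ f ∈ s, f ∈ w.asHomogeneousIdeal.toIdeal) →
      w ≤ y → w = y) : pdim x ≤ pdim y + s.card := by
  have hIz : x.asHomogeneousIdeal.toIdeal ⊔ Ideal.span (s : Set A) ≤
      y.asHomogeneousIdeal.toIdeal :=
    sup_le (le_iff_toIdeal_le.mp hxy) (Ideal.span_le.mpr fun f hf => hsy f hf)
  obtain ⟨q, hq, hqz⟩ := Ideal.exists_minimalPrimes_le hIz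
  have hqh : q.IsHomogeneous 𝒜 := isHomogeneous_of_mem_minimalPrimes 𝒜
    (isHomogeneous_sup_span x (s : Set A) (fun f hf => hs f hf)) hq
  have hrel : ¬ (HomogeneousIdeal.irrelevant 𝒜).toIdeal ≤ q :=
    fun h => y.not_irrelevant_le (h.trans hqz)
  have hw := hmin (mkPt q hq.1.1 hqh hrel)
    (by rw [le_iff_toIdeal_le]; exact le_sup_left.trans hq.1.2)
    (fun f hf => hq.1.2 (Ideal.mem_sup_right (Ideal.subset_span hf)))
    (by rw [le_iff_toIdeal_le]; exact hqz)
  have hdim := ringKrullDim_quotient_le_of_mem_minimalPrimes (k := k)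
      x.asHomogeneousIdeal.toIdeal q s hq
  have e : q = y.asHomogeneousIdeal.toIdeal := by
    rw [← hw]; rfl
  rw [e, ← coe_pdim_add_one hmax x, ← coe_pdim_add_one hmax y] at hdim
  have : ((pdim x + 1 : ℕ) : WithBot ℕ∞) ≤ ((pdim y + 1 + s.card : ℕ) : WithBot ℕ∞) := by
    push_cast
    exact hdim
  have : pdim x + 1 ≤ pdim y + 1 + s.card := by exact_mod_cast this
  omega

end Max

end Groth.Agent.Lib.Helper93.ProjDim
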