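import Mathlib
import Groth.Prelude.Def_CohB1
import Groth.Agent.Lib.Helper93.ProjDimA
import Groth.Agent.Lib.Helper93.ProjDimB

set_option autoImplicit false
open AlgebraicGeometry TopologicalSpace Topology Order
open Groth.Agent.Lib.Helper73

namespace Groth.Agent.Lib.Helper93.ProjDim

universe u
variable (n : ℕ) (k : Type u) [Field k]

local notation "S" => MvPolynomial (Fin (n + 1)) k
local notation "𝒫" => CohB1.polyGrading n k

theorem proj_eq_homogeneousComponent (i : ℕ) (a : S) :
    GradedRing.proj 𝒫 i a = MvPolynomial.homogeneousComponent i a := by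
  rw [GradedRing.proj_apply]
  exact MvPolynomial.decomposition.decompose'_apply a i

theorem mem_irrelevant_iff (a : S) :
    a ∈ (HomogeneousIdeal.irrelevant 𝒫).toIdeal ↔ MvPolynomial.constantCoeff a = 0 := by
  change GradedRing.proj 𝒫 0 a = 0 ↔ _
  rw [proj_eq_homogeneousComponent, MvPolynomial.homogeneousComponent_zero]
  simp [MvPolynomial.constantCoeff_eq]

theorem irrelevant_eq_ker :
    (HomogeneousIdeal.irrelevant 𝒫).toIdeal =
      RingHom.ker (MvPolynomial.constantCoeff : S →+* k) := by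
  ext a
  rw [mem_irrelevant_iff, RingHom.mem_ker]

theorem irrelevant_isMaximal : (HomogeneousIdeal.irrelevant 𝒫).toIdeal.IsMaximal := by
  rw [irrelevant_eq_ker]
  exact RingHom.ker_isMaximal_of_surjective _ (fun c => ⟨MvPolynomial.C c, by simp⟩)

theorem X_mem_irrelevant (i : Fin (n + 1)) :
    (MvPolynomial.X i : S) ∈ (HomogeneousIdeal.irrelevant 𝒫).toIdeal := by
  rw [mem_irrelevant_iff]; simp

theorem isHomogeneousElem_iff (f : S) :
    SetLike.IsHomogeneousElem 𝒫 f ↔ ∃ d, f.IsHomogeneous d := by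
  constructor
  · rintro ⟨d, hd⟩; exact ⟨d, (MvPolynomial.mem_homogeneousSubmodule d f).mp hd⟩
  · rintro ⟨d, hd⟩; exact ⟨d, (MvPolynomial.mem_homogeneousSubmodule d f).mpr hd⟩

/-- The generic point of projective space. -/
noncomputable def zeroPt : ProjectiveSpectrum 𝒫 :=
  mkPt ⊥ Ideal.isPrime_bot (Ideal.IsHomogeneous.bot 𝒫) (by
    intro h
    have := h (X_mem_irrelevant n k 0)
    rw [Ideal.mem_bot] at this
    exact MvPolynomial.X_ne_zero _ this)

theorem zeroPt_le (y : ProjectiveSpectrum 𝒫) : zeroPt n k ≤ y := by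
  rw [le_iff_toIdeal_le]
  exact bot_le

theorem pdim_zeroPt : pdim (zeroPt n k) = n := by
  have h := coe_pdim_add_one (k := k) (irrelevant_isMaximal n k) (zeroPt n k)
  have e1 : ringKrullDim (S ⧸ (⊥ : Ideal S)) = ringKrullDim S :=
    ringKrullDim_eq_of_ringEquiv (RingEquiv.quotientBot S)
  have e2 : ringKrullDim S = ((n + 1 : ℕ) : WithBot ℕ∞) := ringKrullDim_mvPolynomial_field k (n + 1)
  change _ = ringKrullDim (S ⧸ (⊥ : Ideal S)) at h
  rw [e1, e2] at h
  have : ((pdim (zeroPt n k) + 1 : ℕ) : WithBot ℕ∞) = ((n + 1 : ℕ) : WithBot ℕ∞) := by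
    push_cast
    push_cast at h
    exact h
  have : pdim (zeroPt n k) + 1 = n + 1 := by exact_mod_cast this
  omega

theorem pdim_anti : ∀ x y : ProjectiveSpectrum 𝒫, x < y → pdim y < pdim x :=
  fun _ _ h => pdim_lt_of_lt (k := k) (irrelevant_isMaximal n k) h

theorem pdim_step : ∀ x : ProjectiveSpectrum 𝒫, pdim x ≠ 0 → ∃ y, x < y ∧ pdim y + 1 = pdim x :=
  fun _ h => exists_gt_pdim_add_one (k := k) (irrelevant_isMaximal n k) h

theorem pdim_le (y : ProjectiveSpectrum 𝒫) : pdim y ≤ n := by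
  have h := pdim_le_of_le (k := k) (irrelevant_isMaximal n k) (zeroPt_le n k y)
  rwa [pdim_zeroPt n k] at h

end Groth.Agent.Lib.Helper93.ProjDim
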