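import Mathlib
import Groth.Prelude.Def_CohB1
import Groth.Agent.Lib.Helper93.ProjDimC
import Groth.Agent.Lib.Helper93.ProjDimB
import Groth.Agent.Lib.Helper93.ProjAvoid

set_option autoImplicit false
open AlgebraicGeometry TopologicalSpace Topology Order

namespace Groth.Agent.Lib.Helper93.ProjAvoid

open Groth.Agent.Lib.Helper93.ProjDim

universe u
variable (n : ℕ) (k : Type u) [Field k]

local notation "S" => MvPolynomial (Fin (n + 1)) k
local notation "𝒢" => CohB1.polyGrading n k

/-- Hypersurfaces through `Y` cutting down the dimension of `X ∖ Y`. -/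
theorem exists_hypersurfaces (X Y : Set (ProjectiveSpectrum 𝒢)) (hX : IsClosed X)
    (hY : IsClosed Y) (r : ℕ) (hr : ∀ x ∈ X, pdim x ≤ r) :
    ∀ s : ℕ, s ≤ r + 1 → ∃ h : Fin s → S,
      (∀ j, ∃ d : ℕ, 0 < d ∧ h j ∈ 𝒢 d) ∧
      (∀ j, ∀ y ∈ Y, h j ∈ y.asHomogeneousIdeal.toIdeal) ∧
      ∀ x ∈ X, x ∉ Y → (∀ j, h j ∈ x.asHomogeneousIdeal.toIdeal) → pdim x + s ≤ r := by
  have : IsNoetherianRing S := inferInstance
  have : NoetherianSpace (ProjectiveSpectrum 𝒢) := noetherianSpace_projectiveSpectrum 𝒢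
  intro s
  induction s with
  | zero =>
    intro _
    exact ⟨Fin.elim0, fun j => j.elim0, fun j => j.elim0, fun x hx _ _ => by simpa using hr x hx⟩
  | succ s ih =>
    intro hs
    obtain ⟨h, h1, h2, h3⟩ := ih (by omega)
    -- the closed set `Z = X ∩ V(h)`
    let Z : Set (ProjectiveSpectrum 𝒢) := X ∩ ⋂ j, ProjectiveSpectrum.zeroLocus 𝒢 {h j}
    have hZ : IsClosed Z :=
      hX.inter (isClosed_iInter fun j => ProjectiveSpectrum.isClosed_zeroLocus 𝒢 _)
    have hmemZ : ∀ x, x ∈ Z ↔ x ∈ X ∧ ∀ j, h j ∈ x.asHomogeneousIdeal.toIdeal := by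
      intro x
      simp only [Z, Set.mem_inter_iff, Set.mem_iInter, ProjectiveSpectrum.mem_zeroLocus,
        Set.singleton_subset_iff]
      rfl
    have hfin := finite_maximal_points hZ
    let M : Set (ProjectiveSpectrum 𝒢) := {x | x ∈ Z ∧ ∀ x' ∈ Z, x' ⤳ x → x' = x}
    have hM' : (M \ Y).Finite := hfin.subset Set.sdiff_subset
    let J : HomogeneousIdeal 𝒢 := ProjectiveSpectrum.vanishingIdeal Y
    have hJY : ∀ x, x ∉ Y → ¬ J.toIdeal ≤ x.asHomogeneousIdeal.toIdeal := by
      intro x hx hle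
      apply hx
      rw [← hY.closure_eq, ← ProjectiveSpectrum.zeroLocus_vanishingIdeal_eq_closure]
      exact hle
    classical
    obtain ⟨g, hgJ, d, hd, hgd, hg⟩ := exists_homogeneous_notMem 𝒢 J.toIdeal hM'.toFinset
      (fun x => x.asHomogeneousIdeal.toIdeal) (fun x _ => x.isPrime)
      (fun x hx => exists_pos_homogeneous_notMem 𝒢 J x
        (hJY x ((Set.Finite.mem_toFinset hM').mp hx).2))
    refine ⟨Fin.snoc h g, ?_, ?_, ?_⟩
    · intro j
      refine Fin.lastCases ?_ (fun i => ?_) j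
      · rw [Fin.snoc_last]; exact ⟨d, hd, hgd⟩
      · rw [Fin.snoc_castSucc]; exact h1 i
    · intro j y hy
      refine Fin.lastCases ?_ (fun i => ?_) j
      · rw [Fin.snoc_last]
        have : J ≤ y.asHomogeneousIdeal := by
          have := ProjectiveSpectrum.vanishingIdeal_anti_mono 𝒢 (Set.singleton_subset_iff.mpr hy)
          rwa [ProjectiveSpectrum.vanishingIdeal_singleton] at this
        exact this hgJ
      · rw [Fin.snoc_castSucc]; exact h2 i y hy
    · intro x hxX hxY hxh
      have hxh' : ∀ j, h j ∈ x.asHomogeneousIdeal.toIdeal := fun i => by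
        have := hxh i.castSucc
        rwa [Fin.snoc_castSucc] at this
      have hxg : g ∈ x.asHomogeneousIdeal.toIdeal := by
        have := hxh (Fin.last s)
        rwa [Fin.snoc_last] at this
      have hle := h3 x hxX hxY hxh'
      by_contra hcon
      have heq : pdim x + s = r := by omega
      have hxM : x ∈ M \ Y := by
        refine ⟨⟨(hmemZ x).mpr ⟨hxX, hxh'⟩, ?_⟩, hxY⟩
        intro x' hx'Z hx'x
        by_contra hne
        have hlt : x' < x := lt_of_le_of_ne (specializes_iff_le.mp hx'x) hne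
        have hpd := pdim_anti n k x' x hlt
        have hx'Y : x' ∉ Y := by
          intro hx'Y
          exact hxY (hx'x.mem_closed hY hx'Y)
        have := h3 x' ((hmemZ x').mp hx'Z).1 hx'Y ((hmemZ x').mp hx'Z).2
        omega
      exact hg x ((Set.Finite.mem_toFinset hM').mpr hxM) hxg

end Groth.Agent.Lib.Helper93.ProjAvoid
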