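import Mathlib
import Groth.Prelude.Def_CohB1
import Groth.Agent.Lib.Helper93.ProjDimC
import Groth.Agent.Lib.Helper93.ProjDimB
import Groth.Agent.Lib.Helper93.ProjAvoid
import Groth.Agent.Lib.Helper93.ProjAvoid2
import Groth.Agent.Lib.Helper73.DimFT.DimFun

set_option autoImplicit false
open AlgebraicGeometry TopologicalSpace Topology Order

namespace Groth.Agent.Lib.Helper93.ProjAvoid

open Groth.Agent.Lib.Helper93.ProjDim
open Groth.Agent.Lib.Helper73

universe u
variable (n : ℕ) (k : Type u) [Field k]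

local notation "S" => MvPolynomial (Fin (n + 1)) k
local notation "𝒢" => CohB1.polyGrading n k

/-- A strictly larger point contains a homogeneous element not in the smaller one. -/
theorem exists_homogeneous_mem_notMem {x y : ProjectiveSpectrum 𝒢} (hxy : x < y) :
    ∃ f : S, SetLike.IsHomogeneousElem 𝒢 f ∧ f ∈ y.asHomogeneousIdeal.toIdeal ∧
      f ∉ x.asHomogeneousIdeal.toIdeal := by
  have hlt : x.asHomogeneousIdeal.toIdeal < y.asHomogeneousIdeal.toIdeal :=
    lt_iff_toIdeal_lt.mp hxy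
  obtain ⟨g, hgy, hgx⟩ := SetLike.exists_of_lt hlt
  have hxh : x.asHomogeneousIdeal.toIdeal.IsHomogeneous 𝒢 := x.asHomogeneousIdeal.isHomogeneous
  rw [hxh.mem_iff] at hgx
  push Not at hgx
  obtain ⟨i, hi⟩ := hgx
  exact ⟨_, ⟨i, SetLike.coe_mem _⟩, y.asHomogeneousIdeal.isHomogeneous i hgy, hi⟩

/-- Jacobson-type step: a point of positive dimension in a basic open has an immediate
specialization in the same basic open. -/
theorem exists_gt_notMem {x : ProjectiveSpectrum 𝒢} {f : S}
    (hfx : f ∉ x.asHomogeneousIdeal.toIdeal) (hx : pdim x ≠ 0) :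
    ∃ y : ProjectiveSpectrum 𝒢, x < y ∧ f ∉ y.asHomogeneousIdeal.toIdeal ∧
      pdim y + 1 = pdim x := by
  have : IsNoetherianRing S := inferInstance
  have : NoetherianSpace (ProjectiveSpectrum 𝒢) := noetherianSpace_projectiveSpectrum 𝒢
  have hmax := irrelevant_isMaximal n k
  let Z : Set (ProjectiveSpectrum 𝒢) :=
    closure {x} ∩ ProjectiveSpectrum.zeroLocus 𝒢 {f}
  have hZ : IsClosed Z := isClosed_closure.inter (ProjectiveSpectrum.isClosed_zeroLocus 𝒢 _)
  have hmemZ : ∀ z, z ∈ Z ↔ x ≤ z ∧ f ∈ z.asHomogeneousIdeal.toIdeal := by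
    intro z
    simp only [Z, Set.mem_inter_iff, mem_closure_singleton_iff, ProjectiveSpectrum.mem_zeroLocus,
      Set.singleton_subset_iff]
    rfl
  have hfin := finite_maximal_points hZ
  let T : Set (ProjectiveSpectrum 𝒢) :=
    {z | x < z ∧ f ∈ z.asHomogeneousIdeal.toIdeal ∧ pdim z + 1 = pdim x}
  have hT : T.Finite := by
    refine hfin.subset ?_
    rintro z ⟨hxz, hfz, hpz⟩
    refine ⟨(hmemZ z).mpr ⟨hxz.le, hfz⟩, ?_⟩
    intro z' hz' hz'z
    obtain ⟨hxz', hfz'⟩ := (hmemZ z').mp hz'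
    have hxz'' : x < z' := by
      refine lt_of_le_of_ne hxz' ?_
      rintro rfl
      exact hfx hfz'
    have h1 := pdim_anti n k x z' hxz''
    by_contra hne
    have hlt : z' < z := lt_of_le_of_ne (specializes_iff_le.mp hz'z) hne
    have h2 := pdim_anti n k z' z hlt
    omega
  classical
  let P : Finset (ProjectiveSpectrum 𝒢) := insert x hT.toFinset
  obtain ⟨g, hgJ, d, hd, hgd, hg⟩ := exists_homogeneous_notMem 𝒢
    (HomogeneousIdeal.irrelevant 𝒢).toIdeal P
    (fun z => z.asHomogeneousIdeal.toIdeal) (fun z _ => z.isPrime)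
    (fun z _ => exists_pos_homogeneous_notMem 𝒢 (HomogeneousIdeal.irrelevant 𝒢) z
      z.not_irrelevant_le)
  have hgx : g ∉ x.asHomogeneousIdeal.toIdeal := hg x (Finset.mem_insert_self _ _)
  obtain ⟨y, hxy, hgy, hpy⟩ := exists_gt_of_pdim_ne_zero (k := k) hmax ⟨d, hgd⟩ hgJ hgx hx
  refine ⟨y, hxy, ?_, hpy⟩
  intro hfy
  have hyT : y ∈ T := ⟨hxy, hfy, hpy⟩
  exact hg y (Finset.mem_insert_of_mem ((Set.Finite.mem_toFinset hT).mpr hyT)) hgy

/-- `pdim` is a dimension function on projective space. -/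
theorem isDimFun_pdim : IsDimFun (pdim : ProjectiveSpectrum 𝒢 → ℕ) where
  lt_of_specializes := by
    intro x y hxy hne
    exact pdim_anti n k x y (lt_of_le_of_ne (specializes_iff_le.mp hxy) hne)
  eq_add_one_of_immediate := by
    intro x y hxy hne himm
    have hlt : x < y := lt_of_le_of_ne (specializes_iff_le.mp hxy) hne
    obtain ⟨f, hf, hfy, hfx⟩ := exists_homogeneous_mem_notMem n k hlt
    obtain ⟨w, hxw, hwy, -, hpw⟩ := exists_between_pdim (k := k) (irrelevant_isMaximal n k)
      hlt.le hf hfy hfx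
    rcases himm w (specializes_iff_le.mpr hxw.le) (specializes_iff_le.mpr hwy) with e | e
    · exact absurd e hxw.ne'
    · rw [← e]; exact hpw.symm
  exists_specializes_of_ne_zero := by
    intro x W hW hxW h0
    obtain ⟨_, ⟨f, rfl⟩, hxf, hfW⟩ :=
      (ProjectiveSpectrum.isTopologicalBasis_basic_opens 𝒢).exists_subset_of_mem_open hxW hW
    have hfx : f ∉ x.asHomogeneousIdeal.toIdeal := hxf
    obtain ⟨y, hxy, hfy, -⟩ := exists_gt_notMem n k hfx h0
    exact ⟨y, hfW hfy, specializes_iff_le.mpr hxy.le, hxy.ne'⟩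

/-- A locally closed subset of projective space with a generic point and of dimension `r`
is covered by `r + 1` basic opens `D₊(h i)` each of which meets its closure only inside the
subset. -/
theorem exists_hypersurfaces_of_isLocallyClosed (R : Set (ProjectiveSpectrum 𝒢))
    (hR : IsLocallyClosed R) (η : ProjectiveSpectrum 𝒢) (hη : η ∈ R) (hRη : R ⊆ closure {η})
    (r : ℕ) (hdim : topologicalKrullDim ↥R = r) :
    ∃ h : Fin (r + 1) → S,
      (∀ i, ∃ d : ℕ, 0 < d ∧ h i ∈ 𝒢 d) ∧
      (∀ x ∈ R, ∃ i, h i ∉ x.asHomogeneousIdeal.toIdeal) ∧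
      (∀ i, ∀ x ∈ closure R, h i ∉ x.asHomogeneousIdeal.toIdeal → x ∈ R) := by
  have hmax := irrelevant_isMaximal n k
  obtain ⟨W, Z0, hW, hZ0, heq0⟩ := hR
  have hηcl : closure ({η} : Set (ProjectiveSpectrum 𝒢)) = closure R := by
    apply subset_antisymm
    · exact closure_mono (Set.singleton_subset_iff.mpr hη)
    · exact closure_minimal hRη isClosed_closure
  have hrange : R = W ∩ closure {η} := by
    rw [hηcl]
    apply subset_antisymm
    · intro x hx
      refine ⟨?_, subset_closure hx⟩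
      rw [heq0] at hx
      exact hx.1
    · rintro x ⟨hxW, hxc⟩
      rw [heq0]
      refine ⟨hxW, ?_⟩
      have : closure R ⊆ Z0 := by
        rw [heq0]
        exact closure_minimal Set.inter_subset_right hZ0
      exact this hxc
  have hηW : η ∈ W := by
    rw [hrange] at hη
    exact hη.1
  have hdim2 := (isDimFun_pdim n k).topologicalKrullDim_inter_closure_singleton hW hηW
  have hpη : pdim η = r := by
    rw [← hrange, hdim] at hdim2
    exact_mod_cast hdim2.symm
  have hr : ∀ x ∈ closure ({η} : Set (ProjectiveSpectrum 𝒢)), pdim x ≤ r := by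
    intro x hx
    rw [← hpη]
    exact pdim_le_of_le (k := k) hmax (mem_closure_singleton_iff.mp hx)
  obtain ⟨h, h1, h2, h3⟩ := exists_hypersurfaces n k
    (closure {η}) (closure {η} ∩ Wᶜ) isClosed_closure (isClosed_closure.inter hW.isClosed_compl)
    r hr (r + 1) le_rfl
  refine ⟨h, h1, ?_, ?_⟩
  · intro x hx
    rw [hrange] at hx
    by_contra hcon
    push Not at hcon
    have := h3 _ hx.2 (fun hxY => hxY.2 hx.1) hcon
    omega
  · intro i x hx hi
    rw [← hηcl] at hx
    rw [hrange]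
    refine ⟨?_, hx⟩
    by_contra hxW
    exact hi (h2 i _ ⟨hx, hxW⟩)

end Groth.Agent.Lib.Helper93.ProjAvoid
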