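import Mathlib
import Groth.Agent.Lib.Helper73.DimFT.Catenary

set_option autoImplicit false
open Groth.Agent.Lib.Helper73

namespace Groth.Agent.Lib.Helper93.DimThm

open MvPolynomial TensorProduct

attribute [local instance] MvPolynomial.algebraMvPolynomial

section Flat

variable {k : Type*} [Field k] {σ : Type*} (A : Type*) [CommRing A] [Algebra k A]

theorem flat_mvPolynomial : Module.Flat (MvPolynomial σ k) (MvPolynomial σ A) := by
  have e := Algebra.IsPushout.equiv k (MvPolynomial σ k) A (MvPolynomial σ A)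
  exact Module.Flat.of_linearEquiv e.toLinearEquiv.symm

end Flat

section GoingDown

variable {R T : Type*} [CommRing R] [CommRing T] [Algebra R T] [Algebra.HasGoingDown R T]

theorem under_eq_of_mem_minimalPrimes_map (Q : Ideal R) [hQ : Q.IsPrime] {q : Ideal T}
    (hq : q ∈ (Q.map (algebraMap R T)).minimalPrimes) : q.under R = Q := by
  have hqp : q.IsPrime := hq.1.1
  have hle : Q ≤ q.under R := Ideal.map_le_iff_le_comap.mp hq.1.2
  have : q.LiesOver (q.under R) := ⟨rfl⟩
  obtain ⟨q', hq'le, hq'p, hq'lo⟩ := Ideal.exists_ideal_le_liesOver_of_le q (p := Q)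
    (q := q.under R) hle
  have hQq' : Q.map (algebraMap R T) ≤ q' := by
    rw [Ideal.map_le_iff_le_comap]
    exact (hq'lo.over).le
  have : q ≤ q' := hq.2 ⟨hq'p, hQq'⟩ hq'le
  have e : q = q' := le_antisymm this hq'le
  rw [e]
  exact (hq'lo.over).symm

theorem height_le_of_mem_minimalPrimes_map [IsNoetherianRing R] [IsNoetherianRing T] (Q : Ideal R) [hQ : Q.IsPrime]
    {q : Ideal T} (hq : q ∈ (Q.map (algebraMap R T)).minimalPrimes) : q.height ≤ Q.height := by
  have hqp : q.IsPrime := hq.1.1
  have : q.LiesOver Q := ⟨(under_eq_of_mem_minimalPrimes_map Q hq).symm⟩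
  have h1 := Ideal.height_le_height_add_of_liesOver Q q
  have hsurj : Function.Surjective (Ideal.Quotient.mk (Q.map (algebraMap R T))) :=
    Ideal.Quotient.mk_surjective
  have hmem : q.map (Ideal.Quotient.mk (Q.map (algebraMap R T))) ∈
      minimalPrimes (T ⧸ Q.map (algebraMap R T)) := by
    have := Ideal.minimalPrimes_map_of_surjective hsurj (Q.map (algebraMap R T))
    rw [Ideal.map_quotient_self, Ideal.mk_ker, sup_idem] at this
    change _ ∈ (⊥ : Ideal (T ⧸ Q.map (algebraMap R T))).minimalPrimes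
    rw [this]
    exact ⟨q, hq, rfl⟩
  have hp : (q.map (Ideal.Quotient.mk (Q.map (algebraMap R T)))).IsPrime := hmem.1.1
  have h0 : (q.map (Ideal.Quotient.mk (Q.map (algebraMap R T)))).height = 0 :=
    Ideal.height_eq_zero_iff.mpr hmem
  rw [h0, add_zero] at h1
  exact h1

end GoingDown

section Krull

variable (k : Type*) [Field k] {B : Type*} [CommRing B] [Algebra k B] [Algebra.FiniteType k B]

include k in
/-- Krull's height theorem + dimension formula (universe general version). -/
theorem ringKrullDim_quotient_le_of_mem_minimalPrimes' (x q : Ideal B) [hx : x.IsPrime]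
    (s : Finset B) (hq : q ∈ (x ⊔ Ideal.span (s : Set B)).minimalPrimes) :
    ringKrullDim (B ⧸ x) ≤ ringKrullDim (B ⧸ q) + (s.card : WithBot ℕ∞) := by
  classical
  have hqp : q.IsPrime := hq.1.1
  have hxq : x ≤ q := le_sup_left.trans hq.1.2
  let mk := Ideal.Quotient.mk x
  have hsurj : Function.Surjective mk := Ideal.Quotient.mk_surjective
  have hq' : q.map mk ∈ (Ideal.span ((s.image mk : Finset (B ⧸ x)) : Set (B ⧸ x))).minimalPrimes := by
    have := Ideal.minimalPrimes_map_of_surjective hsurj (Ideal.span (s : Set B))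
    rw [Ideal.map_span] at this
    rw [Finset.coe_image, this]
    refine ⟨q, ?_, rfl⟩
    rw [Ideal.mk_ker, sup_comm]
    exact hq
  have hq'p : (q.map mk).IsPrime := hq'.1.1
  have hA : IsNoetherianRing B := Algebra.FiniteType.isNoetherianRing k B
  have hle1 : (q.map mk).height ≤ (s.image mk).card :=
    Ideal.height_le_card_of_mem_minimalPrimes_span_finset hq'
  have hle2 : (q.map mk).height ≤ (s.card : ℕ∞) :=
    hle1.trans (by exact_mod_cast Finset.card_image_le)
  have h2 := height_add_ringKrullDim_quotient k (q.map mk)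
  rw [← h2, ringKrullDim_eq_of_ringEquiv (DoubleQuot.quotQuotEquivQuotOfLE hxq), add_comm]
  gcongr
  exact_mod_cast hle2

end Krull

section Main

variable {k : Type*} [Field k] {σ : Type*} [Fintype σ]

local notation "S" => MvPolynomial σ k

/-- Core of the affine dimension theorem, with the first quotient abstracted to avoid instance
diamonds. -/
theorem ringKrullDim_add_le_of_surjective {A : Type*} [CommRing A] [IsDomain A] [Algebra k A]
    [Algebra.FiniteType k A] (π : S →ₐ[k] A) (hπ : Function.Surjective π)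
    (Q r : Ideal S) [hQ : Q.IsPrime]
    (hr : r ∈ (RingHom.ker (π : S →+* A) ⊔ Q).minimalPrimes) :
    ringKrullDim A + ringKrullDim (S ⧸ Q) ≤
      ringKrullDim (S ⧸ r) + (Fintype.card σ : WithBot ℕ∞) := by
  classical
  have hrp : r.IsPrime := hr.1.1
  have hPr : RingHom.ker (π : S →+* A) ≤ r := le_sup_left.trans hr.1.2
  have hQr : Q ≤ r := le_sup_right.trans hr.1.2
  let R₁ := MvPolynomial σ A
  have hflat : Module.Flat S R₁ := flat_mvPolynomial (k := k) (σ := σ) A
  have hFT : Algebra.FiniteType k R₁ :=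
    Algebra.FiniteType.trans (inferInstance : Algebra.FiniteType k A)
      (inferInstance : Algebra.FiniteType A R₁)
  have hN1 : IsNoetherianRing R₁ := Algebra.FiniteType.isNoetherianRing k R₁
  have hNS : IsNoetherianRing S := inferInstance
  let xb : σ → A := fun i => π (X i)
  let ψ₀ : A →+* S ⧸ r :=
    (π : S →+* A).liftOfSurjective hπ ⟨Ideal.Quotient.mk r, by rw [Ideal.mk_ker]; exact hPr⟩
  have hψ₀ : ∀ a : S, ψ₀ (π a) = Ideal.Quotient.mk r a := fun a =>
    RingHom.liftOfSurjective_comp_apply (π : S →+* A) hπ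
      ⟨Ideal.Quotient.mk r, by rw [Ideal.mk_ker]; exact hPr⟩ a
  let ψ : R₁ →+* S ⧸ r := eval₂Hom ψ₀ (fun i => Ideal.Quotient.mk r (X i))
  have hψC : ∀ a : A, ψ (C a) = ψ₀ a := fun a => eval₂Hom_C _ _ a
  have hψX : ∀ i : σ, ψ (X i) = Ideal.Quotient.mk r (X i) := fun i => eval₂Hom_X' _ _ i
  have hπC : ∀ c : k, π (C c) = algebraMap k A c := fun c => π.commutes c
  have hφC : ∀ c : k, algebraMap S R₁ (C c) = C (algebraMap k A c) := fun c => by
    rw [algebraMap_def, map_C]
  have hφX : ∀ i : σ, algebraMap S R₁ (X i) = X i := fun i => by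
    rw [algebraMap_def, map_X]
  have hψφ : ∀ a : S, ψ (algebraMap S R₁ a) = Ideal.Quotient.mk r a := by
    intro a
    have : ψ.comp (algebraMap S R₁) = Ideal.Quotient.mk r := by
      apply MvPolynomial.ringHom_ext
      · intro c
        rw [RingHom.comp_apply, hφC, hψC]
        rw [← hπC, hψ₀]
      · intro i
        rw [RingHom.comp_apply, hφX, hψX]
    exact congrArg (fun f => f a) this
  have hψsurj : Function.Surjective ψ := by
    intro y
    obtain ⟨a, rfl⟩ := Ideal.Quotient.mk_surjective y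
    exact ⟨algebraMap S R₁ a, hψφ a⟩
  let r₁ : Ideal R₁ := RingHom.ker ψ
  have hr₁p : r₁.IsPrime := RingHom.ker_isPrime ψ
  let D : Finset R₁ := Finset.univ.image (fun i : σ => X i - C (xb i))
  have hDcard : D.card ≤ Fintype.card σ := by
    simpa [D] using Finset.card_image_le (s := (Finset.univ : Finset σ))
      (f := fun i : σ => (X i - C (xb i) : R₁))
  have hDmem : ∀ i : σ, (X i - C (xb i) : R₁) ∈ Ideal.span (D : Set R₁) := by
    intro i
    apply Ideal.subset_span
    simp only [D, Finset.coe_image, Finset.coe_univ, Set.image_univ, Set.mem_range]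
    exact ⟨i, rfl⟩
  have hDr₁ : Ideal.span (D : Set R₁) ≤ r₁ := by
    rw [Ideal.span_le]
    intro t ht
    simp only [D, Finset.coe_image, Finset.coe_univ, Set.image_univ, Set.mem_range] at ht
    obtain ⟨i, rfl⟩ := ht
    change ψ (X i - C (xb i)) = 0
    rw [map_sub, hψX, hψC, hψ₀, sub_self]
  -- congruence modulo D
  have e1 : ∀ a : S, algebraMap S R₁ a - C (π a) ∈ Ideal.span (D : Set R₁) := by
    intro a
    induction a using MvPolynomial.induction_on with
    | C c =>
      have : algebraMap S R₁ (C c) - C (π (C c)) = 0 := by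
        rw [hφC, hπC, sub_self]
      rw [this]
      exact Ideal.zero_mem _
    | add p q hp hq =>
      have : algebraMap S R₁ (p + q) - C (π (p + q)) =
          (algebraMap S R₁ p - C (π p)) + (algebraMap S R₁ q - C (π q)) := by
        rw [map_add, map_add, map_add]; ring
      rw [this]
      exact Ideal.add_mem _ hp hq
    | mul_X p i hp =>
      have : algebraMap S R₁ (p * X i) - C (π (p * X i)) =
          (algebraMap S R₁ p - C (π p)) * X i + C (π p) * (X i - C (xb i)) := by
        rw [map_mul, map_mul, map_mul, hφX]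
        simp only [xb]
        ring
      rw [this]
      exact Ideal.add_mem _ (Ideal.mul_mem_right _ _ hp) (Ideal.mul_mem_left _ _ (hDmem i))
  have e2 : ∀ t : R₁, ∃ a : S, t - algebraMap S R₁ a ∈ Ideal.span (D : Set R₁) := by
    intro t
    induction t using MvPolynomial.induction_on with
    | C abar =>
      obtain ⟨a, rfl⟩ := hπ abar
      refine ⟨a, ?_⟩
      have := (Ideal.neg_mem_iff _).mpr (e1 a)
      rwa [neg_sub] at this
    | add p q hp hq =>
      obtain ⟨a, ha⟩ := hp
      obtain ⟨b, hb⟩ := hq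
      refine ⟨a + b, ?_⟩
      have : p + q - algebraMap S R₁ (a + b) = (p - algebraMap S R₁ a) + (q - algebraMap S R₁ b) := by
        rw [map_add]; ring
      rw [this]
      exact Ideal.add_mem _ ha hb
    | mul_X p i hp =>
      obtain ⟨a, ha⟩ := hp
      refine ⟨a * X i, ?_⟩
      have : p * X i - algebraMap S R₁ (a * X i) = (p - algebraMap S R₁ a) * X i := by
        rw [map_mul, hφX]; ring
      rw [this]
      exact Ideal.mul_mem_right _ _ ha
  -- a minimal prime over the extension of Q inside r₁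
  have hQr₁ : Q.map (algebraMap S R₁) ≤ r₁ := by
    rw [Ideal.map_le_iff_le_comap]
    intro a ha
    change ψ (algebraMap S R₁ a) = 0
    rw [hψφ, Ideal.Quotient.eq_zero_iff_mem]
    exact hQr ha
  obtain ⟨q, hq, hqr₁⟩ := Ideal.exists_minimalPrimes_le hQr₁
  have hqp : q.IsPrime := hq.1.1
  have hheight : q.height ≤ Q.height := height_le_of_mem_minimalPrimes_map Q hq
  -- r₁ is minimal over q + D
  have hr₁min : r₁ ∈ (q ⊔ Ideal.span (D : Set R₁)).minimalPrimes := by
    refine ⟨⟨hr₁p, sup_le hqr₁ hDr₁⟩, ?_⟩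
    intro s ⟨hsp, hsle⟩ hsr₁
    have hqs : q ≤ s := le_sup_left.trans hsle
    have hDs : Ideal.span (D : Set R₁) ≤ s := le_sup_right.trans hsle
    have hr₀p : (s.comap (algebraMap S R₁)).IsPrime := Ideal.comap_isPrime _ s
    have hPQ : RingHom.ker (π : S →+* A) ⊔ Q ≤ s.comap (algebraMap S R₁) := by
      refine sup_le ?_ ?_
      · intro p hp
        rw [Ideal.mem_comap]
        have h1 := hDs (e1 p)
        have hp' : π p = 0 := hp
        rw [hp', map_zero, sub_zero] at h1
        exact h1
      · intro p hp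
        rw [Ideal.mem_comap]
        exact hqs (hq.1.2 (Ideal.mem_map_of_mem _ hp))
    have hr₀r : s.comap (algebraMap S R₁) ≤ r := by
      intro a ha
      rw [Ideal.mem_comap] at ha
      have : ψ (algebraMap S R₁ a) = 0 := hsr₁ ha
      rwa [hψφ, Ideal.Quotient.eq_zero_iff_mem] at this
    have hrr₀ : r ≤ s.comap (algebraMap S R₁) := hr.2 ⟨hr₀p, hPQ⟩ hr₀r
    intro t ht
    obtain ⟨a, ha⟩ := e2 t
    have h1 : t - algebraMap S R₁ a ∈ r₁ := hsr₁ (hDs ha)
    have h2 : algebraMap S R₁ a ∈ r₁ := by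
      have := Ideal.sub_mem _ ht h1
      rwa [sub_sub_cancel] at this
    have h3 : a ∈ r := by
      have : ψ (algebraMap S R₁ a) = 0 := h2
      rwa [hψφ, Ideal.Quotient.eq_zero_iff_mem] at this
    have h4 : algebraMap S R₁ a ∈ s := hrr₀ h3
    have := Ideal.add_mem _ (hDs ha) h4
    rwa [sub_add_cancel] at this
  -- dimension count
  have E1 := ringKrullDim_quotient_le_of_mem_minimalPrimes' k q r₁ D hr₁min
  have E2 : ringKrullDim (R₁ ⧸ r₁) = ringKrullDim (S ⧸ r) :=
    ringKrullDim_eq_of_ringEquiv (RingHom.quotientKerEquivOfSurjective hψsurj)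
  have E3 := height_add_ringKrullDim_quotient k q
  have E5 := height_add_ringKrullDim_quotient k Q
  have E5' : ringKrullDim S = (Fintype.card σ : WithBot ℕ∞) := by
    rw [MvPolynomial.ringKrullDim_of_isNoetherianRing, ringKrullDim_eq_zero_of_field, zero_add,
      Nat.card_eq_fintype_card]
  have E6 : ringKrullDim A + (Fintype.card σ : WithBot ℕ∞) ≤ ringKrullDim R₁ := by
    have := ringKrullDim_add_natCard_le_ringKrullDim_mvPolynomial (R := A) σ
    rwa [Nat.card_eq_fintype_card] at this
  -- convert to naturals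
  have hQnt : Nontrivial (S ⧸ Q) := Ideal.Quotient.nontrivial_iff.mpr hQ.ne_top
  have hrnt : Nontrivial (S ⧸ r) := Ideal.Quotient.nontrivial_iff.mpr hrp.ne_top
  have hqnt : Nontrivial (R₁ ⧸ q) := Ideal.Quotient.nontrivial_iff.mpr hqp.ne_top
  obtain ⟨dA, hdA⟩ := exists_nat_ringKrullDim_eq k A
  obtain ⟨dQ, hdQ⟩ := exists_nat_ringKrullDim_eq k (S ⧸ Q)
  obtain ⟨dr, hdr⟩ := exists_nat_ringKrullDim_eq k (S ⧸ r)
  obtain ⟨dq, hdq⟩ := exists_nat_ringKrullDim_eq k (R₁ ⧸ q)
  obtain ⟨dR, hdR⟩ := exists_nat_ringKrullDim_eq k R₁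
  obtain ⟨hq', hhq'⟩ := ENat.ne_top_iff_exists.mp (Ideal.height_ne_top_of_isPrime (I := q))
  obtain ⟨hQ', hhQ'⟩ := ENat.ne_top_iff_exists.mp (Ideal.height_ne_top_of_isPrime (I := Q))
  rw [E2, hdq, hdr] at E1
  rw [hdq, hdR, ← hhq'] at E3
  rw [hdQ, E5', ← hhQ'] at E5
  rw [hdA, hdR] at E6
  rw [← hhq', ← hhQ'] at hheight
  rw [hdA, hdQ, hdr]
  have F1 : dq ≤ dr + D.card := by exact_mod_cast E1
  have F3 : hq' + dq = dR := by exact_mod_cast E3
  have F4 : hq' ≤ hQ' := by exact_mod_cast hheight
  have F5 : hQ' + dQ = Fintype.card σ := by exact_mod_cast E5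
  have F6 : dA + Fintype.card σ ≤ dR := by exact_mod_cast E6
  have : dA + dQ ≤ dr + Fintype.card σ := by omega
  exact_mod_cast this

/-- **Affine dimension theorem** (algebraic form): for primes `P`, `Q` of a polynomial ring over a
field and a minimal prime `r` over `P + Q`, `dim S/P + dim S/Q ≤ dim S/r + n`. -/
theorem ringKrullDim_quotient_add_le (P Q r : Ideal S) [hP : P.IsPrime] [hQ : Q.IsPrime]
    (hr : r ∈ (P ⊔ Q).minimalPrimes) :
    ringKrullDim (S ⧸ P) + ringKrullDim (S ⧸ Q) ≤
      ringKrullDim (S ⧸ r) + (Fintype.card σ : WithBot ℕ∞) := by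
  have hker : RingHom.ker ((Ideal.Quotient.mkₐ k P : S →ₐ[k] S ⧸ P) : S →+* S ⧸ P) = P :=
    Ideal.mk_ker
  exact ringKrullDim_add_le_of_surjective (Ideal.Quotient.mkₐ k P)
    (Ideal.Quotient.mkₐ_surjective k P) Q r (by rw [hker]; exact hr)

end Main

end Groth.Agent.Lib.Helper93.DimThm
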