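import Mathlib
import Groth.Prelude.Def_CohB1
import Groth.Agent.Lib.Helper93.ProjDimC
import Groth.Agent.Lib.Helper93.DimThm

set_option autoImplicit false
open AlgebraicGeometry TopologicalSpace Topology Order
open Groth.Agent.Lib.Helper73

namespace Groth.Agent.Lib.Helper93.ProjDim

/-- A supremum of natural numbers (in `WithBot ℕ∞`) equal to a natural number is attained. -/
theorem exists_eq_of_iSup_eq {ι : Type*} [Nonempty ι] (f : ι → ℕ) (r : ℕ)
    (h : (⨆ i, ((f i : ℕ) : WithBot ℕ∞)) = r) : ∃ i, f i = r := by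
  by_contra hcon
  push Not at hcon
  have hle : ∀ i, f i ≤ r := by
    intro i
    have := le_iSup (fun i => ((f i : ℕ) : WithBot ℕ∞)) i
    rw [h] at this
    exact_mod_cast this
  have hlt : ∀ i, f i < r := fun i => lt_of_le_of_ne (hle i) (hcon i)
  obtain ⟨i0⟩ := ‹Nonempty ι›
  have hr : 1 ≤ r := by have := hlt i0; omega
  have : (⨆ i, ((f i : ℕ) : WithBot ℕ∞)) ≤ ((r - 1 : ℕ) : WithBot ℕ∞) := by
    refine iSup_le fun i => ?_
    have := hlt i
    have h' : f i ≤ r - 1 := by omega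
    exact_mod_cast h'
  rw [h] at this
  have : r ≤ r - 1 := by exact_mod_cast this
  omega

universe u
variable (n : ℕ) (k : Type u) [Field k]

local notation "S" => MvPolynomial (Fin (n + 1)) k
local notation "𝒫" => CohB1.polyGrading n k

/-- A closed nonempty subset of projective space of dimension `r` has a point of `pdim = r`. -/
theorem exists_pdim_eq_of_dim_eq {X : Set (ProjectiveSpectrum 𝒫)} (hX : IsClosed X)
    (hXne : X.Nonempty) {r : ℕ} (hXr : topologicalKrullDim ↥X = r) : ∃ x ∈ X, pdim x = r := by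
  rw [topologicalKrullDim_closed_eq_iSup pdim (pdim_anti n k) (pdim_step n k) hX] at hXr
  have : Nonempty ↥X := hXne.to_subtype
  obtain ⟨x, hx⟩ := exists_eq_of_iSup_eq (fun x : ↥X => pdim x.1) r hXr
  exact ⟨x.1, x.2, hx⟩

/-- The dimension of a closed subset bounds the `pdim` of its points. -/
theorem pdim_le_dim {X : Set (ProjectiveSpectrum 𝒫)} (hX : IsClosed X) {x : ProjectiveSpectrum 𝒫}
    (hx : x ∈ X) : ((pdim x : ℕ) : WithBot ℕ∞) ≤ topologicalKrullDim ↥X := by
  rw [topologicalKrullDim_closed_eq_iSup pdim (pdim_anti n k) (pdim_step n k) hX]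
  exact le_iSup (fun z : ↥X => ((pdim z.1 : ℕ) : WithBot ℕ∞)) ⟨x, hx⟩

/-- **Projective dimension theorem** on points: two points `x`, `y` with
`pdim x + pdim y ≥ n` have a common specialization `z` with `pdim x + pdim y ≤ pdim z + n`. -/
theorem exists_common_specialization (x y : ProjectiveSpectrum 𝒫) (hxy : n ≤ pdim x + pdim y) :
    ∃ z : ProjectiveSpectrum 𝒫, x ≤ z ∧ y ≤ z ∧ pdim x + pdim y ≤ pdim z + n := by
  have hmax := irrelevant_isMaximal n k
  have hle : x.asHomogeneousIdeal.toIdeal ⊔ y.asHomogeneousIdeal.toIdeal ≤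
      (HomogeneousIdeal.irrelevant 𝒫).toIdeal :=
    sup_le (toIdeal_lt_irrelevant hmax x).le (toIdeal_lt_irrelevant hmax y).le
  have := hmax.isPrime
  obtain ⟨q, hq, hqirr⟩ := Ideal.exists_minimalPrimes_le hle
  have hqp : q.IsPrime := hq.1.1
  have hqh : q.IsHomogeneous 𝒫 := isHomogeneous_of_mem_minimalPrimes 𝒫
    (x.asHomogeneousIdeal.isHomogeneous.sup y.asHomogeneousIdeal.isHomogeneous) hq
  have hdim := DimThm.ringKrullDim_quotient_add_le x.asHomogeneousIdeal.toIdeal
    y.asHomogeneousIdeal.toIdeal q hq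
  rw [← coe_pdim_add_one (k := k) hmax x, ← coe_pdim_add_one (k := k) hmax y,
    Fintype.card_fin] at hdim
  have hqnt : Nontrivial (S ⧸ q) := Ideal.Quotient.nontrivial_iff.mpr hqp.ne_top
  obtain ⟨dq, hdq⟩ := exists_nat_ringKrullDim_eq k (S ⧸ q)
  rw [hdq] at hdim
  have hdim' : (pdim x + 1) + (pdim y + 1) ≤ dq + (n + 1) := by exact_mod_cast hdim
  have hrel : ¬ (HomogeneousIdeal.irrelevant 𝒫).toIdeal ≤ q := by
    intro h
    have e : q = (HomogeneousIdeal.irrelevant 𝒫).toIdeal := le_antisymm hqirr h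
    rw [e, ringKrullDim_quotient_irrelevant (k := k) hmax] at hdq
    have : dq = 0 := by exact_mod_cast hdq.symm
    omega
  refine ⟨mkPt q hqp hqh hrel, ?_, ?_, ?_⟩
  · rw [le_iff_toIdeal_le]; exact le_sup_left.trans hq.1.2
  · rw [le_iff_toIdeal_le]; exact le_sup_right.trans hq.1.2
  · have h1 := coe_pdim_add_one (k := k) hmax (mkPt q hqp hqh hrel)
    change _ = ringKrullDim (S ⧸ q) at h1
    rw [hdq] at h1
    have : pdim (mkPt q hqp hqh hrel) + 1 = dq := by exact_mod_cast h1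
    omega

/-- **Projective dimension theorem** (Hartshorne I.7.2) for closed subsets. -/
theorem inter_nonempty_and_dim_le {X Y : Set (ProjectiveSpectrum 𝒫)} (hX : IsClosed X)
    (hY : IsClosed Y) (hXne : X.Nonempty) (hYne : Y.Nonempty) {r s : ℕ}
    (hXr : topologicalKrullDim ↥X = r) (hYs : topologicalKrullDim ↥Y = s) (hrs : n ≤ r + s) :
    (X ∩ Y).Nonempty ∧
      ((r + s : ℕ) : WithBot ℕ∞) ≤ topologicalKrullDim ↥(X ∩ Y) + (n : WithBot ℕ∞) := by
  obtain ⟨x, hxX, hx⟩ := exists_pdim_eq_of_dim_eq n k hX hXne hXr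
  obtain ⟨y, hyY, hy⟩ := exists_pdim_eq_of_dim_eq n k hY hYne hYs
  obtain ⟨z, hxz, hyz, hz⟩ := exists_common_specialization n k x y (by omega)
  have hzX : z ∈ X := (specializes_iff_le.mpr hxz).mem_closed hX hxX
  have hzY : z ∈ Y := (specializes_iff_le.mpr hyz).mem_closed hY hyY
  refine ⟨⟨z, hzX, hzY⟩, ?_⟩
  have h1 := pdim_le_dim n k (hX.inter hY) (x := z) ⟨hzX, hzY⟩
  have h2 : ((r + s : ℕ) : WithBot ℕ∞) ≤ ((pdim z : ℕ) : WithBot ℕ∞) + (n : WithBot ℕ∞) := by
    have : r + s ≤ pdim z + n := by omega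
    exact_mod_cast this
  exact h2.trans (by gcongr)

end Groth.Agent.Lib.Helper93.ProjDim
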