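import Mathlib
import Groth.Agent.Lib.Helper64.StalkSpec

/-!
# Krull's principal ideal theorem on a scheme (helper93)

`ringKrullDim_stalk_le_one_of_basicOpen`: if `z` is a maximal point of the complement of
`X.basicOpen s` (inside `U`), then `dim O_{X,z} ≤ 1`.
-/

set_option autoImplicit false
universe u

namespace Groth.Agent.Lib.Helper93.KrullPIT

open AlgebraicGeometry CategoryTheory TopologicalSpace IsLocalRing
open Groth.Agent.Lib.Helper64.StalkSpec

variable {X : Scheme.{u}}

theorem primeOf_refl {z : X} (h : z ⤳ z) :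
    primeOf h = maximalIdeal (X.presheaf.stalk z) := by
  unfold primeOf
  have : X.presheaf.stalkSpecializes h = 𝟙 _ := by
    exact TopCat.Presheaf.stalkSpecializes_refl _ _
  rw [this]
  rfl

/-- Krull's Hauptidealsatz on a locally Noetherian scheme: a maximal point of the vanishing
locus of a section has a local ring of dimension at most one. -/
theorem ringKrullDim_stalk_le_one_of_basicOpen [IsLocallyNoetherian X] {U : X.Opens}
    (s : Γ(X, U)) (z : X) (hzU : z ∈ U) (hz : z ∉ X.basicOpen s)
    (hgen : ∀ z' : X, z' ⤳ z → z' ≠ z → z' ∈ X.basicOpen s) :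
    ringKrullDim (X.presheaf.stalk z) ≤ 1 := by
  set g := X.presheaf.germ U z hzU s with hg
  have hgm : g ∈ maximalIdeal (X.presheaf.stalk z) := by
    rw [mem_maximalIdeal, mem_nonunits_iff]
    intro hu
    exact hz ((X.mem_basicOpen s z hzU).mpr hu)
  have key : ∀ q : Ideal (X.presheaf.stalk z), q.IsPrime → g ∈ q →
      q = maximalIdeal (X.presheaf.stalk z) := by
    intro q hq hgq
    obtain ⟨z', h, rfl⟩ := exists_specializes_primeOf_eq z q
    by_cases hzz : z' = z
    · subst hzz
      exact primeOf_refl h
    · exfalso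
      have hz'U : z' ∈ U := h.mem_open U.isOpen hzU
      have hu := (X.mem_basicOpen s z' hz'U).mp (hgen z' h hzz)
      have h1 : (X.presheaf.stalkSpecializes h).hom g = X.presheaf.germ U z' hz'U s := by
        rw [hg]
        exact TopCat.Presheaf.germ_stalkSpecializes_apply _ _ _ _
      have h2 : (X.presheaf.stalkSpecializes h).hom g ∈ maximalIdeal (X.presheaf.stalk z') := hgq
      rw [h1] at h2
      exact (mem_maximalIdeal _).mp h2 hu
  have hmin : maximalIdeal (X.presheaf.stalk z) ∈ (Ideal.span {g}).minimalPrimes := by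
    refine ⟨⟨inferInstance, (Ideal.span_singleton_le_iff_mem _).mpr hgm⟩, ?_⟩
    rintro q ⟨hq, hgq⟩ -
    rw [key q hq ((Ideal.span_singleton_le_iff_mem _).mp hgq)]
  have hht := Ideal.height_le_one_of_isPrincipal_of_mem_minimalPrimes (Ideal.span {g})
    (maximalIdeal (X.presheaf.stalk z)) hmin
  rw [← IsLocalRing.maximalIdeal_height_eq_ringKrullDim]
  exact_mod_cast hht

end Groth.Agent.Lib.Helper93.KrullPIT
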