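import Mathlib

/-!
# Sections on basic opens of `Proj` cutting out smaller basic opens (helper93)

`basicOpen_awayToSection`: for `f ∈ 𝒜 d` (`d > 0`), `g ∈ 𝒜 e`, the section `g^d/f^e` of
`Γ(Proj 𝒜, D₊(f))` has non-vanishing locus `D₊(f g)`.
-/

set_option autoImplicit false
universe u
open AlgebraicGeometry HomogeneousLocalization CategoryTheory

namespace Groth.Agent.Lib.Helper93.ProjSection

variable {A : Type u} {σ : Type*} [CommRing A] [SetLike σ A] [AddSubgroupClass σ A]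
variable (𝒜 : ℕ → σ) [GradedRing 𝒜]
variable {d e : ℕ} {f g : A} (hf : f ∈ 𝒜 d) (hg : g ∈ 𝒜 e)

theorem isUnit_mapId_isLocalizationElem (x : ProjectiveSpectrum 𝒜)
    (hfx : f ∉ x.asHomogeneousIdeal) (hd : 0 < d) :
    IsUnit (HomogeneousLocalization.mapId 𝒜 (Submonoid.powers_le.mpr hfx)
      (Away.isLocalizationElem hf hg) : AtPrime 𝒜 x.asHomogeneousIdeal.toIdeal) ↔
      g ∉ x.asHomogeneousIdeal := by
  rw [← HomogeneousLocalization.isUnit_iff_isUnit_val]
  have hval : (HomogeneousLocalization.mapId 𝒜 (Submonoid.powers_le.mpr hfx)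
      (Away.isLocalizationElem hf hg) : AtPrime 𝒜 x.asHomogeneousIdeal.toIdeal).val =
      Localization.mk (g ^ d) ⟨f ^ e, Submonoid.powers_le.mpr hfx ⟨e, rfl⟩⟩ := by
    rfl
  rw [hval, Localization.mk_eq_mk']
  have := x.isPrime
  rw [IsLocalization.AtPrime.isUnit_mk'_iff (Localization.AtPrime x.asHomogeneousIdeal.toIdeal)
    x.asHomogeneousIdeal.toIdeal]
  constructor
  · intro h hgx
    exact h (Ideal.pow_mem_of_mem _ hgx d hd)
  · intro h hgd
    exact h (x.isPrime.mem_of_pow_mem d hgd)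

theorem isUnit_germ_awayToSection_iff (x : Proj 𝒜) (hxf : x ∈ Proj.basicOpen 𝒜 f)
    (b : Away 𝒜 f) :
    IsUnit ((Proj 𝒜).presheaf.germ (Proj.basicOpen 𝒜 f) x hxf ((Proj.awayToSection 𝒜 f).hom b)) ↔
      IsUnit (HomogeneousLocalization.mapId 𝒜 (Submonoid.powers_le.mpr hxf) b :
        AtPrime 𝒜 x.asHomogeneousIdeal.toIdeal) := by
  have h := Proj.stalkIso'_germ 𝒜 (Proj.basicOpen 𝒜 f) x hxf ((Proj.awayToSection 𝒜 f).hom b)
  have h2 : ((Proj.awayToSection 𝒜 f).hom b).1 ⟨x, hxf⟩ =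
      HomogeneousLocalization.mapId 𝒜 (Submonoid.powers_le.mpr hxf) b := rfl
  rw [h2] at h
  rw [← h]
  exact (MulEquiv.isUnit_map (Proj.stalkIso' 𝒜 x).toMulEquiv).symm

/-- The section `g^d/f^e` on `D₊(f)` whose non-vanishing locus is `D₊(fg)`. -/
theorem basicOpen_awayToSection (hd : 0 < d) :
    (Proj 𝒜).basicOpen ((Proj.awayToSection 𝒜 f).hom (Away.isLocalizationElem hf hg)) =
      Proj.basicOpen 𝒜 (f * g) := by
  ext x
  simp only [SetLike.mem_coe]
  rw [Proj.basicOpen_mul]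
  constructor
  · intro hx
    have hxf : x ∈ Proj.basicOpen 𝒜 f := (Proj 𝒜).basicOpen_le _ hx
    refine ⟨hxf, ?_⟩
    rw [(Proj 𝒜).mem_basicOpen _ x hxf, isUnit_germ_awayToSection_iff,
      isUnit_mapId_isLocalizationElem 𝒜 hf hg x hxf hd] at hx
    exact hx
  · rintro ⟨hxf, hxg⟩
    rw [(Proj 𝒜).mem_basicOpen _ x hxf, isUnit_germ_awayToSection_iff,
      isUnit_mapId_isLocalizationElem 𝒜 hf hg x hxf hd]
    exact hxg

end Groth.Agent.Lib.Helper93.ProjSection
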