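import Mathlib
import Groth.Agent.Lib.Helper93.KrullPIT
import Groth.Agent.Lib.Helper93.ProjSection

set_option autoImplicit false
universe u
open AlgebraicGeometry HomogeneousLocalization CategoryTheory

namespace Groth.Agent.Lib.Helper93.ProjSection

variable {A : Type u} {σ : Type*} [CommRing A] [SetLike σ A] [AddSubgroupClass σ A]
variable (𝒜 : ℕ → σ) [GradedRing 𝒜]

theorem exists_pos_homogeneous_notMem' (x : ProjectiveSpectrum 𝒜) :
    ∃ (d : ℕ) (f : A), 0 < d ∧ f ∈ 𝒜 d ∧ f ∉ x.asHomogeneousIdeal := by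
  have h := x.not_irrelevant_le
  have h' : ¬ (HomogeneousIdeal.irrelevant 𝒜).toIdeal ≤ x.asHomogeneousIdeal.toIdeal := h
  rw [HomogeneousIdeal.toIdeal_irrelevant_le] at h'
  push Not at h'
  obtain ⟨i, hi, hle⟩ := h'
  obtain ⟨f, hf, hfx⟩ := SetLike.not_le_iff_exists.mp hle
  exact ⟨i, f, hi, hf, hfx⟩

/-- Krull's principal ideal theorem for pullbacks of hypersurfaces of `Proj`. -/
theorem ringKrullDim_stalk_le_one_of_map_proj {P : Scheme.{u}} [IsLocallyNoetherian P]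
    (φ : P ⟶ Proj 𝒜) {e : ℕ} {h : A} (hh : h ∈ 𝒜 e) (z : P)
    (hz : φ.base z ∉ Proj.basicOpen 𝒜 h)
    (hgen : ∀ z' : P, z' ⤳ z → z' ≠ z → φ.base z' ∈ Proj.basicOpen 𝒜 h) :
    ringKrullDim (P.presheaf.stalk z) ≤ 1 := by
  obtain ⟨d, f, hd, hf, hfx⟩ := exists_pos_homogeneous_notMem' 𝒜 (φ.base z)
  have hzf : φ.base z ∈ Proj.basicOpen 𝒜 f := hfx
  set σ' := (Proj.awayToSection 𝒜 f).hom (Away.isLocalizationElem hf hh) with hσ
  have hbo : (Proj 𝒜).basicOpen σ' = Proj.basicOpen 𝒜 (f * h) :=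
    basicOpen_awayToSection 𝒜 hf hh hd
  have hpre : φ ⁻¹ᵁ ((Proj 𝒜).basicOpen σ') = P.basicOpen ((φ.app (Proj.basicOpen 𝒜 f)).hom σ') :=
    Scheme.preimage_basicOpen φ σ'
  refine KrullPIT.ringKrullDim_stalk_le_one_of_basicOpen
    ((φ.app (Proj.basicOpen 𝒜 f)).hom σ') z hzf ?_ ?_
  · rw [← hpre, hbo, Proj.basicOpen_mul]
    rintro ⟨-, hzh⟩
    exact hz hzh
  · intro z' hz'z hne
    rw [← hpre, hbo, Proj.basicOpen_mul]
    refine ⟨?_, hgen z' hz'z hne⟩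
    exact (hz'z.map φ.continuous).mem_open (Proj.basicOpen 𝒜 f).isOpen hzf

end Groth.Agent.Lib.Helper93.ProjSection
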