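import Mathlib
import Groth.Prelude.Def_CohB1
import Groth.Agent.Lib.Helper93.ProjKrull
import Groth.Agent.Lib.Helper93.ProjAvoid3
import Groth.Agent.Lib.Helper93.ProjDimF
import Groth.Agent.Lib.Helper7.ProjSpaceProper

/-!
# Morphisms from `P^n` to a `Proj` covered by at most `n` basic opens (helper93)
-/

set_option autoImplicit false
universe u
open AlgebraicGeometry HomogeneousLocalization CategoryTheory TopologicalSpace

namespace Groth.Agent.Lib.Helper93.ProjConst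

open Groth.Agent.Lib.Helper93.ProjDim Groth.Agent.Lib.Helper93.ProjAvoid
open Groth.Agent.Lib.Helper73

variable (n : ℕ) (k : Type u) [Field k]

local notation "S" => MvPolynomial (Fin (n + 1)) k
local notation "𝒢" => CohB1.polyGrading n k

instance isLocallyNoetherian_projSpace : IsLocallyNoetherian (CohB1.ProjSpace n k) :=
  LocallyOfFiniteType.isLocallyNoetherian (CohB1.ProjSpace.toSpec n k)

attribute [local instance] specializationPreorder in
/-- In `P^n`, points whose local ring has dimension at most one have `pdim ≥ n - 1`. -/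
theorem le_pdim_add_one_of_ringKrullDim_le_one (z : CohB1.ProjSpace n k)
    (hz : ringKrullDim ((CohB1.ProjSpace n k).presheaf.stalk z) ≤ 1) :
    n ≤ pdim (z : ProjectiveSpectrum 𝒢) + 1 := by
  rw [AlgebraicGeometry.ringKrullDim_stalk_eq_coheight] at hz
  have hδ := isDimFun_pdim n k
  have h1 : (zeroPt n k) ⤳ (z : ProjectiveSpectrum 𝒢) :=
    specializes_iff_le.mpr (zeroPt_le n k z)
  have h2 := hδ.le_coheight_add h1
  rw [pdim_zeroPt] at h2
  have h3 : (Order.coheight (z : ProjectiveSpectrum 𝒢) : ℕ∞) ≤ 1 := by exact_mod_cast hz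
  have h4 : (n : ℕ∞) ≤ 1 + (pdim (z : ProjectiveSpectrum 𝒢) : ℕ∞) :=
    h2.trans (add_le_add_left h3 _)
  have h5 : (n : ℕ∞) ≤ ((1 + pdim (z : ProjectiveSpectrum 𝒢) : ℕ) : ℕ∞) := by
    push_cast
    exact h4
  have : n ≤ 1 + pdim (z : ProjectiveSpectrum 𝒢) := by exact_mod_cast h5
  omega

variable {A : Type u} {σ : Type*} [CommRing A] [SetLike σ A] [AddSubgroupClass σ A]
variable (𝒜 : ℕ → σ) [GradedRing 𝒜]

/-- A nonempty pulled-back hypersurface in `P^n` contains a point of `pdim ≥ n - 1`. -/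
theorem exists_le_pdim_add_one (φ : CohB1.ProjSpace n k ⟶ Proj 𝒜) {e : ℕ} {h : A}
    (hh : h ∈ 𝒜 e) (hne : ∃ z : CohB1.ProjSpace n k, φ.base z ∉ Proj.basicOpen 𝒜 h) :
    ∃ z : CohB1.ProjSpace n k, φ.base z ∉ Proj.basicOpen 𝒜 h ∧
      n ≤ pdim (z : ProjectiveSpectrum 𝒢) + 1 := by
  classical
  -- choose a point of maximal `pdim`
  let T : Set ℕ := {r | ∃ z : CohB1.ProjSpace n k, φ.base z ∉ Proj.basicOpen 𝒜 h ∧
    pdim (z : ProjectiveSpectrum 𝒢) = r}
  have hTne : T.Nonempty := by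
    obtain ⟨z, hz⟩ := hne
    exact ⟨_, z, hz, rfl⟩
  have hTb : BddAbove T := by
    refine ⟨n, ?_⟩
    rintro r ⟨z, -, rfl⟩
    exact pdim_le n k z
  obtain ⟨z, hz, hzr⟩ := Nat.sSup_mem hTne hTb
  refine ⟨z, hz, ?_⟩
  apply le_pdim_add_one_of_ringKrullDim_le_one
  refine ProjSection.ringKrullDim_stalk_le_one_of_map_proj 𝒜 φ hh z hz ?_
  intro z' hz'z hne'
  by_contra hcon
  have hle : @LE.le (ProjectiveSpectrum 𝒢) _ z' z := specializes_iff_le.mp hz'z
  have hlt : @LT.lt (ProjectiveSpectrum 𝒢) _ z' z := lt_of_le_of_ne hle hne'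
  have h1 := pdim_anti n k _ _ hlt
  have h2 : pdim (z' : ProjectiveSpectrum 𝒢) ≤ sSup T := le_csSup hTb ⟨z', hcon, rfl⟩
  omega

/-- A morphism from `P^n` to a `Proj` covered by `m + 1 ≤ n` basic opens `D₊(h i)` lands in one
of them. -/
theorem exists_preimage_basicOpen_eq_top (φ : CohB1.ProjSpace n k ⟶ Proj 𝒜) (m : ℕ) (hmn : m < n)
    (h : Fin (m + 1) → A) (e : Fin (m + 1) → ℕ) (hh : ∀ i, h i ∈ 𝒜 (e i))
    (hcov : ∀ y : Proj 𝒜, ∃ i, y ∈ Proj.basicOpen 𝒜 (h i)) :
    ∃ i, φ ⁻¹ᵁ (Proj.basicOpen 𝒜 (h i)) = ⊤ := by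
  by_contra hcon
  push Not at hcon
  have hne : ∀ i, ∃ z : CohB1.ProjSpace n k, φ.base z ∉ Proj.basicOpen 𝒜 (h i) := by
    intro i
    by_contra hi
    push Not at hi
    apply hcon i
    rw [eq_top_iff]
    intro z _
    exact hi z
  -- closedness of the pulled-back hypersurfaces under specialization
  have hspec : ∀ i (w w' : CohB1.ProjSpace n k), w ⤳ w' →
      φ.base w ∉ Proj.basicOpen 𝒜 (h i) → φ.base w' ∉ Proj.basicOpen 𝒜 (h i) := by
    intro i w w' hww' hw hw'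
    exact hw ((hww'.map φ.continuous).mem_open (Proj.basicOpen 𝒜 (h i)).isOpen hw')
  have key : ∀ j : ℕ, j ≤ m + 1 → ∃ w : CohB1.ProjSpace n k,
      (∀ i : Fin (m + 1), i.1 < j → φ.base w ∉ Proj.basicOpen 𝒜 (h i)) ∧
        n ≤ pdim (w : ProjectiveSpectrum 𝒢) + j := by
    intro j
    induction j with
    | zero =>
      intro _
      refine ⟨zeroPt n k, fun i hi => absurd hi (Nat.not_lt_zero _), ?_⟩
      rw [pdim_zeroPt, Nat.add_zero]
    | succ j ih =>
      intro hj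
      obtain ⟨w, hw1, hw2⟩ := ih (by omega)
      obtain ⟨z, hz1, hz2⟩ := exists_le_pdim_add_one n k 𝒜 φ (hh ⟨j, by omega⟩) (hne ⟨j, by omega⟩)
      obtain ⟨w', hww', hzw', hdim⟩ := exists_common_specialization n k
        (w : ProjectiveSpectrum 𝒢) (z : ProjectiveSpectrum 𝒢) (by omega)
      refine ⟨w', ?_, by omega⟩
      intro i hi
      rcases Nat.lt_succ_iff_lt_or_eq.mp hi with hlt | heq
      · exact hspec i w w' (specializes_iff_le.mpr hww') (hw1 i hlt)
      · have : i = ⟨j, by omega⟩ := Fin.ext heq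
        rw [this]
        exact hspec _ z w' (specializes_iff_le.mpr hzw') hz1
  obtain ⟨w, hw, -⟩ := key (m + 1) le_rfl
  obtain ⟨i, hi⟩ := hcov (φ.base w)
  exact hw i i.2 hi

end Groth.Agent.Lib.Helper93.ProjConst
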