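import Mathlib
import Groth.Prelude.Def_CohB1
import Groth.Agent.Lib.Helper93.ProjDimC

set_option autoImplicit false
open AlgebraicGeometry TopologicalSpace Topology Order
open Groth.Agent.Lib.Helper73

namespace Groth.Agent.Lib.Helper93.ProjDim

section GradedDomain

variable {R A : Type*} [CommRing R] [CommRing A] [Algebra R A] (𝒜 : ℕ → Submodule R A)
  [GradedAlgebra 𝒜] [IsDomain A]

/-- A prime of height at most one containing a nonzero homogeneous element is homogeneous. -/
theorem isHomogeneous_of_height_le_one {P : Ideal A} [hP : P.IsPrime] (hP1 : P.height ≤ 1) {f : A}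
    (hf : SetLike.IsHomogeneousElem 𝒜 f) (hf0 : f ≠ 0) (hfP : f ∈ P) : P.IsHomogeneous 𝒜 := by
  have hQp : (P.homogeneousCore 𝒜).toIdeal.IsPrime := hP.homogeneousCore
  have hfQ : f ∈ (P.homogeneousCore 𝒜).toIdeal :=
    Ideal.mem_homogeneousCore_of_homogeneous_of_mem hf hfP
  have hle : (P.homogeneousCore 𝒜).toIdeal ≤ P := Ideal.toIdeal_homogeneousCore_le 𝒜 P
  have e : (P.homogeneousCore 𝒜).toIdeal = P := by
    by_contra hne
    have hlt : (P.homogeneousCore 𝒜).toIdeal < P := lt_of_le_of_ne hle hne
    have h1 := Ideal.height_add_one_le_of_lt_of_isPrime hlt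
    have h0 : (P.homogeneousCore 𝒜).toIdeal.height = 0 := by
      by_contra h0
      have h2 : 1 ≤ (P.homogeneousCore 𝒜).toIdeal.height := Order.one_le_iff_ne_zero.mpr h0
      have h3 : (1 : ℕ∞) + 1 ≤ 1 := (add_le_add_left h2 1).trans (h1.trans hP1)
      exact absurd h3 (by decide)
    rw [Ideal.height_eq_zero_iff_eq_bot] at h0
    rw [h0, Ideal.mem_bot] at hfQ
    exact hf0 hfQ
  rw [← e]
  exact (P.homogeneousCore 𝒜).isHomogeneous

end GradedDomain

universe u
variable (n : ℕ) (k : Type u) [Field k]

local notation "S" => MvPolynomial (Fin (n + 1)) k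
local notation "𝒫" => CohB1.polyGrading n k

/-- A generator of a homogeneous principal ideal of a polynomial ring is homogeneous. -/
theorem isHomogeneous_of_span_singleton {p : S} (hp0 : p ≠ 0)
    (hI : (Ideal.span {p}).IsHomogeneous 𝒫) : p.IsHomogeneous p.totalDegree := by
  have hcomp : ∀ i, i ≠ p.totalDegree → MvPolynomial.homogeneousComponent i p = 0 := by
    intro i hi
    by_contra hne
    have hmem : MvPolynomial.homogeneousComponent i p ∈ Ideal.span {p} :=
      MvPolynomial.homogeneousComponent_mem_of_mem hI (Ideal.mem_span_singleton_self p) i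
    obtain ⟨h, hh⟩ := Ideal.mem_span_singleton'.mp hmem
    have hh0 : h ≠ 0 := by
      rintro rfl
      rw [zero_mul] at hh
      exact hne hh.symm
    have htd : (MvPolynomial.homogeneousComponent i p).totalDegree = i :=
      (MvPolynomial.homogeneousComponent_isHomogeneous i p).totalDegree hne
    rw [← hh, MvPolynomial.totalDegree_mul_of_isDomain hh0 hp0] at htd
    have hge : p.totalDegree ≤ i := by omega
    have hlt : p.totalDegree < i := lt_of_le_of_ne hge (Ne.symm hi)
    exact hne (MvPolynomial.homogeneousComponent_eq_zero i p hlt)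
  have hsum := MvPolynomial.sum_homogeneousComponent p
  have h1 : ∑ i ∈ Finset.range (p.totalDegree + 1), MvPolynomial.homogeneousComponent i p =
      MvPolynomial.homogeneousComponent p.totalDegree p :=
    Finset.sum_eq_single _ (fun i _ hi => hcomp i hi)
      (fun h => absurd (Finset.mem_range.mpr (Nat.lt_succ_self _)) h)
  rw [h1] at hsum
  have h2 := MvPolynomial.homogeneousComponent_isHomogeneous p.totalDegree p
  rwa [hsum] at h2

theorem height_span_singleton_le_one {p : S} (hp : Prime p) : (Ideal.span {p}).height ≤ 1 := by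
  have hpr : (Ideal.span {p}).IsPrime := (Ideal.span_singleton_prime hp.ne_zero).mpr hp
  refine Ideal.height_le_one_of_isPrincipal_of_mem_minimalPrimes (Ideal.span {p}) _ ?_
  rw [Ideal.minimalPrimes_eq_subsingleton_self]
  rfl

/-- The ideal generated by a prime factor of a nonzero homogeneous polynomial is homogeneous. -/
theorem isHomogeneous_span_of_prime_dvd {p f : S} (hp : Prime p) (hpf : p ∣ f) {d : ℕ}
    (hf : f.IsHomogeneous d) (hf0 : f ≠ 0) : (Ideal.span {p}).IsHomogeneous 𝒫 := by
  have hpr : (Ideal.span {p}).IsPrime := (Ideal.span_singleton_prime hp.ne_zero).mpr hp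
  exact isHomogeneous_of_height_le_one 𝒫 (height_span_singleton_le_one n k hp)
    ((isHomogeneousElem_iff n k f).mpr ⟨d, hf⟩) hf0 (Ideal.mem_span_singleton.mpr hpf)

theorem ringKrullDim_quotient_span_prime {p : S} (hp : Prime p) :
    ringKrullDim (S ⧸ Ideal.span {p}) = n := by
  have h := ringKrullDim_quotient_span_singleton_add_one k p hp.ne_zero hp.not_isUnit
  rw [ringKrullDim_mvPolynomial_field k (n + 1)] at h
  have hne : Nontrivial (S ⧸ Ideal.span {p}) := by
    have hpr : (Ideal.span {p}).IsPrime := (Ideal.span_singleton_prime hp.ne_zero).mpr hp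
    exact Ideal.Quotient.nontrivial_iff.mpr hpr.ne_top
  obtain ⟨m, hm⟩ := exists_nat_ringKrullDim_eq k (S ⧸ Ideal.span {p})
  rw [hm] at h ⊢
  have : ((m + 1 : ℕ) : WithBot ℕ∞) = ((n + 1 : ℕ) : WithBot ℕ∞) := by
    push_cast
    exact h
  have : m + 1 = n + 1 := by exact_mod_cast this
  have : m = n := by omega
  rw [this]

theorem not_irrelevant_le_span_prime (hn : 1 ≤ n) {p : S} (hp : Prime p) :
    ¬ (HomogeneousIdeal.irrelevant 𝒫).toIdeal ≤ Ideal.span {p} := by
  intro hle
  have hpr : (Ideal.span {p}).IsPrime := (Ideal.span_singleton_prime hp.ne_zero).mpr hp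
  have e : (HomogeneousIdeal.irrelevant 𝒫).toIdeal = Ideal.span {p} :=
    (irrelevant_isMaximal n k).eq_of_le hpr.ne_top hle
  have h1 := ringKrullDim_quotient_span_prime n k hp
  rw [← e, ringKrullDim_quotient_irrelevant (k := k) (irrelevant_isMaximal n k)] at h1
  have : (0 : ℕ) = n := by exact_mod_cast h1
  omega

/-- The point of projective space defined by a homogeneous prime element. -/
noncomputable def primePt (hn : 1 ≤ n) {p : S} (hp : Prime p)
    (hph : (Ideal.span {p}).IsHomogeneous 𝒫) : ProjectiveSpectrum 𝒫 :=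
  mkPt (Ideal.span {p}) ((Ideal.span_singleton_prime hp.ne_zero).mpr hp) hph
    (not_irrelevant_le_span_prime n k hn hp)

theorem pdim_primePt (hn : 1 ≤ n) {p : S} (hp : Prime p)
    (hph : (Ideal.span {p}).IsHomogeneous 𝒫) : pdim (primePt n k hn hp hph) + 1 = n := by
  have h := coe_pdim_add_one (k := k) (irrelevant_isMaximal n k) (primePt n k hn hp hph)
  change _ = ringKrullDim (S ⧸ Ideal.span {p}) at h
  rw [ringKrullDim_quotient_span_prime n k hp] at h
  have : ((pdim (primePt n k hn hp hph) + 1 : ℕ) : WithBot ℕ∞) = ((n : ℕ) : WithBot ℕ∞) := by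
    push_cast
    exact h
  exact_mod_cast this

/-- In a UFD, a prime ideal containing a nonzero element contains a prime factor of it. -/
theorem exists_prime_dvd_mem {B : Type*} [CommRing B] [IsDomain B] [UniqueFactorizationMonoid B]
    {P : Ideal B} [hP : P.IsPrime] {a : B} (ha0 : a ≠ 0) (haP : a ∈ P) :
    ∃ p, Prime p ∧ p ∣ a ∧ p ∈ P := by
  have hassoc := UniqueFactorizationMonoid.factors_prod ha0
  have hprod : (UniqueFactorizationMonoid.factors a).prod ∈ P := by
    obtain ⟨u, hu⟩ := hassoc.symm
    rw [← hu]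
    exact P.mul_mem_right _ haP
  obtain ⟨p, hp, hpP⟩ := (hP.multiset_prod_mem_iff_exists_mem _).mp hprod
  exact ⟨p, UniqueFactorizationMonoid.prime_of_factor p hp,
    UniqueFactorizationMonoid.dvd_of_mem_factors hp, hpP⟩

/-- A nonzero homogeneous ideal of the polynomial ring contains a nonzero homogeneous element. -/
theorem exists_homogeneous_ne_zero_mem {I : Ideal S} (hI : I.IsHomogeneous 𝒫) (hI0 : I ≠ ⊥) :
    ∃ (d : ℕ) (g : S), g.IsHomogeneous d ∧ g ≠ 0 ∧ g ∈ I := by
  obtain ⟨a, haI, ha0⟩ := Submodule.exists_mem_ne_zero_of_ne_bot hI0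
  by_contra hcon
  push Not at hcon
  apply ha0
  rw [← MvPolynomial.sum_homogeneousComponent a]
  refine Finset.sum_eq_zero fun i _ => ?_
  by_contra hne
  exact hcon i _ (MvPolynomial.homogeneousComponent_isHomogeneous i a) hne
    (MvPolynomial.homogeneousComponent_mem_of_mem hI haI i)

theorem zeroLocus_singleton_eq_closure (y : ProjectiveSpectrum 𝒫) (p : S)
    (hy : y.asHomogeneousIdeal.toIdeal = Ideal.span {p}) :
    ProjectiveSpectrum.zeroLocus 𝒫 ({p} : Set S) = closure {y} := by
  rw [closure_singleton_eq_zeroLocus, hy, ProjectiveSpectrum.zeroLocus_span]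

end Groth.Agent.Lib.Helper93.ProjDim
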