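import Mathlib
import Groth.Prelude.Def_CohB1
import Groth.Agent.Lib.Helper93.ProjDimD

set_option autoImplicit false
open AlgebraicGeometry TopologicalSpace Topology Order
open Groth.Agent.Lib.Helper73

namespace Groth.Agent.Lib.Helper93.ProjDim

universe u
variable (n : ℕ) (k : Type u) [Field k]

local notation "S" => MvPolynomial (Fin (n + 1)) k
local notation "𝒫" => CohB1.polyGrading n k

theorem irrelevant_le_span_X :
    (HomogeneousIdeal.irrelevant 𝒫).toIdeal ≤
      Ideal.span ((MvPolynomial.X : Fin (n + 1) → S) '' Set.univ) := by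
  intro a ha
  rw [mem_irrelevant_iff, MvPolynomial.constantCoeff_eq] at ha
  rw [MvPolynomial.mem_ideal_span_X_image]
  intro m hm
  rw [MvPolynomial.mem_support_iff] at hm
  have hm0 : m ≠ 0 := by
    rintro rfl
    exact hm ha
  obtain ⟨i, hi⟩ := Finsupp.ne_iff.mp hm0
  exact ⟨i, Set.mem_univ _, by simpa using hi⟩

/-- A point of projective space containing `X_1, …, X_n` does not contain `X_0`. -/
theorem X_zero_notMem (y : ProjectiveSpectrum 𝒫)
    (hy : ∀ j : Fin (n + 1), j ≠ 0 → (MvPolynomial.X j : S) ∈ y.asHomogeneousIdeal.toIdeal) :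
    (MvPolynomial.X 0 : S) ∉ y.asHomogeneousIdeal.toIdeal := by
  intro h0
  apply y.not_irrelevant_le
  change (HomogeneousIdeal.irrelevant 𝒫).toIdeal ≤ y.asHomogeneousIdeal.toIdeal
  refine (irrelevant_le_span_X n k).trans (Ideal.span_le.mpr ?_)
  rintro _ ⟨j, -, rfl⟩
  by_cases hj : j = 0
  · rw [hj]; exact h0
  · exact hy j hj

/-- A homogeneous polynomial is a multiple of `X_0^d` modulo `X_1, …, X_n`. -/
theorem sub_monomial_mem_span_X {g : S} {d : ℕ} (hg : g.IsHomogeneous d) :
    g - MvPolynomial.monomial (Finsupp.single 0 d) (MvPolynomial.coeff (Finsupp.single 0 d) g) ∈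
      Ideal.span ((MvPolynomial.X : Fin (n + 1) → S) '' {j | j ≠ 0}) := by
  classical
  rw [MvPolynomial.mem_ideal_span_X_image]
  intro m hm
  rw [MvPolynomial.mem_support_iff, MvPolynomial.coeff_sub, MvPolynomial.coeff_monomial] at hm
  by_cases hmd : Finsupp.single 0 d = m
  · rw [if_pos hmd, hmd, sub_self] at hm
    exact absurd rfl hm
  · rw [if_neg hmd, sub_zero] at hm
    have hdeg : m.degree = d := by
      rw [Finsupp.degree_eq_weight_one]
      exact hg hm
    by_contra hcon
    push Not at hcon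
    apply hmd
    ext j
    by_cases hj : j = 0
    · subst hj
      rw [Finsupp.single_eq_same, ← hdeg, Finsupp.degree_eq_sum]
      have hsum : ∑ i : Fin (n + 1), m i = m 0 :=
        Finset.sum_eq_single (0 : Fin (n + 1)) (fun b _ hb => hcon b hb)
          (fun h0 => absurd (Finset.mem_univ _) h0)
      exact hsum
    · rw [Finsupp.single_apply, if_neg (Ne.symm hj)]
      exact (hcon j hj).symm

/-- A point of projective space containing `X_1, …, X_n` is the ideal `(X_1, …, X_n)`. -/
theorem toIdeal_eq_span_X (y : ProjectiveSpectrum 𝒫)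
    (hy : ∀ j : Fin (n + 1), j ≠ 0 → (MvPolynomial.X j : S) ∈ y.asHomogeneousIdeal.toIdeal) :
    y.asHomogeneousIdeal.toIdeal =
      Ideal.span ((MvPolynomial.X : Fin (n + 1) → S) '' {j | j ≠ 0}) := by
  have hspan_le : Ideal.span ((MvPolynomial.X : Fin (n + 1) → S) '' {j | j ≠ 0}) ≤
      y.asHomogeneousIdeal.toIdeal := by
    refine Ideal.span_le.mpr ?_
    rintro _ ⟨j, hj, rfl⟩
    exact hy j hj
  apply le_antisymm _ hspan_le
  intro a ha
  rw [← MvPolynomial.sum_homogeneousComponent a]
  refine Ideal.sum_mem _ fun i _ => ?_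
  have hgy : MvPolynomial.homogeneousComponent i a ∈ y.asHomogeneousIdeal.toIdeal :=
    MvPolynomial.homogeneousComponent_mem_of_mem y.asHomogeneousIdeal.isHomogeneous ha i
  have hg := MvPolynomial.homogeneousComponent_isHomogeneous i a
  have h1 := sub_monomial_mem_span_X n k hg
  have h2 : MvPolynomial.monomial (Finsupp.single 0 i)
      (MvPolynomial.coeff (Finsupp.single 0 i) (MvPolynomial.homogeneousComponent i a)) ∈
      y.asHomogeneousIdeal.toIdeal := by
    have := Ideal.sub_mem _ hgy (hspan_le h1)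
    rwa [sub_sub_cancel] at this
  rw [← MvPolynomial.C_mul_X_pow_eq_monomial] at h2
  have hc : MvPolynomial.coeff (Finsupp.single 0 i) (MvPolynomial.homogeneousComponent i a) = 0 := by
    by_contra hc
    rcases y.isPrime.mem_or_mem h2 with h3 | h3
    · exact y.isPrime.ne_top (Ideal.eq_top_of_isUnit_mem _ h3
        ((IsUnit.mk0 _ hc).map MvPolynomial.C))
    · exact X_zero_notMem n k y hy (y.isPrime.mem_of_pow_mem i h3)
  rw [hc, MvPolynomial.monomial_zero, sub_zero] at h1
  exact h1

theorem eq_of_X_mem (y y' : ProjectiveSpectrum 𝒫)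
    (hy : ∀ j : Fin (n + 1), j ≠ 0 → (MvPolynomial.X j : S) ∈ y.asHomogeneousIdeal.toIdeal)
    (hy' : ∀ j : Fin (n + 1), j ≠ 0 → (MvPolynomial.X j : S) ∈ y'.asHomogeneousIdeal.toIdeal) :
    y = y' := by
  apply le_antisymm
  · rw [le_iff_toIdeal_le, toIdeal_eq_span_X n k y hy, toIdeal_eq_span_X n k y' hy']
  · rw [le_iff_toIdeal_le, toIdeal_eq_span_X n k y hy, toIdeal_eq_span_X n k y' hy']

theorem X_isHomogeneousElem (j : Fin (n + 1)) :
    SetLike.IsHomogeneousElem 𝒫 (MvPolynomial.X j : S) :=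
  (isHomogeneousElem_iff n k _).mpr ⟨1, MvPolynomial.isHomogeneous_X k j⟩

end Groth.Agent.Lib.Helper93.ProjDim
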