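import Mathlib
import Groth.Prelude.Def_CohB1
import Groth.Agent.Lib.Helper93.ProjConst
import Groth.Agent.Lib.Helper93.ProjDimE
import Groth.Agent.Lib.Helper5.ProjReduced

/-!
# Morphisms `P^n → P^m` with `m < n` are constant (helper93)
-/

set_option autoImplicit false
universe u
open AlgebraicGeometry HomogeneousLocalization CategoryTheory TopologicalSpace

namespace Groth.Agent.Lib.Helper93.ProjConst

variable (n : ℕ) (k : Type u) [Field k]

local notation "Sₖ" => MvPolynomial (Fin (n + 1)) k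
local notation "𝒢" => CohB1.polyGrading n k

instance isIntegral_projSpace : IsIntegral (CohB1.ProjSpace n k) := by
  change IsIntegral (Proj 𝒢)
  rw [Groth.Agent.Lib.Helper5.proj_isIntegral_iff 𝒢 (fun f _ hn => hn.eq_zero)]
  refine ⟨⟨MvPolynomial.X 0, Groth.Agent.Lib.Helper93.ProjDim.X_mem_irrelevant n k 0,
    MvPolynomial.X_ne_zero _⟩, ?_⟩
  intro f _ g _ hfg
  exact mul_eq_zero.mp hfg

theorem X_mem_one (i : Fin (n + 1)) : (MvPolynomial.X i : Sₖ) ∈ 𝒢 1 := by
  change _ ∈ MvPolynomial.homogeneousSubmodule _ _ 1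
  rw [MvPolynomial.mem_homogeneousSubmodule]
  exact MvPolynomial.isHomogeneous_X _ _

/-- evaluation at the point `(1, 0, …, 0)` -/
noncomputable def evPt : Sₖ →+* k := MvPolynomial.eval (Pi.single 0 1)

theorem evPt_X0 : evPt n k (MvPolynomial.X 0) = 1 := by
  simp [evPt]

/-- The ring map `k[x]_{(x_0)} → k` of evaluation at `(1,0,…,0)`. -/
noncomputable def evAway : Away 𝒢 (MvPolynomial.X 0 : Sₖ) →+* k :=
  (IsLocalization.Away.lift (S := Localization.Away (MvPolynomial.X 0 : Sₖ))
    (MvPolynomial.X 0 : Sₖ) (g := evPt n k)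
    (show IsUnit (evPt n k (MvPolynomial.X 0)) by rw [evPt_X0]; exact isUnit_one)).comp
    (algebraMap (Away 𝒢 (MvPolynomial.X 0 : Sₖ)) (Localization.Away (MvPolynomial.X 0 : Sₖ)))

theorem evAway_fromZero (c : k) :
    evAway n k (fromZeroRingHom 𝒢 _ (algebraMap k (𝒢 0) c)) = c := by
  unfold evAway
  rw [RingHom.comp_apply]
  have : algebraMap (Away 𝒢 (MvPolynomial.X 0 : Sₖ)) (Localization.Away (MvPolynomial.X 0 : Sₖ))
      (fromZeroRingHom 𝒢 _ (algebraMap k (𝒢 0) c)) =
      algebraMap Sₖ (Localization.Away (MvPolynomial.X 0 : Sₖ)) (MvPolynomial.C c) := by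
    rw [HomogeneousLocalization.algebraMap_apply]
    simp only [fromZeroRingHom, RingHom.coe_mk, MonoidHom.coe_mk, OneHom.coe_mk, val_mk]
    rw [← Localization.mk_one_eq_algebraMap]
    rfl
  rw [this, IsLocalization.Away.lift_eq]
  simp [evPt]

/-- A `k`-rational point of `P^n_k`. -/
noncomputable def ratPt : Spec (CommRingCat.of k) ⟶ CohB1.ProjSpace n k :=
  Spec.map (CommRingCat.ofHom (evAway n k)) ≫
    Proj.awayι 𝒢 (MvPolynomial.X 0 : Sₖ) (X_mem_one n k 0) one_pos

theorem ratPt_toSpec : ratPt n k ≫ CohB1.ProjSpace.toSpec n k = 𝟙 _ := by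
  unfold ratPt CohB1.ProjSpace.toSpec
  delta CohB1.ProjSpace
  rw [Category.assoc, Proj.awayι_toSpecZero_assoc, ← Spec.map_comp, ← Spec.map_comp]
  have : CommRingCat.ofHom (algebraMap k (𝒢 0)) ≫
      CommRingCat.ofHom (fromZeroRingHom 𝒢 (Submonoid.powers (MvPolynomial.X 0 : Sₖ))) ≫
      CommRingCat.ofHom (evAway n k) = 𝟙 _ := by
    ext c
    exact evAway_fromZero n k c
  rw [Category.assoc, this, Spec.map_id]

/-- The endomorphism "collapse to the rational point" acts trivially on global functions. -/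
theorem appTop_collapse :
    (CohB1.ProjSpace.toSpec n k ≫ ratPt n k).appTop = 𝟙 _ := by
  have hfld : IsField Γ(CohB1.ProjSpace n k, ⊤) :=
    isField_of_universallyClosed k (CohB1.ProjSpace.toSpec n k)
  let _ := hfld.toField
  rw [Scheme.Hom.comp_appTop]
  have h1 : (CohB1.ProjSpace.toSpec n k).appTop ≫ (ratPt n k).appTop = 𝟙 _ := by
    rw [← Scheme.Hom.comp_appTop, ratPt_toSpec]
    rfl
  ext x
  have hinj : Function.Injective (ratPt n k).appTop.hom := RingHom.injective _
  apply hinj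
  have := congrArg (fun φ => φ.hom ((ratPt n k).appTop.hom x)) h1
  simpa using this

/-- A morphism from `P^n` factoring through an affine open is constant. -/
theorem eq_collapse_comp {Y : Scheme.{u}} (f : CohB1.ProjSpace n k ⟶ Y) (U : Y.Opens)
    (hU : IsAffineOpen U) (hf : f ⁻¹ᵁ U = ⊤) :
    f = CohB1.ProjSpace.toSpec n k ≫ ratPt n k ≫ f := by
  have hrange : Set.range f.base ⊆ Set.range U.ι.base := by
    rintro _ ⟨x, rfl⟩
    rw [Scheme.Opens.range_ι]
    have : x ∈ f ⁻¹ᵁ U := by rw [hf]; trivial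
    exact this
  let f' : CohB1.ProjSpace n k ⟶ U.toScheme := IsOpenImmersion.lift U.ι f hrange
  have hf' : f' ≫ U.ι = f := IsOpenImmersion.lift_fac U.ι f hrange
  have : IsAffine U.toScheme := hU
  have key : (CohB1.ProjSpace.toSpec n k ≫ ratPt n k) ≫ f' = f' := by
    apply ext_of_isAffine
    rw [Scheme.Hom.comp_appTop, appTop_collapse, Category.comp_id]
  calc f = f' ≫ U.ι := hf'.symm
    _ = ((CohB1.ProjSpace.toSpec n k ≫ ratPt n k) ≫ f') ≫ U.ι := by rw [key]
    _ = CohB1.ProjSpace.toSpec n k ≫ ratPt n k ≫ f := by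
      rw [Category.assoc, Category.assoc, hf']

/-- **Morphisms `P^n → P^m`, `m < n`, are constant.** -/
theorem eq_collapse_comp_of_lt (m : ℕ) (hmn : m < n)
    (f : CohB1.ProjSpace n k ⟶ CohB1.ProjSpace m k) :
    f = CohB1.ProjSpace.toSpec n k ≫ ratPt n k ≫ f := by
  have hcov : ∀ y : Proj (CohB1.polyGrading m k),
      ∃ i : Fin (m + 1), y ∈ Proj.basicOpen (CohB1.polyGrading m k)
        (MvPolynomial.X i : MvPolynomial (Fin (m + 1)) k) := by
    intro y
    have h := Proj.iSup_basicOpen_eq_top (CohB1.polyGrading m k)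
      (fun i : Fin (m + 1) => (MvPolynomial.X i : MvPolynomial (Fin (m + 1)) k))
      (by
        have := Groth.Agent.Lib.Helper93.ProjDim.irrelevant_le_span_X m k
        rwa [Set.image_univ] at this)
    have hy : y ∈ (⊤ : (Proj (CohB1.polyGrading m k)).Opens) := trivial
    rw [← h] at hy
    exact Opens.mem_iSup.mp hy
  obtain ⟨i, hi⟩ := exists_preimage_basicOpen_eq_top n k (CohB1.polyGrading m k) f m hmn
    (fun i => (MvPolynomial.X i : MvPolynomial (Fin (m + 1)) k)) (fun _ => 1)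
    (fun i => X_mem_one m k i) hcov
  exact eq_collapse_comp n k f _
    (Proj.isAffineOpen_basicOpen (CohB1.polyGrading m k) _ (X_mem_one m k i) one_pos) hi

end Groth.Agent.Lib.Helper93.ProjConst
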