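import Groth.Agent.Lib.Helper78.ModStalkExact
import Groth.Prelude.Def_Canon

/-!
# helper93: the long exact cohomology sequence of `O_X`-modules over an affine base, linearly

For a short exact sequence `0 → F' → F → F'' → 0` of `O_X`-modules on `X` over `Spec A`, the
connecting map `H^i(X, F'') → H^{i+1}(X, F')` is `A`-linear and `H^i(F) → H^i(F'') → H^{i+1}(F')` is
exact; consequences for Noetherian modules, and for finite coproducts.
-/

set_option autoImplicit false
universe u
open CategoryTheory CategoryTheory.Limits AlgebraicGeometry Opposite Abelian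

namespace Groth.Agent.Lib.Helper93.CohFin

section Abstract

variable {C : Type*} [Category C] [Abelian C] [HasExt C]

/-- naturality of the connecting map with respect to an endomorphism of a short exact sequence -/
lemma comp_extClass_comm {S : ShortComplex C} (hS : S.ShortExact) (Φ : S ⟶ S) (P : C) (i : ℕ)
    (x : Ext P S.X₃ i) :
    (x.comp (Ext.mk₀ Φ.τ₃) (add_zero i)).comp hS.extClass rfl =
      (x.comp hS.extClass rfl).comp (Ext.mk₀ Φ.τ₁) (add_zero (i + 1)) := by
  have h := ShortComplex.ShortExact.extClass_naturality hS hS Φ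
  rw [Ext.comp_assoc_of_second_deg_zero, ← h, Ext.comp_assoc_of_third_deg_zero]

lemma comp_g_comp_extClass {S : ShortComplex C} (hS : S.ShortExact) (P : C) (i : ℕ)
    (x : Ext P S.X₂ i) :
    (x.comp (Ext.mk₀ S.g) (add_zero i)).comp hS.extClass rfl = 0 := by
  rw [Ext.comp_assoc_of_second_deg_zero, hS.comp_extClass, Ext.comp_zero]

end Abstract


open Groth.Agent.Lib.Helper78.ModStalkExact

variable (A : Type u) [CommRing A] {X : Scheme.{u}} [X.Over (Spec (CommRingCat.of A))]

/-- the scalar action on cohomology, spelled out -/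
lemma smul_def {F : X.Modules} (i : ℕ) (a : A) (x : Coh.HH X F i) :
    a • x = x.comp (Ext.mk₀ (Coh.smulAb F (Coh.toGlobal (X ↘ Spec (CommRingCat.of A)) a)))
      (add_zero i) := rfl

lemma HHlin_apply {F G : X.Modules} (φ : F ⟶ G) (i : ℕ) (x : Coh.HH X F i) :
    Canon.HHlin A φ i x =
      x.comp (Ext.mk₀ ((SheafOfModules.toSheaf X.ringCatSheaf).map φ)) (add_zero i) := rfl

variable (S : ShortComplex X.Modules) (hS : S.ShortExact)

/-- multiplication by a global function, as an endomorphism of a short complex of abelian sheaves -/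
noncomputable def smulSC (s : Coh.Γtop X) : S.map (toSh X) ⟶ S.map (toSh X) :=
  ShortComplex.homMk (S₁ := S.map (toSh X)) (S₂ := S.map (toSh X))
    (Coh.smulAb S.X₁ s) (Coh.smulAb S.X₂ s) (Coh.smulAb S.X₃ s)
    (Canon.toSheaf_map_comp_smulAb S.f s).symm (Canon.toSheaf_map_comp_smulAb S.g s).symm

lemma extClass_smul (s : Coh.Γtop X) :
    (shortExact_toSh S hS).extClass.comp (Ext.mk₀ (Coh.smulAb S.X₁ s)) (add_zero 1) =
      (Ext.mk₀ (Coh.smulAb S.X₃ s)).comp (shortExact_toSh S hS).extClass (zero_add 1) :=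
  ShortComplex.ShortExact.extClass_naturality (shortExact_toSh S hS) (shortExact_toSh S hS)
    (smulSC S s)

/-- the connecting map in cohomology, additively -/
noncomputable def δadd (i : ℕ) : Coh.HH X S.X₃ i →+ Coh.HH X S.X₁ (i + 1) :=
  (shortExact_toSh S hS).extClass.postcomp _ rfl

lemma δadd_smul (i : ℕ) (a : A) (x : Coh.HH X S.X₃ i) :
    δadd S hS i (a • x) = a • δadd S hS i x :=
  comp_extClass_comm (shortExact_toSh S hS)
    (smulSC S (Coh.toGlobal (X ↘ Spec (CommRingCat.of A)) a)) _ i x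

/-- the connecting map in cohomology, as a linear map -/
noncomputable def δlin (i : ℕ) : Coh.HH X S.X₃ i →ₗ[A] Coh.HH X S.X₁ (i + 1) where
  toFun := δadd S hS i
  map_add' := map_add _
  map_smul' := δadd_smul A S hS i

lemma δlin_comp_HHlin (i : ℕ) (x₂ : Coh.HH X S.X₂ i) :
    δlin A S hS i (Canon.HHlin A S.g i x₂) = 0 :=
  comp_g_comp_extClass (shortExact_toSh S hS) _ i x₂

lemma exists_of_δlin_eq_zero (i : ℕ) (x : Coh.HH X S.X₃ i) (hx : δlin A S hS i x = 0) :
    ∃ x₂ : Coh.HH X S.X₂ i, Canon.HHlin A S.g i x₂ = x :=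
  Ext.covariant_sequence_exact₃ _ (shortExact_toSh S hS) x rfl hx

lemma range_eq_ker (i : ℕ) :
    LinearMap.range (Canon.HHlin A S.g i) = LinearMap.ker (δlin A S hS i) := by
  ext x
  rw [LinearMap.mem_range, LinearMap.mem_ker]
  constructor
  · rintro ⟨x₂, rfl⟩
    exact δlin_comp_HHlin A S hS i x₂
  · exact exists_of_δlin_eq_zero A S hS i x

include hS in
/-- dévissage of Noetherianity of cohomology along a short exact sequence -/
theorem isNoetherian_X₃ (i : ℕ) (h₂ : _root_.IsNoetherian A (Coh.HH X S.X₂ i))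
    (h₁ : _root_.IsNoetherian A (Coh.HH X S.X₁ (i + 1))) :
    _root_.IsNoetherian A (Coh.HH X S.X₃ i) :=
  isNoetherian_of_range_eq_ker (Canon.HHlin A S.g i) (δlin A S hS i) (range_eq_ker A S hS i)

section Functoriality

lemma HHlin_comp {F G H : X.Modules} (φ : F ⟶ G) (ψ : G ⟶ H) (i : ℕ) (x : Coh.HH X F i) :
    Canon.HHlin A (φ ≫ ψ) i x = Canon.HHlin A ψ i (Canon.HHlin A φ i x) := by
  have e : (SheafOfModules.toSheaf X.ringCatSheaf).map (φ ≫ ψ) =
      (SheafOfModules.toSheaf X.ringCatSheaf).map φ ≫ (SheafOfModules.toSheaf X.ringCatSheaf).map ψ :=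
    Functor.map_comp _ _ _
  exact (congrArg (fun f => Sheaf.H.map f i x) e).trans (Sheaf.H.map_comp_apply _ _ x)

lemma HHlin_id {F : X.Modules} (i : ℕ) (x : Coh.HH X F i) : Canon.HHlin A (𝟙 F) i x = x := by
  have e : (SheafOfModules.toSheaf X.ringCatSheaf).map (𝟙 F) = 𝟙 _ := CategoryTheory.Functor.map_id _ _
  exact (congrArg (fun f => Sheaf.H.map f i x) e).trans (Sheaf.H.map_id_apply x)

lemma HHlin_add {F G : X.Modules} (φ ψ : F ⟶ G) (i : ℕ) (x : Coh.HH X F i) :
    Canon.HHlin A (φ + ψ) i x = Canon.HHlin A φ i x + Canon.HHlin A ψ i x := by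
  have e : (SheafOfModules.toSheaf X.ringCatSheaf).map (φ + ψ) =
      (SheafOfModules.toSheaf X.ringCatSheaf).map φ + (SheafOfModules.toSheaf X.ringCatSheaf).map ψ :=
    Functor.map_add _
  exact (congrArg (fun f => Sheaf.H.map f i x) e).trans (Sheaf.H.map_add_apply _ _ x)

lemma HHlin_zero {F G : X.Modules} (i : ℕ) (x : Coh.HH X F i) :
    Canon.HHlin A (0 : F ⟶ G) i x = 0 := by
  have h := HHlin_add A (0 : F ⟶ G) 0 i x
  rw [add_zero] at h
  exact (add_eq_left.1 h.symm)

lemma HHlin_sum {F G : X.Modules} {ι : Type*} (s : Finset ι) (φ : ι → (F ⟶ G)) (i : ℕ)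
    (x : Coh.HH X F i) :
    Canon.HHlin A (∑ j ∈ s, φ j) i x = ∑ j ∈ s, Canon.HHlin A (φ j) i x := by
  classical
  induction s using Finset.induction_on with
  | empty => simpa using HHlin_zero A i x
  | insert a s ha ih => rw [Finset.sum_insert ha, Finset.sum_insert ha, HHlin_add, ih]

/-- Noetherianity of cohomology transfers along isomorphisms -/
theorem isNoetherian_of_iso {F G : X.Modules} (e : F ≅ G) (i : ℕ)
    (h : _root_.IsNoetherian A (Coh.HH X F i)) : _root_.IsNoetherian A (Coh.HH X G i) := by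
  refine isNoetherian_of_surjective (Canon.HHlin A e.hom i) ?_
  rw [LinearMap.range_eq_top]
  intro y
  refine ⟨Canon.HHlin A e.inv i y, ?_⟩
  rw [← HHlin_comp, e.inv_hom_id, HHlin_id]

/-- cohomology of a finite biproduct is Noetherian if the cohomology of each summand is -/
theorem isNoetherian_biproduct [HasFiniteBiproducts X.Modules] {r : ℕ} (f : Fin r → X.Modules)
    (i : ℕ) (h : ∀ j, _root_.IsNoetherian A (Coh.HH X (f j) i)) :
    _root_.IsNoetherian A (Coh.HH X (⨁ f) i) := by
  let Sg : (∀ j, Coh.HH X (f j) i) →ₗ[A] Coh.HH X (⨁ f) i :=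
    ∑ j, (Canon.HHlin A (biproduct.ι f j) i).comp (LinearMap.proj j)
  refine isNoetherian_of_surjective Sg ?_
  rw [LinearMap.range_eq_top]
  intro x
  refine ⟨fun j => Canon.HHlin A (biproduct.π f j) i x, ?_⟩
  have h1 : Sg (fun j => Canon.HHlin A (biproduct.π f j) i x) =
      ∑ j, Canon.HHlin A (biproduct.ι f j) i (Canon.HHlin A (biproduct.π f j) i x) := by
    simp only [Sg, LinearMap.sum_apply, LinearMap.comp_apply, LinearMap.proj_apply]
  rw [h1]
  have h2 : ∀ j, Canon.HHlin A (biproduct.ι f j) i (Canon.HHlin A (biproduct.π f j) i x) =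
      Canon.HHlin A (biproduct.π f j ≫ biproduct.ι f j) i x := fun j => (HHlin_comp A _ _ i x).symm
  simp only [h2]
  rw [← HHlin_sum, biproduct.total, HHlin_id]

/-- cohomology of a finite coproduct is Noetherian if the cohomology of each summand is -/
theorem isNoetherian_sigma {r : ℕ} (f : Fin r → X.Modules) (i : ℕ)
    (h : ∀ j, _root_.IsNoetherian A (Coh.HH X (f j) i)) :
    _root_.IsNoetherian A (Coh.HH X (∐ f) i) := by
  haveI : HasFiniteBiproducts X.Modules := Abelian.hasFiniteBiproducts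
  exact isNoetherian_of_iso A (biproduct.isoCoproduct f) i (isNoetherian_biproduct A f i h)

end Functoriality

end Groth.Agent.Lib.Helper93.CohFin
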