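import Groth.Agent.Lib.Helper93.PnCoh3
import Groth.Agent.Lib.Helper60.ProjUP2

/-!
# helper93: global sections of `O(d)` on `P^n_R` are the homogeneous polynomials of degree `d`
-/

set_option autoImplicit false
universe u
open CategoryTheory AlgebraicGeometry TopologicalSpace Opposite MvPolynomial Limits
open Groth.Agent.Lib.Helper60.TildeSec Groth.Agent.Lib.Helper93.CechPoly
open Groth.Agent.Lib.Helper93.CechAlg Groth.Agent.Lib.Helper93.CechBridge
open Groth.Agent.Lib.Helper60.ProjFrac Groth.Agent.Lib.Helper60.ProjUPLib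
open Groth.Agent.Lib.Helper60.TwistLib

namespace Groth.Agent.Lib.Helper93.PnCoh

variable (n : ℕ) (R : Type u) [CommRing R] (d : ℕ)

local notation "𝒜" => CohB1.polyGrading n R
local notation "S" => MvPolynomial (Fin (n + 1)) R

lemma one_notMem' (y : Proj 𝒜) (_hy : y ∈ (⊤ : (Proj 𝒜).Opens)) :
    (1 : S) ∉ y.asHomogeneousIdeal := fun h =>
  y.isPrime.ne_top ((Ideal.eq_top_iff_one _).mpr h)

/-- the global section `a / 1` of `O(d)` -/
noncomputable def Φ (a : 𝒜 d) : Γ(GrMod.tilde 𝒜 𝒜 (d : ℤ), (⊤ : (Proj 𝒜).Opens)) :=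
  fracSec 𝒜 𝒜 a.1 a.2 (1 : S) SetLike.GradedOne.one_mem (by simp) ⊤ (one_notMem' n R)

lemma isFrac_Φ (a : 𝒜 d) (K : ℕ) :
    IsFrac n R (d : ℤ) (1 : S) (one_notMem' n R) K a.1 (Φ n R d a) := by
  intro y
  show LocalizedModule.mk a.1 _ = LocalizedModule.mk a.1 _
  congr 1
  exact Subtype.ext (one_pow K).symm

lemma Φ_add (a a' : 𝒜 d) : Φ n R d (a + a') = Φ n R d a + Φ n R d a' :=
  (isFrac_Φ n R d (a + a') 0).ext ((isFrac_Φ n R d a 0).add (isFrac_Φ n R d a' 0))

/-- restriction of a global section to `W₀` -/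
noncomputable def resW (t : Γ(GrMod.tilde 𝒜 𝒜 (d : ℤ), (⊤ : (Proj 𝒜).Opens))) :
    Γ(GrMod.tilde 𝒜 𝒜 (d : ℤ), W₀ n R) :=
  (P n R (d : ℤ)).map (homOfLE (le_top : W₀ n R ≤ ⊤)).op t

lemma isFrac_resW_Φ (a : 𝒜 d) (K : ℕ) :
    IsFrac n R (d : ℤ) (fS n R Finset.univ) (fAll_notMem n R) K (a.1 * fS n R Finset.univ ^ K)
      (resW n R d (Φ n R d a)) :=
  IsFrac.res _ (one_mul _) (fAll_notMem n R) (isFrac_Φ n R d a K)

lemma Φ_injective : Function.Injective (Φ n R d) := by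
  intro a a' h
  have h1 := (isFrac_resW_Φ n R d a 0).add (isFrac_resW_Φ n R d a' 0).neg
  rw [h, add_neg_cancel, pow_zero, mul_one, mul_one] at h1
  have hmem : a.1 + -a'.1 ∈ 𝒜 d := Submodule.add_mem _ a.2 (Submodule.neg_mem _ a'.2)
  have := IsFrac.num_eq_zero (n := n) (R := R) (d := (d : ℤ)) (Nat.succ_pos n) (fAll_mem n R)
    (mem_W₀_iff n R) (isRegular_fS_pow n R Finset.univ) hmem h1
  exact Subtype.ext (add_neg_eq_zero.1 this)

/-- restriction of a global section to a member of the Čech nerve -/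
noncomputable def resB {m : ℕ} (b : Fin (m + 1) → Idx.{u} n)
    (t : Γ(GrMod.tilde 𝒜 𝒜 (d : ℤ), (⊤ : (Proj 𝒜).Opens))) :
    (P n R (d : ℤ)).obj (op (∏ᶜ (U n R ∘ b))) :=
  (P n R (d : ℤ)).map (homOfLE (le_top : (∏ᶜ (U n R ∘ b) : (Proj 𝒜).Opens) ≤ ⊤)).op t

lemma ρ_resB {m : ℕ} (b : Fin (m + 1) → Idx.{u} n)
    (t : Γ(GrMod.tilde 𝒜 𝒜 (d : ℤ), (⊤ : (Proj 𝒜).Opens))) :
    ρ (U n R) (P n R (d : ℤ)) (W₀ n R) (W₀_le n R) b (resB n R d b t) = resW n R d t := by
  unfold ρ resB resW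
  rw [← ConcreteCategory.comp_apply, ← (P n R (d : ℤ)).map_comp, ← op_comp]
  rfl

lemma Φ_surjective : Function.Surjective (Φ n R d) := by
  classical
  intro t
  set g := resW n R d t with hgdef
  -- numerators for each chart
  have hmem : ∀ i : Fin (n + 1), g ∈ Gs n R (d : ℤ) (Set.range (fun _ : Fin 1 => ULift.up i)) := by
    intro i
    rw [hgdef, ← ρ_resB n R d (fun _ : Fin 1 => ULift.up i) t]
    exact ρ_mem_Gs n R (d : ℤ) _ _
  choose K₁ e₁ A₁ hA₁ he₁ hc₁ hf₁ using hmem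
  set K := Finset.univ.sup K₁ with hKdef
  have hK : ∀ i, K₁ i ≤ K := fun i => Finset.le_sup (Finset.mem_univ i)
  choose e A hA he hc hf using fun i =>
    Gs_raise n R (d : ℤ) (hA₁ i) (he₁ i) (hc₁ i) (hf₁ i) K (hK i)
  set D := e 0 with hD
  have heD : ∀ i, e i = D := by
    intro i
    have : (e i : ℤ) = (D : ℤ) := by rw [hD, he i, he 0]
    exact_mod_cast this
  have hDz : (D : ℤ) = K * ((n : ℤ) + 1) + d := he 0
  have hAeq : ∀ i, A i = A 0 := by
    intro i
    have h1 := (hf i).add (hf 0).neg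
    rw [add_neg_cancel] at h1
    have hmem : A i + -A 0 ∈ 𝒜 D :=
      Submodule.add_mem _ (heD i ▸ hA i) (Submodule.neg_mem _ (hA 0))
    have := IsFrac.num_eq_zero (n := n) (R := R) (d := (d : ℤ)) (Nat.succ_pos n) (fAll_mem n R)
      (mem_W₀_iff n R) (isRegular_fS_pow n R Finset.univ) hmem h1
    exact add_neg_eq_zero.1 this
  -- every monomial of `A 0` is divisible by `(∏ xᵢ)^K`
  have hcondall : Cond K ((∅ : Finset (Fin (n + 1))) : Set (Fin (n + 1))) (A 0) := by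
    intro m hm j _
    by_cases hex : ∃ i, i ≠ j
    · obtain ⟨i, hij⟩ := hex
      have h1 := hc i
      rw [hAeq i] at h1
      apply h1 m hm j
      rintro ⟨x, ⟨k, rfl⟩, hx⟩
      exact hij hx
    · push Not at hex
      -- only one variable
      have hm1 : m.degree = D := by
        rw [← wt_eq_deg]; exact hA 0 hm
      have hsum : m.degree = ∑ i, m i := Finsupp.degree_eq_sum m
      have hsingle : ∑ i, m i = m j := by
        rw [Finset.sum_eq_single j]
        · intro i _ hi; exact (hi (hex i)).elim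
        · intro h; exact (h (Finset.mem_univ _)).elim
      have hn0 : n = 0 := by
        by_contra hn
        have : (1 : Fin (n + 1)) = (0 : Fin (n + 1)) := (hex 1).trans (hex 0).symm
        exact hn (by have := Fin.one_eq_zero_iff.1 this; omega)
      subst hn0
      have : (m j : ℤ) = K * ((0 : ℕ) + 1 : ℤ) + d := by
        rw [← hDz, ← hm1, hsum, hsingle]
      push_cast at this
      omega
  -- the candidate preimage
  obtain ⟨a, hag⟩ : ∃ a : 𝒜 d, IsFrac n R (d : ℤ) (fS n R Finset.univ) (fAll_notMem n R) K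
      (a.1 * fS n R Finset.univ ^ K) g := by
    by_cases hA0 : A 0 = 0
    · refine ⟨0, ?_⟩
      have := hf 0
      rw [hA0] at this
      simpa using this
    · obtain ⟨a, ha, hAa, hle⟩ := exists_eq_mul_of_cond n R K ∅ (A 0) (hA 0) hcondall hA0
      have hcard : (∅ : Finset (Fin (n + 1)))ᶜ.card = n + 1 := by
        rw [Finset.compl_empty, Finset.card_univ, Fintype.card_fin]
      rw [hcard] at ha hle
      have hdd : e 0 - K * (n + 1) = d := by
        have h1 : ((e 0 - K * (n + 1) : ℕ) : ℤ) = (d : ℤ) := by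
          rw [Nat.cast_sub hle]
          push_cast
          rw [he 0]
          ring
        exact_mod_cast h1
      rw [hdd] at ha
      refine ⟨⟨a, ha⟩, ?_⟩
      have := hf 0
      rw [hAa, Finset.compl_empty] at this
      exact this
  refine ⟨a, ?_⟩
  have hgg : resW n R d (Φ n R d a) = g := (isFrac_resW_Φ n R d a K).ext hag
  apply sec_ext 𝒜 𝒜 (d : ℤ)
  intro y
  -- a chart containing `y`
  have hy : y.1 ∈ ⨆ i, U n R i := by rw [iSup_U]; trivial
  obtain ⟨i, hi⟩ := Opens.mem_iSup.1 hy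
  set b : Fin 1 → Idx.{u} n := fun _ => i with hb
  have hyb : y.1 ∈ (∏ᶜ (U n R ∘ b) : (Proj 𝒜).Opens) := by
    rw [mem_prod_iff, fS_notMem_iff]
    intro j hj
    obtain ⟨k, -, rfl⟩ := Finset.mem_image.1 hj
    exact (Proj.mem_basicOpen 𝒜 _ y.1).1 hi
  have hres : resB n R d b (Φ n R d a) = resB n R d b t := by
    apply ρ_injective n R (d : ℤ) b
    rw [ρ_resB, ρ_resB, hgg]
  have h1 : GrMod.val (resB n R d b (Φ n R d a)) ⟨y.1, hyb⟩ = GrMod.val (Φ n R d a) y := rfl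
  have h2 : GrMod.val (resB n R d b t) ⟨y.1, hyb⟩ = GrMod.val t y := rfl
  rw [← h1, ← h2, hres]

lemma toGlobal_eq (r : R) :
    (show Γ(Proj 𝒜, ⊤) from Coh.toGlobal (CohB1.ProjSpace.toSpec n R) r) =
    fr 𝒜 (algebraMap R S r) 1 (SetLike.algebraMap_mem_graded 𝒜 r) SetLike.GradedOne.one_mem ⊤
        (fun y _ => one_notMem 𝒜 y) :=
  toGlobal_strMap 𝒜 r

lemma Φ_smul (r : R) (a : 𝒜 d) :
    Φ n R d (r • a) =
      (show Γ(Proj 𝒜, ⊤) from Coh.toGlobal (CohB1.ProjSpace.toSpec n R) r) • Φ n R d a := by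
  apply sec_ext 𝒜 𝒜 (d : ℤ)
  intro y
  rw [smul_val]
  have h1 : HomogeneousLocalization.val
      ((show OSec 𝒜 ⊤ from (show Γ(Proj 𝒜, ⊤) from
        Coh.toGlobal (CohB1.ProjSpace.toSpec n R) r)).1 y) =
      Localization.mk (algebraMap R S r) ⟨1, one_notMem 𝒜 y.1⟩ := by
    have := congrArg (fun t => oval 𝒜 t y) (toGlobal_eq n R r)
    exact this
  erw [h1]
  show LocalizedModule.mk (r • a).1 _ = Localization.mk _ _ • LocalizedModule.mk a.1 _
  rw [LocalizedModule.mk_smul_mk]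
  congr 1
  · show r • a.1 = algebraMap R S r • a.1
    rw [smul_eq_mul, Algebra.smul_def]
  · exact Subtype.ext (one_mul 1).symm

end Groth.Agent.Lib.Helper93.PnCoh
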