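import Groth.Agent.Lib.Helper93.LerayNat
import Groth.Agent.S0013

/-!
# helper93: Čech cohomology of a quasi-coherent module computes cohomology, compatibly with
endomorphisms of the underlying abelian sheaf (in particular with multiplication by functions)
-/

universe u
open CategoryTheory TopologicalSpace Opposite Limits Abelian AlgebraicGeometry
open Groth.Agent.Lib.Helper53 Groth.Agent.Lib.Helper26

namespace Groth.Agent.Lib.Helper93.LerayNat

lemma exists_top_equiv {X : TopCat.{u}} (F : CohTop.Ab X) (p : ℕ) {A : Type u} [AddCommGroup A]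
    (V : Opens X) (hV : V = ⊤) (e₁ : A ≃+ CohTop.HU F p V) :
    ∃ e : A ≃+ CohTop.H F p, ∀ (φ : F ⟶ F) (a a' : A),
      e₁ a' = (e₁ a).comp (Ext.mk₀ φ) (add_zero p) → e a' = Sheaf.H.map φ p (e a) := by
  subst hV
  refine ⟨e₁.trans (Groth.Agent.S0013.HUtopEquiv F p), fun φ a a' h => ?_⟩
  rw [AddEquiv.trans_apply, h, AddEquiv.trans_apply, Sheaf.H.map_apply]
  exact (Ext.comp_assoc_of_third_deg_zero _ _ _ (zero_add p)).symm

/-- Čech cohomology of a quasi-coherent module for a cover with affine finite intersections is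
sheaf cohomology, compatibly with all endomorphisms of the underlying abelian sheaf. -/
theorem exists_cech_equiv_nat (X : Scheme.{u}) {ι : Type u}
    (U : ι → X.Opens) (hcov : ⨆ i, U i = ⊤)
    (hU : ∀ s : Finset ι, s.Nonempty → IsAffineOpen (⨅ i ∈ s, U i))
    (M : X.Modules) [Coh.IsQCoh M] (p : ℕ) :
    ∃ e : ↑(CohB1.cechH U M p) ≃+ Coh.HH X M p,
      ∀ (φ : Coh.toAb M ⟶ Coh.toAb M) (x : ↑(CohB1.cechH U M p)),
        e ((HomologicalComplex.homologyMap ((cechComplexFunctor U).map φ.hom) p).hom x) =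
          Sheaf.H.map φ p (e x) := by
  classical
  have h : Acyc U (Coh.toAb M) := by
    intro n a q
    apply AffineVanishing.subsingleton_HU_succ M q
    rw [Groth.Agent.S0013.iInf_eq U n a]
    exact hU _ ⟨a 0, Finset.mem_image.2 ⟨0, Finset.mem_univ _, rfl⟩⟩
  obtain ⟨e, he⟩ := exists_leray_nat U p
  obtain ⟨e', he'⟩ := exists_top_equiv (Coh.toAb M) p (iSup U) hcov (e _ h)
  exact ⟨e', fun φ x => he' φ x _ (he _ _ h h φ x)⟩

/-- The linear version: the comparison isomorphism is compatible with multiplication by global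
functions. -/
theorem exists_cech_equiv_smul (X : Scheme.{u}) {ι : Type u}
    (U : ι → X.Opens) (hcov : ⨆ i, U i = ⊤)
    (hU : ∀ s : Finset ι, s.Nonempty → IsAffineOpen (⨅ i ∈ s, U i))
    (M : X.Modules) [Coh.IsQCoh M] (p : ℕ) :
    ∃ e : ↑(CohB1.cechH U M p) ≃+ Coh.HH X M p,
      ∀ (r : Coh.Γtop X) (x : ↑(CohB1.cechH U M p)),
        e ((HomologicalComplex.homologyMap
          ((cechComplexFunctor U).map (Coh.smulAb M r).hom) p).hom x) = r • e x := by
  obtain ⟨e, he⟩ := exists_cech_equiv_nat X U hcov hU M p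
  exact ⟨e, fun r x => he (Coh.smulAb M r) x⟩

end Groth.Agent.Lib.Helper93.LerayNat
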