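import Groth.Agent.Lib.Helper93.PnCoh6

/-!
# helper93: top cohomology of `O(d)` on `P^n_R` — linearity and the Čech computation
-/

set_option autoImplicit false
universe u
open CategoryTheory AlgebraicGeometry TopologicalSpace Opposite MvPolynomial Limits
open Groth.Agent.Lib.Helper60.TildeSec Groth.Agent.Lib.Helper93.CechPoly
open Groth.Agent.Lib.Helper93.CechAlg Groth.Agent.Lib.Helper93.CechBridge
open Groth.Agent.Lib.Helper60.ProjFrac Groth.Agent.Lib.Helper60.ProjUPLib
open Groth.Agent.Lib.Helper60.TwistLib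
open Groth.Agent.Lib.Helper93.NuPoly Groth.Agent.Lib.Helper26

namespace Groth.Agent.Lib.Helper93.CechBridge

variable {X : TopCat.{u}} {ι : Type u} (U : ι → Opens X) {P Q : (Opens X)ᵒᵖ ⥤ AddCommGrpCat.{u}}
variable (W₀ : Opens X) (hW₀ : ∀ i, W₀ ≤ U i)

/-- the model of the image of a cochain under a morphism of presheaves -/
lemma model_map (α : P ⟶ Q) {p : ℕ} (x : ((cechComplexFunctor U).obj P).X p)
    (b : Fin (p + 1) → ι) :
    model U Q W₀ hW₀ (((cechComplexFunctor U).map α).f p x) b =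
      α.app (op W₀) (model U P W₀ hW₀ x b) := by
  have h2 : Pi.π (fun a : Fin (p + 1) → ι => Q.obj (op (∏ᶜ (U ∘ a)))) b
      (((cechComplexFunctor U).map α).f p x) =
      α.app (op (∏ᶜ (U ∘ b)))
        (Pi.π (fun a : Fin (p + 1) → ι => P.obj (op (∏ᶜ (U ∘ a)))) b x) :=
    CechLES.pi_map_apply (A := fun a : Fin (p + 1) → ι => P.obj (op (∏ᶜ (U ∘ a))))
      (B := fun a : Fin (p + 1) → ι => Q.obj (op (∏ᶜ (U ∘ a))))
      (fun a => α.app (op (∏ᶜ (U ∘ a)))) x b
  unfold model
  rw [h2]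
  unfold ρ
  have := α.naturality (Pi.lift (fun k => homOfLE (hW₀ (b k))) : W₀ ⟶ ∏ᶜ (U ∘ b)).op
  exact (ConcreteCategory.congr_hom this _).symm

end Groth.Agent.Lib.Helper93.CechBridge

namespace Groth.Agent.Lib.Helper93.PnCoh

variable (n : ℕ) (R : Type u) [CommRing R] (d : ℤ)

local notation "𝒜" => CohB1.polyGrading n R
local notation "S" => MvPolynomial (Fin (n + 1)) R
local notation "fA" => fS n R Finset.univ

/-- the global function attached to a scalar -/
noncomputable def gl (r : R) : Coh.Γtop (Proj 𝒜) :=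
  Coh.toGlobal (CohB1.ProjSpace.toSpec n R) r

lemma oval_gl (r : R) (y : (⊤ : (Proj 𝒜).Opens)) :
    oval 𝒜 (show Γ(Proj 𝒜, ⊤) from gl n R r) y =
      Localization.mk (algebraMap R S r) ⟨1, one_notMem 𝒜 y.1⟩ :=
  congrArg (fun t => oval 𝒜 t y) (toGlobal_eq n R r)

variable {n R d}

lemma smulAb_val {V : (Proj 𝒜).Opens} (r : R) (g : Γ(GrMod.tilde 𝒜 𝒜 d, V)) (y : V) :
    GrMod.val ((Coh.smulAb (GrMod.tilde 𝒜 𝒜 d) (gl n R r)).hom.app (op V) g) y =
      (Localization.mk (algebraMap R S r)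
        (⟨1, one_notMem 𝒜 y.1⟩ : y.1.asHomogeneousIdeal.toIdeal.primeCompl)) • GrMod.val g y := by
  rw [Coh.smulAb_app]
  refine (smul_val 𝒜 𝒜 d V _ g y).trans ?_
  congr 1
  exact oval_gl n R r ⟨y.1, trivial⟩

lemma IsFrac.smul {V : (Proj 𝒜).Opens} {f : S} {hf : ∀ y ∈ V, f ∉ y.asHomogeneousIdeal} {K : ℕ}
    {A : S} {g : Γ(GrMod.tilde 𝒜 𝒜 d, V)} (h : IsFrac n R d f hf K A g) (r : R) :
    IsFrac n R d f hf K (r • A)
      ((Coh.smulAb (GrMod.tilde 𝒜 𝒜 d) (gl n R r)).hom.app (op V) g) := by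
  intro y
  rw [smulAb_val, h y, LocalizedModule.mk_smul_mk]
  congr 1
  · show algebraMap R S r • A = r • A
    rw [smul_eq_mul, Algebra.smul_def]
  · exact Subtype.ext (one_mul _)

lemma lam_smul (r : R) (g : Γ(GrMod.tilde 𝒜 𝒜 d, W₀ n R)) :
    lam n R d ((Coh.smulAb (GrMod.tilde 𝒜 𝒜 d) (gl n R r)).hom.app (op (W₀ n R)) g) =
      r • lam n R d g := by
  obtain ⟨K, e, A, hA, he, h⟩ := exists_isFrac_W₀ n R d g
  rw [lam_eq hA he h, lam_eq (Submodule.smul_mem _ r hA) he (h.smul r), map_smul]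

lemma lam_mem (k : ℕ) (hd : d = -((n : ℤ) + 1 + k)) (g : Γ(GrMod.tilde 𝒜 𝒜 d, W₀ n R)) :
    lam n R d g ∈ 𝒜 k := by
  obtain ⟨K, e, A, hA, he, h⟩ := exists_isFrac_W₀ n R d g
  rw [lam_eq hA he h]
  apply isHomogeneous_ν R K e k ?_ A hA
  rw [Fintype.card_fin]
  rcases K with _ | K'
  · exfalso
    rw [hd] at he
    push_cast at he
    have : (0 : ℤ) ≤ (e : ℤ) := Int.natCast_nonneg e
    have h2 : (0 : ℤ) ≤ (n : ℤ) := Int.natCast_nonneg n
    have h3 : (0 : ℤ) ≤ (k : ℤ) := Int.natCast_nonneg k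
    linarith
  · simp only [Nat.add_sub_cancel]
    have : ((e + k : ℕ) : ℤ) = (((n + 1) * K' : ℕ) : ℤ) := by
      push_cast
      rw [he, hd]
      push_cast
      ring
    exact_mod_cast this

variable (n)

/-- the identity tuple -/
def bId : Fin (n + 1) → Idx.{u} n := fun j => ULift.up j

lemma bId_bijective : Function.Bijective (bId.{u} n) :=
  Equiv.ulift.symm.bijective

variable {n}

/-- the residue functional on top-degree Čech cochains -/
noncomputable def Lam (k : ℕ) (hd : d = -((n : ℤ) + 1 + k)) :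
    ((cechComplexFunctor (U n R)).obj (P n R d)).X n →+ ↥(𝒜 k) :=
  AddMonoidHom.codRestrict
    (((lam n R d).comp (ρ (U n R) (P n R d) (W₀ n R) (W₀_le n R) (bId n)).hom).comp
      (Pi.π (fun a : Fin (n + 1) → Idx.{u} n => (P n R d).obj (op (∏ᶜ (U n R ∘ a)))) (bId n)).hom)
    (𝒜 k) (fun _ => lam_mem k hd _)

lemma Lam_apply (k : ℕ) (hd : d = -((n : ℤ) + 1 + k))
    (x : ((cechComplexFunctor (U n R)).obj (P n R d)).X n) :
    (Lam k hd x : S) = lam n R d (model (U n R) (P n R d) (W₀ n R) (W₀_le n R) x (bId n)) := rfl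

variable (n R d) in
/-- the Čech complex of `O(d)` for the standard cover -/
noncomputable abbrev KK : CochainComplex AddCommGrpCat.{u} ℕ :=
  (cechComplexFunctor (U n R)).obj (P n R d)

/-- coboundaries have no residue -/
lemma Lam_d (k : ℕ) (hd : d = -((n : ℤ) + 1 + k)) (m : ℕ) (x : (KK n R d).X m) :
    Lam k hd ((KK n R d).d m n x) = 0 := by
  by_cases hm : m + 1 = n
  · subst hm
    apply Subtype.ext
    rw [Lam_apply, model_d]
    exact lam_dd_eq_zero (m + 1) R d m (bId (m + 1)) (bId_bijective (m + 1)).1 _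
      (fun b' => ρ_mem_Gs (m + 1) R d b' _)
  · have h0 : (KK n R d).d m n = 0 := (KK n R d).shape m n hm
    rw [h0]
    exact map_zero _

/-- top-degree cocycles without residue are coboundaries -/
lemma exists_of_Lam_eq_zero (k : ℕ) (hd : d = -((n : ℤ) + 1 + k)) (c : (KK n R d).X n)
    (hc : (KK n R d).d n (n + 1) c = 0) (hL : Lam k hd c = 0) :
    ∃ (m : ℕ) (c' : (KK n R d).X m), (KK n R d).d m n c' = c := by
  have hres : lam n R d (model (U n R) (P n R d) (W₀ n R) (W₀_le n R) c (bId n)) = 0 := by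
    rw [← Lam_apply k hd, hL]
    rfl
  rcases n with _ | p
  · -- dimension zero
    refine ⟨0, 0, ?_⟩
    rw [map_zero]
    symm
    apply eq_of_model_eq (U 0 R) (P 0 R d) (W₀ 0 R) (W₀_le 0 R) (fun b => ρ_injective 0 R d b)
    intro b
    have hsub : Subsingleton (Fin (0 + 1)) := by
      rw [zero_add]; infer_instance
    have hb : b = bId 0 := by
      funext j
      apply ULift.ext
      exact Subsingleton.elim _ _
    rw [hb, model_zero]
    obtain ⟨K, e, A, hA, he, h⟩ := exists_isFrac_W₀ 0 R d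
      (model (U 0 R) (P 0 R d) (W₀ 0 R) (W₀_le 0 R) c (bId 0))
    rw [lam_eq hA he h] at hres
    have hA0 : A = 0 := by
      ext m
      rw [coeff_zero]
      by_contra hne
      apply hne
      apply coeff_eq_zero_of_ν_eq_zero R K A hres m
      intro i
      have h1 : Finsupp.degree m = e := by
        rw [← wt_eq_deg]; exact hA hne
      have h2 : m i ≤ Finsupp.degree m := by
        rw [Finsupp.degree_eq_sum]
        exact Finset.single_le_sum (f := fun i => m i) (fun _ _ => Nat.zero_le _)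
          (Finset.mem_univ i)
      rw [hd] at he
      push_cast at he
      have h3 : (0 : ℤ) ≤ (k : ℤ) := Int.natCast_nonneg k
      have h4 : (e : ℤ) < (K : ℤ) := by linarith
      have h5 : e < K := by exact_mod_cast h4
      omega
    rw [hA0] at h
    exact h.ext IsFrac.zero
  · obtain ⟨h, hh, hdh⟩ := halg_top (p + 1) R d p rfl (bId (p + 1)) (bId_bijective (p + 1))
      (model (U (p + 1) R) (P (p + 1) R d) (W₀ (p + 1) R) (W₀_le (p + 1) R) c)
      (fun b => ρ_mem_Gs (p + 1) R d b _)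
      (dd_model_eq_zero (U (p + 1) R) (P (p + 1) R d) (W₀ (p + 1) R) (W₀_le (p + 1) R) c hc) hres
    obtain ⟨y, hy⟩ := exists_primitive (U (p + 1) R) (P (p + 1) R d) (W₀ (p + 1) R)
      (W₀_le (p + 1) R) (Gs (p + 1) R d) p c (fun b => ρ_injective (p + 1) R d b)
      (fun b g hg => exists_ρ_eq (p + 1) R d b g hg) h hh hdh
    exact ⟨p, y, hy⟩

/-- every residue is the residue of a top-degree cocycle -/
lemma exists_Lam_eq (k : ℕ) (hd : d = -((n : ℤ) + 1 + k)) (a : ↥(𝒜 k)) :
    ∃ c : (KK n R d).X n, (KK n R d).d n (n + 1) c = 0 ∧ Lam k hd c = a := by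
  obtain ⟨g, hg, hcoc, hlam⟩ := exists_model_cocycle n R d k hd (bId n) (bId_bijective n) a.1 a.2
  obtain ⟨c, hc⟩ := exists_model_eq (U n R) (P n R d) (W₀ n R) (W₀_le n R) (Gs n R d)
    (fun b g hg => exists_ρ_eq n R d b g hg) g hg
  refine ⟨c, ?_, ?_⟩
  · apply d_eq_zero_of_dd_model (U n R) (P n R d) (W₀ n R) (W₀_le n R)
      (fun b => ρ_injective n R d b)
    intro c'
    rw [dd_congr hc, hcoc]
  · apply Subtype.ext
    rw [Lam_apply, hc, hlam]

variable (n R d) in
/-- multiplication by a scalar, as an endomorphism of the presheaf `O(d)` -/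
noncomputable def smulP (r : R) : P n R d ⟶ P n R d :=
  (Coh.smulAb (GrMod.tilde 𝒜 𝒜 d) (gl n R r)).hom

lemma Lam_smul (k : ℕ) (hd : d = -((n : ℤ) + 1 + k)) (r : R) (c : (KK n R d).X n) :
    Lam k hd (((cechComplexFunctor (U n R)).map (smulP n R d r)).f n c) = r • Lam k hd c := by
  apply Subtype.ext
  rw [Lam_apply, model_map]
  exact lam_smul r _

/-- **Top Čech cohomology of `O(-(n+1+k))` on `P^n_R`** is the module of homogeneous polynomials of
degree `k`, compatibly with scalars. -/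
theorem exists_cechH_top_equiv (k : ℕ) (hd : d = -((n : ℤ) + 1 + k)) :
    ∃ e : ↑((KK n R d).homology n) ≃+ ↥(𝒜 k), ∀ (r : R) (x : ↑((KK n R d).homology n)),
      e ((HomologicalComplex.homologyMap
        ((cechComplexFunctor (U n R)).map (smulP n R d r)) n).hom x) = r • e x := by
  obtain ⟨e, he⟩ := HomBridge.exists_homology_equiv (KK n R d) n (Lam k hd) (Lam_d k hd)
    (exists_of_Lam_eq_zero k hd) (exists_Lam_eq k hd)
  refine ⟨e, fun r x => ?_⟩
  exact he ((cechComplexFunctor (U n R)).map (smulP n R d r))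
    (DistribSMul.toAddMonoidHom ↥(𝒜 k) r) (fun c => Lam_smul k hd r c) x

end Groth.Agent.Lib.Helper93.PnCoh
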