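import Mathlib
import Groth.Prelude.Def_CohB1
import Groth.Agent.Lib.Helper93.ProjDimC
import Groth.Agent.Lib.Helper93.ProjDimB
import Groth.Agent.Lib.Helper93.ProjDimE
import Groth.Agent.Lib.Helper93.ProjAvoid

/-!
# Linear forms missing a closed subset of `P^n` over an infinite field (helper93)
-/

set_option autoImplicit false
open AlgebraicGeometry TopologicalSpace Topology Order

namespace Groth.Agent.Lib.Helper93.ProjNN

open Groth.Agent.Lib.Helper93.ProjDim Groth.Agent.Lib.Helper93.ProjAvoid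

universe u
variable (n : ℕ) (k : Type u) [Field k]

local notation "Sₖ" => MvPolynomial (Fin (n + 1)) k
local notation "𝒢" => CohB1.polyGrading n k

theorem X_mem_one (i : Fin (n + 1)) : (MvPolynomial.X i : Sₖ) ∈ 𝒢 1 := by
  change _ ∈ MvPolynomial.homogeneousSubmodule _ _ 1
  rw [MvPolynomial.mem_homogeneousSubmodule]
  exact MvPolynomial.isHomogeneous_X _ _

/-- the subspace of linear forms vanishing at a point -/
noncomputable def linSub (x : ProjectiveSpectrum 𝒢) : Submodule k ↥(𝒢 1) :=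
  Submodule.comap (𝒢 1).subtype (x.asHomogeneousIdeal.toIdeal.restrictScalars k)

theorem mem_linSub (x : ProjectiveSpectrum 𝒢) (ℓ : ↥(𝒢 1)) :
    ℓ ∈ linSub n k x ↔ (ℓ : Sₖ) ∈ x.asHomogeneousIdeal.toIdeal := Iff.rfl

theorem linSub_ne_top (x : ProjectiveSpectrum 𝒢) : linSub n k x ≠ ⊤ := by
  intro h
  apply x.not_irrelevant_le
  change (HomogeneousIdeal.irrelevant 𝒢).toIdeal ≤ x.asHomogeneousIdeal.toIdeal
  refine (irrelevant_le_span_X n k).trans (Ideal.span_le.mpr ?_)
  rintro _ ⟨j, -, rfl⟩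
  have : (⟨MvPolynomial.X j, X_mem_one n k j⟩ : ↥(𝒢 1)) ∈ linSub n k x := by rw [h]; trivial
  exact this

/-- Over an infinite field, a linear form avoiding finitely many points of `P^n`. -/
theorem exists_linear_notMem [Infinite k] (s : Finset (ProjectiveSpectrum 𝒢)) :
    ∃ ℓ : Sₖ, ℓ ∈ 𝒢 1 ∧ ∀ x ∈ s, ℓ ∉ x.asHomogeneousIdeal.toIdeal := by
  classical
  let t : Finset (Subspace k ↥(𝒢 1)) := s.image (linSub n k)
  have ht : ⊤ ∉ t := by
    intro h
    obtain ⟨x, -, hx⟩ := Finset.mem_image.mp h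
    exact linSub_ne_top n k x hx
  have hne := Subspace.biUnion_ne_univ_of_top_notMem ht
  obtain ⟨ℓ, hℓ⟩ := (Set.ne_univ_iff_exists_notMem _).mp hne
  refine ⟨ℓ.1, ℓ.2, ?_⟩
  intro x hx hmem
  apply hℓ
  simp only [Set.mem_iUnion]
  exact ⟨linSub n k x, Finset.mem_image_of_mem _ hx, hmem⟩

/-- Linear forms cutting down the dimension of a closed subset of `P^n`. -/
theorem exists_linear_forms [Infinite k] (Z : Set (ProjectiveSpectrum 𝒢)) (hZ : IsClosed Z)
    (r : ℕ) (hr : ∀ x ∈ Z, pdim x ≤ r) :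
    ∀ s : ℕ, s ≤ r + 1 → ∃ h : Fin s → Sₖ,
      (∀ j, h j ∈ 𝒢 1) ∧
      ∀ x ∈ Z, (∀ j, h j ∈ x.asHomogeneousIdeal.toIdeal) → pdim x + s ≤ r := by
  have : IsNoetherianRing Sₖ := inferInstance
  have : NoetherianSpace (ProjectiveSpectrum 𝒢) := noetherianSpace_projectiveSpectrum 𝒢
  intro s
  induction s with
  | zero =>
    intro _
    exact ⟨Fin.elim0, fun j => j.elim0, fun x hx _ => by simpa using hr x hx⟩
  | succ s ih =>
    intro hs
    obtain ⟨h, h1, h3⟩ := ih (by omega)
    let W : Set (ProjectiveSpectrum 𝒢) := Z ∩ ⋂ j, ProjectiveSpectrum.zeroLocus 𝒢 {h j}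
    have hW : IsClosed W :=
      hZ.inter (isClosed_iInter fun j => ProjectiveSpectrum.isClosed_zeroLocus 𝒢 _)
    have hmemW : ∀ x, x ∈ W ↔ x ∈ Z ∧ ∀ j, h j ∈ x.asHomogeneousIdeal.toIdeal := by
      intro x
      simp only [W, Set.mem_inter_iff, Set.mem_iInter, ProjectiveSpectrum.mem_zeroLocus,
        Set.singleton_subset_iff]
      rfl
    have hfin := finite_maximal_points hW
    let M : Set (ProjectiveSpectrum 𝒢) := {x | x ∈ W ∧ ∀ x' ∈ W, x' ⤳ x → x' = x}
    classical
    obtain ⟨g, hg1, hg⟩ := exists_linear_notMem n k hfin.toFinset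
    refine ⟨Fin.snoc h g, ?_, ?_⟩
    · intro j
      refine Fin.lastCases ?_ (fun i => ?_) j
      · rw [Fin.snoc_last]; exact hg1
      · rw [Fin.snoc_castSucc]; exact h1 i
    · intro x hxZ hxh
      have hxh' : ∀ j, h j ∈ x.asHomogeneousIdeal.toIdeal := fun i => by
        have := hxh i.castSucc
        rwa [Fin.snoc_castSucc] at this
      have hxg : g ∈ x.asHomogeneousIdeal.toIdeal := by
        have := hxh (Fin.last s)
        rwa [Fin.snoc_last] at this
      have hle := h3 x hxZ hxh'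
      by_contra hcon
      have heq : pdim x + s = r := by omega
      have hxM : x ∈ M := by
        refine ⟨(hmemW x).mpr ⟨hxZ, hxh'⟩, ?_⟩
        intro x' hx'W hx'x
        by_contra hne
        have hlt : x' < x := lt_of_le_of_ne (specializes_iff_le.mp hx'x) hne
        have hpd := pdim_anti n k x' x hlt
        have := h3 x' ((hmemW x').mp hx'W).1 ((hmemW x').mp hx'W).2
        omega
      exact hg x ((Set.Finite.mem_toFinset hfin).mpr hxM) hxg

end Groth.Agent.Lib.Helper93.ProjNN
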