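import Mathlib
import Groth.Prelude.Def_CohB1
import Groth.Agent.Lib.Helper93.ProjNN1
import Groth.Agent.Lib.Helper3.PConeGlue
import Groth.Agent.Lib.Helper93.ProjDimF
import Groth.Agent.Lib.Helper7.ProjSpaceProper

set_option autoImplicit false
open AlgebraicGeometry TopologicalSpace Topology Order CategoryTheory HomogeneousLocalization

namespace Groth.Agent.Lib.Helper93.ProjNN

open Groth.Agent.Lib.Helper93.ProjDim Groth.Agent.Lib.Helper3.PConeLib Groth.Agent.Lib.Helper3.PConeGlue

universe u
variable (n d : ℕ) (k : Type u) [Field k]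

/-- The structure morphism of `P^n_k`, typed with source `Proj`. -/
noncomputable def toSpec' (m : ℕ) : Proj (CohB1.polyGrading m k) ⟶ Spec (CommRingCat.of k) :=
  Proj.toSpecZero (CohB1.polyGrading m k) ≫
    Spec.map (CommRingCat.ofHom (algebraMap k (CohB1.polyGrading m k 0)))

theorem toSpec'_eq (m : ℕ) : toSpec' k m = CohB1.ProjSpace.toSpec m k := rfl

instance (m : ℕ) : IsProper (toSpec' k m) :=
  inferInstanceAs (IsProper (CohB1.ProjSpace.toSpec m k))

/-- The graded homomorphism `k[y_0..y_d] → k[x_0..x_n]`, `y_i ↦ h_i`, for linear forms `h_i`. -/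
noncomputable def linHom (h : Fin (d + 1) → MvPolynomial (Fin (n + 1)) k)
    (hh : ∀ i, h i ∈ CohB1.polyGrading n k 1) :
    CohB1.polyGrading d k →+*ᵍ CohB1.polyGrading n k where
  toRingHom := (MvPolynomial.aeval h : MvPolynomial (Fin (d + 1)) k →ₐ[k] _).toRingHom
  map_mem := by
    intro i x hx
    have hx' : x.IsHomogeneous i := (MvPolynomial.mem_homogeneousSubmodule i x).mp hx
    have := hx'.aeval h (n := 1) (fun j => (MvPolynomial.mem_homogeneousSubmodule 1 (h j)).mp (hh j))
    rw [one_mul] at this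
    exact (MvPolynomial.mem_homogeneousSubmodule i _).mpr this

variable (h : Fin (d + 1) → MvPolynomial (Fin (n + 1)) k)
    (hh : ∀ i, h i ∈ CohB1.polyGrading n k 1)

@[simp] theorem linHom_X (i : Fin (d + 1)) : linHom n d k h hh (MvPolynomial.X i) = h i := by
  change MvPolynomial.aeval h (MvPolynomial.X i) = h i
  simp

@[simp] theorem linHom_C (c : k) : linHom n d k h hh (MvPolynomial.C c) = MvPolynomial.C c := by
  change MvPolynomial.aeval h (MvPolynomial.C c) = _
  simp

theorem away_map_fromZero (f : MvPolynomial (Fin (d + 1)) k)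
    (c : k) :
    Away.map (linHom n d k h hh) f (fromZeroRingHom (CohB1.polyGrading d k) _
      (algebraMap k (CohB1.polyGrading d k 0) c)) =
    fromZeroRingHom (CohB1.polyGrading n k) _ (algebraMap k (CohB1.polyGrading n k 0) c) := by
  rw [HomogeneousLocalization.ext_iff_val]
  simp only [Away.map, fromZeroRingHom, RingHom.coe_mk, MonoidHom.coe_mk, OneHom.coe_mk,
    HomogeneousLocalization.map_mk, val_mk]
  congr 1
  · exact linHom_C n d k h hh c
  · apply Subtype.ext
    exact map_one (linHom n d k h hh)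

/-- The linear projection `P^n ∖ V(h) → P^d`. -/
theorem exists_proj :
    ∃ p : (PCone.dom (linHom n d k h hh) : Scheme.{u}) ⟶ Proj (CohB1.polyGrading d k),
      (∀ (e : ℕ) (f : MvPolynomial (Fin (d + 1)) k) (he : 0 < e)
        (hf : f ∈ CohB1.polyGrading d k e),
        PCone.chart (linHom n d k h hh) hf he ≫ p =
          Spec.map (CommRingCat.ofHom (Away.map (linHom n d k h hh) f)) ≫
            Proj.awayι (CohB1.polyGrading d k) f hf he) ∧
      p ≫ toSpec' k d =
        (PCone.dom (linHom n d k h hh)).ι ≫ toSpec' k n := by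
  obtain ⟨p, hp, -⟩ := exists_unique_retraction (linHom n d k h hh)
  refine ⟨p, hp, ?_⟩
  refine (chartCover (linHom n d k h hh)).openCover.hom_ext _ _ fun i => ?_
  change PCone.chart (linHom n d k h hh) i.2.2.2 i.2.2.1 ≫ p ≫ toSpec' k d =
    PCone.chart (linHom n d k h hh) i.2.2.2 i.2.2.1 ≫
      (PCone.dom (linHom n d k h hh)).ι ≫ toSpec' k n
  rw [← Category.assoc, hp i.1 i.2.1 i.2.2.1 i.2.2.2, ← Category.assoc, chart_ι]
  unfold toSpec'
  rw [Category.assoc, Proj.awayι_toSpecZero_assoc, Proj.awayι_toSpecZero_assoc,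
    ← Spec.map_comp, ← Spec.map_comp, ← Spec.map_comp]
  congr 1
  ext c
  exact congrArg val (away_map_fromZero n d k h hh i.2.1 c)

section Main

variable {n k}

/-- In a discrete fibre, specialization forces equality. -/
theorem eq_of_specializes_of_map_eq {X Y : Scheme.{u}} (π : X ⟶ Y) [LocallyQuasiFinite π]
    {a a' : X} (haa : a ⤳ a') (hπ : π.base a = π.base a') : a = a' := by
  have hdisc := π.isDiscrete_preimage_singleton (π.base a')
  have := hdisc.to_subtype
  let b : ↥(π.base ⁻¹' {π.base a'}) := ⟨a, hπ⟩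
  let b' : ↥(π.base ⁻¹' {π.base a'}) := ⟨a', rfl⟩
  have hbb : b ⤳ b' := IsInducing.subtypeVal.specializes_iff.mp haa
  exact congrArg Subtype.val hbb.eq

theorem isEmpty_irreducibleCloseds_of_isEmpty (T : Type*) [TopologicalSpace T] [IsEmpty T] :
    IsEmpty (TopologicalSpace.IrreducibleCloseds T) :=
  ⟨fun s => (s.isIrreducible.nonempty.some : T) |> IsEmpty.false⟩

variable (n k) in
/-- **Projective Noether normalization** over an infinite field. -/
theorem exists_finite_surjective [Infinite k] {X : Scheme.{u}}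
    (ι : X ⟶ Proj (CohB1.polyGrading n k))
    [IsClosedImmersion ι] (d : ℕ) (hd : topologicalKrullDim X = d) :
    ∃ π : X ⟶ Proj (CohB1.polyGrading d k),
      π ≫ toSpec' k d = ι ≫ toSpec' k n ∧
        IsFinite π ∧ Function.Surjective π.base := by
  have hmaxd := irrelevant_isMaximal d k
  have hmaxn := irrelevant_isMaximal n k
  -- the closed image
  have hZ : IsClosed (Set.range ι.base) := ι.isClosedEmbedding.isClosed_range
  have hdimZ : topologicalKrullDim ↥(Set.range ι.base) = d := by
    rw [← hd]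
    exact (IsHomeomorph.topologicalKrullDim_eq _
      ι.isClosedEmbedding.isEmbedding.toHomeomorph.isHomeomorph).symm
  have hr : ∀ x ∈ Set.range ι.base, pdim x ≤ d := by
    intro x hx
    have h1 := pdim_le_dim n k hZ hx
    have h2 : ((pdim x : ℕ) : WithBot ℕ∞) ≤ (d : WithBot ℕ∞) := h1.trans (le_of_eq hdimZ)
    exact_mod_cast h2
  obtain ⟨h, hh, h3⟩ := exists_linear_forms n k (Set.range ι.base) hZ d hr (d + 1) le_rfl
  have hex : ∀ x ∈ Set.range ι.base, ∃ j, h j ∉ x.asHomogeneousIdeal.toIdeal := by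
    intro x hx
    by_contra hcon
    push Not at hcon
    have := h3 x hx hcon
    omega
  -- the image lies in the domain of definition of the projection
  have hrange : Set.range ι.base ⊆ Set.range (PCone.dom (linHom n d k h hh)).ι.base := by
    intro x hx
    rw [Scheme.Opens.range_ι]
    obtain ⟨j, hj⟩ := hex x hx
    refine Opens.mem_iSup.mpr ⟨⟨MvPolynomial.X j, 1, one_pos, X_mem_one d k j⟩, ?_⟩
    change linHom n d k h hh (MvPolynomial.X j) ∉ x.asHomogeneousIdeal.toIdeal
    rw [linHom_X]
    exact hj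
  let ι' : X ⟶ (PCone.dom (linHom n d k h hh) : Scheme.{u}) :=
    IsOpenImmersion.lift (PCone.dom (linHom n d k h hh)).ι ι hrange
  have hι' : ι' ≫ (PCone.dom (linHom n d k h hh)).ι = ι := IsOpenImmersion.lift_fac _ _ _
  have : IsClosedImmersion (ι' ≫ (PCone.dom (linHom n d k h hh)).ι) := by rw [hι']; infer_instance
  have hci : IsClosedImmersion ι' := IsClosedImmersion.of_comp ι' (PCone.dom (linHom n d k h hh)).ι
  obtain ⟨p, hp, hpS⟩ := exists_proj n d k h hh
  have hpaff : IsAffineHom p := isAffineHom (linHom n d k h hh) p hp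
  have hcomp : (ι' ≫ p) ≫ toSpec' k d = ι ≫ toSpec' k n := by
    rw [Category.assoc, hpS, ← Category.assoc, hι']
  have hfin : IsFinite (ι' ≫ p) := by
    have : IsProper ((ι' ≫ p) ≫ toSpec' k d) := by rw [hcomp]; infer_instance
    have hprop : IsProper (ι' ≫ p) := IsProper.of_comp (ι' ≫ p) (toSpec' k d)
    exact IsFinite.iff_isProper_and_isAffineHom.mpr ⟨hprop, inferInstance⟩
  refine ⟨ι' ≫ p, hcomp, hfin, ?_⟩
  -- surjectivity: `π` does not lower `pdim`
  have key : ∀ m : ℕ, ∀ a : X, pdim (ι.base a) = m → m ≤ pdim ((ι' ≫ p).base a) := by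
    intro m
    induction m with
    | zero => intros; exact Nat.zero_le _
    | succ m ih =>
      intro a ha
      obtain ⟨y, hay, hy⟩ := pdim_step n k (ι.base a) (by omega)
      have hyZ : y ∈ Set.range ι.base :=
        (specializes_iff_le.mpr hay.le).mem_closed hZ ⟨a, rfl⟩
      obtain ⟨a', rfl⟩ := hyZ
      have haa' : a ⤳ a' :=
        ι.isClosedEmbedding.isInducing.specializes_iff.mp (specializes_iff_le.mpr hay.le)
      have hne : a ≠ a' := fun e => by rw [e] at hay; exact lt_irrefl _ hay
      have hπne : (ι' ≫ p).base a ≠ (ι' ≫ p).base a' :=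
        fun e => hne (eq_of_specializes_of_map_eq (ι' ≫ p) haa' e)
      have hπle : @LE.le (ProjectiveSpectrum (CohB1.polyGrading d k)) _
          ((ι' ≫ p).base a) ((ι' ≫ p).base a') :=
        specializes_iff_le.mp (haa'.map (ι' ≫ p).continuous)
      have hlt := pdim_anti d k _ _ (lt_of_le_of_ne hπle hπne)
      have := ih a' (by omega)
      omega
  have hXne : Nonempty X := by
    by_contra hemp
    rw [not_nonempty_iff] at hemp
    have := isEmpty_irreducibleCloseds_of_isEmpty X
    have hbot : topologicalKrullDim X = ⊥ := Order.krullDim_eq_bot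
    rw [hbot] at hd
    exact absurd hd (by simp)
  obtain ⟨x0, hx0Z, hx0⟩ := exists_pdim_eq_of_dim_eq n k hZ
    ⟨ι.base hXne.some, ⟨_, rfl⟩⟩ hdimZ
  obtain ⟨a0, rfl⟩ := hx0Z
  have h1 := key d a0 hx0
  have h2 := pdim_le d k ((ι' ≫ p).base a0)
  have hgen : (ι' ≫ p).base a0 = zeroPt d k := by
    by_contra hne
    have hlt : zeroPt d k < (ι' ≫ p).base a0 :=
      lt_of_le_of_ne (zeroPt_le d k _) (Ne.symm hne)
    have := pdim_anti d k _ _ hlt
    rw [pdim_zeroPt] at this
    omega
  have hclosed : IsClosed (Set.range (ι' ≫ p).base) := (ι' ≫ p).isClosedMap.isClosed_range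
  intro y
  have hy : zeroPt d k ⤳ y := specializes_iff_le.mpr (zeroPt_le d k y)
  exact hy.mem_closed hclosed ⟨a0, hgen⟩

end Main

end Groth.Agent.Lib.Helper93.ProjNN
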