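import Groth.Agent.Lib.Helper93.PnFin1
import Groth.Agent.Lib.Helper93.CohFin
import Groth.Agent.Lib.Helper35.ProjRes
import Groth.Agent.Lib.Lead.Tw6
import Groth.Agent.Lib.Helper21.Devissage
import Groth.Agent.S0843
import Groth.Agent.S0844
import Groth.Agent.S0845
import Groth.Agent.S0846
import Groth.Agent.S0022

/-!
# helper93: finiteness of the cohomology of coherent sheaves on `P^n_R` over a Noetherian ring
-/

set_option autoImplicit false
universe u
open CategoryTheory CategoryTheory.Limits AlgebraicGeometry TopologicalSpace Opposite MvPolynomial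

namespace Groth.Agent.Lib.Helper93.PnFin

open Groth.Agent.Lib.Helper93.PnCoh

variable (n : ℕ) (R : Type u) [CommRing R]

local notation "𝒜" => CohB1.polyGrading n R

/-- the twisting sheaves on `P^n_R` are coherent -/
theorem isCoh_twist (d : ℤ) : Coh.IsCoh (Twist.twist 𝒜 d) := by
  have hcov : ∀ x : Proj 𝒜, ∃ i : Fin (n + 1), x ∈ Proj.basicOpen 𝒜
      ((fun i => (⟨X i, isHomogeneous_X R i⟩ : 𝒜 1)) i).1 := by
    intro x
    have hx : x ∈ ⨆ i, U n R i := by rw [iSup_U]; trivial
    obtain ⟨i, hi⟩ := Opens.mem_iSup.1 hx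
    exact ⟨i.down, hi⟩
  have h := Groth.Agent.Lib.Helper35.ProjRes.hasGens_mul_of_cover (d := 1)
    (fun i : Fin (n + 1) => (⟨X i, isHomogeneous_X R i⟩ : 𝒜 1)) hcov d
  have h' : Groth.Agent.Lib.Helper35.ProjRes.HasGens 𝒜 d := by
    simpa using h
  exact Groth.Agent.Lib.Lead.Inv.isCoh_of_isInvertible
    (Groth.Agent.Lib.Helper35.ProjRes.isInvertible_of_hasGens h')

instance isLocallyNoetherian_projSpace [IsNoetherianRing R] :
    IsLocallyNoetherian (CohB1.ProjSpace n R) :=
  LocallyOfFiniteType.isLocallyNoetherian (CohB1.ProjSpace.toSpec n R)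

lemma isNoetherian_homog [IsNoetherianRing R] (k : ℕ) :
    _root_.IsNoetherian R ↥(MvPolynomial.homogeneousSubmodule (Fin (n + 1)) R k) := by
  haveI : Module.Finite R ↥(MvPolynomial.homogeneousSubmodule (Fin (n + 1)) R k) :=
    Module.Finite.iff_fg.2 (homogeneousSubmodule_fg _ _ k)
  exact isNoetherian_of_isNoetherianRing_of_finite R _

/-- the cohomology of the twisting sheaves on `P^n_R` is Noetherian over a Noetherian ring `R` -/
theorem isNoetherian_HH_twist [IsNoetherianRing R] (d : ℤ) (q : ℕ) :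
    _root_.IsNoetherian R
      (Coh.HH (CohB1.ProjSpace n R) (Twist.twistProjSpace n R d) q) := by
  by_cases h₀ : q = 0 ∧ 0 ≤ d
  · obtain ⟨rfl, hd⟩ := h₀
    obtain ⟨k, rfl⟩ := Int.eq_ofNat_of_zero_le hd
    obtain ⟨e⟩ := Groth.Agent.S0843.result R n k
    haveI := isNoetherian_homog n R k
    exact isNoetherian_of_linearEquiv e.symm
  by_cases hn : q = n ∧ d ≤ -((n : ℤ) + 1)
  · obtain ⟨rfl, hd⟩ := hn
    obtain ⟨k, hk⟩ := Int.eq_ofNat_of_zero_le (a := -d - ((q : ℤ) + 1)) (by omega)
    have hd' : d = -((q : ℤ) + 1 + k) := by omega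
    subst hd'
    obtain ⟨e⟩ := Groth.Agent.S0845.result R q k
    haveI := isNoetherian_homog q R k
    exact isNoetherian_of_linearEquiv e.symm
  · haveI := Groth.Agent.S0844.result R n d q h₀ hn
    infer_instance

/-- **Finiteness of the cohomology of coherent sheaves on `P^n_R`** (Noetherian form), by descending
induction on the degree. -/
theorem isNoetherian_HH [IsNoetherianRing R] :
    ∀ (k i : ℕ), n + 1 ≤ i + k → ∀ (M : (CohB1.ProjSpace n R).Modules), Coh.IsCoh M →
      _root_.IsNoetherian R (Coh.HH (CohB1.ProjSpace n R) M i)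
  | 0, i, hi, M, hM => by
    haveI : Coh.IsQCoh M := hM.1
    haveI := Groth.Agent.S0022.result n R M i (by omega)
    infer_instance
  | k + 1, i, hi, M, hM => by
    haveI : IsNoetherianRing (MvPolynomial (Fin (n + 1)) R) := inferInstance
    obtain ⟨r, d, φ, hφ⟩ := Groth.Agent.S0846.result 𝒜 M hM
    have hE : Coh.IsCoh (∐ fun j : Fin r => Twist.twist 𝒜 (d j)) :=
      isCoh_sigma _ (fun j => isCoh_twist n R (d j))
    let S : ShortComplex (CohB1.ProjSpace n R).Modules :=
      ShortComplex.mk (kernel.ι φ) φ (kernel.condition φ)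
    have hS : S.ShortExact :=
      { exact := ShortComplex.exact_kernel φ
        mono_f := inferInstanceAs (Mono (kernel.ι φ))
        epi_g := hφ }
    have hK : Coh.IsCoh (kernel φ) :=
      Groth.Agent.Lib.Helper21.Devissage.isCoh_kernel (X := CohB1.ProjSpace n R) φ hE hM
    have h1 := isNoetherian_HH k (i + 1) (by omega) (kernel φ) hK
    have h2 := CohFin.isNoetherian_sigma R (X := CohB1.ProjSpace n R)
      (fun j : Fin r => Twist.twist 𝒜 (d j)) i
      (fun j => isNoetherian_HH_twist n R (d j) i)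
    exact CohFin.isNoetherian_X₃ R S hS i h2 h1

end Groth.Agent.Lib.Helper93.PnFin
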