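import Groth.Agent.Lib.Helper93.PnFin2
import Groth.Agent.Lib.Helper97.TwistExact2

/-!
# helper93: Serre vanishing on `P^n_R` for a Noetherian ring `R`
-/

set_option autoImplicit false
universe u
open CategoryTheory CategoryTheory.Limits AlgebraicGeometry TopologicalSpace Opposite MvPolynomial

namespace Groth.Agent.Lib.Helper93.SerreVan

open Groth.Agent.Lib.Helper93.PnCoh Groth.Agent.Lib.Helper93.PnFin
open Groth.Agent.Lib.Helper97.TwistExact

section Bip

/-- cohomology of a finite biproduct vanishes if the cohomology of each summand does -/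
theorem subsingleton_HH_biproduct (A : Type u) [CommRing A] {X : Scheme.{u}}
    [X.Over (Spec (CommRingCat.of A))] [HasFiniteBiproducts X.Modules] {r : ℕ} (f : Fin r → X.Modules)
    (i : ℕ) (h : ∀ j, Subsingleton (Coh.HH X (f j) i)) : Subsingleton (Coh.HH X (⨁ f) i) := by
  refine ⟨fun a b => ?_⟩
  suffices h0 : ∀ x : Coh.HH X (⨁ f) i, x = 0 from (h0 a).trans (h0 b).symm
  intro x
  have h1 : x = ∑ j, Canon.HHlin A (biproduct.ι f j) i (Canon.HHlin A (biproduct.π f j) i x) := by
    have h2 : ∀ j, Canon.HHlin A (biproduct.ι f j) i (Canon.HHlin A (biproduct.π f j) i x) =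
        Canon.HHlin A (biproduct.π f j ≫ biproduct.ι f j) i x :=
      fun j => (CohFin.HHlin_comp A _ _ i x).symm
    simp only [h2]
    rw [← CohFin.HHlin_sum, biproduct.total, CohFin.HHlin_id]
  rw [h1]
  refine Finset.sum_eq_zero (fun j _ => ?_)
  rw [(h j).elim (Canon.HHlin A (biproduct.π f j) i x) 0, map_zero]

end Bip

variable (n : ℕ) (R : Type u) [CommRing R]

local notation "𝒜" => CohB1.polyGrading n R

lemma hasGens (d : ℤ) : Groth.Agent.Lib.Helper35.ProjRes.HasGens 𝒜 d := by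
  have hcov : ∀ x : Proj 𝒜, ∃ i : Fin (n + 1), x ∈ Proj.basicOpen 𝒜
      ((fun i => (⟨X i, isHomogeneous_X R i⟩ : 𝒜 1)) i).1 := by
    intro x
    have hx : x ∈ ⨆ i, U n R i := by rw [iSup_U]; trivial
    obtain ⟨i, hi⟩ := Opens.mem_iSup.1 hx
    exact ⟨i.down, hi⟩
  have h := Groth.Agent.Lib.Helper35.ProjRes.hasGens_mul_of_cover (d := 1)
    (fun i : Fin (n + 1) => (⟨X i, isHomogeneous_X R i⟩ : 𝒜 1)) hcov d
  simpa using h

lemma isInvertible_twist (d : ℤ) : PicF.IsInvertible (Twist.twistProjSpace n R d) :=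
  Groth.Agent.Lib.Helper35.ProjRes.isInvertible_of_hasGens (hasGens n R d)

lemma isFlat_twist (d : ℤ) :
    ModSite.IsFlat (O := (CohB1.ProjSpace n R).sheaf) (Twist.twistProjSpace n R d) :=
  isFlat_of_isInvertible _ (isInvertible_twist n R d)

lemma nonempty_twist_mul (a b : ℤ) :
    Nonempty (CohB1.tensorMod (Twist.twistProjSpace n R a) (Twist.twistProjSpace n R b) ≅
      Twist.twistProjSpace n R (a + b)) :=
  Groth.Agent.Lib.Helper35.ProjRes.tensor_iso_of_hasGens (hasGens n R a) (hasGens n R b)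

/-- twists of a finite sum of twisting sheaves have no higher cohomology once all degrees are
`> -(n+1)` -/
theorem subsingleton_HH_sigma_twist {r : ℕ} (a : Fin r → ℤ) (d : ℤ) (i : ℕ) (hi : 0 < i)
    (hd : ∀ j, -((n : ℤ) + 1) < a j + d) :
    Subsingleton (Coh.HH (CohB1.ProjSpace n R)
      (CohB1.tensorMod (∐ fun j : Fin r => Twist.twist 𝒜 (a j)) (Twist.twistProjSpace n R d)) i) := by
  haveI : HasFiniteBiproducts (CohB1.ProjSpace n R).Modules := Abelian.hasFiniteBiproducts
  let L := Twist.twistProjSpace n R d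
  let f : Fin r → (CohB1.ProjSpace n R).Modules := fun j => Twist.twist 𝒜 (a j)
  have e1 : (twistF L).obj (∐ f) ≅ (twistF L).obj (⨁ f) :=
    (twistF L).mapIso (biproduct.isoCoproduct f).symm
  have e2 : (twistF L).obj (⨁ f) ≅ ⨁ (twistF L).obj ∘ f := (twistF L).mapBiproduct f
  have h3 : Subsingleton (Coh.HH (CohB1.ProjSpace n R) (⨁ (twistF L).obj ∘ f) i) := by
    apply subsingleton_HH_biproduct R
    intro j
    obtain ⟨e⟩ := nonempty_twist_mul n R (a j) d
    refine subsingleton_HH_of_iso' e.symm i ?_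
    exact Groth.Agent.S0844.result R n (a j + d) i (fun h => by omega)
      (fun h => by have := hd j; omega)
  exact subsingleton_HH_of_iso' (e1 ≪≫ e2).symm i h3

/-- **Serre vanishing on `P^n_R`**, by descending induction on the cohomological degree -/
theorem serre_vanishing_aux [IsNoetherianRing R] :
    ∀ (k i : ℕ), 0 < i → n + 1 ≤ i + k → ∀ (F : (CohB1.ProjSpace n R).Modules), Coh.IsCoh F →
      ∃ d₀ : ℤ, ∀ d : ℤ, d₀ ≤ d → Subsingleton (Coh.HH (CohB1.ProjSpace n R)
        (CohB1.tensorMod F (Twist.twistProjSpace n R d)) i)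
  | 0, i, _, hik, F, hF => by
    refine ⟨0, fun d _ => ?_⟩
    haveI : F.IsQuasicoherent := hF.1
    haveI : Coh.IsQCoh (CohB1.tensorMod F (Twist.twistProjSpace n R d)) :=
      Groth.Agent.Lib.Lead.Inv.isQuasicoherent_tensorMod_right F (isInvertible_twist n R d)
    exact Groth.Agent.S0022.result n R _ i (by omega)
  | k + 1, i, hi, hik, F, hF => by
    haveI : IsNoetherianRing (MvPolynomial (Fin (n + 1)) R) := inferInstance
    obtain ⟨r, a, φ, hφ⟩ := Groth.Agent.S0846.result 𝒜 F hF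
    have hE : Coh.IsCoh (∐ fun j : Fin r => Twist.twist 𝒜 (a j)) :=
      isCoh_sigma _ (fun j => isCoh_twist n R (a j))
    let S : ShortComplex (CohB1.ProjSpace n R).Modules :=
      ShortComplex.mk (kernel.ι φ) φ (kernel.condition φ)
    have hS : S.ShortExact :=
      { exact := ShortComplex.exact_kernel φ
        mono_f := inferInstanceAs (Mono (kernel.ι φ))
        epi_g := hφ }
    have hK : Coh.IsCoh (kernel φ) :=
      Groth.Agent.Lib.Helper21.Devissage.isCoh_kernel (X := CohB1.ProjSpace n R) φ hE hF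
    obtain ⟨d₁, hd₁⟩ := serre_vanishing_aux k (i + 1) (by omega) (by omega) (kernel φ) hK
    -- a bound for the sum of twists
    obtain ⟨d₂, hd₂⟩ : ∃ d₂ : ℤ, ∀ d : ℤ, d₂ ≤ d → ∀ j, -((n : ℤ) + 1) < a j + d := by
      refine ⟨(Finset.univ.sup' ⟨0, Finset.mem_univ _⟩ (fun j : Fin (r + 1) =>
        if h : (j : ℕ) < r then -(a ⟨j, h⟩) else 0)) - n, fun d hd j => ?_⟩
      have h1 := Finset.le_sup' (fun j : Fin (r + 1) =>
        if h : (j : ℕ) < r then -(a ⟨j, h⟩) else 0) (Finset.mem_univ (Fin.castSucc j))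
      simp only [Fin.val_castSucc, j.isLt, dite_true, Fin.eta] at h1
      omega
    refine ⟨max d₁ d₂, fun d hd => ?_⟩
    have hT := shortExact_twist (Twist.twistProjSpace n R d) (isFlat_twist n R d) S hS
    exact subsingleton_HH_X₃ hT i
      (subsingleton_HH_sigma_twist n R a d i hi (hd₂ d (le_trans (le_max_right _ _) hd)))
      (hd₁ d (le_trans (le_max_left _ _) hd))

/-- **Serre vanishing on `P^n_R`** (uniform in the degree) -/
theorem serre_vanishing [IsNoetherianRing R] (F : (CohB1.ProjSpace n R).Modules) (hF : Coh.IsCoh F) :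
    ∃ d₀ : ℤ, ∀ d : ℤ, d₀ ≤ d → ∀ i : ℕ, 0 < i → Subsingleton (Coh.HH (CohB1.ProjSpace n R)
        (CohB1.tensorMod F (Twist.twistProjSpace n R d)) i) := by
  choose D hD using fun i : Fin (n + 1) =>
    serre_vanishing_aux n R (n + 1) ((i : ℕ) + 1) (by omega) (by omega) F hF
  refine ⟨Finset.univ.sup' ⟨0, Finset.mem_univ _⟩ D, fun d hd i hi => ?_⟩
  by_cases hin : i ≤ n + 1
  · obtain ⟨j, rfl⟩ : ∃ j, i = j + 1 := ⟨i - 1, by omega⟩
    have hj : j < n + 1 := by omega
    exact hD ⟨j, hj⟩ d (le_trans (Finset.le_sup' D (Finset.mem_univ _)) hd)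
  · obtain ⟨d₀, h0⟩ := serre_vanishing_aux n R 0 i hi (by omega) F hF
    haveI : F.IsQuasicoherent := hF.1
    haveI : Coh.IsQCoh (CohB1.tensorMod F (Twist.twistProjSpace n R d)) :=
      Groth.Agent.Lib.Lead.Inv.isQuasicoherent_tensorMod_right F (isInvertible_twist n R d)
    exact Groth.Agent.S0022.result n R _ i (by omega)

end Groth.Agent.Lib.Helper93.SerreVan
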