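import Mathlib

set_option autoImplicit false
universe u
open CategoryTheory CategoryTheory.Limits AlgebraicGeometry

namespace Groth.Agent.Lib.Helper93.PropBirat


theorem valuationRing_of_dim_le_one (R : Type*) [CommRing R] [IsDomain R] [IsNoetherianRing R]
    [IsLocalRing R] [IsIntegrallyClosed R] (h : ringKrullDim R ≤ 1) : ValuationRing R := by
  have h1 : Ring.KrullDimLE 1 R := Ring.krullDimLE_iff.mpr (by exact_mod_cast h)
  have hmax := Ring.krullDimLE_one_iff_of_noZeroDivisors.mp h1
  have key : ValuationRing R ↔ IsIntegrallyClosed R ∧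
      ∀ P : Ideal R, P ≠ ⊥ → P.IsPrime → P = IsLocalRing.maximalIdeal R :=
    (tfae_of_isNoetherianRing_of_isLocalRing_of_isDomain R).out 1 3
  exact key.mpr ⟨inferInstance, fun P hP hPp => IsLocalRing.eq_maximalIdeal (hmax P hP hPp)⟩



/-- A proper morphism of integral schemes which is an isomorphism over a nonempty open is an
isomorphism over a neighbourhood of every point whose local ring is a valuation ring. -/
theorem exists_isIso_restrict_of_valuationRing {X Y : Scheme.{u}} [IsIntegral X] [IsIntegral Y]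
    (f : X ⟶ Y) [IsProper f]
    (W : Y.Opens) (hW : (W : Set Y).Nonempty) (hWiso : IsIso (f ∣_ W))
    (y : Y) [ValuationRing (Y.presheaf.stalk y)] :
    ∃ V : Y.Opens, y ∈ V ∧ IsIso (f ∣_ V) := by
  have hηW : genericPoint Y ∈ W :=
    ((genericPoint_spec Y).mem_open_set_iff W.isOpen).mpr (by simpa using hW)
  -- the valuative square
  let i₁ : Spec (Y.presheaf.stalk (genericPoint Y)) ⟶ X :=
    W.fromSpecStalkOfMem (genericPoint Y) hηW ≫ inv (f ∣_ W) ≫ (f ⁻¹ᵁ W).ι
  have hi₁ : i₁ ≫ f = Y.fromSpecStalk (genericPoint Y) := by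
    simp only [i₁, Category.assoc]
    rw [← morphismRestrict_ι, IsIso.inv_hom_id_assoc, Scheme.Opens.fromSpecStalkOfMem_ι]
  have hsq : CommSq i₁ (Spec.map (CommRingCat.ofHom
      (algebraMap (Y.presheaf.stalk y) Y.functionField))) f (Y.fromSpecStalk y) := ⟨by
    rw [hi₁]
    exact (Scheme.SpecMap_stalkSpecializes_fromSpecStalk
      ((genericPoint_spec Y).specializes (Set.mem_univ y))).symm⟩
  let S : ValuativeCommSq f :=
    @ValuativeCommSq.mk _ _ f (Y.presheaf.stalk y) inferInstance inferInstance inferInstance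
      Y.functionField inferInstance inferInstance inferInstance i₁ (Y.fromSpecStalk y) hsq
  have hex : ValuativeCriterion.Existence f := by
    have h : UniversallyClosed f := inferInstance
    rw [UniversallyClosed.eq_valuativeCriterion] at h
    exact h.1
  obtain ⟨⟨l, -, hl⟩⟩ := (hex S).exists_lift
  replace hl : l ≫ f = Y.fromSpecStalk y := hl
  obtain ⟨U, hyU, g, -, hg⟩ := spread_out_of_isGermInjective' (𝟙 Y) f (x := y) l
    (by rw [hl, Category.comp_id])
  rw [Category.comp_id] at hg
  refine ⟨U, hyU, ?_⟩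
  have hrange : Set.range g ⊆ Set.range (f ⁻¹ᵁ U).ι := by
    rintro _ ⟨u, rfl⟩
    rw [Scheme.Opens.range_ι]
    change f (g u) ∈ U
    rw [← Scheme.Hom.comp_apply, hg]
    exact u.2
  let g' : U.toScheme ⟶ (f ⁻¹ᵁ U).toScheme := IsOpenImmersion.lift (f ⁻¹ᵁ U).ι g hrange
  have hg' : g' ≫ (f ⁻¹ᵁ U).ι = g := IsOpenImmersion.lift_fac _ _ _
  have hsec : g' ≫ (f ∣_ U) = 𝟙 _ := by
    rw [← cancel_mono U.ι, Category.assoc, morphismRestrict_ι, ← Category.assoc, hg', hg,
      Category.id_comp]
  have hsep : IsSeparated (f ∣_ U) := IsZariskiLocalAtTarget.restrict (P := @IsSeparated) (inferInstance : IsSeparated f) U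
  have hci : IsClosedImmersion g' := by
    have : IsClosedImmersion (g' ≫ (f ∣_ U)) := by rw [hsec]; infer_instance
    exact IsClosedImmersion.of_comp g' (f ∣_ U)
  have hne : Nonempty (f ⁻¹ᵁ U) := ⟨g' ⟨y, hyU⟩⟩
  have hne' : Nonempty (f ⁻¹ᵁ U).toScheme := hne
  have hirr : IrreducibleSpace (f ⁻¹ᵁ U).toScheme := inferInstance
  -- injectivity of `f` on `f⁻¹ W`
  have hinj : ∀ a b : X, f a ∈ W → f a = f b → a = b := by
    intro a b ha hab
    have hb : f b ∈ W := hab ▸ ha
    have hbij : Function.Bijective (f ∣_ W) := (f ∣_ W).homeomorph.bijective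
    have : (⟨a, ha⟩ : f ⁻¹ᵁ W) = ⟨b, hb⟩ := by
      apply hbij.1
      apply Subtype.ext
      rw [morphismRestrict_base_coe, morphismRestrict_base_coe]
      exact hab
    exact congrArg Subtype.val this
  have hsurj : Function.Surjective g' := by
    rw [← Set.range_eq_univ]
    have hclosed : IsClosed (Set.range g') := g'.isClosedEmbedding.isClosed_range
    let O : Set (f ⁻¹ᵁ U).toScheme := {z | f z.1 ∈ W}
    have hOopen : IsOpen O :=
      (W.isOpen.preimage f.continuous).preimage continuous_subtype_val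
    have hηU : genericPoint Y ∈ U :=
      ((genericPoint_spec Y).mem_open_set_iff U.isOpen).mpr ⟨y, trivial, hyU⟩
    have hfg : ∀ u : U, f (g' u).1 = u.1 := by
      intro u
      have : (g' ≫ (f ∣_ U)) u = u := by rw [hsec]; rfl
      rw [Scheme.Hom.comp_apply] at this
      rw [← morphismRestrict_base_coe, this]
    have hOne : O.Nonempty := ⟨g' ⟨genericPoint Y, hηU⟩, by
      change f (g' ⟨genericPoint Y, hηU⟩).1 ∈ W
      rw [hfg]; exact hηW⟩
    have hOsub : O ⊆ Set.range g' := by
      intro z hz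
      have hzU : f z.1 ∈ U := z.2
      refine ⟨⟨f z.1, hzU⟩, ?_⟩
      apply Subtype.ext
      apply hinj
      · rw [hfg]; exact hz
      · rw [hfg]
    have hdense : Dense O := hOopen.dense hOne
    exact Set.eq_univ_of_univ_subset (by
      rw [← hdense.closure_eq]
      exact closure_minimal hOsub hclosed)
  have : Surjective g' := ⟨hsurj⟩
  have hiso : IsIso g' := isIso_of_isClosedImmersion_of_surjective g'
  have : IsIso (g' ≫ (f ∣_ U)) := by rw [hsec]; infer_instance
  exact IsIso.of_isIso_comp_left g' (f ∣_ U)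


end Groth.Agent.Lib.Helper93.PropBirat
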