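import Mathlib
import Groth.Agent.Lib.Helper30.SmoothLocal
import Groth.Agent.Lib.Helper93.PropBirat

set_option autoImplicit false
universe u
open CategoryTheory CategoryTheory.Limits AlgebraicGeometry

namespace Groth.Agent.Lib.Helper93.PropBirat3

attribute [local instance] specializationOrder in
theorem ringKrullDim_stalk_le_topologicalKrullDim (X : Scheme.{u}) (x : X) :
    ringKrullDim (X.presheaf.stalk x) ≤ topologicalKrullDim X := by
  have h : topologicalKrullDim X = Order.krullDim X := by
    unfold topologicalKrullDim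
    exact Order.krullDim_eq_of_orderIso (irreducibleSetEquivPoints (α := X))
  rw [h, AlgebraicGeometry.ringKrullDim_stalk_eq_coheight]
  exact Order.coheight_le_krullDim x

theorem isIntegrallyClosed_stalk_of_smooth_field (k : Type u) [Field k] {Y : Scheme.{u}}
    (sY : Y ⟶ Spec (CommRingCat.of k)) [Smooth sY] (y : Y) :
    IsDomain (Y.presheaf.stalk y) ∧ IsIntegrallyClosed (Y.presheaf.stalk y) := by
  have hy : y ∈ sY.smoothLocus := by rw [sY.smoothLocus_eq_top]; trivial
  rw [Groth.Agent.Lib.Helper30.SmoothLocal.stalk_normal_iff_of_smoothAt sY y hy]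
  set z := sY.base y with hz
  let _ : Algebra k ((Spec (CommRingCat.of k)).presheaf.stalk z) :=
    StructureSheaf.stalkAlgebra k z
  have : IsLocalization.AtPrime ((Spec (CommRingCat.of k)).presheaf.stalk z) z.asIdeal :=
    StructureSheaf.IsLocalization.to_stalk (CommRingCat.of k) z
  refine ⟨inferInstance, ?_⟩
  exact isIntegrallyClosed_of_isLocalization (R := k) _ z.asIdeal.primeCompl
    z.asIdeal.primeCompl_le_nonZeroDivisors

theorem valuationRing_stalk_of_smooth_curve (k : Type u) [Field k] {Y : Scheme.{u}}
    (sY : Y ⟶ Spec (CommRingCat.of k)) [Smooth sY] [IsIntegral Y]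
    (hdim : topologicalKrullDim Y ≤ 1) (y : Y) : ValuationRing (Y.presheaf.stalk y) := by
  have : IsLocallyNoetherian Y := LocallyOfFiniteType.isLocallyNoetherian sY
  have : IsIntegrallyClosed (Y.presheaf.stalk y) :=
    (isIntegrallyClosed_stalk_of_smooth_field k sY y).2
  exact Groth.Agent.Lib.Helper93.PropBirat.valuationRing_of_dim_le_one _
    ((ringKrullDim_stalk_le_topologicalKrullDim Y y).trans hdim)

end Groth.Agent.Lib.Helper93.PropBirat3
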