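import Mathlib
import Groth.Prelude.Def_Algz

/-!
# Helpers for the distance function `Algz.deltaZ`
-/

set_option autoImplicit false
universe u

open Specialization Topology

namespace Groth.Agent.Lib.Helper93.DeltaZ

open Algz

section codim
variable {Y : Type u} [TopologicalSpace Y]

lemma codimPt_def (w v : Y) (h : w ⤳ v) : codimPt w v h =
    Order.height (⟨toEquiv w, toEquiv_le_toEquiv.mpr h⟩ : Set.Ici (toEquiv v)) := rfl

lemma codimPt_congr {w w' v v' : Y} (hw : w = w') (hv : v = v') (h : w ⤳ v) (h' : w' ⤳ v') :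
    codimPt w v h = codimPt w' v' h' := by
  subst hw; subst hv; rfl

/-- Transfer of codimension along an embedding whose range is stable under generization. -/
lemma codimPt_map {Y' : Type u} [TopologicalSpace Y'] (ι : Y' → Y) (hι : IsEmbedding ι)
    (hgen : StableUnderGeneralization (Set.range ι)) (w v : Y') (h : w ⤳ v) :
    codimPt (ι w) (ι v) (h.map hι.continuous) = codimPt w v h := by
  -- an order isomorphism between the two intervals
  let f : Set.Ici (toEquiv v) → Set.Ici (toEquiv (ι v)) := fun x =>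
    ⟨toEquiv (ι (ofEquiv x.1)), toEquiv_le_toEquiv.mpr
      ((toEquiv_le_toEquiv (a := v) (b := ofEquiv x.1)).mp x.2 |>.map hι.continuous)⟩
  have hf_inj : Function.Injective f := by
    intro x x' hxx'
    apply Subtype.ext
    have := congrArg Subtype.val hxx'
    exact hι.injective this
  have hf_surj : Function.Surjective f := by
    rintro ⟨x, hx⟩
    have hx' : ofEquiv x ⤳ ι v := (toEquiv_le_toEquiv (a := ι v) (b := ofEquiv x)).mp hx
    obtain ⟨x', hx''⟩ := hgen hx' ⟨v, rfl⟩
    refine ⟨⟨toEquiv x', ?_⟩, ?_⟩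
    · rw [Set.mem_Ici, toEquiv_le_toEquiv, ← hι.specializes_iff, hx'']
      exact hx'
    · apply Subtype.ext
      exact hx''
  let e : Set.Ici (toEquiv v) ≃o Set.Ici (toEquiv (ι v)) :=
    { toEquiv := Equiv.ofBijective f ⟨hf_inj, hf_surj⟩
      map_rel_iff' := by
        intro x x'
        change toEquiv (ι (ofEquiv x.1)) ≤ toEquiv (ι (ofEquiv x'.1)) ↔ x.1 ≤ x'.1
        rw [toEquiv_le_toEquiv, hι.specializes_iff]
        rfl }
  rw [codimPt_def, codimPt_def]
  exact Order.height_orderIso e ⟨toEquiv w, toEquiv_le_toEquiv.mpr h⟩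

lemma codimPt_self (v : Y) : codimPt v v specializes_rfl = 0 := by
  rw [codimPt_def, Order.height_eq_zero]
  intro t ht
  exact t.2

/-- Codimension is positive for a strict specialization. -/
lemma one_le_codimPt (w v : Y) (h : w ⤳ v) (hne : ¬ v ⤳ w) : 1 ≤ codimPt w v h := by
  rw [codimPt_def, Order.one_le_iff_pos, Order.height_pos]
  intro hmin
  have h1 : (⟨toEquiv v, Set.mem_Ici.mpr le_rfl⟩ : Set.Ici (toEquiv v)) ≤
      ⟨toEquiv w, toEquiv_le_toEquiv.mpr h⟩ :=
    toEquiv_le_toEquiv.mpr h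
  have h2 := hmin h1
  exact hne ((toEquiv_le_toEquiv (a := w) (b := v)).mp h2)

/-- Codimension of an immediate specialization is at most one. -/
lemma codimPt_le_one (w v : Y) (h : w ⤳ v)
    (himm : ∀ z : Y, w ⤳ z → z ⤳ v → z = w ∨ z = v) : codimPt w v h ≤ 1 := by
  rw [codimPt_def]
  have : (1 : ℕ∞) = ((1 : ℕ) : ℕ∞) := rfl
  rw [this, Order.height_le_coe_iff]
  intro t ht
  have htw : t.1 ≤ toEquiv w := ht.le
  have h1 : w ⤳ ofEquiv t.1 := (toEquiv_le_toEquiv (a := ofEquiv t.1) (b := w)).mp htw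
  have h2 : ofEquiv t.1 ⤳ v := (toEquiv_le_toEquiv (a := v) (b := ofEquiv t.1)).mp t.2
  have hlt : Order.height t = 0 := by
    rw [Order.height_eq_zero]
    rcases himm _ h1 h2 with hz | hz
    · exfalso
      have : (⟨toEquiv w, toEquiv_le_toEquiv.mpr h⟩ : Set.Ici (toEquiv v)) ≤ t := by
        change toEquiv w ≤ t.1
        rw [← hz]
        exact le_refl _
      exact (lt_irrefl _ (lt_of_lt_of_le ht this))
    · intro s hs
      change t.1 ≤ s.1
      have : t.1 = toEquiv v := hz
      rw [this]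
      exact s.2
  rw [hlt]
  exact Nat.cast_pos.mpr Nat.one_pos

end codim

section dsystem
variable {Y : Type u} [TopologicalSpace Y]

/-- Push a system forward along a continuous map. -/
def mapSystem {Y' : Type u} [TopologicalSpace Y'] (ι : Y' → Y) (hι : Continuous ι) {Z : Set Y}
    {y' : Y'} {k : ℕ} (S : DSystem (ι ⁻¹' Z) y' k) : DSystem Z (ι y') k where
  v := fun i => ι (S.v i)
  w := fun i => ι (S.w i)
  spec := fun i => (S.spec i).map hι
  spec_succ := fun i => (S.spec_succ i).map hι
  start_mem := S.start_mem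
  last_eq := congrArg ι S.last_eq

lemma mapSystem_delta {Y' : Type u} [TopologicalSpace Y'] (ι : Y' → Y) (hι : IsEmbedding ι)
    (hgen : StableUnderGeneralization (Set.range ι)) {Z : Set Y}
    {y' : Y'} {k : ℕ} (S : DSystem (ι ⁻¹' Z) y' k) :
    (mapSystem ι hι.continuous S).delta = S.delta := by
  have hc : (mapSystem ι hι.continuous S).c = S.c := by
    funext i
    exact codimPt_map ι hι hgen _ _ _
  have hb : (mapSystem ι hι.continuous S).b = S.b := by
    funext i
    exact codimPt_map ι hι hgen _ _ _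
  simp only [DSystem.delta, hc, hb]

lemma deltaZ_map_le {Y' : Type u} [TopologicalSpace Y'] (ι : Y' → Y) (hι : IsEmbedding ι)
    (hgen : StableUnderGeneralization (Set.range ι)) (Z : Set Y) (y' : Y') :
    deltaZ Z (ι y') ≤ deltaZ (ι ⁻¹' Z) y' := by
  refine le_iInf₂ fun k S => ?_
  exact (iInf₂_le k (mapSystem ι hι.continuous S)).trans_eq (mapSystem_delta ι hι hgen S)

/-- The system of length `0` with `V₀ = closure z`, `W₀ = closure y`. -/
def singleSystem {Z : Set Y} (z y : Y) (h : y ⤳ z) (hz : z ∈ Z) : DSystem Z y 0 where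
  v := fun _ => z
  w := fun _ => y
  spec := fun _ => h
  spec_succ := fun i => i.elim0
  start_mem := hz
  last_eq := rfl

lemma singleSystem_delta {Z : Set Y} (z y : Y) (h : y ⤳ z) (hz : z ∈ Z) :
    (singleSystem z y h hz).delta = codimPt y z h := by
  simp only [DSystem.delta, Nat.cast_zero, zero_add]
  have huniv : (Finset.univ : Finset (Fin (0 + 1))) = {0} := by
    ext i; simp [Fin.eq_zero i]
  rw [huniv, Finset.sup_singleton]
  have h1 : (Finset.filter (fun j : Fin (0 + 1) => (0 : Fin (0 + 1)) ≤ j) {0}) = {0} := by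
    ext i; simp
  rw [h1, Finset.sum_singleton]
  have h2 : (Finset.univ : Finset (Fin 0)) = ∅ := by ext i; exact i.elim0
  rw [h2, Finset.filter_empty, Finset.sum_empty, tsub_zero]
  rfl

lemma deltaZ_le_codimPt (Z : Set Y) (z y : Y) (h : y ⤳ z) (hz : z ∈ Z) :
    deltaZ Z y ≤ codimPt y z h :=
  (iInf₂_le 0 (singleSystem z y h hz)).trans_eq (singleSystem_delta z y h hz)

/-- If `c` at the last index vanishes and each other `c` is bounded by the matching `b`,
the value of the system is at most its length. -/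
lemma delta_le_of_c_le_b {Z : Set Y} {y : Y} {k : ℕ} (S : DSystem Z y k)
    (hlast : S.c (Fin.last k) = 0) (h : ∀ j : Fin k, S.c j.castSucc ≤ S.b j) :
    S.delta ≤ k := by
  unfold DSystem.delta
  have hsup : (Finset.univ.sup fun i : Fin (k + 1) =>
      (∑ j ∈ Finset.univ.filter (fun j : Fin (k + 1) => i ≤ j), S.c j) -
        ∑ j ∈ Finset.univ.filter (fun j : Fin k => i.val ≤ j.val), S.b j) = 0 := by
    rw [← le_zero_iff]
    apply Finset.sup_le
    intro i _
    rw [le_zero_iff, tsub_eq_zero_iff_le, Finset.sum_filter, Finset.sum_filter,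
      Fin.sum_univ_castSucc]
    have : (if i ≤ Fin.last k then S.c (Fin.last k) else 0) = 0 := by
      rw [hlast]; simp
    rw [this, add_zero]
    apply Finset.sum_le_sum
    intro j _
    by_cases hij : i.val ≤ j.val
    · have hij' : i ≤ j.castSucc := hij
      rw [if_pos hij, if_pos hij']
      exact h j
    · have hij' : ¬ i ≤ j.castSucc := hij
      rw [if_neg hij, if_neg hij']
  rw [hsup, add_zero]

/-- The zigzag system attached to points `y_0, …, y_k` and `y'_0, …, y'_{k-1}`. -/
def zigzag {Z : Set Y} (k : ℕ) (y : Fin (k + 1) → Y) (y' : Fin k → Y) (h0 : y 0 ∈ Z)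
    (hdown : ∀ i : Fin k, y' i ⤳ y i.castSucc) (hup : ∀ i : Fin k, y' i ⤳ y i.succ) :
    DSystem Z (y (Fin.last k)) k where
  v := y
  w := Fin.snoc (α := fun _ => Y) y' (y (Fin.last k))
  spec := fun i => by
    refine Fin.lastCases ?_ (fun j => ?_) i
    · rw [Fin.snoc_last]
    · rw [Fin.snoc_castSucc]; exact hdown j
  spec_succ := fun j => by rw [Fin.snoc_castSucc]; exact hup j
  start_mem := h0
  last_eq := Fin.snoc_last ..

lemma zigzag_delta_le {Z : Set Y} (k : ℕ) (y : Fin (k + 1) → Y) (y' : Fin k → Y) (h0 : y 0 ∈ Z)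
    (hdown : ∀ i : Fin k, y' i ⤳ y i.castSucc) (hup : ∀ i : Fin k, y' i ⤳ y i.succ)
    (himm : ∀ i : Fin k, ∀ z : Y, y' i ⤳ z → z ⤳ y i.castSucc → z = y' i ∨ z = y i.castSucc)
    (hne : ∀ i : Fin k, ¬ y i.succ ⤳ y' i) :
    (zigzag k y y' h0 hdown hup).delta ≤ k := by
  apply delta_le_of_c_le_b
  · exact (codimPt_congr (Fin.snoc_last (α := fun _ => Y) _ _) rfl _ specializes_rfl).trans
      (codimPt_self _)
  · intro j
    have h1 : (zigzag k y y' h0 hdown hup).c j.castSucc ≤ 1 := by
      exact (codimPt_congr (Fin.snoc_castSucc (α := fun _ => Y) _ _ j) rfl _ (hdown j)).trans_le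
        (codimPt_le_one _ _ _ (himm j))
    have h2 : 1 ≤ (zigzag k y y' h0 hdown hup).b j := by
      exact (one_le_codimPt _ _ (hup j) (hne j)).trans_eq
        (codimPt_congr (Fin.snoc_castSucc (α := fun _ => Y) _ _ j) rfl _ (hup j)).symm
    exact h1.trans h2

end dsystem

section specialize
variable {Y : Type u} [TopologicalSpace Y]

lemma codimPt_mono_right (w v v' : Y) (h : w ⤳ v) (h' : v ⤳ v') :
    codimPt w v h ≤ codimPt w v' (h.trans h') := by
  rw [codimPt_def, codimPt_def]
  let f : Set.Ici (toEquiv v) → Set.Ici (toEquiv v') := fun x =>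
    ⟨x.1, le_trans (toEquiv_le_toEquiv.mpr h') x.2⟩
  have hf : StrictMono f := fun a b hab => hab
  exact Order.height_le_height_apply_of_strictMono f hf _

lemma specializes_of_codimPt_eq_zero (w v : Y) (h : w ⤳ v) (h0 : codimPt w v h = 0) : v ⤳ w := by
  rw [codimPt_def, Order.height_eq_zero] at h0
  have h1 : (⟨toEquiv v, Set.mem_Ici.mpr le_rfl⟩ : Set.Ici (toEquiv v)) ≤
      ⟨toEquiv w, toEquiv_le_toEquiv.mpr h⟩ := toEquiv_le_toEquiv.mpr h
  exact (toEquiv_le_toEquiv (a := w) (b := v)).mp (h0 h1)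

lemma delta_mono {Z Z' : Set Y} {y y' : Y} {k : ℕ} (S : DSystem Z y k) (S' : DSystem Z' y' k)
    (hc : ∀ j, S'.c j ≤ S.c j) (hb : ∀ j, S.b j ≤ S'.b j) : S'.delta ≤ S.delta := by
  unfold DSystem.delta
  exact add_le_add_right (Finset.sup_mono_fun fun i _ =>
    tsub_le_tsub (Finset.sum_le_sum fun j _ => hc j) (Finset.sum_le_sum fun j _ => hb j)) _

/-- Replace the last pair `(V_k, W_k)` of a system by `(closure y', closure y')`. -/
def replaceLast {Z : Set Y} {y : Y} {k : ℕ} (S : DSystem Z y k) (y' : Y)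
    (hy : S.v (Fin.last k) ⤳ y') (hZ : (0 : Fin (k + 1)) = Fin.last k → y' ∈ Z) :
    DSystem Z y' k where
  v := Function.update S.v (Fin.last k) y'
  w := Function.update S.w (Fin.last k) y'
  spec := fun i => by
    by_cases hi : i = Fin.last k
    · rw [hi, Function.update_self, Function.update_self]
    · rw [Function.update_of_ne hi, Function.update_of_ne hi]; exact S.spec i
  spec_succ := fun i => by
    rw [Function.update_of_ne (Fin.castSucc_lt_last i).ne]
    by_cases hi : i.succ = Fin.last k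
    · rw [hi, Function.update_self]
      have := S.spec_succ i
      rw [hi] at this
      exact this.trans hy
    · rw [Function.update_of_ne hi]; exact S.spec_succ i
  start_mem := by
    by_cases hk : (0 : Fin (k + 1)) = Fin.last k
    · rw [hk, Function.update_self]; exact hZ hk
    · rw [Function.update_of_ne hk]; exact S.start_mem
  last_eq := Function.update_self ..

lemma replaceLast_delta_le {Z : Set Y} {y : Y} {k : ℕ} (S : DSystem Z y k) (y' : Y)
    (hy : S.v (Fin.last k) ⤳ y') (hZ : (0 : Fin (k + 1)) = Fin.last k → y' ∈ Z)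
    (hc : S.c (Fin.last k) = 0) :
    (replaceLast S y' hy hZ).delta ≤ S.delta := by
  apply delta_mono
  · intro j
    by_cases hj : j = Fin.last k
    · subst hj
      have : (replaceLast S y' hy hZ).c (Fin.last k) = 0 :=
        (codimPt_congr (Function.update_self ..) (Function.update_self ..) _
          specializes_rfl).trans (codimPt_self y')
      rw [this]; exact zero_le
    · exact (codimPt_congr (Function.update_of_ne hj ..) (Function.update_of_ne hj ..) _
        (S.spec j)).le
  · intro j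
    by_cases hj : j.succ = Fin.last k
    · have h1 : S.w j.castSucc ⤳ S.v (Fin.last k) := hj ▸ S.spec_succ j
      have h2 : (replaceLast S y' hy hZ).b j = codimPt (S.w j.castSucc) y' (h1.trans hy) :=
        codimPt_congr (Function.update_of_ne (Fin.castSucc_lt_last j).ne ..)
          (by change Function.update S.v (Fin.last k) y' j.succ = y'
              rw [hj, Function.update_self]) _ _
      have h3 : S.b j = codimPt (S.w j.castSucc) (S.v (Fin.last k)) h1 :=
        codimPt_congr rfl (by rw [hj]) _ _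
      rw [h2, h3]
      exact codimPt_mono_right _ _ _ h1 hy
    · exact (codimPt_congr (Function.update_of_ne (Fin.castSucc_lt_last j).ne ..).symm
        (Function.update_of_ne hj ..).symm (S.spec_succ j) _).le

/-- Append the pair `(closure y', closure y')` to a system ending at `y ⤳ y'`. -/
def snocSystem {Z : Set Y} {y : Y} {k : ℕ} (S : DSystem Z y k) (y' : Y) (hy : y ⤳ y') :
    DSystem Z y' (k + 1) where
  v := Fin.snoc (α := fun _ => Y) S.v y'
  w := Fin.snoc (α := fun _ => Y) S.w y'
  spec := fun i => by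
    refine Fin.lastCases ?_ (fun j => ?_) i
    · rw [Fin.snoc_last, Fin.snoc_last]
    · rw [Fin.snoc_castSucc, Fin.snoc_castSucc]; exact S.spec j
  spec_succ := fun i => by
    rw [Fin.snoc_castSucc]
    refine Fin.lastCases ?_ (fun j => ?_) i
    · rw [Fin.succ_last, Fin.snoc_last, S.last_eq]; exact hy
    · rw [Fin.succ_castSucc, Fin.snoc_castSucc]; exact S.spec_succ j
  start_mem := by
    have : (0 : Fin (k + 1 + 1)) = (0 : Fin (k + 1)).castSucc := rfl
    rw [this, Fin.snoc_castSucc]; exact S.start_mem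
  last_eq := Fin.snoc_last ..

lemma snocSystem_c_castSucc {Z : Set Y} {y : Y} {k : ℕ} (S : DSystem Z y k) (y' : Y)
    (hy : y ⤳ y') (j : Fin (k + 1)) : (snocSystem S y' hy).c j.castSucc = S.c j :=
  codimPt_congr (Fin.snoc_castSucc (α := fun _ => Y) _ _ j)
    (Fin.snoc_castSucc (α := fun _ => Y) _ _ j) _ _

lemma snocSystem_c_last {Z : Set Y} {y : Y} {k : ℕ} (S : DSystem Z y k) (y' : Y)
    (hy : y ⤳ y') : (snocSystem S y' hy).c (Fin.last (k + 1)) = 0 :=
  (codimPt_congr (Fin.snoc_last (α := fun _ => Y) _ _)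
    (Fin.snoc_last (α := fun _ => Y) _ _) _ specializes_rfl).trans (codimPt_self y')

lemma snocSystem_b_castSucc {Z : Set Y} {y : Y} {k : ℕ} (S : DSystem Z y k) (y' : Y)
    (hy : y ⤳ y') (j : Fin k) : (snocSystem S y' hy).b j.castSucc = S.b j :=
  codimPt_congr (Fin.snoc_castSucc (α := fun _ => Y) _ _ j.castSucc)
    (by change Fin.snoc (α := fun _ => Y) S.v y' j.castSucc.succ = _
        rw [Fin.succ_castSucc, Fin.snoc_castSucc]) _ _

lemma snocSystem_b_last {Z : Set Y} {y : Y} {k : ℕ} (S : DSystem Z y k) (y' : Y)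
    (hy : y ⤳ y') : (snocSystem S y' hy).b (Fin.last k) = codimPt y y' hy :=
  codimPt_congr ((Fin.snoc_castSucc (α := fun _ => Y) _ _ (Fin.last k)).trans S.last_eq)
    (by change Fin.snoc (α := fun _ => Y) S.v y' (Fin.last k).succ = _
        rw [Fin.succ_last, Fin.snoc_last]) _ _

lemma snocSystem_delta_le {Z : Set Y} {y : Y} {k : ℕ} (S : DSystem Z y k) (y' : Y)
    (hy : y ⤳ y') (hβ : 1 ≤ codimPt y y' hy) (hc : 1 ≤ S.c (Fin.last k)) :
    (snocSystem S y' hy).delta ≤ S.delta := by
  unfold DSystem.delta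
  set M : ℕ∞ := Finset.univ.sup fun i : Fin (k + 1) =>
      (∑ j ∈ Finset.univ.filter (fun j : Fin (k + 1) => i ≤ j), S.c j) -
        ∑ j ∈ Finset.univ.filter (fun j : Fin k => i.val ≤ j.val), S.b j with hM
  have hM1 : 1 ≤ M := by
    refine hc.trans ?_
    refine le_trans ?_ (Finset.le_sup (f := fun i : Fin (k + 1) =>
      (∑ j ∈ Finset.univ.filter (fun j : Fin (k + 1) => i ≤ j), S.c j) -
        ∑ j ∈ Finset.univ.filter (fun j : Fin k => i.val ≤ j.val), S.b j)
      (Finset.mem_univ (Fin.last k)))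
    have h1 : (Finset.univ.filter (fun j : Fin k => (Fin.last k).val ≤ j.val)) = ∅ := by
      ext j
      simp only [Finset.mem_filter, Finset.mem_univ, true_and, Fin.val_last,
        Finset.notMem_empty, iff_false, not_le]
      exact j.2
    have h2 : (Finset.univ.filter (fun j : Fin (k + 1) => Fin.last k ≤ j)) = {Fin.last k} := by
      ext j
      simp only [Finset.mem_filter, Finset.mem_univ, true_and, Finset.mem_singleton,
        Fin.last_le_iff]
    simp only [h1, h2, Finset.sum_empty, Finset.sum_singleton, tsub_zero, le_refl]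
  have hsup : (Finset.univ.sup fun i : Fin (k + 1 + 1) =>
      (∑ j ∈ Finset.univ.filter (fun j : Fin (k + 1 + 1) => i ≤ j), (snocSystem S y' hy).c j) -
        ∑ j ∈ Finset.univ.filter (fun j : Fin (k + 1) => i.val ≤ j.val),
          (snocSystem S y' hy).b j) ≤ M - 1 := by
    apply Finset.sup_le
    intro i _
    refine Fin.lastCases ?_ (fun i0 => ?_) i
    · have : (∑ j ∈ Finset.univ.filter (fun j : Fin (k + 1 + 1) => Fin.last (k + 1) ≤ j),
          (snocSystem S y' hy).c j) = 0 := by
        apply Finset.sum_eq_zero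
        intro j hj
        rw [Finset.mem_filter, Fin.last_le_iff] at hj
        rw [hj.2]
        exact snocSystem_c_last S y' hy
      rw [this, zero_tsub]
      exact zero_le
    · have hA : (∑ j ∈ Finset.univ.filter (fun j : Fin (k + 1 + 1) => i0.castSucc ≤ j),
          (snocSystem S y' hy).c j) =
          ∑ j ∈ Finset.univ.filter (fun j : Fin (k + 1) => i0 ≤ j), S.c j := by
        rw [Finset.sum_filter, Finset.sum_filter, Fin.sum_univ_castSucc]
        rw [snocSystem_c_last, ite_self, add_zero]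
        apply Finset.sum_congr rfl
        intro j _
        rw [snocSystem_c_castSucc]
        simp only [Fin.castSucc_le_castSucc_iff]
      have hB : (∑ j ∈ Finset.univ.filter (fun j : Fin (k + 1) => i0.castSucc.val ≤ j.val),
          (snocSystem S y' hy).b j) =
          (∑ j ∈ Finset.univ.filter (fun j : Fin k => i0.val ≤ j.val), S.b j) +
            codimPt y y' hy := by
        rw [Finset.sum_filter, Finset.sum_filter, Fin.sum_univ_castSucc]
        rw [snocSystem_b_last]
        have : (i0.castSucc.val ≤ (Fin.last k).val) := by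
          simp only [Fin.val_castSucc, Fin.val_last]
          exact Nat.lt_succ_iff.mp i0.2
        rw [if_pos this]
        congr 1
        apply Finset.sum_congr rfl
        intro j _
        rw [snocSystem_b_castSucc]
        simp only [Fin.val_castSucc]
      rw [hA, hB, tsub_add_eq_tsub_tsub]
      refine (tsub_le_tsub_left hβ _).trans ?_
      exact tsub_le_tsub_right (Finset.le_sup (f := fun i : Fin (k + 1) =>
        (∑ j ∈ Finset.univ.filter (fun j : Fin (k + 1) => i ≤ j), S.c j) -
          ∑ j ∈ Finset.univ.filter (fun j : Fin k => i.val ≤ j.val), S.b j)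
        (Finset.mem_univ i0)) _
  calc ((k + 1 : ℕ) : ℕ∞) + _ ≤ ((k + 1 : ℕ) : ℕ∞) + (M - 1) := add_le_add_right hsup _
    _ = (k : ℕ∞) + (1 + (M - 1)) := by rw [Nat.cast_add, Nat.cast_one, add_assoc]
    _ = (k : ℕ∞) + M := by rw [add_tsub_cancel_of_le hM1]

/-- `δ_Z` decreases under specialization (for closed `Z` in a `T0` space). -/
lemma deltaZ_le_of_specializes [T0Space Y] (Z : Set Y) (hZ : IsClosed Z) (y y' : Y)
    (h : y ⤳ y') : deltaZ Z y' ≤ deltaZ Z y := by
  refine le_iInf₂ fun k S => ?_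
  by_cases hc : S.c (Fin.last k) = 0
  · have hvw : S.v (Fin.last k) ⤳ S.w (Fin.last k) :=
      specializes_of_codimPt_eq_zero _ _ (S.spec _) hc
    have hy : S.v (Fin.last k) ⤳ y' := hvw.trans (by rw [S.last_eq]; exact h)
    have hZ' : (0 : Fin (k + 1)) = Fin.last k → y' ∈ Z := by
      intro h0
      have : S.v (Fin.last k) ∈ Z := h0 ▸ S.start_mem
      exact hy.mem_closed hZ this
    exact (iInf₂_le k (replaceLast S y' hy hZ')).trans (replaceLast_delta_le S y' hy hZ' hc)
  · by_cases hyy : y' ⤳ y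
    · have : y = y' := (h.antisymm hyy).eq
      subst this
      exact iInf₂_le k S
    · exact (iInf₂_le (k + 1) (snocSystem S y' h)).trans
        (snocSystem_delta_le S y' h (one_le_codimPt _ _ h hyy)
          (Order.one_le_iff_pos.mpr (pos_iff_ne_zero.mpr hc)))

end specialize

section dimfun
variable {Y : Type u} [TopologicalSpace Y]

/-- The hypothesis "`d` is a dimension function". -/
def DimFunLike (d : Y → ℤ) : Prop :=
  ∀ x y : Y, x ⤳ y → x ≠ y →
    d y < d x ∧ ((∀ z : Y, x ⤳ z → z ⤳ y → z = x ∨ z = y) → d x = d y + 1)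

lemma DimFunLike.mono {d : Y → ℤ} (hd : DimFunLike d) {x y : Y} (h : x ⤳ y) : d y ≤ d x := by
  by_cases hxy : x = y
  · rw [hxy]
  · exact (hd x y h hxy).1.le

lemma DimFunLike.codimPt_le {d : Y → ℤ} (hd : DimFunLike d) (v : Y) :
    ∀ (n : ℕ) (w : Y) (h : w ⤳ v), d w - d v ≤ n → codimPt w v h ≤ n := by
  intro n
  induction n using Nat.strong_induction_on with
  | _ n ih =>
    intro w h hn
    rw [codimPt_def, Order.height_le_coe_iff]
    rintro ⟨t, ht⟩ htw
    have htw' : t < toEquiv w := htw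
    have h1 : w ⤳ ofEquiv t := (toEquiv_le_toEquiv (a := ofEquiv t) (b := w)).mp htw'.le
    have h2 : ofEquiv t ⤳ v := (toEquiv_le_toEquiv (a := v) (b := ofEquiv t)).mp ht
    have hne : w ≠ ofEquiv t := by
      intro hwt
      rw [hwt] at htw'
      exact lt_irrefl _ htw'
    have h3 := (hd w (ofEquiv t) h1 hne).1
    have h4 := hd.mono h2
    have hn1 : 1 ≤ n := by omega
    have := ih (n - 1) (by omega) (ofEquiv t) h2 (by omega)
    rw [codimPt_def] at this
    refine lt_of_le_of_lt this ?_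
    exact_mod_cast (by omega : n - 1 < n)

lemma DimFunLike.le_codimPt {d : Y → ℤ} (hd : DimFunLike d) (v : Y) :
    ∀ (n : ℕ) (w : Y) (h : w ⤳ v), (n : ℤ) ≤ d w - d v → (n : ℕ∞) ≤ codimPt w v h := by
  intro n
  induction n with
  | zero => intro w h _; exact zero_le
  | succ n ih =>
    intro w h hn
    have hwv : w ≠ v := by
      intro hwv; rw [hwv] at hn; omega
    -- choose `z` with `w ⤳ z ⤳ v`, `z ≠ w`, with `d z` maximal
    obtain ⟨z, ⟨hz1, hz2, hz3⟩, hzmin⟩ := exists_minimalFor_of_wellFoundedLT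
      (fun z : Y => w ⤳ z ∧ z ⤳ v ∧ z ≠ w) (fun z => (d w - d z).toNat) ⟨v, h, specializes_rfl, hwv.symm⟩
    have hdz : d z < d w := (hd w z hz1 (Ne.symm hz3)).1
    have himm : ∀ t : Y, w ⤳ t → t ⤳ z → t = w ∨ t = z := by
      intro t ht1 ht2
      by_cases htw : t = w
      · exact Or.inl htw
      · right
        by_contra htz
        have h5 : d z < d t := (hd t z ht2 htz).1
        have h6 : d t < d w := (hd w t ht1 (Ne.symm htw)).1
        have := hzmin ⟨ht1, ht2.trans hz2, htw⟩ (by
          change (d w - d t).toNat ≤ (d w - d z).toNat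
          omega)
        change (d w - d z).toNat ≤ (d w - d t).toNat at this
        omega
    have hdw : d w = d z + 1 := (hd w z hz1 (Ne.symm hz3)).2 himm
    have h7 := ih z hz2 (by omega)
    rw [codimPt_def] at h7 ⊢
    have hlt : (⟨toEquiv z, toEquiv_le_toEquiv.mpr hz2⟩ : Set.Ici (toEquiv v)) <
        ⟨toEquiv w, toEquiv_le_toEquiv.mpr h⟩ := by
      rw [lt_iff_le_not_ge]
      refine ⟨toEquiv_le_toEquiv.mpr hz1, ?_⟩
      intro hle
      have hzw : z ⤳ w := (toEquiv_le_toEquiv (a := w) (b := z)).mp hle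
      have := (hd z w hzw hz3).1
      omega
    refine le_trans ?_ (Order.height_add_one_le hlt)
    rw [Nat.cast_add, Nat.cast_one]
    exact add_le_add_left h7 1

lemma DimFunLike.codimPt_eq {d : Y → ℤ} (hd : DimFunLike d) (w v : Y) (h : w ⤳ v) :
    codimPt w v h = ((d w - d v).toNat : ℕ) := by
  have hm := hd.mono h
  apply le_antisymm
  · exact hd.codimPt_le v _ w h (by omega)
  · exact hd.le_codimPt v _ w h (by omega)

/-- A dimension function bounds the value of every system from below. -/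
lemma DimFunLike.le_delta {d : Y → ℤ} (hd : DimFunLike d) {Z : Set Y} {y : Y} {k : ℕ}
    (S : DSystem Z y k) : (((d y - d (S.v 0)).toNat : ℕ) : ℕ∞) ≤ S.delta := by
  unfold DSystem.delta
  refine le_trans ?_ le_add_self
  refine le_trans ?_ (Finset.le_sup (Finset.mem_univ (0 : Fin (k + 1))))
  have h1 : (Finset.univ.filter (fun j : Fin (k + 1) => (0 : Fin (k + 1)) ≤ j)) = Finset.univ :=
    Finset.filter_true_of_mem (fun j _ => Fin.zero_le j)
  have h2 : (Finset.univ.filter (fun j : Fin k => (0 : Fin (k + 1)).val ≤ j.val)) = Finset.univ :=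
    Finset.filter_true_of_mem (fun j _ => Nat.zero_le _)
  rw [h1, h2]
  have hc : ∀ j, S.c j = (((d (S.w j) - d (S.v j)).toNat : ℕ) : ℕ∞) := fun j =>
    hd.codimPt_eq _ _ _
  have hb : ∀ j, S.b j = (((d (S.w j.castSucc) - d (S.v j.succ)).toNat : ℕ) : ℕ∞) := fun j =>
    hd.codimPt_eq _ _ _
  simp only [hc, hb]
  rw [← Nat.cast_sum, ← Nat.cast_sum, ← ENat.natCast_sub, Nat.cast_le]
  have e1 : ((∑ j : Fin (k + 1), (d (S.w j) - d (S.v j)).toNat : ℕ) : ℤ) =
      ∑ j : Fin (k + 1), (d (S.w j) - d (S.v j)) := by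
    rw [Nat.cast_sum]
    apply Finset.sum_congr rfl
    intro j _
    have := hd.mono (S.spec j)
    omega
  have e2 : ((∑ j : Fin k, (d (S.w j.castSucc) - d (S.v j.succ)).toNat : ℕ) : ℤ) =
      ∑ j : Fin k, (d (S.w j.castSucc) - d (S.v j.succ)) := by
    rw [Nat.cast_sum]
    apply Finset.sum_congr rfl
    intro j _
    have := hd.mono (S.spec_succ j)
    omega
  have e3 : (∑ j : Fin (k + 1), (d (S.w j) - d (S.v j))) -
      ∑ j : Fin k, (d (S.w j.castSucc) - d (S.v j.succ)) = d y - d (S.v 0) := by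
    rw [Finset.sum_sub_distrib, Finset.sum_sub_distrib, Fin.sum_univ_castSucc (fun j => d (S.w j)),
      Fin.sum_univ_succ (fun j => d (S.v j)), S.last_eq]
    ring
  omega

/-- A dimension function bounds `δ_Z` from below. -/
lemma DimFunLike.exists_le_of_deltaZ_eq {d : Y → ℤ} (hd : DimFunLike d) (Z : Set Y) (y : Y)
    (n : ℕ) (hn : deltaZ Z y = n) : ∃ z ∈ Z, d y ≤ n + d z := by
  have h1 : deltaZ Z y < ((n + 1 : ℕ) : ℕ∞) := by
    rw [hn]; exact_mod_cast Nat.lt_succ_self n
  unfold deltaZ at h1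
  rw [iInf_lt_iff] at h1
  obtain ⟨k, h1⟩ := h1
  rw [iInf_lt_iff] at h1
  obtain ⟨S, h1⟩ := h1
  refine ⟨S.v 0, S.start_mem, ?_⟩
  have h2 := (hd.le_delta S).trans_lt h1
  have h3 : (d y - d (S.v 0)).toNat < n + 1 := by exact_mod_cast h2
  omega

end dimfun

section algebra

/-- In a prime spectrum the codimension of `V(m)` in `V(P)` is at most `dim R/P`. -/
lemma codimPt_primeSpectrum_le {R : Type u} [CommRing R] (P m : PrimeSpectrum R) (h : P ⤳ m) :
    ((codimPt P m h : ℕ∞) : WithBot ℕ∞) ≤ ringKrullDim (R ⧸ P.asIdeal) := by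
  rw [codimPt_def, Order.height_eq_krullDim_Iic, ringKrullDim,
    Order.krullDim_eq_of_orderIso P.asIdeal.primeSpectrumQuotientOrderIsoZeroLocus,
    ← Order.krullDim_orderDual (α := (PrimeSpectrum.zeroLocus (R := R) P.asIdeal))]
  let f : Set.Iic (⟨toEquiv P, toEquiv_le_toEquiv.mpr h⟩ : Set.Ici (toEquiv m)) →
      (PrimeSpectrum.zeroLocus (R := R) P.asIdeal)ᵒᵈ := fun t =>
    OrderDual.toDual ⟨ofEquiv t.1.1, by
      have h1 : t.1.1 ≤ toEquiv P := t.2
      have h2 : P ⤳ ofEquiv t.1.1 := (toEquiv_le_toEquiv (a := ofEquiv t.1.1) (b := P)).mp h1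
      rw [← PrimeSpectrum.le_iff_specializes] at h2
      exact h2⟩
  apply Order.krullDim_le_of_strictMono f
  intro t t' htt'
  change (⟨ofEquiv t'.1.1, _⟩ : PrimeSpectrum.zeroLocus (R := R) P.asIdeal) <
    ⟨ofEquiv t.1.1, _⟩
  rw [Subtype.mk_lt_mk]
  have h1 : t.1.1 < t'.1.1 := htt'
  rw [lt_iff_le_not_ge] at h1 ⊢
  obtain ⟨h2, h3⟩ := h1
  constructor
  · rw [PrimeSpectrum.le_iff_specializes]
    exact (toEquiv_le_toEquiv (a := ofEquiv t.1.1) (b := ofEquiv t'.1.1)).mp h2
  · intro h4
    apply h3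
    rw [PrimeSpectrum.le_iff_specializes] at h4
    exact (toEquiv_le_toEquiv (a := ofEquiv t'.1.1) (b := ofEquiv t.1.1)).mpr h4

end algebra

end Groth.Agent.Lib.Helper93.DeltaZ
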