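import Mathlib
import Groth.Agent.Lib.Helper93.DeltaZ
import Groth.Agent.Lib.Helper73.DimFormula.Catenary

/-!
# `δ_Z` on the spectrum of a catenary Noetherian local ring
-/

set_option autoImplicit false
universe u

open Specialization Topology

namespace Groth.Agent.Lib.Helper93.DeltaZ

open Algz
open Groth.Agent.Lib.Helper70 Groth.Agent.Lib.Helper44 Groth.Agent.Lib.Helper73

section poset
variable {Q : Type u} [PartialOrder Q] [OrderBot Q]

lemma posetCat_height_lt_top (hQ : PosetCat Q) (x : Q) : Order.height x < ⊤ := by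
  obtain ⟨t, -, -, -, ht⟩ := PosetCat.exists_saturated_bot hQ x
  rw [ht]; exact ENat.natCast_lt_top _

lemma posetCat_height_covBy (hQ : PosetCat Q) {x y : Q} (h : x ⋖ y) :
    Order.height y = Order.height x + 1 := by
  obtain ⟨t, ht0, htl, htsat, ht⟩ := PosetCat.exists_saturated_bot hQ x
  have hrel : t.last < y := htl ▸ h.lt
  have hsat : ∀ i : Fin (t.length + 1),
      (t.snoc y hrel) (Fin.castSucc i) ⋖ (t.snoc y hrel) (Fin.succ i) := by
    intro i
    refine Fin.lastCases ?_ (fun j => ?_) i
    · have h1 : (t.snoc y hrel) (Fin.castSucc (Fin.last t.length)) = x :=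
        (RelSeries.snoc_castSucc t y hrel (Fin.last t.length)).trans htl
      have h2 : (t.snoc y hrel) (Fin.succ (Fin.last t.length)) = y :=
        RelSeries.last_snoc' t y hrel
      rw [h1, h2]; exact h
    · have h1 : (t.snoc y hrel) (Fin.castSucc (Fin.castSucc j)) = t (Fin.castSucc j) :=
        RelSeries.snoc_castSucc t y hrel (Fin.castSucc j)
      have h2 : (t.snoc y hrel) (Fin.succ (Fin.castSucc j)) = t (Fin.succ j) :=
        RelSeries.snoc_castSucc t y hrel (Fin.succ j)
      have h3 := htsat j
      rw [← h1, ← h2] at h3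
      exact h3
  have := PosetCat.height_eq_length_of_saturated hQ (t.snoc y hrel)
    ((RelSeries.head_snoc t y hrel).trans ht0) hsat
  rw [RelSeries.last_snoc] at this
  rw [this, ht]
  rfl

end poset

section ring
variable (A : Type u) [CommRing A] [IsLocalRing A]

/-- `dim A/p` as an integer valued function on the spectrum. -/
noncomputable def cohtInt (x : PrimeSpectrum A) : ℤ := ((Order.coheight x).toNat : ℤ)

variable {A}

lemma cohtInt_dimFunLike (hA : CAlg.IsCatenary A) : DimFunLike (cohtInt A) := by
  have hQ : PosetCat (PrimeSpectrum A)ᵒᵈ := PosetCat.dual ((isCatenary_iff_posetCat A).mp hA)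
  have hfin : ∀ x : PrimeSpectrum A, ∃ n : ℕ, Order.coheight x = n := fun x =>
    ⟨_, (ENat.natCast_toNat (posetCat_height_lt_top hQ (OrderDual.toDual x)).ne).symm⟩
  intro x y hxy hne
  have hle : x ≤ y := (PrimeSpectrum.le_iff_specializes x y).mpr hxy
  have hlt : x < y := lt_of_le_of_ne hle hne
  obtain ⟨n, hn⟩ := hfin x
  obtain ⟨m, hm⟩ := hfin y
  constructor
  · have := Order.coheight_strictAnti (x := y) (y := x) hlt (by rw [hm]; exact ENat.natCast_lt_top _)
    rw [hn, hm, Nat.cast_lt] at this
    unfold cohtInt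
    rw [hn, hm, ENat.toNat_natCast, ENat.toNat_natCast]
    exact_mod_cast this
  · intro himm
    have hcov : (OrderDual.toDual y : (PrimeSpectrum A)ᵒᵈ) ⋖ OrderDual.toDual x := by
      refine ⟨hlt, ?_⟩
      intro c hc1 hc2
      have h1 : x < OrderDual.ofDual c := hc2
      have h2 : OrderDual.ofDual c < y := hc1
      rcases himm (OrderDual.ofDual c) ((PrimeSpectrum.le_iff_specializes _ _).mp h1.le)
        ((PrimeSpectrum.le_iff_specializes _ _).mp h2.le) with h | h
      · exact h1.ne' h
      · exact h2.ne h
    have := posetCat_height_covBy hQ hcov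
    rw [Order.height_toDual, Order.height_toDual, hn, hm] at this
    unfold cohtInt
    rw [hn, hm]
    have h' : n = m + 1 := by exact_mod_cast this
    rw [ENat.toNat_natCast, ENat.toNat_natCast, h']
    push_cast; ring

end ring

section krull

lemma ringKrullDim_quotient_eq_coheight {R : Type u} [CommRing R] (p : PrimeSpectrum R) :
    ringKrullDim (R ⧸ p.asIdeal) = (Order.coheight p : ℕ∞) := by
  rw [ringKrullDim_quotient, Order.coheight_eq_krullDim_Ici]
  have hset : PrimeSpectrum.zeroLocus (R := R) p.asIdeal = Set.Ici p := by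
    ext x
    rw [PrimeSpectrum.mem_zeroLocus, Set.mem_Ici]
    rfl
  rw [hset]

end krull

section main
variable (A : Type u) [CommRing A] [IsLocalRing A]

lemma deltaZ_closedPoint_eq (hA : CAlg.IsCatenary A) (y : PrimeSpectrum A) :
    ((deltaZ ({IsLocalRing.closedPoint A} : Set (PrimeSpectrum A)) y : ℕ∞) : WithBot ℕ∞) =
      ringKrullDim (A ⧸ y.asIdeal) := by
  have hym : y ⤳ IsLocalRing.closedPoint A :=
    (PrimeSpectrum.le_iff_specializes _ _).mp (le_top (a := y))
  apply le_antisymm
  · exact (WithBot.coe_le_coe.mpr (deltaZ_le_codimPt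
      ({IsLocalRing.closedPoint A} : Set (PrimeSpectrum A)) _ y hym (Set.mem_singleton _))).trans
      (codimPt_primeSpectrum_le y _ hym)
  · rw [ringKrullDim_quotient_eq_coheight, WithBot.coe_le_coe]
    have hd := cohtInt_dimFunLike hA
    have hQ : PosetCat (PrimeSpectrum A)ᵒᵈ := PosetCat.dual ((isCatenary_iff_posetCat A).mp hA)
    have hfin : Order.coheight y ≠ ⊤ := (posetCat_height_lt_top hQ (OrderDual.toDual y)).ne
    refine le_iInf₂ fun k S => ?_
    refine le_trans ?_ (hd.le_delta S)
    have h0 : S.v 0 = IsLocalRing.closedPoint A := S.start_mem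
    have h1 : cohtInt A (S.v 0) = 0 := by
      rw [h0]
      unfold cohtInt
      have : Order.coheight (IsLocalRing.closedPoint A) = 0 := by
        rw [Order.coheight_eq_zero]
        exact isMax_top
      rw [this]; rfl
    rw [h1, sub_zero]
    unfold cohtInt
    rw [Int.toNat_natCast, ENat.natCast_toNat hfin]

end main

end Groth.Agent.Lib.Helper93.DeltaZ
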