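import Mathlib
import Groth.Agent.Lib.Helper93.DeltaZ
import Groth.Agent.Lib.Helper73.DimFormula.UnivCatenary

/-!
# `δ_Z` along morphisms of finite type over universally catenary bases
-/

set_option autoImplicit false
universe u

open Specialization Topology AlgebraicGeometry CategoryTheory

namespace Groth.Agent.Lib.Helper93.DeltaZ

open Algz
open Groth.Agent.Lib.Helper73

section poset

lemma height_Ici_eq_coheight_Iic {P : Type*} [Preorder P] {a b : P} (h : a ≤ b) :
    Order.height (⟨b, h⟩ : Set.Ici a) = Order.coheight (⟨a, h⟩ : Set.Iic b) := by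
  have h1 := Order.height_eq_krullDim_Iic (⟨b, h⟩ : Set.Ici a)
  have h2 := Order.coheight_eq_krullDim_Ici (⟨a, h⟩ : Set.Iic b)
  let e : Set.Iic (⟨b, h⟩ : Set.Ici a) ≃o Set.Ici (⟨a, h⟩ : Set.Iic b) :=
    { toFun := fun x => ⟨⟨x.1.1, x.2⟩, x.1.2⟩
      invFun := fun x => ⟨⟨x.1.1, x.2⟩, x.1.2⟩
      left_inv := fun x => rfl
      right_inv := fun x => rfl
      map_rel_iff' := Iff.rfl }
  have h3 := Order.krullDim_eq_of_orderIso e
  rw [← h1, ← h2] at h3
  exact_mod_cast h3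

end poset

section spec

lemma codimPt_primeSpectrum_eq {R : Type u} [CommRing R] (Q0 Q : PrimeSpectrum R) (h : Q0 ⤳ Q)
    [hq : (Q.asIdeal.map (Ideal.Quotient.mk Q0.asIdeal)).IsPrime] :
    codimPt Q0 Q h = (Q.asIdeal.map (Ideal.Quotient.mk Q0.asIdeal)).height := by
  have hle : Q0 ≤ Q := (PrimeSpectrum.le_iff_specializes _ _).mpr h
  rw [codimPt_def, height_Ici_eq_coheight_Iic,
    (⟨_, hq⟩ : PrimeSpectrum (R ⧸ Q0.asIdeal)).height_eq_orderHeight]
  let iso := Q0.asIdeal.primeSpectrumQuotientOrderIsoZeroLocus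
  have hz : ∀ z : Set.Iic (toEquiv Q0), ofEquiv z.1 ∈ PrimeSpectrum.zeroLocus (R := R) Q0.asIdeal := by
    intro z
    have h1 : Q0 ⤳ ofEquiv z.1 := (toEquiv_le_toEquiv (a := ofEquiv z.1) (b := Q0)).mp z.2
    exact (PrimeSpectrum.le_iff_specializes _ _).mpr h1
  let φ : Set.Iic (toEquiv Q0) ≃o (PrimeSpectrum (R ⧸ Q0.asIdeal))ᵒᵈ :=
    { toFun := fun z => OrderDual.toDual (iso.symm ⟨ofEquiv z.1, hz z⟩)
      invFun := fun y => ⟨toEquiv (iso (OrderDual.ofDual y)).1, by
        rw [Set.mem_Iic, toEquiv_le_toEquiv, ← PrimeSpectrum.le_iff_specializes]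
        exact (iso (OrderDual.ofDual y)).2⟩
      left_inv := fun z => by
        apply Subtype.ext
        simp
      right_inv := fun y => by
        simp
      map_rel_iff' := by
        intro a b
        change iso.symm ⟨ofEquiv b.1, hz b⟩ ≤ iso.symm ⟨ofEquiv a.1, hz a⟩ ↔ a.1 ≤ b.1
        rw [OrderIso.le_iff_le, Subtype.mk_le_mk, PrimeSpectrum.le_iff_specializes]
        exact (toEquiv_le_toEquiv (a := ofEquiv a.1) (b := ofEquiv b.1)).symm }
  have := Order.coheight_orderIso φ ⟨toEquiv Q, toEquiv_le_toEquiv.mpr h⟩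
  rw [← this]
  rfl

lemma codimPt_primeSpectrum_eq' {R : Type u} [CommRing R] (Q0 Q : PrimeSpectrum R) (h : Q0 ⤳ Q)
    (I : Ideal R) (hI : I = Q0.asIdeal) [hq : (Q.asIdeal.map (Ideal.Quotient.mk I)).IsPrime] :
    codimPt Q0 Q h = (Q.asIdeal.map (Ideal.Quotient.mk I)).height := by
  subst hI
  exact codimPt_primeSpectrum_eq Q0 Q h

end spec

section algebra

/-- The dimension formula with equality for a pair of primes `q0 ≤ q`. -/
theorem dimFormula_eq_pair {A B : Type u} [CommRing A] [CommRing B] [Algebra A B]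
    (hA : CAlg.IsUniversallyCatenary A) [Algebra.FiniteType A B] (p : Ideal A) [p.IsPrime]
    (q : Ideal B) [q.IsPrime] [q.LiesOver p] (q0 : Ideal B) [q0.IsPrime] (hq0q : q0 ≤ q) :
    ∃ (_ : (q.map (Ideal.Quotient.mk q0)).IsPrime)
      (_ : (p.map (Ideal.Quotient.mk (q0.under A))).IsPrime),
      ((q.map (Ideal.Quotient.mk q0)).height : Cardinal.{u}) + Algebra.trdeg (A ⧸ p) (B ⧸ q) =
        ((p.map (Ideal.Quotient.mk (q0.under A))).height : Cardinal.{u}) +
          Algebra.trdeg (A ⧸ q0.under A) (B ⧸ q0) := by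
  have hN : IsNoetherianRing A := hA.1
  have hB : IsNoetherianRing B := Algebra.FiniteType.isNoetherianRing A B
  let p0 : Ideal A := q0.under A
  have hp0p : p0.IsPrime := inferInstance
  have hp0p' : p0 ≤ p := by
    rw [q.over_def p]
    exact Ideal.comap_mono hq0q
  have hp' : (p.map (Ideal.Quotient.mk p0)).IsPrime :=
    Ideal.isPrime_map_quotientMk_of_isPrime hp0p'
  have hq' : (q.map (Ideal.Quotient.mk q0)).IsPrime :=
    Ideal.isPrime_map_quotientMk_of_isPrime hq0q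
  have hlo : (q.map (Ideal.Quotient.mk q0)).LiesOver (p.map (Ideal.Quotient.mk p0)) :=
    liesOver_map_quotientMk p0 p q0 q hp0p' hq0q
  have hd1 : IsDomain (A ⧸ p0) := Ideal.Quotient.isDomain p0
  have hd2 : IsDomain (B ⧸ q0) := Ideal.Quotient.isDomain q0
  have hft : Algebra.FiniteType (A ⧸ p0) (B ⧸ q0) := by
    have h1 : Algebra.FiniteType A (B ⧸ q0) :=
      Algebra.FiniteType.of_surjective (Ideal.Quotient.mkₐ A q0) Ideal.Quotient.mk_surjective
    exact Algebra.FiniteType.of_restrictScalars_finiteType A (A ⧸ p0) (B ⧸ q0)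
  have h := dimFormula_eq (A ⧸ p0) (isUniversallyCatenary_quotient hA p0) (B ⧸ q0)
    (p.map (Ideal.Quotient.mk p0)) (q.map (Ideal.Quotient.mk q0))
  rw [trdeg_doubleQuot p0 p q0 q hp0p' hq0q] at h
  exact ⟨hq', hp', h⟩

end algebra

section scheme

/-- Codimension can be computed in an affine chart. -/
lemma codimPt_eq_chart {X : Scheme.{u}} {U : X.Opens} (hU : IsAffineOpen U) (w v : X) (h : w ⤳ v)
    (hv : v ∈ U) (hw : w ∈ U) :
    ∃ h' : (hU.primeIdealOf ⟨w, hw⟩ : Spec Γ(X, U)) ⤳ hU.primeIdealOf ⟨v, hv⟩,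
      codimPt w v h =
        codimPt (hU.primeIdealOf ⟨w, hw⟩ : Spec Γ(X, U)) (hU.primeIdealOf ⟨v, hv⟩) h' := by
  have hemb : IsEmbedding hU.fromSpec.base := hU.fromSpec.isOpenEmbedding.isEmbedding
  have hgen : StableUnderGeneralization (Set.range hU.fromSpec.base) := by
    have : Set.range hU.fromSpec.base = (U : Set X) := hU.range_fromSpec
    rw [this]
    exact U.isOpen.stableUnderGeneralization
  have e1 : hU.fromSpec.base (hU.primeIdealOf ⟨w, hw⟩) = w := hU.fromSpec_primeIdealOf ⟨w, hw⟩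
  have e2 : hU.fromSpec.base (hU.primeIdealOf ⟨v, hv⟩) = v := hU.fromSpec_primeIdealOf ⟨v, hv⟩
  have h' : (hU.primeIdealOf ⟨w, hw⟩ : Spec Γ(X, U)) ⤳ hU.primeIdealOf ⟨v, hv⟩ := by
    refine hemb.specializes_iff.mp ?_
    rw [e1, e2]; exact h
  refine ⟨h', ?_⟩
  exact (codimPt_congr e1.symm e2.symm h (h'.map hemb.continuous)).trans
    (codimPt_map hU.fromSpec.base hemb hgen _ _ h')

set_option backward.isDefEq.respectTransparency.types false in
/-- The dimension formula for a pair of points `w ⤳ v` of the source of a morphism locally of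
finite type to a locally Noetherian scheme with universally catenary local rings. -/
theorem codimPt_add_resTrdeg_eq {Y' Y : Scheme.{u}} [IsLocallyNoetherian Y] (f : Y' ⟶ Y)
    [LocallyOfFiniteType f]
    (hY : ∀ y : Y, CAlg.IsUniversallyCatenary (Y.presheaf.stalk y)) (w v : Y') (h : w ⤳ v) :
    ∃ a b : ℕ, codimPt w v h = a ∧ codimPt (f.base w) (f.base v) (h.map f.continuous) = b ∧
      (a : Cardinal.{u}) + resTrdeg f v = (b : Cardinal.{u}) + resTrdeg f w := by
  obtain ⟨V, hV, hfvV, -⟩ :=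
    exists_isAffineOpen_mem_and_subset (X := Y) (x := f v) (U := ⊤) trivial
  obtain ⟨U, hU, hvU, hUV⟩ :=
    exists_isAffineOpen_mem_and_subset (X := Y') (x := v) (U := f ⁻¹ᵁ V) hfvV
  have hwU : w ∈ U := h.mem_open U.isOpen hvU
  have hfwV : f w ∈ V := hUV hwU
  let _ : Algebra Γ(Y, V) Γ(Y', U) := (f.appLE V U hUV).hom.toAlgebra
  have hN : IsNoetherianRing Γ(Y, V) := IsLocallyNoetherian.component_noetherian ⟨V, hV⟩
  have hft : Algebra.FiniteType Γ(Y, V) Γ(Y', U) :=
    HasRingHomProperty.appLE @LocallyOfFiniteType f inferInstance ⟨V, hV⟩ ⟨U, hU⟩ hUV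
  have hNB : IsNoetherianRing Γ(Y', U) := Algebra.FiniteType.isNoetherianRing Γ(Y, V) Γ(Y', U)
  have hA : CAlg.IsUniversallyCatenary Γ(Y, V) := Groth.Agent.S12459.univCat_section Y hY ⟨V, hV⟩
  let q : Ideal Γ(Y', U) := (hU.primeIdealOf ⟨v, hvU⟩).asIdeal
  let q0 : Ideal Γ(Y', U) := (hU.primeIdealOf ⟨w, hwU⟩).asIdeal
  let p : Ideal Γ(Y, V) := (hV.primeIdealOf ⟨f v, hfvV⟩).asIdeal
  have hqp : q.LiesOver p := ⟨by
    have := IsAffineOpen.comap_primeIdealOf_appLE V hV U hU hUV hvU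
    exact (congrArg PrimeSpectrum.asIdeal this).symm⟩
  have hp0 : q0.under Γ(Y, V) = (hV.primeIdealOf ⟨f w, hfwV⟩).asIdeal := by
    have := IsAffineOpen.comap_primeIdealOf_appLE V hV U hU hUV hwU
    exact congrArg PrimeSpectrum.asIdeal this
  obtain ⟨h1, e1⟩ := codimPt_eq_chart hU w v h hvU hwU
  obtain ⟨h2, e2⟩ := codimPt_eq_chart hV (f w) (f v) (h.map f.continuous) hfvV hfwV
  have hq0q : q0 ≤ q := (PrimeSpectrum.le_iff_specializes _ _).mpr h1
  obtain ⟨hq', hp', heq⟩ := dimFormula_eq_pair hA p q q0 hq0q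
  have e3 := codimPt_primeSpectrum_eq (hU.primeIdealOf ⟨w, hwU⟩) (hU.primeIdealOf ⟨v, hvU⟩) h1
    (hq := hq')
  have e4 := codimPt_primeSpectrum_eq' (hV.primeIdealOf ⟨f w, hfwV⟩)
    (hV.primeIdealOf ⟨f v, hfvV⟩) h2 (q0.under Γ(Y, V)) hp0 (hq := hp')
  have hqfin : (q.map (Ideal.Quotient.mk q0)).height ≠ ⊤ := Ideal.height_ne_top_of_isPrime
  have hpfin : (p.map (Ideal.Quotient.mk (q0.under Γ(Y, V)))).height ≠ ⊤ :=
    Ideal.height_ne_top_of_isPrime
  obtain ⟨a, ha⟩ := ENat.ne_top_iff_exists.mp hqfin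
  obtain ⟨b, hb⟩ := ENat.ne_top_iff_exists.mp hpfin
  refine ⟨a, b, ?_, ?_, ?_⟩
  · rw [e1, e3, ← ha]
  · rw [e2, e4, ← hb]
  · unfold resTrdeg
    rw [trdeg_residueFieldMap_eq_chart f hU hV hUV v hvU hfvV rfl p q rfl rfl,
      trdeg_residueFieldMap_eq_chart f hU hV hUV w hwU hfwV rfl (q0.under Γ(Y, V)) q0 hp0 rfl]
    rw [← ha, ← hb] at heq
    exact_mod_cast heq

end scheme

section transfer

lemma filter_last_le (k : ℕ) :
    (Finset.univ.filter (fun j : Fin (k + 1) => Fin.last k ≤ j)) = {Fin.last k} := by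
  ext j
  simp only [Finset.mem_filter, Finset.mem_univ, true_and, Finset.mem_singleton, Fin.last_le_iff]

lemma filter_last_val_le (k : ℕ) :
    (Finset.univ.filter (fun j : Fin k => (Fin.last k).val ≤ j.val)) = ∅ := by
  ext j
  simp only [Finset.mem_filter, Finset.mem_univ, true_and, Fin.val_last,
    Finset.notMem_empty, iff_false, not_le]
  exact j.2

lemma sum_filter_castSucc_le {k : ℕ} (g : Fin (k + 1) → ℕ) (i : Fin k) :
    ∑ j ∈ Finset.univ.filter (fun j : Fin (k + 1) => i.castSucc ≤ j), g j =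
      g i.castSucc + ∑ j ∈ Finset.univ.filter (fun j : Fin (k + 1) => i.succ ≤ j), g j := by
  have : Finset.univ.filter (fun j : Fin (k + 1) => i.castSucc ≤ j) =
      insert i.castSucc (Finset.univ.filter (fun j : Fin (k + 1) => i.succ ≤ j)) := by
    ext j
    simp only [Finset.mem_filter, Finset.mem_univ, true_and, Finset.mem_insert, Fin.le_def,
      Fin.ext_iff, Fin.val_castSucc, Fin.val_succ]
    omega
  rw [this, Finset.sum_insert]
  simp only [Finset.mem_filter, Finset.mem_univ, true_and, Fin.le_def, Fin.val_castSucc,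
    Fin.val_succ]
  omega

lemma sum_filter_val_le {k : ℕ} (g : Fin k → ℕ) (i : Fin k) :
    ∑ j ∈ Finset.univ.filter (fun j : Fin k => i.castSucc.val ≤ j.val), g j =
      g i + ∑ j ∈ Finset.univ.filter (fun j : Fin k => i.succ.val ≤ j.val), g j := by
  have : Finset.univ.filter (fun j : Fin k => i.castSucc.val ≤ j.val) =
      insert i (Finset.univ.filter (fun j : Fin k => i.succ.val ≤ j.val)) := by
    ext j
    simp only [Finset.mem_filter, Finset.mem_univ, true_and, Finset.mem_insert,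
      Fin.ext_iff, Fin.val_castSucc, Fin.val_succ]
    omega
  rw [this, Finset.sum_insert]
  simp only [Finset.mem_filter, Finset.mem_univ, true_and, Fin.val_succ]
  omega

variable {Y Y' : Type u} [TopologicalSpace Y] [TopologicalSpace Y']

/-- Abstract comparison of the values of two systems whose codimensions differ by
telescoping corrections bounded by `e`. -/
lemma delta_add_le_of_rel {Z : Set Y} {Z' : Set Y'} {y : Y} {y' : Y'} {k : ℕ}
    (S : DSystem Z y k) (S' : DSystem Z' y' k)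
    (cn c'n : Fin (k + 1) → ℕ) (bn b'n : Fin k → ℕ) (τv τw : Fin (k + 1) → ℕ) (e : ℕ)
    (hc : ∀ j, S.c j = cn j) (hc' : ∀ j, S'.c j = c'n j)
    (hb : ∀ j, S.b j = bn j) (hb' : ∀ j, S'.b j = b'n j)
    (r1 : ∀ j, c'n j + τv j = cn j + τw j)
    (r2 : ∀ j : Fin k, b'n j + τv j.succ = bn j + τw j.castSucc)
    (hτ : ∀ j, τv j ≤ e) (ht : τw (Fin.last k) ≤ e) :
    S.delta + (τw (Fin.last k) : ℕ) ≤ S'.delta + (e : ℕ) := by
  have key : ∀ i : Fin (k + 1),
      (∑ j ∈ Finset.univ.filter (fun j : Fin (k + 1) => i ≤ j), cn j) +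
        (∑ j ∈ Finset.univ.filter (fun j : Fin k => i.val ≤ j.val), b'n j) + τw (Fin.last k) =
      (∑ j ∈ Finset.univ.filter (fun j : Fin (k + 1) => i ≤ j), c'n j) +
        (∑ j ∈ Finset.univ.filter (fun j : Fin k => i.val ≤ j.val), bn j) + τv i := by
    intro i
    induction i using Fin.reverseInduction with
    | last =>
      rw [filter_last_le, filter_last_val_le]
      simp only [Finset.sum_singleton, Finset.sum_empty, add_zero]
      have := r1 (Fin.last k)
      omega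
    | cast i ih =>
      rw [sum_filter_castSucc_le cn i, sum_filter_castSucc_le c'n i, sum_filter_val_le bn i,
        sum_filter_val_le b'n i]
      have h1 := r1 i.castSucc
      have h2 := r2 i
      omega
  unfold DSystem.delta
  simp only [hc, hc', hb, hb']
  rw [add_assoc, add_assoc]
  refine add_le_add_right ?_ _
  obtain ⟨i, -, hi⟩ := Finset.exists_mem_eq_sup (Finset.univ : Finset (Fin (k + 1)))
    ⟨0, Finset.mem_univ _⟩ (fun i : Fin (k + 1) =>
      (∑ j ∈ Finset.univ.filter (fun j : Fin (k + 1) => i ≤ j), (cn j : ℕ∞)) -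
        ∑ j ∈ Finset.univ.filter (fun j : Fin k => i.val ≤ j.val), (bn j : ℕ∞))
  rw [hi]
  refine le_trans ?_ (add_le_add_left (Finset.le_sup (f := fun i : Fin (k + 1) =>
      (∑ j ∈ Finset.univ.filter (fun j : Fin (k + 1) => i ≤ j), (c'n j : ℕ∞)) -
        ∑ j ∈ Finset.univ.filter (fun j : Fin k => i.val ≤ j.val), (b'n j : ℕ∞))
      (Finset.mem_univ i)) _)
  change (∑ j ∈ Finset.univ.filter (fun j : Fin (k + 1) => i ≤ j), (cn j : ℕ∞)) -
        (∑ j ∈ Finset.univ.filter (fun j : Fin k => i.val ≤ j.val), (bn j : ℕ∞)) + _ ≤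
    (∑ j ∈ Finset.univ.filter (fun j : Fin (k + 1) => i ≤ j), (c'n j : ℕ∞)) -
        (∑ j ∈ Finset.univ.filter (fun j : Fin k => i.val ≤ j.val), (b'n j : ℕ∞)) + _
  rw [← Nat.cast_sum, ← Nat.cast_sum, ← Nat.cast_sum, ← Nat.cast_sum, ← ENat.natCast_sub,
    ← ENat.natCast_sub, ← Nat.cast_add, ← Nat.cast_add, Nat.cast_le]
  have h1 := key i
  have h2 := hτ i
  omega

end transfer

section main

/-- The change-of-scheme inequality for `δ_Z`. -/
theorem deltaZ_add_le_of_finiteType {Y Y' : Scheme.{u}} [IsLocallyNoetherian Y]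
    (hY : ∀ y : Y, CAlg.IsUniversallyCatenary (Y.presheaf.stalk y)) (Z : Set Y) (f : Y' ⟶ Y)
    [LocallyOfFiniteType f] (e : ℕ)
    (hfib : ∀ y : Y, topologicalKrullDim (f.fiber y) ≤ (e : WithBot ℕ∞)) (y' : Y') (t : ℕ)
    (ht : resTrdeg f y' = t) :
    deltaZ Z (f.base y') + (t : ℕ) ≤ deltaZ (f.base ⁻¹' Z) y' + (e : ℕ) := by
  have hτ : ∀ x : Y', ∃ n : ℕ, resTrdeg f x = n ∧ n ≤ e := by
    intro x
    refine ⟨_, resTrdeg_eq_natCast f x, ?_⟩
    have h1 := resTrdeg_le_of_fiber_dim_le f x e (hfib (f x))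
    rw [resTrdeg_eq_natCast f x] at h1
    exact_mod_cast h1
  choose τ hτ1 hτ2 using hτ
  have hty : τ y' = t := by
    have := (hτ1 y').symm.trans ht
    exact_mod_cast this
  have hkey : ∀ (k : ℕ) (S' : DSystem (f.base ⁻¹' Z) y' k),
      deltaZ Z (f.base y') + (t : ℕ) ≤ S'.delta + (e : ℕ) := ?_
  · calc deltaZ Z (f.base y') + (t : ℕ)
        ≤ ⨅ (k : ℕ) (S' : DSystem (f.base ⁻¹' Z) y' k), S'.delta + (e : ℕ) := le_iInf₂ hkey
      _ = deltaZ (f.base ⁻¹' Z) y' + (e : ℕ) :=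
        (ENat.iInf₂_add (fun (k : ℕ) (S' : DSystem (f.base ⁻¹' Z) y' k) => S'.delta)).symm
  intro k S'
  unfold deltaZ
  -- push the system forward
  let S : DSystem Z (f.base y') k := mapSystem f.base f.continuous S'
  have hle : (⨅ (k : ℕ) (S : DSystem Z (f.base y') k), S.delta) ≤ S.delta :=
    iInf₂_le (f := fun (k : ℕ) (S : DSystem Z (f.base y') k) => S.delta) k S
  refine le_trans (add_le_add_left hle _) ?_
  have hC : ∀ j : Fin (k + 1), ∃ a b : ℕ, S'.c j = a ∧ S.c j = b ∧ a + τ (S'.v j) = b + τ (S'.w j) := by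
    intro j
    obtain ⟨a, b, h1, h2, h3⟩ := codimPt_add_resTrdeg_eq f hY (S'.w j) (S'.v j) (S'.spec j)
    refine ⟨a, b, h1, h2, ?_⟩
    rw [hτ1, hτ1] at h3
    exact_mod_cast h3
  have hB : ∀ j : Fin k, ∃ a b : ℕ, S'.b j = a ∧ S.b j = b ∧
      a + τ (S'.v j.succ) = b + τ (S'.w j.castSucc) := by
    intro j
    obtain ⟨a, b, h1, h2, h3⟩ := codimPt_add_resTrdeg_eq f hY (S'.w j.castSucc) (S'.v j.succ)
      (S'.spec_succ j)
    refine ⟨a, b, h1, h2, ?_⟩
    rw [hτ1, hτ1] at h3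
    exact_mod_cast h3
  choose c'n cn hc' hc r1 using hC
  choose b'n bn hb' hb r2 using hB
  have := delta_add_le_of_rel S S' cn c'n bn b'n (fun j => τ (S'.v j)) (fun j => τ (S'.w j)) e
    hc hc' hb hb' r1 r2 (fun j => hτ2 _) (hτ2 _)
  have hlast : τ (S'.w (Fin.last k)) = t := by rw [S'.last_eq]; exact hty
  simp only [hlast] at this
  exact this

end main

end Groth.Agent.Lib.Helper93.DeltaZ
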