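import Mathlib
import Groth.Agent.Lib.Helper93.DeltaZFT

/-!
# Dimension functions induced along morphisms locally of finite type
-/

set_option autoImplicit false
universe u

open Specialization Topology AlgebraicGeometry CategoryTheory

namespace Groth.Agent.Lib.Helper93.DeltaZ

open Algz
open Groth.Agent.Lib.Helper73

/-- The function `δ_X(x) = δ(f x) + trdeg κ(x)/κ(f x)` induced by a dimension function `δ` on a
locally Noetherian scheme with universally catenary local rings along a morphism locally of
finite type is a dimension function. -/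
theorem dimFunLike_of_deltaCompat {X S : Scheme.{u}} [IsLocallyNoetherian S] (f : X ⟶ S)
    [LocallyOfFiniteType f]
    (hS : ∀ s : S, CAlg.IsUniversallyCatenary (S.presheaf.stalk s)) (δ : S → ℤ)
    (hδ : DimFunLike (Y := S) δ) (δX : X → ℤ)
    (hcompat : ∀ x : X, ∃ n : ℕ, resTrdeg f x = n ∧ δX x = δ (f.base x) + n) :
    DimFunLike (Y := X) δX := by
  intro x y hxy hne
  obtain ⟨a, b, ha, hb, hab⟩ := codimPt_add_resTrdeg_eq f hS x y hxy
  have hb' := hδ.codimPt_eq (f.base x) (f.base y) (hxy.map f.continuous)
  have hmono := hδ.mono (hxy.map f.continuous)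
  obtain ⟨nx, hnx, hδx⟩ := hcompat x
  obtain ⟨ny, hny, hδy⟩ := hcompat y
  rw [hnx, hny] at hab
  have hab' : a + ny = b + nx := by exact_mod_cast hab
  rw [hb] at hb'
  have hb'' : b = (δ (f.base x) - δ (f.base y)).toNat := by exact_mod_cast hb'
  have hyx : ¬ y ⤳ x := fun h => hne ((hxy.antisymm h).eq)
  have h1 := one_le_codimPt x y hxy hyx
  rw [ha] at h1
  have h1' : 1 ≤ a := by exact_mod_cast h1
  constructor
  · omega
  · intro himm
    have h2 := codimPt_le_one x y hxy himm
    rw [ha] at h2
    have h2' : a ≤ 1 := by exact_mod_cast h2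
    omega

end Groth.Agent.Lib.Helper93.DeltaZ
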