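import Groth.Prelude.Def_GrSeg
import Mathlib

set_option autoImplicit false
universe u
open scoped TensorProduct

namespace Groth.Agent.Lib.Helper93.Segre

section
variable {k : Type u} [Field k] {R S T : Type u} [CommRing R] [CommRing S] [CommRing T]
  [Algebra k R] [Algebra k S] [Algebra k T]
  {M N P : Type u} [AddCommGroup M] [Module R M] [Module k M] [IsScalarTower k R M]
  [AddCommGroup N] [Module S N] [Module k N] [IsScalarTower k S N]
  [AddCommGroup P] [Module T P] [Module k P] [IsScalarTower k T P]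
  {τM τN : Type u} [SetLike τM M] [SetLike τN N]
  (𝒜 : ℤ → Submodule k R) (ℬ : ℤ → Submodule k S) (𝒯 : ℤ → Submodule k T)
  (ℳ : ℤ → τM) (𝒩 : ℤ → τN) (𝒬 : ℤ → AddSubgroup P)

theorem act_mem_segrePiece
    (hM : ∀ (i j : ℤ) (a : R) (x : M), a ∈ 𝒜 i → x ∈ ℳ j → a • x ∈ ℳ (i + j))
    (hN : ∀ (i j : ℤ) (b : S) (y : N), b ∈ ℬ i → y ∈ 𝒩 j → b • y ∈ 𝒩 (i + j))
    {d n : ℤ} {z : R ⊗[k] S} (hz : z ∈ GrSeg.segrePiece k 𝒜 ℬ d) {w : M ⊗[k] N}
    (hw : w ∈ GrSeg.segrePiece k ℳ 𝒩 n) :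
    GrSeg.act k R S M N z w ∈ GrSeg.segrePiece k ℳ 𝒩 (d + n) := by
  unfold GrSeg.segrePiece at hz hw ⊢
  induction hz using Submodule.span_induction with
  | mem z hz =>
    obtain ⟨a, ha, b, hb, rfl⟩ := hz
    induction hw using Submodule.span_induction with
    | mem w hw =>
      obtain ⟨x, hx, y, hy, rfl⟩ := hw
      rw [GrSeg.act_tmul]
      exact Submodule.subset_span ⟨a • x, hM _ _ _ _ ha hx, b • y, hN _ _ _ _ hb hy, rfl⟩
    | zero => simp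
    | add w w' _ _ h h' => rw [map_add]; exact add_mem h h'
    | smul c w _ h => rw [map_smul]; exact Submodule.smul_mem _ _ h
  | zero => simp
  | add z z' _ _ h h' => rw [map_add, LinearMap.add_apply]; exact add_mem h h'
  | smul c z _ h => rw [map_smul, LinearMap.smul_apply]; exact Submodule.smul_mem _ _ h

variable [DirectSum.Decomposition 𝒬] {ψ : T →ₐ[k] R ⊗[k] S} {φ : P →ₗ[k] M ⊗[k] N}

theorem mem_piece_iff (hP : GrSeg.IsSegreMod ψ ℳ 𝒩 𝒬 φ) {n : ℤ} {p : P} :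
    p ∈ 𝒬 n ↔ φ p ∈ GrSeg.segrePiece k ℳ 𝒩 n := by
  constructor
  · intro hp
    have h : φ p ∈ φ '' (𝒬 n : Set P) := ⟨p, hp, rfl⟩
    rw [hP.image_piece n] at h
    exact h
  · intro h
    have h' : φ p ∈ φ '' (𝒬 n : Set P) := by rw [hP.image_piece n]; exact h
    obtain ⟨p', hp', he⟩ := h'
    rwa [← hP.injective he]

theorem exists_tmul_P (hP : GrSeg.IsSegreMod ψ ℳ 𝒩 𝒬 φ) {n : ℤ} {x : M} (hx : x ∈ ℳ n)
    {y : N} (hy : y ∈ 𝒩 n) : ∃ p ∈ 𝒬 n, φ p = x ⊗ₜ[k] y := by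
  have h' : x ⊗ₜ[k] y ∈ φ '' (𝒬 n : Set P) := by
    rw [hP.image_piece n]
    exact Submodule.subset_span ⟨x, hx, y, hy, rfl⟩
  obtain ⟨p, hp, he⟩ := h'
  exact ⟨p, hp, he⟩

variable [GradedAlgebra 𝒜] [GradedAlgebra ℬ] [GradedAlgebra 𝒯]

theorem psi_mem (hT : GrSeg.IsSegreRing 𝒜 ℬ 𝒯 ψ) {d : ℤ} {t : T} (ht : t ∈ 𝒯 d) :
    ψ t ∈ GrSeg.segrePiece k 𝒜 ℬ d := by
  rw [← hT.2 d]
  exact ⟨t, ht, rfl⟩

theorem exists_tmul_T (hT : GrSeg.IsSegreRing 𝒜 ℬ 𝒯 ψ) {d : ℤ} {a : R} (ha : a ∈ 𝒜 d)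
    {b : S} (hb : b ∈ ℬ d) : ∃ t ∈ 𝒯 d, ψ t = a ⊗ₜ[k] b := by
  have h' : a ⊗ₜ[k] b ∈ (𝒯 d).map ψ.toLinearMap := by
    rw [hT.2 d]
    exact Submodule.subset_span ⟨a, ha, b, hb, rfl⟩
  obtain ⟨t, ht, he⟩ := h'
  exact ⟨t, ht, he⟩

theorem smul_mem_piece (hT : GrSeg.IsSegreRing 𝒜 ℬ 𝒯 ψ) (hP : GrSeg.IsSegreMod ψ ℳ 𝒩 𝒬 φ)
    (hM : ∀ (i j : ℤ) (a : R) (x : M), a ∈ 𝒜 i → x ∈ ℳ j → a • x ∈ ℳ (i + j))
    (hN : ∀ (i j : ℤ) (b : S) (y : N), b ∈ ℬ i → y ∈ 𝒩 j → b • y ∈ 𝒩 (i + j))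
    {d n : ℤ} {t : T} (ht : t ∈ 𝒯 d) {p : P} (hp : p ∈ 𝒬 n) : t • p ∈ 𝒬 (d + n) := by
  rw [mem_piece_iff ℳ 𝒩 𝒬 hP, hP.map_smul]
  exact act_mem_segrePiece 𝒜 ℬ ℳ 𝒩 hM hN (psi_mem 𝒜 ℬ 𝒯 hT ht) ((mem_piece_iff ℳ 𝒩 𝒬 hP).mp hp)

omit [GradedAlgebra 𝒜] [GradedAlgebra ℬ] in
theorem decompose_smul_of_mem
    (hsm : ∀ (d n : ℤ) (t : T) (p : P), t ∈ 𝒯 d → p ∈ 𝒬 n → t • p ∈ 𝒬 (d + n))
    {n : ℤ} {p : P} (hp : p ∈ 𝒬 n) (t : T) (d : ℤ) :
    ((DirectSum.decompose 𝒬 (t • p)) (d + n) : P) = ((DirectSum.decompose 𝒯 t) d : T) • p := by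
  classical
  induction t using DirectSum.Decomposition.inductionOn 𝒯 with
  | zero => simp
  | add x y hx hy =>
    rw [add_smul, DirectSum.decompose_add, DirectSum.add_apply, AddSubgroup.coe_add, hx, hy,
      DirectSum.decompose_add, DirectSum.add_apply, Submodule.coe_add, add_smul]
  | homogeneous t =>
    rename_i i
    have h1 : (t : T) • p ∈ 𝒬 (i + n) := hsm i n t p t.2 hp
    by_cases hid : i = d
    · subst hid
      rw [DirectSum.decompose_of_mem_same 𝒬 h1, DirectSum.decompose_of_mem_same 𝒯 t.2]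
    · have hne : i + n ≠ d + n := fun h => hid (by omega)
      rw [DirectSum.decompose_of_mem_ne 𝒬 h1 hne, DirectSum.decompose_of_mem_ne 𝒯 t.2 hid,
        zero_smul]

end

end Groth.Agent.Lib.Helper93.Segre

namespace Groth.Agent.Lib.Helper93.Segre

section
variable {k : Type u} [Field k] {R : Type u} [CommRing R] [Algebra k R]
  {M : Type u} [AddCommGroup M] [Module R M]
  (𝒜 : ℤ → Submodule k R) (ℳ : ℤ → AddSubgroup M) [DirectSum.Decomposition ℳ]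

theorem decompose_smul_of_left_mem
    (hM : ∀ (i j : ℤ) (a : R) (x : M), a ∈ 𝒜 i → x ∈ ℳ j → a • x ∈ ℳ (i + j))
    {c : ℤ} {a : R} (ha : a ∈ 𝒜 c) (x : M) (i : ℤ) :
    ((DirectSum.decompose ℳ (a • x)) (c + i) : M) = a • ((DirectSum.decompose ℳ x) i : M) := by
  classical
  induction x using DirectSum.Decomposition.inductionOn ℳ with
  | zero => simp
  | add x y hx hy =>
    rw [smul_add, DirectSum.decompose_add, DirectSum.add_apply, AddSubgroup.coe_add, hx, hy,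
      DirectSum.decompose_add, DirectSum.add_apply, AddSubgroup.coe_add, smul_add]
  | homogeneous x =>
    rename_i j
    have h1 : a • (x : M) ∈ ℳ (c + j) := hM c j a x ha x.2
    by_cases hji : j = i
    · subst hji
      rw [DirectSum.decompose_of_mem_same ℳ h1, DirectSum.decompose_of_mem_same ℳ x.2]
    · have hne : c + j ≠ c + i := fun h => hji (by omega)
      rw [DirectSum.decompose_of_mem_ne ℳ h1 hne, DirectSum.decompose_of_mem_ne ℳ x.2 hji,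
        smul_zero]

theorem mem_of_smul_mem
    (hM : ∀ (i j : ℤ) (a : R) (x : M), a ∈ 𝒜 i → x ∈ ℳ j → a • x ∈ ℳ (i + j))
    {c : ℤ} {a : R} (ha : a ∈ 𝒜 c) (hinj : Function.Injective (fun x : M => a • x))
    {n : ℤ} {x : M} (hx : a • x ∈ ℳ n) : x ∈ ℳ (n - c) := by
  classical
  have hzero : ∀ i : ℤ, i ≠ n - c → ((DirectSum.decompose ℳ x) i : M) = 0 := by
    intro i hi
    apply hinj
    change a • ((DirectSum.decompose ℳ x) i : M) = a • (0 : M)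
    rw [← decompose_smul_of_left_mem 𝒜 ℳ hM ha x i, smul_zero,
      DirectSum.decompose_of_mem_ne ℳ hx (fun h => hi (by omega))]
  have hxe : x = ((DirectSum.decompose ℳ x) (n - c) : M) := by
    conv_lhs => rw [← DirectSum.sum_support_decompose ℳ x]
    rw [Finset.sum_eq_single (n - c)]
    · intro i _ hi
      exact hzero i hi
    · intro h
      simpa using h
  rw [hxe]
  exact SetLike.coe_mem _

end

end Groth.Agent.Lib.Helper93.Segre

namespace Groth.Agent.Lib.Helper93.Segre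

section
variable {k : Type u} [Field k] {R : Type u} [CommRing R] [Algebra k R]
  (𝒜 : ℤ → Submodule k R) [GradedAlgebra 𝒜]

theorem std1
    (hstdR : Ideal.span (⋃ n ∈ Set.Ioi (0 : ℤ), (𝒜 n : Set R)) =
      Ideal.span ((𝒜 1 : Submodule k R) : Set R))
    {d : ℤ} (hd : 0 ≤ d) {x : R} (hx : x ∈ 𝒜 (d + 1)) :
    x ∈ Submodule.span k {z : R | ∃ u ∈ 𝒜 1, ∃ w ∈ 𝒜 d, z = u * w} := by
  classical
  have hx1 : x ∈ Ideal.span ((𝒜 1 : Submodule k R) : Set R) := by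
    rw [← hstdR]
    apply Ideal.subset_span
    simp only [Set.mem_iUnion]
    exact ⟨d + 1, by simp only [Set.mem_Ioi]; omega, hx⟩
  rw [Ideal.span, Submodule.mem_span_set'] at hx1
  obtain ⟨n, f, g, hsum⟩ := hx1
  have hxe : x = ∑ i, ((DirectSum.decompose 𝒜 (f i)) d : R) * (g i : R) := by
    have h1 : x = ((DirectSum.decompose 𝒜 x) (d + 1) : R) :=
      (DirectSum.decompose_of_mem_same 𝒜 hx).symm
    rw [h1, ← hsum, DirectSum.decompose_sum, DFinsupp.finsetSum_apply,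
      AddSubmonoidClass.coe_finsetSum]
    refine Finset.sum_congr rfl fun i _ => ?_
    rw [smul_eq_mul]
    exact DirectSum.coe_decompose_mul_add_of_right_mem 𝒜 (g i).2
  rw [hxe]
  exact Submodule.sum_mem _ fun i _ =>
    Submodule.subset_span ⟨g i, (g i).2, _, SetLike.coe_mem _, mul_comm _ _⟩

theorem stdmul
    (hstdR : Ideal.span (⋃ n ∈ Set.Ioi (0 : ℤ), (𝒜 n : Set R)) =
      Ideal.span ((𝒜 1 : Submodule k R) : Set R))
    (m : ℕ) {j : ℤ} (hj : 0 ≤ j) :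
    𝒜 ((m : ℤ) + j) ≤ Submodule.span k {z : R | ∃ u ∈ 𝒜 (m : ℤ), ∃ w ∈ 𝒜 j, z = u * w} := by
  induction m with
  | zero =>
    intro x hx
    refine Submodule.subset_span ⟨1, ?_, x, ?_, (one_mul x).symm⟩
    · exact SetLike.GradedOne.one_mem (A := 𝒜)
    · simpa using hx
  | succ m ih =>
    intro x hx
    have hx' : x ∈ 𝒜 (((m : ℤ) + j) + 1) := by
      have : ((m + 1 : ℕ) : ℤ) + j = ((m : ℤ) + j) + 1 := by push_cast; ring
      rwa [this] at hx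
    have h1 := std1 𝒜 hstdR (by positivity) hx'
    refine (Submodule.span_le.mpr ?_) h1
    rintro z ⟨u, hu, w, hw, rfl⟩
    have h2 := ih hw
    clear hx hx' h1 hw
    induction h2 using Submodule.span_induction with
    | mem z' hz' =>
      obtain ⟨u', hu', w', hw', rfl⟩ := hz'
      refine Submodule.subset_span ⟨u * u', ?_, w', hw', (mul_assoc _ _ _).symm⟩
      have := SetLike.mul_mem_graded hu hu'
      have e : (1 : ℤ) + (m : ℤ) = ((m + 1 : ℕ) : ℤ) := by push_cast; ring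
      rwa [e] at this
    | zero => simp
    | add a b _ _ ha hb =>
      rw [mul_add]
      exact add_mem ha hb
    | smul c a _ ha =>
      rw [mul_smul_comm]
      exact Submodule.smul_mem _ _ ha

end
end Groth.Agent.Lib.Helper93.Segre
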