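import Groth.Prelude.Def_GrSeg
import Groth.Agent.Lib.Helper93.Segre
import Mathlib

set_option autoImplicit false
universe u
open scoped TensorProduct

namespace Groth.Agent.Lib.Helper93.SegreAct

section ModuleStructure
variable (k : Type u) [Field k] (R S : Type u) [CommRing R] [CommRing S] [Algebra k R] [Algebra k S]
  (M N : Type u) [AddCommGroup M] [Module R M] [Module k M] [IsScalarTower k R M]
  [AddCommGroup N] [Module S N] [Module k N] [IsScalarTower k S N]

noncomputable def actHom : (R ⊗[k] S) →ₐ[k] Module.End k (M ⊗[k] N) :=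
  (Module.endTensorEndAlgHom (R := k) (S := k) (A := k) (M := M) (N := N)).comp
    (Algebra.TensorProduct.map (Algebra.lsmul k k M) (Algebra.lsmul k k N))

theorem actHom_eq_act (z : R ⊗[k] S) :
    (actHom k R S M N z : M ⊗[k] N →ₗ[k] M ⊗[k] N) = GrSeg.act k R S M N z := by
  induction z using TensorProduct.induction_on with
  | zero => simp
  | add x y hx hy => rw [map_add, map_add, hx, hy]
  | tmul r s =>
    apply TensorProduct.ext'
    intro m n
    rw [GrSeg.act_tmul]
    simp [actHom, Module.endTensorEndAlgHom_apply]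

@[reducible] noncomputable def segModule : Module (R ⊗[k] S) (M ⊗[k] N) :=
  Module.compHom (M ⊗[k] N) (actHom k R S M N).toRingHom

theorem seg_smul_def (z : R ⊗[k] S) (w : M ⊗[k] N) :
    letI := segModule k R S M N
    z • w = GrSeg.act k R S M N z w := by
  letI := segModule k R S M N
  rw [← actHom_eq_act]
  rfl

theorem seg_finite [Module.Finite R M] [Module.Finite S N] :
    letI := segModule k R S M N
    Module.Finite (R ⊗[k] S) (M ⊗[k] N) := by
  classical
  letI := segModule k R S M N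
  obtain ⟨sM, hsM⟩ := (Module.finite_def.mp (inferInstance : Module.Finite R M))
  obtain ⟨sN, hsN⟩ := (Module.finite_def.mp (inferInstance : Module.Finite S N))
  refine ⟨⟨Finset.image₂ (fun m n => m ⊗ₜ[k] n) sM sN, ?_⟩⟩
  set Q : Submodule (R ⊗[k] S) (M ⊗[k] N) :=
    Submodule.span (R ⊗[k] S) (Finset.image₂ (fun m n => m ⊗ₜ[k] n) sM sN : Set (M ⊗[k] N)) with hQ
  have h1 : ∀ m ∈ sM, ∀ n : N, m ⊗ₜ[k] n ∈ Q := by
    intro m hm n
    have hn : n ∈ Submodule.span S (sN : Set N) := by rw [hsN]; trivial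
    induction hn using Submodule.span_induction with
    | mem n hn =>
      apply Submodule.subset_span
      rw [Finset.coe_image₂]
      exact ⟨m, hm, n, hn, rfl⟩
    | zero => rw [TensorProduct.tmul_zero]; exact zero_mem _
    | add a b _ _ ha hb => rw [TensorProduct.tmul_add]; exact add_mem ha hb
    | smul s a _ ha =>
      have e : m ⊗ₜ[k] (s • a) = ((1 : R) ⊗ₜ[k] s) • (m ⊗ₜ[k] a) := by
        rw [seg_smul_def, GrSeg.act_tmul, one_smul]
      rw [e]
      exact Q.smul_mem _ ha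
  have h2 : ∀ (m : M) (n : N), m ⊗ₜ[k] n ∈ Q := by
    intro m n
    have hm : m ∈ Submodule.span R (sM : Set M) := by rw [hsM]; trivial
    induction hm using Submodule.span_induction with
    | mem m hm => exact h1 m hm n
    | zero => rw [TensorProduct.zero_tmul]; exact zero_mem _
    | add a b _ _ ha hb => rw [TensorProduct.add_tmul]; exact add_mem ha hb
    | smul r a _ ha =>
      have e : (r • a) ⊗ₜ[k] n = (r ⊗ₜ[k] (1 : S)) • (a ⊗ₜ[k] n) := by
        rw [seg_smul_def, GrSeg.act_tmul, one_smul]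
      rw [e]
      exact Q.smul_mem _ ha
  rw [eq_top_iff]
  intro w hw
  clear hw
  induction w using TensorProduct.induction_on with
  | zero => exact zero_mem _
  | add x y hx hy => exact add_mem hx hy
  | tmul m n => exact h2 m n

end ModuleStructure

section Proj
variable {k : Type u} [Field k] {R : Type u} [CommRing R] [Algebra k R]
  {M : Type u} [AddCommGroup M] [Module R M] [Module k M] [IsScalarTower k R M]
  (𝒜 : ℤ → Submodule k R) [GradedAlgebra 𝒜] (ℳ : ℤ → AddSubgroup M) [DirectSum.Decomposition ℳ]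

noncomputable def projL
    (hM : ∀ (i j : ℤ) (a : R) (x : M), a ∈ 𝒜 i → x ∈ ℳ j → a • x ∈ ℳ (i + j))
    (n : ℤ) : M →ₗ[k] M where
  toFun x := ((DirectSum.decompose ℳ x) n : M)
  map_add' x y := by simp [DirectSum.decompose_add]
  map_smul' c x := by
    simp only [RingHom.id_apply]
    have h := Segre.decompose_smul_of_left_mem 𝒜 ℳ hM (SetLike.algebraMap_mem_graded 𝒜 c) x n
    rw [zero_add, algebraMap_smul, algebraMap_smul] at h
    exact h

variable (hM : ∀ (i j : ℤ) (a : R) (x : M), a ∈ 𝒜 i → x ∈ ℳ j → a • x ∈ ℳ (i + j))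

theorem projL_apply (n : ℤ) (x : M) :
    projL 𝒜 ℳ hM n x = ((DirectSum.decompose ℳ x) n : M) := rfl

theorem projL_of_mem_same {n : ℤ} {x : M} (hx : x ∈ ℳ n) : projL 𝒜 ℳ hM n x = x := by
  rw [projL_apply, DirectSum.decompose_of_mem_same ℳ hx]

theorem projL_of_mem_ne {n j : ℤ} {x : M} (hx : x ∈ ℳ j) (hne : j ≠ n) :
    projL 𝒜 ℳ hM n x = 0 := by
  rw [projL_apply, DirectSum.decompose_of_mem_ne ℳ hx hne]

theorem projL_smul {n j : ℤ} {x : M} (hx : x ∈ ℳ j) (r : R) :
    projL 𝒜 ℳ hM n (r • x) = (GradedAlgebra.proj 𝒜 (n - j) r) • x := by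
  have h := Segre.decompose_smul_of_mem 𝒜 ℳ (fun d n t p ht hp => hM d n t p ht hp) hx r (n - j)
  rw [sub_add_cancel] at h
  rw [projL_apply, h, GradedAlgebra.proj_apply]

end Proj

section Diag
variable {k : Type u} [Field k] {R S : Type u} [CommRing R] [CommRing S] [Algebra k R] [Algebra k S]
  {M N : Type u} [AddCommGroup M] [Module R M] [Module k M] [IsScalarTower k R M]
  [AddCommGroup N] [Module S N] [Module k N] [IsScalarTower k S N]
  (𝒜 : ℤ → Submodule k R) [GradedAlgebra 𝒜] (ℬ : ℤ → Submodule k S) [GradedAlgebra ℬ]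
  (ℳ : ℤ → AddSubgroup M) [DirectSum.Decomposition ℳ]
  (𝒩 : ℤ → AddSubgroup N) [DirectSum.Decomposition 𝒩]
  (hM : ∀ (i j : ℤ) (a : R) (x : M), a ∈ 𝒜 i → x ∈ ℳ j → a • x ∈ ℳ (i + j))
  (hN : ∀ (i j : ℤ) (b : S) (y : N), b ∈ ℬ i → y ∈ 𝒩 j → b • y ∈ 𝒩 (i + j))

noncomputable def diagM (n : ℤ) : M ⊗[k] N →ₗ[k] M ⊗[k] N :=
  TensorProduct.map (projL 𝒜 ℳ hM n) (projL ℬ 𝒩 hN n)

noncomputable def diagR (d : ℤ) : R ⊗[k] S →ₗ[k] R ⊗[k] S :=
  TensorProduct.map (GradedAlgebra.proj 𝒜 d) (GradedAlgebra.proj ℬ d)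

theorem diagM_of_mem {n : ℤ} {w : M ⊗[k] N} (hw : w ∈ GrSeg.segrePiece k ℳ 𝒩 n) :
    diagM 𝒜 ℬ ℳ 𝒩 hM hN n w = w := by
  unfold GrSeg.segrePiece at hw
  induction hw using Submodule.span_induction with
  | mem w hw =>
    obtain ⟨x, hx, y, hy, rfl⟩ := hw
    rw [diagM, TensorProduct.map_tmul, projL_of_mem_same 𝒜 ℳ hM hx,
      projL_of_mem_same ℬ 𝒩 hN hy]
  | zero => simp
  | add a b _ _ ha hb => rw [map_add, ha, hb]
  | smul c a _ ha => rw [map_smul, ha]

theorem diagR_mem (d : ℤ) (z : R ⊗[k] S) : diagR 𝒜 ℬ d z ∈ GrSeg.segrePiece k 𝒜 ℬ d := by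
  induction z using TensorProduct.induction_on with
  | zero => simp
  | add x y hx hy => rw [map_add]; exact add_mem hx hy
  | tmul r s =>
    rw [diagR, TensorProduct.map_tmul, GradedAlgebra.proj_apply, GradedAlgebra.proj_apply]
    exact Submodule.subset_span ⟨_, SetLike.coe_mem _, _, SetLike.coe_mem _, rfl⟩

theorem diagM_act {n j : ℤ} {w : M ⊗[k] N} (hw : w ∈ GrSeg.segrePiece k ℳ 𝒩 j)
    (z : R ⊗[k] S) :
    diagM 𝒜 ℬ ℳ 𝒩 hM hN n (GrSeg.act k R S M N z w) =
      GrSeg.act k R S M N (diagR 𝒜 ℬ (n - j) z) w := by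
  induction z using TensorProduct.induction_on with
  | zero => simp
  | add x y hx hy => rw [map_add, LinearMap.add_apply, map_add, hx, hy, map_add, map_add,
      LinearMap.add_apply]
  | tmul r s =>
    unfold GrSeg.segrePiece at hw
    induction hw using Submodule.span_induction with
    | mem w hw =>
      obtain ⟨x, hx, y, hy, rfl⟩ := hw
      rw [GrSeg.act_tmul, diagM, TensorProduct.map_tmul, projL_smul 𝒜 ℳ hM hx,
        projL_smul ℬ 𝒩 hN hy, diagR, TensorProduct.map_tmul, GrSeg.act_tmul]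
    | zero => simp
    | add a b _ _ ha hb => rw [map_add, map_add, ha, hb, map_add]
    | smul c a _ ha => rw [map_smul, map_smul, ha, map_smul]

end Diag

end Groth.Agent.Lib.Helper93.SegreAct
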