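import Mathlib
import Groth.Prelude.Def_PBC

set_option autoImplicit false
universe u

namespace Groth.Agent.Lib.Helper93.WEtale

open TensorProduct

section prod
variable {R M N : Type*} [CommRing R] [AddCommGroup M] [AddCommGroup N] [Module R M] [Module R N]

/-- Binary products of flat modules are flat. -/
lemma flat_prod [Module.Flat R M] [Module.Flat R N] : Module.Flat R (M × N) := by
  rw [Module.Flat.iff_rTensor_preserves_injective_linearMap]
  intro P Q _ _ _ _ f hf
  have h1 := Module.Flat.rTensor_preserves_injective_linearMap (M := M) f hf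
  have h2 := Module.Flat.rTensor_preserves_injective_linearMap (M := N) f hf
  have key : (TensorProduct.prodRight R R Q M N).toLinearMap ∘ₗ f.rTensor (M × N) =
      (LinearMap.prodMap (f.rTensor M) (f.rTensor N)) ∘ₗ
        (TensorProduct.prodRight R R P M N).toLinearMap := by
    ext <;> simp
  have h3 : Function.Injective ((TensorProduct.prodRight R R Q M N).toLinearMap ∘ₗ
      f.rTensor (M × N)) := by
    rw [key]
    exact (Prod.map_injective.mpr ⟨h1, h2⟩).comp (TensorProduct.prodRight R R P M N).injective
  exact Function.Injective.of_comp h3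

end prod

/-- Localizations are weakly étale. -/
lemma weaklyEtale_of_isLocalization {A B : Type*} [CommRing A] [CommRing B] [Algebra A B]
    (S : Submonoid A) [IsLocalization S B] : Algebra.WeaklyEtale A B := by
  haveI : Module.Flat A B := IsLocalization.flat B S
  refine ⟨inferInstance, ?_⟩
  apply RingHom.Flat.of_bijective
  have key : ∀ z : B ⊗[A] B, z = (Algebra.TensorProduct.lmul' A (S := B) z) ⊗ₜ[A] (1 : B) := by
    intro z
    induction z using TensorProduct.induction_on with
    | zero => simp
    | tmul b c =>
      obtain ⟨a, s, rfl⟩ := IsLocalization.exists_mk'_eq S c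
      simp only [Algebra.TensorProduct.lmul'_apply_tmul]
      have hb : b = (s : A) • (b * IsLocalization.mk' B 1 s) := by
        rw [Algebra.smul_def, mul_comm b, ← mul_assoc, ← IsLocalization.mk'_one (M := S) B (s : A),
          ← IsLocalization.mk'_mul]
        simp
      have h2 : (s : A) • IsLocalization.mk' B a s = a • (1 : B) := by
        rw [Algebra.smul_def, IsLocalization.mk'_spec', Algebra.algebraMap_eq_smul_one]
      have h3 : a • (b * IsLocalization.mk' B 1 s) = b * IsLocalization.mk' B a s := by
        rw [Algebra.smul_def, IsLocalization.mk'_eq_mul_mk'_one (M := S) a s]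
        ring
      conv_lhs => rw [hb]
      rw [TensorProduct.smul_tmul, h2, ← TensorProduct.smul_tmul, h3]
    | add x y hx hy =>
      rw [map_add, TensorProduct.add_tmul, ← hx, ← hy]
  constructor
  · intro x y hxy
    rw [key x, key y]
    change (Algebra.TensorProduct.lmul' A (S := B)) x = (Algebra.TensorProduct.lmul' A (S := B)) y
      at hxy
    rw [hxy]
  · intro b
    exact ⟨b ⊗ₜ 1, by simp⟩


section prodring
variable (S P : Type*) [CommRing S] [CommRing P]

lemma flat_fst : (RingHom.fst S P).Flat := by
  algebraize [RingHom.fst S P]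
  let i : S →ₗ[S × P] (S × P) :=
    { toFun := fun s => (s, 0)
      map_add' := fun a b => by simp
      map_smul' := fun c a => by
        ext
        · simp [Algebra.smul_def, RingHom.algebraMap_toAlgebra]
        · simp }
  let r : (S × P) →ₗ[S × P] S :=
    { toFun := fun x => x.1
      map_add' := fun a b => by simp
      map_smul' := fun c a => by
        simp [Algebra.smul_def, RingHom.algebraMap_toAlgebra] }
  exact Module.Flat.of_retract i r (by ext; simp [i, r])

lemma flat_snd : (RingHom.snd S P).Flat := by
  algebraize [RingHom.snd S P]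
  let i : P →ₗ[S × P] (S × P) :=
    { toFun := fun s => (0, s)
      map_add' := fun a b => by simp
      map_smul' := fun c a => by
        ext
        · simp
        · simp [Algebra.smul_def, RingHom.algebraMap_toAlgebra] }
  let r : (S × P) →ₗ[S × P] P :=
    { toFun := fun x => x.2
      map_add' := fun a b => by simp
      map_smul' := fun c a => by
        simp [Algebra.smul_def, RingHom.algebraMap_toAlgebra] }
  exact Module.Flat.of_retract i r (by ext; simp [i, r])

variable {S P}

/-- A ring map into a binary product is flat as soon as both components are. -/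
lemma flat_of_prod_target {W : Type*} [CommRing W] (φ : W →+* S × P)
    (h1 : ((RingHom.fst S P).comp φ).Flat) (h2 : ((RingHom.snd S P).comp φ).Flat) : φ.Flat := by
  letI a1 : Algebra W S := ((RingHom.fst S P).comp φ).toAlgebra
  letI a2 : Algebra W P := ((RingHom.snd S P).comp φ).toAlgebra
  have f1 : Module.Flat W S := h1
  have f2 : Module.Flat W P := h2
  have f3 : @Module.Flat W (S × P) _ _ Prod.instModule := flat_prod
  unfold RingHom.Flat
  exact f3

end prodring

section weprod
variable {R S P : Type*} [CommRing R] [CommRing S] [CommRing P] [Algebra R S] [Algebra R P]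

/-- Binary products of weakly étale algebras are weakly étale. -/
lemma weaklyEtale_prod [Algebra.WeaklyEtale R S] [Algebra.WeaklyEtale R P] :
    Algebra.WeaklyEtale R (S × P) := by
  refine ⟨flat_prod, ?_⟩
  apply flat_of_prod_target
  · have : (RingHom.fst S P).comp (Algebra.TensorProduct.lmul' R (S := S × P)).toRingHom =
        (Algebra.TensorProduct.lmul' R (S := S)).toRingHom.comp
          (Algebra.TensorProduct.map (AlgHom.fst R S P) (AlgHom.fst R S P)).toRingHom := by
      have h : (AlgHom.fst R S P).comp (Algebra.TensorProduct.lmul' R (S := S × P)) =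
          (Algebra.TensorProduct.lmul' R (S := S)).comp
            (Algebra.TensorProduct.map (AlgHom.fst R S P) (AlgHom.fst R S P)) := by
        ext <;> simp
      exact congrArg AlgHom.toRingHom h
    rw [this]
    refine RingHom.Flat.comp (RingHom.Flat.tensorProductMap ?_ ?_)
      (Algebra.WeaklyEtale.flat_lmul' R S)
    · exact flat_fst S P
    · exact flat_fst S P
  · have : (RingHom.snd S P).comp (Algebra.TensorProduct.lmul' R (S := S × P)).toRingHom =
        (Algebra.TensorProduct.lmul' R (S := P)).toRingHom.comp
          (Algebra.TensorProduct.map (AlgHom.snd R S P) (AlgHom.snd R S P)).toRingHom := by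
      have h : (AlgHom.snd R S P).comp (Algebra.TensorProduct.lmul' R (S := S × P)) =
          (Algebra.TensorProduct.lmul' R (S := P)).comp
            (Algebra.TensorProduct.map (AlgHom.snd R S P) (AlgHom.snd R S P)) := by
        ext <;> simp
      exact congrArg AlgHom.toRingHom h
    rw [this]
    refine RingHom.Flat.comp (RingHom.Flat.tensorProductMap ?_ ?_)
      (Algebra.WeaklyEtale.flat_lmul' R P)
    · exact flat_snd S P
    · exact flat_snd S P

end weprod


section main
variable {A : Type u} [CommRing A]

lemma range_comap_prod_left (C P : Type*) [CommRing C] [CommRing P] [Algebra A C] [Algebra A P]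
    (p : PrimeSpectrum A) (h : p ∈ Set.range (PrimeSpectrum.comap (algebraMap A C))) :
    p ∈ Set.range (PrimeSpectrum.comap (algebraMap A (C × P))) := by
  obtain ⟨q, rfl⟩ := h
  refine ⟨⟨Ideal.prod q.asIdeal ⊤, Ideal.isPrime_ideal_prod_top⟩, ?_⟩
  ext x
  simp [Ideal.mem_prod]

lemma range_comap_prod_right (C P : Type*) [CommRing C] [CommRing P] [Algebra A C] [Algebra A P]
    (p : PrimeSpectrum A) (h : p ∈ Set.range (PrimeSpectrum.comap (algebraMap A P))) :
    p ∈ Set.range (PrimeSpectrum.comap (algebraMap A (C × P))) := by
  obtain ⟨q, rfl⟩ := h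
  refine ⟨⟨Ideal.prod ⊤ q.asIdeal, Ideal.isPrime_ideal_prod_top'⟩, ?_⟩
  ext x
  simp [Ideal.mem_prod]

variable {B : Type u} [CommRing B] [Algebra A B]

/-- If `e` maps into the Jacobson radical of `B`, any `A`-algebra map `C × A_e → B` restricts
to a (unital) `A`-algebra map `C → B`. -/
lemma algHom_of_prod_away {A : Type*} [CommRing A] {B : Type*} [CommRing B] [Algebra A B]
    (C : Type*) [CommRing C] [Algebra A C] (e : A)
    (he : algebraMap A B e ∈ Ideal.jacobson (⊥ : Ideal B))
    (ψ' : C × Localization.Away e →ₐ[A] B) : Nonempty (C →ₐ[A] B) := by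
  set ε : B := ψ' (0, 1) with hε
  set x : B := ψ' (0, IsLocalization.Away.invSelf e) with hx
  have h1 : ε = algebraMap A B e * x := by
    rw [hε, hx, ← Algebra.smul_def, ← map_smul]
    congr 1
    ext
    · simp
    · simp [Algebra.smul_def, IsLocalization.Away.mul_invSelf]
  have h2 : ε * ε = ε := by
    rw [hε, ← map_mul]
    simp
  have h3 : IsUnit (1 - ε) := by
    have := Ideal.mem_jacobson_bot.mp he (-x)
    rw [h1]
    convert this using 1
    ring
  have h4 : ε = 0 := by
    have : (1 - ε) * ε = 0 := by rw [sub_mul, one_mul, h2, sub_self]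
    exact (h3.mul_right_eq_zero).mp this
  have h5 : ψ' (1, 0) = 1 := by
    have : ((1, 0) : C × Localization.Away e) = 1 - (0, 1) := by
      ext <;> simp
    rw [this, map_sub, map_one, ← hε, h4, sub_zero]
  refine ⟨{ toFun := fun c => ψ' (c, 0)
            map_one' := h5
            map_mul' := fun a b => by rw [← map_mul]; simp
            map_zero' := by
              have : ((0, 0) : C × Localization.Away e) = 0 := rfl
              rw [this, map_zero]
            map_add' := fun a b => by rw [← map_add]; simp
            commutes' := fun a => ?_ }⟩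
  have : ((algebraMap A C a, 0) : C × Localization.Away e) = a • (1, 0) := by
    ext <;> simp [Algebra.smul_def]
  rw [this, map_smul, h5, Algebra.smul_def, mul_one]

/-- If the image of `Spec S⁻¹A → Spec A` is the set of points specializing into `V(s)`, then
`s` maps into the Jacobson radical of `S⁻¹A`. -/
lemma algebraMap_mem_jacobson_of_range_eq {A B : Type*} [CommRing A] [CommRing B] [Algebra A B]
    (S : Submonoid A) [IsLocalization S B] (s : Set A)
    (hB : Set.range (PrimeSpectrum.comap (algebraMap A B)) =
      {x | ∃ z : PrimeSpectrum A, z ∈ PrimeSpectrum.zeroLocus s ∧ x ⤳ z}) :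
    ∀ e ∈ s, algebraMap A B e ∈ Ideal.jacobson (⊥ : Ideal B) := by
  intro e he
  rw [Ideal.jacobson, Ideal.mem_sInf]
  rintro m ⟨-, hm⟩
  have hmp : m.IsPrime := hm.isPrime
  have hx : PrimeSpectrum.comap (algebraMap A B) ⟨m, hmp⟩ ∈
      Set.range (PrimeSpectrum.comap (algebraMap A B)) := ⟨_, rfl⟩
  rw [hB] at hx
  obtain ⟨z, hz, hxz⟩ := hx
  have hz' : z ∈ Set.range (PrimeSpectrum.comap (algebraMap A B)) := by
    rw [hB]
    exact ⟨z, hz, specializes_rfl⟩
  obtain ⟨q, rfl⟩ := hz'
  rw [← PrimeSpectrum.le_iff_specializes, ← PrimeSpectrum.asIdeal_le_asIdeal] at hxz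
  have hle : m ≤ q.asIdeal := by
    have := Ideal.map_mono (f := algebraMap A B) hxz
    simpa [IsLocalization.map_under S B] using this
  have hmq : m = q.asIdeal := hm.eq_of_le q.isPrime.ne_top hle
  have : e ∈ (PrimeSpectrum.comap (algebraMap A B) q).asIdeal := by
    rw [PrimeSpectrum.mem_zeroLocus] at hz
    exact hz he
  rw [hmq]
  simpa using this

lemma exists_algHom_of_cover (hA : EtPBC.IsWContractible A) (E : Finset A) :
    (∀ e ∈ E, algebraMap A B e ∈ Ideal.jacobson (⊥ : Ideal B)) →
    ∀ (C : Type u) [CommRing C] [Algebra A C] [Algebra.WeaklyEtale A C],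
      (∀ p : PrimeSpectrum A, p ∈ Set.range (PrimeSpectrum.comap (algebraMap A C)) ∨
        ∃ e ∈ E, e ∉ p.asIdeal) →
      Nonempty (C →ₐ[A] B) := by
  classical
  induction E using Finset.induction_on with
  | empty =>
    intro _ C _ _ _ hcov
    have hs : Function.Surjective (PrimeSpectrum.comap (algebraMap A C)) := fun p => by
      rcases hcov p with h | ⟨e, he, _⟩
      · exact h
      · simp at he
    have := Module.FaithfullyFlat.of_comap_surjective hs
    obtain ⟨ρ⟩ := hA C this inferInstance
    exact ⟨(Algebra.ofId A B).comp ρ⟩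
  | insert e E' he ih =>
    intro hJ C _ _ _ hcov
    haveI : Algebra.WeaklyEtale A (Localization.Away e) :=
      weaklyEtale_of_isLocalization (Submonoid.powers e)
    haveI : Algebra.WeaklyEtale A (C × Localization.Away e) := weaklyEtale_prod
    have hcov' : ∀ p : PrimeSpectrum A,
        p ∈ Set.range (PrimeSpectrum.comap (algebraMap A (C × Localization.Away e))) ∨
        ∃ e ∈ E', e ∉ p.asIdeal := by
      intro p
      rcases hcov p with h | ⟨e', he', hp⟩
      · exact Or.inl (range_comap_prod_left C _ p h)
      · rcases Finset.mem_insert.mp he' with rfl | h'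
        · refine Or.inl (range_comap_prod_right C _ p ?_)
          rw [PrimeSpectrum.localization_away_comap_range (Localization.Away e') e']
          exact hp
        · exact Or.inr ⟨e', h', hp⟩
    obtain ⟨ψ'⟩ := ih (fun x hx => hJ x (Finset.mem_insert_of_mem hx))
      (C × Localization.Away e) hcov'
    exact algHom_of_prod_away C e (hJ e (Finset.mem_insert_self e E')) ψ'

end main

end Groth.Agent.Lib.Helper93.WEtale
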