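import Mathlib.Algebra.Category.Grp.Ulift
import Mathlib.Algebra.Category.Grp.FilteredColimits
import Mathlib.CategoryTheory.Limits.ConcreteCategory.Basic
import Mathlib.CategoryTheory.Limits.Preserves.Filtered

universe w v

namespace Groth.Agent.Lib.Helper93

open CategoryTheory CategoryTheory.Limits

variable {J : Type v} [SmallCategory J] [IsFiltered J] (G : J ⥤ AddCommGrpCat.{w})

noncomputable instance forgetPres :
    PreservesFilteredColimitsOfSize.{v, v} (forget AddCommGrpCat.{max w v}) :=
  preservesFilteredColimitsOfSize_shrink.{v, max w v, v, max w v} _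

theorem ab_exists_rep {c : Cocone G} (hc : IsColimit c) (x : c.pt) :
    ∃ (j : J) (y : G.obj j), c.ι.app j y = x := by
  have hc' : IsColimit (AddCommGrpCat.uliftFunctor.{v, w}.mapCocone c) :=
    isColimitOfPreserves _ hc
  obtain ⟨j, y, hy⟩ := Concrete.isColimit_exists_rep (G ⋙ AddCommGrpCat.uliftFunctor.{v, w}) hc'
    (ULift.up x)
  refine ⟨j, y.down, ?_⟩
  have := congrArg ULift.down hy
  exact this

theorem ab_eq_zero {c : Cocone G} (hc : IsColimit c) {j : J} (y : G.obj j)
    (hy : c.ι.app j y = 0) : ∃ (k : J) (f : j ⟶ k), G.map f y = 0 := by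
  have hc' : IsColimit (AddCommGrpCat.uliftFunctor.{v, w}.mapCocone c) :=
    isColimitOfPreserves _ hc
  obtain ⟨k, f, g, h⟩ := Concrete.isColimit_exists_of_rep_eq
    (G ⋙ AddCommGrpCat.uliftFunctor.{v, w}) hc' (i := j) (j := j) (ULift.up y) (ULift.up 0) (by
      apply ULift.ext
      change c.ι.app j y = c.ι.app j 0
      rw [hy, map_zero])
  refine ⟨k, f, ?_⟩
  have := congrArg ULift.down h
  change G.map f y = G.map g 0 at this
  rw [this, map_zero]

end Groth.Agent.Lib.Helper93
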