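import Mathlib

set_option autoImplicit false
universe u
open CategoryTheory CategoryTheory.Limits

attribute [local instance] HasDerivedCategory.standard

namespace Groth.Agent.Lib.Helper93.AffKTA

section

variable {A B : Type (u + 1)} [Category.{u} A] [Abelian A] [Category.{u} B] [Abelian B]
  (Φ : A ⥤ B) (Ψ : B ⥤ A) [Φ.Additive] [Ψ.Additive] (η : 𝟭 A ≅ Φ ⋙ Ψ)

/-- The isomorphism `E ≅ Ψ(Φ(E))` of complexes induced by `η`. -/
noncomputable def εc (E : CochainComplex A ℤ) :
    E ≅ (Ψ.mapHomologicalComplex (ComplexShape.up ℤ)).obj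
      ((Φ.mapHomologicalComplex (ComplexShape.up ℤ)).obj E) :=
  HomologicalComplex.Hom.isoOfComponents (fun i => η.app (E.X i)) (by
    intro i j _
    exact (η.hom.naturality (E.d i j)).symm)

/-- `εc` as a natural isomorphism. -/
noncomputable def ε : 𝟭 (CochainComplex A ℤ) ≅
    Φ.mapHomologicalComplex (ComplexShape.up ℤ) ⋙ Ψ.mapHomologicalComplex (ComplexShape.up ℤ) :=
  NatIso.ofComponents (εc Φ Ψ η) (by
    intro E F f
    ext i
    exact η.hom.naturality (f.f i))

end


section QhQ

variable {C : Type (u + 1)} [Category.{u} C] [Abelian C] (K L : CochainComplex C ℤ)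

lemma Q_map_eq (f : K ⟶ L) :
    DerivedCategory.Q.map f = (DerivedCategory.quotientCompQhIso C).inv.app K ≫
      DerivedCategory.Qh.map ((HomotopyCategory.quotient C (ComplexShape.up ℤ)).map f) ≫
      (DerivedCategory.quotientCompQhIso C).hom.app L := by
  rw [DerivedCategory.quotientCompQhIso_hom_naturality, Iso.inv_hom_id_app_assoc]

lemma Qh_map_eq (f : K ⟶ L) :
    DerivedCategory.Qh.map ((HomotopyCategory.quotient C (ComplexShape.up ℤ)).map f) =
      (DerivedCategory.quotientCompQhIso C).hom.app K ≫ DerivedCategory.Q.map f ≫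
      (DerivedCategory.quotientCompQhIso C).inv.app L := by
  rw [Q_map_eq, Category.assoc, Category.assoc, Iso.hom_inv_id_app]
  erw [Category.comp_id]
  rw [Iso.hom_inv_id_app_assoc]

lemma inj_of_Qh (h : Function.Injective (fun φ :
      (HomotopyCategory.quotient C (ComplexShape.up ℤ)).obj K ⟶
      (HomotopyCategory.quotient C (ComplexShape.up ℤ)).obj L => DerivedCategory.Qh.map φ))
    (f f' : K ⟶ L) (hf : DerivedCategory.Q.map f = DerivedCategory.Q.map f') :
    (HomotopyCategory.quotient C (ComplexShape.up ℤ)).map f =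
      (HomotopyCategory.quotient C (ComplexShape.up ℤ)).map f' := by
  apply h
  show DerivedCategory.Qh.map _ = DerivedCategory.Qh.map _
  rw [Qh_map_eq, Qh_map_eq, hf]

lemma surj_of_Qh (h : Function.Surjective (fun φ :
      (HomotopyCategory.quotient C (ComplexShape.up ℤ)).obj K ⟶
      (HomotopyCategory.quotient C (ComplexShape.up ℤ)).obj L => DerivedCategory.Qh.map φ))
    (ψ : DerivedCategory.Q.obj K ⟶ DerivedCategory.Q.obj L) :
    ∃ f : K ⟶ L, DerivedCategory.Q.map f = ψ := by
  obtain ⟨φ, hφ⟩ := h ((DerivedCategory.quotientCompQhIso C).hom.app K ≫ ψ ≫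
    (DerivedCategory.quotientCompQhIso C).inv.app L)
  obtain ⟨f, rfl⟩ := (HomotopyCategory.quotient C (ComplexShape.up ℤ)).map_surjective φ
  refine ⟨f, ?_⟩
  have hφ' : DerivedCategory.Qh.map ((HomotopyCategory.quotient C (ComplexShape.up ℤ)).map f) =
      (DerivedCategory.quotientCompQhIso C).hom.app K ≫ ψ ≫
    (DerivedCategory.quotientCompQhIso C).inv.app L := hφ
  rw [Q_map_eq, hφ']
  simp

lemma Qh_inj_of (h : ∀ f f' : K ⟶ L, DerivedCategory.Q.map f = DerivedCategory.Q.map f' →
      (HomotopyCategory.quotient C (ComplexShape.up ℤ)).map f =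
      (HomotopyCategory.quotient C (ComplexShape.up ℤ)).map f') :
    Function.Injective (fun φ :
      (HomotopyCategory.quotient C (ComplexShape.up ℤ)).obj K ⟶
      (HomotopyCategory.quotient C (ComplexShape.up ℤ)).obj L => DerivedCategory.Qh.map φ) := by
  intro φ φ' hφ
  obtain ⟨f, rfl⟩ := (HomotopyCategory.quotient C (ComplexShape.up ℤ)).map_surjective φ
  obtain ⟨f', rfl⟩ := (HomotopyCategory.quotient C (ComplexShape.up ℤ)).map_surjective φ'
  apply h
  have hφ' : DerivedCategory.Qh.map ((HomotopyCategory.quotient C (ComplexShape.up ℤ)).map f) =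
      DerivedCategory.Qh.map ((HomotopyCategory.quotient C (ComplexShape.up ℤ)).map f') := hφ
  rw [Q_map_eq, Q_map_eq, hφ']

lemma Qh_surj_of (h : ∀ ψ : DerivedCategory.Q.obj K ⟶ DerivedCategory.Q.obj L,
      ∃ f : K ⟶ L, DerivedCategory.Q.map f = ψ) :
    Function.Surjective (fun φ :
      (HomotopyCategory.quotient C (ComplexShape.up ℤ)).obj K ⟶
      (HomotopyCategory.quotient C (ComplexShape.up ℤ)).obj L => DerivedCategory.Qh.map φ) := by
  intro ψ
  obtain ⟨f, hf⟩ := h ((DerivedCategory.quotientCompQhIso C).inv.app K ≫ ψ ≫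
    (DerivedCategory.quotientCompQhIso C).hom.app L)
  refine ⟨(HomotopyCategory.quotient C (ComplexShape.up ℤ)).map f, ?_⟩
  show DerivedCategory.Qh.map _ = ψ
  rw [Qh_map_eq, hf]
  simp

end QhQ


section Main

variable {A B : Type (u + 1)} [Category.{u} A] [Abelian A] [Category.{u} B] [Abelian B]
  (Φ : A ⥤ B) (Ψ : B ⥤ A) [Φ.Additive] [Ψ.Additive]
  [PreservesFiniteLimits Φ] [PreservesFiniteColimits Φ]
  [PreservesFiniteLimits Ψ] [PreservesFiniteColimits Ψ] (η : 𝟭 A ≅ Φ ⋙ Ψ)

/-- The natural isomorphism `Q ≅ Q ⋙ Φ_D ⋙ Ψ_D`. -/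
noncomputable def αI : (DerivedCategory.Q (C := A)) ≅
    DerivedCategory.Q ⋙ (Φ.mapDerivedCategory ⋙ Ψ.mapDerivedCategory) :=
  (Functor.leftUnitor _).symm ≪≫ Functor.isoWhiskerRight (ε Φ Ψ η) DerivedCategory.Q ≪≫
    Functor.associator _ _ _ ≪≫
    Functor.isoWhiskerLeft (Φ.mapHomologicalComplex (ComplexShape.up ℤ))
      Ψ.mapDerivedCategoryFactors.symm ≪≫
    (Functor.associator _ _ _).symm ≪≫
    Functor.isoWhiskerRight Φ.mapDerivedCategoryFactors.symm Ψ.mapDerivedCategory ≪≫
    Functor.associator _ _ _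

lemma αI_hom_app (X : CochainComplex A ℤ) :
    (αI Φ Ψ η).hom.app X = DerivedCategory.Q.map ((ε Φ Ψ η).hom.app X) ≫
      Ψ.mapDerivedCategoryFactors.inv.app ((Φ.mapHomologicalComplex (ComplexShape.up ℤ)).obj X) ≫
      Ψ.mapDerivedCategory.map (Φ.mapDerivedCategoryFactors.inv.app X) := by
  simp [αI]

/-- The lift of `αI` to the derived category. -/
noncomputable def αt : 𝟭 (DerivedCategory A) ⟶ Φ.mapDerivedCategory ⋙ Ψ.mapDerivedCategory :=
  Localization.liftNatTrans DerivedCategory.Q
    (HomologicalComplex.quasiIso A (ComplexShape.up ℤ))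
    DerivedCategory.Q (DerivedCategory.Q ⋙ (Φ.mapDerivedCategory ⋙ Ψ.mapDerivedCategory))
    (𝟭 _) (Φ.mapDerivedCategory ⋙ Ψ.mapDerivedCategory) (αI Φ Ψ η).hom

lemma αt_app (X : CochainComplex A ℤ) :
    (αt Φ Ψ η).app (DerivedCategory.Q.obj X) = (αI Φ Ψ η).hom.app X := by
  simp [αt]

end Main

/-- **TA** of helper53's S14112 marketplace: bijectivity of `Qh` on `Hom(ΦE, ΦF)` for an exact
functor `Φ` with exact retraction `Ψ` implies bijectivity of `Qh` on `Hom(E, F)`. -/
theorem bijective_Qh_of_retract {A B : Type (u + 1)} [Category.{u} A] [Abelian A]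
    [Category.{u} B] [Abelian B] (Φ : A ⥤ B) (Ψ : B ⥤ A) [Φ.Additive] [Ψ.Additive]
    [PreservesFiniteLimits Φ] [PreservesFiniteColimits Φ] [PreservesFiniteLimits Ψ]
    [PreservesFiniteColimits Ψ] (η : 𝟭 A ≅ Φ ⋙ Ψ) (E F : CochainComplex A ℤ)
    (h : Function.Bijective (fun φ :
      (HomotopyCategory.quotient B (ComplexShape.up ℤ)).obj
        ((Φ.mapHomologicalComplex (ComplexShape.up ℤ)).obj E) ⟶
      (HomotopyCategory.quotient B (ComplexShape.up ℤ)).obj
        ((Φ.mapHomologicalComplex (ComplexShape.up ℤ)).obj F) =>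
      (DerivedCategory.Qh (C := B)).map φ)) :
    Function.Bijective (fun φ :
      (HomotopyCategory.quotient A (ComplexShape.up ℤ)).obj E ⟶
      (HomotopyCategory.quotient A (ComplexShape.up ℤ)).obj F =>
      (DerivedCategory.Qh (C := A)).map φ) := by
  constructor
  · apply Qh_inj_of
    intro f f' hf
    -- transport to `B`
    have h1 : DerivedCategory.Q.map ((Φ.mapHomologicalComplex (ComplexShape.up ℤ)).map f) =
        DerivedCategory.Q.map ((Φ.mapHomologicalComplex (ComplexShape.up ℤ)).map f') := by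
      have e1 := Φ.mapDerivedCategoryFactors_hom_naturality f
      have e2 := Φ.mapDerivedCategoryFactors_hom_naturality f'
      rw [hf] at e1
      have e3 := e1.symm.trans e2
      exact (cancel_epi _).mp e3
    have h2 := inj_of_Qh _ _ h.1 _ _ h1
    have hh : Homotopy ((Φ.mapHomologicalComplex (ComplexShape.up ℤ)).map f)
        ((Φ.mapHomologicalComplex (ComplexShape.up ℤ)).map f') :=
      HomotopyCategory.homotopyOfEq _ _ h2
    have h3 : (HomotopyCategory.quotient A (ComplexShape.up ℤ)).map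
        ((Ψ.mapHomologicalComplex (ComplexShape.up ℤ)).map
          ((Φ.mapHomologicalComplex (ComplexShape.up ℤ)).map f)) =
        (HomotopyCategory.quotient A (ComplexShape.up ℤ)).map
        ((Ψ.mapHomologicalComplex (ComplexShape.up ℤ)).map
          ((Φ.mapHomologicalComplex (ComplexShape.up ℤ)).map f')) :=
      HomotopyCategory.eq_of_homotopy _ _ (Ψ.mapHomotopy hh)
    have n1 := (ε Φ Ψ η).hom.naturality f
    have n2 := (ε Φ Ψ η).hom.naturality f'
    simp only [Functor.id_map, Functor.comp_map] at n1 n2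
    have k1 := congrArg (HomotopyCategory.quotient A (ComplexShape.up ℤ)).map n1
    have k2 := congrArg (HomotopyCategory.quotient A (ComplexShape.up ℤ)).map n2
    rw [Functor.map_comp, Functor.map_comp] at k1 k2
    rw [h3] at k1
    have k3 := k1.trans k2.symm
    exact (cancel_mono _).mp k3
  · apply Qh_surj_of
    intro ψ
    obtain ⟨g, hg⟩ := surj_of_Qh _ _ h.2
      (Φ.mapDerivedCategoryFactors.inv.app E ≫ Φ.mapDerivedCategory.map ψ ≫
        Φ.mapDerivedCategoryFactors.hom.app F)
    refine ⟨(ε Φ Ψ η).hom.app E ≫ (Ψ.mapHomologicalComplex (ComplexShape.up ℤ)).map g ≫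
      (ε Φ Ψ η).inv.app F, ?_⟩
    have nat := (αt Φ Ψ η).naturality ψ
    rw [αt_app, αt_app] at nat
    rw [← cancel_mono ((αI Φ Ψ η).hom.app F)]
    simp only [Functor.id_map] at nat
    rw [nat, αI_hom_app, αI_hom_app]
    simp only [Functor.map_comp, Category.assoc, Functor.comp_map]
    have n3 := Ψ.mapDerivedCategoryFactors.inv.naturality g
    simp only [Functor.comp_map] at n3
    rw [← Functor.map_comp_assoc DerivedCategory.Q ((ε Φ Ψ η).inv.app F), Iso.inv_hom_id_app]
    erw [CategoryTheory.Functor.map_id, Category.id_comp]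
    rw [reassoc_of% n3, hg]
    simp only [Functor.map_comp, Category.assoc]
    rw [← Functor.map_comp, Iso.hom_inv_id_app]
    simp

end Groth.Agent.Lib.Helper93.AffKTA

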