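import Mathlib

set_option autoImplicit false
open HomogeneousLocalization LaurentPolynomial

namespace Groth.Agent.Lib.Helper93.AwayLaurent

variable {R A : Type*} [CommRing R] [CommRing A] [Algebra R A] (𝒜 : ℕ → Submodule R A)
  [GradedAlgebra 𝒜] {f : A} (hf : f ∈ 𝒜 1)

/-- `a / f ^ i` for `a ∈ 𝒜 i`, `f` of degree one. -/
noncomputable def frac (i : ℕ) (a : 𝒜 i) : Away 𝒜 f :=
  Away.mk 𝒜 hf i a.1 (by simp)

theorem val_frac (i : ℕ) (a : 𝒜 i) :
    (frac 𝒜 hf i a).val = Localization.mk a.1 (⟨f ^ i, ⟨i, rfl⟩⟩ : Submonoid.powers f) := rfl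

theorem frac_add (i : ℕ) (a b : 𝒜 i) : frac 𝒜 hf i (a + b) = frac 𝒜 hf i a + frac 𝒜 hf i b := by
  apply HomogeneousLocalization.val_injective
  rw [HomogeneousLocalization.val_add, val_frac, val_frac, val_frac, Localization.add_mk_self]
  rfl

theorem frac_zero (i : ℕ) : frac 𝒜 hf i 0 = 0 := by
  apply HomogeneousLocalization.val_injective
  rw [val_frac, HomogeneousLocalization.val_zero]
  exact Localization.mk_zero _

theorem frac_mul (i j : ℕ) (a : 𝒜 i) (b : 𝒜 j) :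
    frac 𝒜 hf (i + j) ⟨a.1 * b.1, SetLike.mul_mem_graded a.2 b.2⟩ = frac 𝒜 hf i a * frac 𝒜 hf j b := by
  apply HomogeneousLocalization.val_injective
  rw [HomogeneousLocalization.val_mul, val_frac, val_frac, val_frac, Localization.mk_mul]
  congr 1
  exact Subtype.ext (pow_add f i j)

theorem frac_one : frac 𝒜 hf 0 ⟨1, SetLike.one_mem_graded 𝒜⟩ = 1 := by
  apply HomogeneousLocalization.val_injective
  rw [val_frac, HomogeneousLocalization.val_one]
  have : (⟨f ^ 0, ⟨0, rfl⟩⟩ : Submonoid.powers f) = ⟨1, ⟨0, pow_zero f⟩⟩ := Subtype.ext (pow_zero f)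
  rw [this]
  exact Localization.mk_self (⟨1, ⟨0, pow_zero f⟩⟩ : Submonoid.powers f)

theorem frac_self : frac 𝒜 hf 1 ⟨f, hf⟩ = 1 := by
  apply HomogeneousLocalization.val_injective
  rw [val_frac, HomogeneousLocalization.val_one]
  have : (⟨f ^ 1, ⟨1, rfl⟩⟩ : Submonoid.powers f) = ⟨f, ⟨1, pow_one f⟩⟩ := Subtype.ext (pow_one f)
  rw [this]
  exact Localization.mk_self (⟨f, ⟨1, pow_one f⟩⟩ : Submonoid.powers f)

/-- The `i`-th graded piece of the map `A → A_(f)[T;T⁻¹]`, `a ↦ (a / f ^ i) T ^ i`. -/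
noncomputable def fracHom (i : ℕ) : 𝒜 i →+ (Away 𝒜 f)[T;T⁻¹] where
  toFun a := C (frac 𝒜 hf i a) * T i
  map_zero' := by rw [frac_zero, map_zero, zero_mul]
  map_add' a b := by rw [frac_add, map_add, add_mul]

/-- The ring map `A → A_(f)[T;T⁻¹]`, `a ↦ ∑ (aᵢ / f ^ i) T ^ i`. -/
noncomputable def toLaurent₀ : A →+* (Away 𝒜 f)[T;T⁻¹] :=
  (DirectSum.toSemiring (fracHom 𝒜 hf)
    (by
      change C (frac 𝒜 hf 0 ⟨1, SetLike.one_mem_graded 𝒜⟩) * T ((0 : ℕ) : ℤ) = 1
      rw [frac_one, map_one, Nat.cast_zero, T_zero, one_mul])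
    (by
      intro i j a b
      change C (frac 𝒜 hf (i + j) ⟨a.1 * b.1, SetLike.mul_mem_graded a.2 b.2⟩) * T ((i + j : ℕ) : ℤ) =
        (C (frac 𝒜 hf i a) * T i) * (C (frac 𝒜 hf j b) * T j)
      rw [frac_mul, map_mul, Nat.cast_add, T_add, mul_mul_mul_comm])).comp
    (DirectSum.decomposeRingEquiv 𝒜).toRingHom

theorem toLaurent₀_of_mem {i : ℕ} {a : A} (ha : a ∈ 𝒜 i) :
    toLaurent₀ 𝒜 hf a = C (frac 𝒜 hf i ⟨a, ha⟩) * T i := by
  have h1 : (DirectSum.decomposeRingEquiv 𝒜).toRingHom a = DirectSum.of (fun i => 𝒜 i) i ⟨a, ha⟩ :=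
    DirectSum.decompose_of_mem 𝒜 ha
  rw [toLaurent₀, RingHom.comp_apply, h1, DirectSum.toSemiring_of]
  rfl

theorem toLaurent₀_self : toLaurent₀ 𝒜 hf f = T 1 := by
  rw [toLaurent₀_of_mem 𝒜 hf hf, frac_self, map_one, one_mul, Nat.cast_one]


omit [GradedAlgebra 𝒜] in
theorem ringHom_ext_of_homogeneous [GradedAlgebra 𝒜] {S : Type*} [Semiring S] (g h : A →+* S)
    (H : ∀ i, ∀ a ∈ 𝒜 i, g a = h a) : g = h := by
  classical
  ext a
  rw [← DirectSum.sum_support_decompose 𝒜 a, map_sum, map_sum]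
  exact Finset.sum_congr rfl fun i _ => H i _ (Submodule.coe_mem _)

variable (f) in
/-- `f / 1` as a unit of `A_f`. -/
noncomputable def unitF : (Localization.Away f)ˣ :=
  (IsLocalization.Away.algebraMap_isUnit (S := Localization.Away f) f).unit

theorem coe_unitF : (unitF f : Localization.Away f) = algebraMap A (Localization.Away f) f := rfl

/-- The map `A_(f)[T;T⁻¹] → A_f`, `T ↦ f`. -/
noncomputable def fromLaurent : (Away 𝒜 f)[T;T⁻¹] →+* Localization.Away f :=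
  LaurentPolynomial.eval₂ (algebraMap (Away 𝒜 f) (Localization.Away f)) (unitF f)

/-- The map `A_f → A_(f)[T;T⁻¹]`. -/
noncomputable def toLaurent : Localization.Away f →+* (Away 𝒜 f)[T;T⁻¹] :=
  IsLocalization.Away.lift f (g := toLaurent₀ 𝒜 hf) (by rw [toLaurent₀_self]; exact isUnit_T 1)

theorem toLaurent_algebraMap (a : A) :
    toLaurent 𝒜 hf (algebraMap A (Localization.Away f) a) = toLaurent₀ 𝒜 hf a :=
  IsLocalization.Away.lift_eq _ _ _

theorem fromLaurent_toLaurent₀ (a : A) :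
    fromLaurent 𝒜 (toLaurent₀ 𝒜 hf a) = algebraMap A (Localization.Away f) a := by
  suffices h : (fromLaurent 𝒜).comp (toLaurent₀ 𝒜 hf) = algebraMap A (Localization.Away f) from
    congrArg (fun g : A →+* Localization.Away f => g a) h
  apply ringHom_ext_of_homogeneous 𝒜
  intro i a ha
  rw [RingHom.comp_apply, toLaurent₀_of_mem 𝒜 hf ha, fromLaurent, eval₂_C_mul_T_n,
    HomogeneousLocalization.algebraMap_apply, val_frac, coe_unitF, Localization.mk_eq_mk',
    ← map_pow]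
  exact IsLocalization.mk'_spec _ _ _

theorem fromLaurent_comp_toLaurent :
    (fromLaurent 𝒜).comp (toLaurent 𝒜 hf) = RingHom.id (Localization.Away f) := by
  apply IsLocalization.ringHom_ext (Submonoid.powers f)
  ext a
  simp only [RingHom.comp_apply, RingHom.id_apply]
  rw [toLaurent_algebraMap, fromLaurent_toLaurent₀]

theorem toLaurent_algebraMap_away (b : Away 𝒜 f) :
    toLaurent 𝒜 hf (algebraMap (Away 𝒜 f) (Localization.Away f) b) = C b := by
  obtain ⟨n, a, ha, rfl⟩ := Away.mk_surjective 𝒜 hf b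
  have ha' : a ∈ 𝒜 n := by simpa using ha
  have h1 : algebraMap (Away 𝒜 f) (Localization.Away f) (Away.mk 𝒜 hf n a ha) *
      algebraMap A (Localization.Away f) (f ^ n) = algebraMap A (Localization.Away f) a := by
    rw [HomogeneousLocalization.algebraMap_apply, Away.val_mk, Localization.mk_eq_mk']
    exact IsLocalization.mk'_spec _ _ _
  have h2 := congrArg (toLaurent 𝒜 hf) h1
  rw [map_mul, toLaurent_algebraMap, toLaurent_algebraMap, map_pow, toLaurent₀_self,
    toLaurent₀_of_mem 𝒜 hf ha', T_pow, mul_one] at h2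
  have h3 : frac 𝒜 hf n ⟨a, ha'⟩ = Away.mk 𝒜 hf n a ha := rfl
  rw [h3] at h2
  exact (isUnit_T (n : ℤ)).mul_left_inj.mp h2

theorem toLaurent_comp_fromLaurent :
    (toLaurent 𝒜 hf).comp (fromLaurent 𝒜) = RingHom.id ((Away 𝒜 f)[T;T⁻¹]) := by
  apply IsLocalization.ringHom_ext (Submonoid.powers (Polynomial.X : Polynomial (Away 𝒜 f)))
  apply Polynomial.ringHom_ext
  · intro b
    simp only [RingHom.comp_apply, RingHom.id_apply, algebraMap_eq_toLaurent,
      Polynomial.toLaurent_C]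
    rw [fromLaurent, eval₂_C, toLaurent_algebraMap_away]
  · simp only [RingHom.comp_apply, RingHom.id_apply, algebraMap_eq_toLaurent,
      Polynomial.toLaurent_X]
    have : (T 1 : (Away 𝒜 f)[T;T⁻¹]) = T ((1 : ℕ) : ℤ) := by rw [Nat.cast_one]
    rw [this, fromLaurent, eval₂_T_n, pow_one, coe_unitF, toLaurent_algebraMap, toLaurent₀_self,
      Nat.cast_one]

/-- `A_f ≃ A_(f)[T;T⁻¹]` for `f` homogeneous of degree one. -/
noncomputable def awayLaurentEquiv : Localization.Away f ≃+* (Away 𝒜 f)[T;T⁻¹] :=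
  RingEquiv.ofRingHom (toLaurent 𝒜 hf) (fromLaurent 𝒜) (toLaurent_comp_fromLaurent 𝒜 hf)
    (fromLaurent_comp_toLaurent 𝒜 hf)

/-- `A_f ≃ A_(f)[T;T⁻¹]` as `A_(f)`-algebras. -/
noncomputable def awayLaurentAlgEquiv : Localization.Away f ≃ₐ[Away 𝒜 f] (Away 𝒜 f)[T;T⁻¹] :=
  AlgEquiv.ofRingEquiv (f := awayLaurentEquiv 𝒜 hf) (fun b => by
    rw [← LaurentPolynomial.C_eq_algebraMap]
    exact toLaurent_algebraMap_away 𝒜 hf b)

include hf in
theorem finiteType_away : Algebra.FiniteType (Away 𝒜 f) (Localization.Away f) := by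
  have : Algebra.FiniteType (Away 𝒜 f) ((Away 𝒜 f)[T;T⁻¹]) :=
    AddMonoidAlgebra.finiteType_of_fg _ _
  exact Algebra.FiniteType.equiv this (awayLaurentAlgEquiv 𝒜 hf).symm

end Groth.Agent.Lib.Helper93.AwayLaurent
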