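import Groth.Agent.Lib.Helper13.Beil.Defs

set_option autoImplicit false
universe w u u₁ v₁ u₂ v₂
open CategoryTheory CategoryTheory.Limits CategoryTheory.Pretriangulated Opposite
open Groth.Agent.Lib.Helper13.Beil Groth.Agent.Lib.Helper40.Cpt

namespace Groth.Agent.Lib.Helper93.BeilT0

section

variable {D : Type u₁} [Category.{v₁} D] [Preadditive D] (K : D)

/-- view a morphism as an element of the coyoneda group -/
def toG {X : D} (x : K ⟶ X) : ((preadditiveCoyoneda.obj (op K)).obj X : Type v₁) := x

/-- view an element of the coyoneda group as a morphism -/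
def ofG {X : D} (x : ((preadditiveCoyoneda.obj (op K)).obj X : Type v₁)) : K ⟶ X := x

lemma map_toG {X X' : D} (f : X ⟶ X') (x : K ⟶ X) :
    ((preadditiveCoyoneda.obj (op K)).map f).hom (toG K x) = toG K (x ≫ f) := rfl

lemma toG_add {X : D} (x y : K ⟶ X) : toG K (x + y) = toG K x + toG K y := rfl

lemma toG_zero {X : D} : toG K (0 : K ⟶ X) = 0 := rfl

/-- the leg of a cocone on the coyoneda diagram, as a function on morphisms -/
def sι {J : Type u} {Y : J → D}
    (s : Cocone (Discrete.functor Y ⋙ preadditiveCoyoneda.obj (op K))) (i : J) (x : K ⟶ Y i) :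
    (s.pt : Type v₁) := (s.ι.app ⟨i⟩).hom (toG K x)

lemma sι_add {J : Type u} {Y : J → D}
    (s : Cocone (Discrete.functor Y ⋙ preadditiveCoyoneda.obj (op K))) (i : J) (x y : K ⟶ Y i) :
    sι K s i (x + y) = sι K s i x + sι K s i y := by
  unfold sι
  rw [toG_add]
  exact map_add _ _ _

lemma sι_zero {J : Type u} {Y : J → D}
    (s : Cocone (Discrete.functor Y ⋙ preadditiveCoyoneda.obj (op K))) (i : J) :
    sι K s i 0 = 0 := by
  unfold sι
  rw [toG_zero]
  exact map_zero _

end

theorem preserves_of_finSum {D : Type u₁} [Category.{v₁} D] [Preadditive D] (K : D) (J : Type u)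
    [HasCoproductsOfShape J D] (h : ∀ (Y : J → D) (m : K ⟶ ∐ Y), FinSum K (Sigma.ι Y) m) :
    PreservesColimitsOfShape (Discrete J) (preadditiveCoyoneda.obj (op K)) := by
  classical
  haveI : ∀ Y : J → D,
      PreservesColimit (Discrete.functor Y) (preadditiveCoyoneda.obj (op K)) := by
    intro Y
    apply preservesColimit_of_preserves_colimit_cocone (colimit.isColimit (Discrete.functor Y))
    -- projections
    let p : ∀ i, ∐ Y ⟶ Y i := fun i =>
      Sigma.desc (fun j => if hji : j = i then eqToHom (by rw [hji]) else 0)
    have hpjj : ∀ j, Sigma.ι Y j ≫ p j = 𝟙 _ := by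
      intro j
      simp [p]
    have hpji : ∀ j i, j ≠ i → Sigma.ι Y j ≫ p i = 0 := by
      intro j i hji
      simp [p, hji]
    -- decomposition
    have hdec : ∀ m : K ⟶ ∐ Y, ∃ F : Finset J, (∀ i, i ∉ F → m ≫ p i = 0) ∧
        m = ∑ i ∈ F, (m ≫ p i) ≫ Sigma.ι Y i := by
      intro m
      obtain ⟨F, g, hg0, hg⟩ := h Y m
      have hgi : ∀ i, m ≫ p i = g i := by
        intro i
        rw [hg, Preadditive.sum_comp]
        by_cases hi : i ∈ F
        · rw [Finset.sum_eq_single i]
          · rw [Category.assoc, hpjj, Category.comp_id]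
          · intro j _ hji
            rw [Category.assoc, hpji j i hji, comp_zero]
          · intro hi'
            exact absurd hi hi'
        · rw [hg0 i hi]
          apply Finset.sum_eq_zero
          intro j hj
          have hji : j ≠ i := fun e => hi (e ▸ hj)
          rw [Category.assoc, hpji j i hji, comp_zero]
      refine ⟨F, fun i hi => by rw [hgi, hg0 i hi], ?_⟩
      conv_lhs => rw [hg]
      exact Finset.sum_congr rfl (fun i _ => by rw [hgi])
    -- finiteness of supports
    have hsupp : ∀ (s : Cocone (Discrete.functor Y ⋙ preadditiveCoyoneda.obj (op K)))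
        (m : K ⟶ ∐ Y),
        (Function.support fun i : J => sι K s i (m ≫ p i)).Finite := by
      intro s m
      obtain ⟨F, hF, -⟩ := hdec m
      refine F.finite_toSet.subset ?_
      intro i hi
      by_contra hiF
      apply hi
      show sι K s i (m ≫ p i) = 0
      rw [hF i hiF, sι_zero]
    refine
      { desc := fun s => AddCommGrpCat.ofHom
          { toFun := fun m => ∑ᶠ i : J, sι K s i (ofG K m ≫ p i)
            map_zero' := by
              apply finsum_eq_zero_of_forall_eq_zero
              intro i
              refine Eq.trans ?_ (sι_zero K s i)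
              exact congrArg (sι K s i) (zero_comp (f := p i))
            map_add' := by
              intro m m'
              have e : ∀ i, sι K s i (ofG K (m + m') ≫ p i) =
                  sι K s i (ofG K m ≫ p i) +
                  sι K s i (ofG K m' ≫ p i) := by
                intro i
                have : ofG K (m + m') ≫ p i = ofG K m ≫ p i + ofG K m' ≫ p i :=
                  Preadditive.add_comp _ _ _ _ _ _
                rw [this, sι_add]
              simp only [e]
              exact finsum_add_distrib (hsupp s (ofG K m)) (hsupp s (ofG K m')) }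
        fac := ?_
        uniq := ?_ }
    · intro s ⟨j⟩
      ext x
      show ∑ᶠ i : J, sι K s i (ofG K (toG K (ofG K x ≫ Sigma.ι Y j)) ≫ p i) =
        (s.ι.app ⟨j⟩).hom x
      rw [finsum_eq_single _ j]
      · have : ofG K (toG K (ofG K x ≫ Sigma.ι Y j)) ≫ p j = ofG K x := by
          show (ofG K x ≫ Sigma.ι Y j) ≫ p j = ofG K x
          rw [Category.assoc, hpjj]
          exact Category.comp_id _
        rw [this]
        rfl
      · intro i hij
        have : ofG K (toG K (ofG K x ≫ Sigma.ι Y j)) ≫ p i = 0 := by
          show (ofG K x ≫ Sigma.ι Y j) ≫ p i = 0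
          rw [Category.assoc, hpji j i (Ne.symm hij), comp_zero]
        rw [this, sι_zero]
    · intro s φ hφ
      ext m
      show φ.hom m = ∑ᶠ i : J, sι K s i (ofG K m ≫ p i)
      obtain ⟨F, hF, hm⟩ := hdec (ofG K m)
      rw [finsum_eq_sum_of_support_subset (s := F)]
      · have hm' : m = ∑ i ∈ F, toG K ((ofG K m ≫ p i) ≫ Sigma.ι Y i) := by
          conv_lhs => rw [show m = toG K (ofG K m) from rfl, hm]
          rfl
        conv_lhs => rw [hm', map_sum]
        refine Finset.sum_congr rfl (fun i _ => ?_)
        have := hφ ⟨i⟩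
        show φ.hom (toG K ((ofG K m ≫ p i) ≫ Sigma.ι Y i)) =
          (s.ι.app ⟨i⟩).hom (toG K (ofG K m ≫ p i))
        rw [← this]
        rfl
      · intro i hi
        by_contra hiF
        apply hi
        show sι K s i (ofG K m ≫ p i) = 0
        rw [hF i hiF, sι_zero]
  exact preservesColimitsOfShape_of_discrete _

end Groth.Agent.Lib.Helper93.BeilT0
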