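import Mathlib
import Groth.Agent.Lib.Helper44.CatSpace

set_option autoImplicit false

namespace Groth.Agent.Lib.Helper93.CatLocal

open TopologicalSpace Topology Groth.Agent.Lib.Helper70 Groth.Agent.Lib.Helper44

universe u v

variable {α : Type u} {β : Type v} [TopologicalSpace α] [TopologicalSpace β]

theorem isPreirreducible_of_image {f : β → α} (hf : IsInducing f) {s : Set β}
    (hs : IsPreirreducible (f '' s)) : IsPreirreducible s := by
  intro u v hu hv hsu hsv
  obtain ⟨u', hu', rfl⟩ := hf.isOpen_iff.1 hu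
  obtain ⟨v', hv', rfl⟩ := hf.isOpen_iff.1 hv
  obtain ⟨x, hx, hxu⟩ := hsu
  obtain ⟨y, hy, hyv⟩ := hsv
  obtain ⟨z, ⟨w, hw, rfl⟩, hzu, hzv⟩ := hs u' v' hu' hv' ⟨f x, ⟨x, hx, rfl⟩, hxu⟩ ⟨f y, ⟨y, hy, rfl⟩, hyv⟩
  exact ⟨w, hw, hzu, hzv⟩

/-- The order embedding on irreducible closed subsets induced by an inducing map:
`Z ↦ closure (f '' Z)`. -/
noncomputable def mapEmb {f : β → α} (hf : IsInducing f) :
    IrreducibleCloseds β ↪o IrreducibleCloseds α :=
  OrderEmbedding.ofMapLEIff (IrreducibleCloseds.map f hf.continuous) (by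
    intro A B
    constructor
    · intro h
      have h' : closure (f '' (A : Set β)) ⊆ closure (f '' (B : Set β)) := h
      have := Set.preimage_mono (f := f) h'
      rw [← hf.closure_eq_preimage_closure_image, ← hf.closure_eq_preimage_closure_image,
        A.isClosed.closure_eq, B.isClosed.closure_eq] at this
      exact this
    · intro h; exact IrreducibleCloseds.map_mono hf.continuous h)

theorem coe_mapEmb {f : β → α} (hf : IsInducing f) (A : IrreducibleCloseds β) :
    (mapEmb hf A : Set α) = closure (f '' (A : Set β)) := rfl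

/-- For an inducing map with locally closed range `U ∩ Z`, every irreducible closed subset of the
target contained in `Z` and meeting the range is the closure of the image of an irreducible closed
subset of the source. -/
theorem exists_mapEmb_eq {f : β → α} (hf : IsInducing f) {U Z : Set α} (hU : IsOpen U)
    (hr : Set.range f = U ∩ Z) (r : IrreducibleCloseds α) (hrZ : (r : Set α) ⊆ Z)
    (hne : (f ⁻¹' (r : Set α)).Nonempty) : ∃ c, mapEmb hf c = r := by
  have himg : f '' (f ⁻¹' (r : Set α)) = (r : Set α) ∩ U := by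
    rw [Set.image_preimage_eq_inter_range, hr]
    ext x; constructor
    · rintro ⟨h1, h2, h3⟩; exact ⟨h1, h2⟩
    · rintro ⟨h1, h2⟩; exact ⟨h1, h2, hrZ h1⟩
  have hne' : ((r : Set α) ∩ U).Nonempty := by rw [← himg]; exact hne.image f
  have hcl : closure ((r : Set α) ∩ U) = (r : Set α) := by
    apply subset_antisymm
    · exact r.isClosed.closure_subset_iff.2 Set.inter_subset_left
    · exact subset_closure_inter_of_isPreirreducible_of_isOpen r.isIrreducible.isPreirreducible hU hne'
  refine ⟨⟨f ⁻¹' r, ⟨hne, ?_⟩, r.isClosed.preimage hf.continuous⟩, ?_⟩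
  · apply isPreirreducible_of_image hf
    rw [himg, ← isPreirreducible_iff_closure, hcl]
    exact r.isIrreducible.isPreirreducible
  · apply IrreducibleCloseds.ext
    rw [coe_mapEmb]
    show closure (f '' (f ⁻¹' (r : Set α))) = r
    rw [himg, hcl]

theorem posetCat_of_isInducing {f : β → α} (hf : IsInducing f) (hlc : IsLocallyClosed (Set.range f))
    (hα : PosetCat (IrreducibleCloseds α)) : PosetCat (IrreducibleCloseds β) := by
  obtain ⟨U, Z, hU, hZ, hr⟩ := hlc
  refine PosetCat.of_embedding (mapEmb hf) ?_ hα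
  intro a b r har hrb
  apply exists_mapEmb_eq hf hU hr r
  · intro x hx
    have h1 : (r : Set α) ⊆ closure (f '' (b : Set β)) := hrb
    have h2 : closure (f '' (b : Set β)) ⊆ Z := by
      apply hZ.closure_subset_iff.2
      rintro _ ⟨y, _, rfl⟩
      have : f y ∈ Set.range f := ⟨y, rfl⟩
      rw [hr] at this
      exact this.2
    exact h2 (h1 hx)
  · obtain ⟨y, hy⟩ := a.isIrreducible.nonempty
    refine ⟨y, ?_⟩
    have h1 : closure (f '' (a : Set β)) ⊆ (r : Set α) := har
    exact h1 (subset_closure ⟨y, hy, rfl⟩)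

theorem posetCat_of_open_cover
    (h : ∀ x : α, ∃ (β : Type u) (_ : TopologicalSpace β) (f : β → α), IsOpenEmbedding f ∧
      x ∈ Set.range f ∧ PosetCat (IrreducibleCloseds β)) :
    PosetCat (IrreducibleCloseds α) := by
  apply PosetCat.of_cover.{u, u}
  intro p
  obtain ⟨x, hx⟩ := p.isIrreducible.nonempty
  obtain ⟨β, _, f, hf, ⟨y, rfl⟩, hβ⟩ := h x
  refine ⟨IrreducibleCloseds β, inferInstance, mapEmb hf.isInducing, hβ, ?_, ?_⟩
  · intro a r har
    apply exists_mapEmb_eq hf.isInducing hf.isOpen_range (Z := Set.univ) (by simp) r (Set.subset_univ _)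
    obtain ⟨y, hy⟩ := a.isIrreducible.nonempty
    refine ⟨y, ?_⟩
    have h1 : closure (f '' (a : Set β)) ⊆ (r : Set α) := har
    exact h1 (subset_closure ⟨y, hy, rfl⟩)
  · apply exists_mapEmb_eq hf.isInducing hf.isOpen_range (Z := Set.univ) (by simp) p (Set.subset_univ _)
    exact ⟨y, hx⟩

end Groth.Agent.Lib.Helper93.CatLocal
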