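import Mathlib

/-!
# helper93: combinatorial core of the Čech computation on projective space

* `dd`: alternating coface sum on functions of tuples, `dd_dd : dd (dd u) = 0`.
* `dd_hh`: a "cone" homotopy built from a family of additive projectors.
* `surj_exact`: the complex of functions on tuples vanishing off surjective tuples
  (relative cochains of the simplex modulo its boundary, in ordered-tuple form) is exact in degrees
  `≥ card ι`.
-/

open Finset

namespace Groth.Agent.Lib.Helper93.CechAlg

variable {ι : Type*} {T : Type*} [AddCommGroup T]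

/-- alternating sum of cofaces on functions of tuples -/
def dd {p : ℕ} (A : (Fin (p + 1) → ι) → T) (b : Fin (p + 2) → ι) : T :=
  ∑ k : Fin (p + 2), (-1 : ℤ) ^ (k : ℕ) • A (b ∘ Fin.succAbove k)

lemma dd_sub {p : ℕ} (A B : (Fin (p + 1) → ι) → T) (b : Fin (p + 2) → ι) :
    dd (fun x => A x - B x) b = dd A b - dd B b := by
  simp only [dd, smul_sub, Finset.sum_sub_distrib]

lemma dd_add {p : ℕ} (A B : (Fin (p + 1) → ι) → T) (b : Fin (p + 2) → ι) :
    dd (fun x => A x + B x) b = dd A b + dd B b := by
  simp only [dd, smul_add, Finset.sum_add_distrib]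

lemma dd_map {T' : Type*} [AddCommGroup T'] (φ : T →+ T') {p : ℕ} (A : (Fin (p + 1) → ι) → T)
    (b : Fin (p + 2) → ι) : φ (dd A b) = dd (fun x => φ (A x)) b := by
  simp only [dd, map_sum, map_zsmul]

lemma cons_comp_succAbove_zero {p : ℕ} (j : ι) (b : Fin (p + 1) → ι) :
    (Fin.cons j b : Fin (p + 2) → ι) ∘ Fin.succAbove 0 = b := by
  funext x
  simp [Fin.succAbove_zero]

lemma cons_comp_succAbove_succ {p : ℕ} (j : ι) (b : Fin (p + 2) → ι) (k : Fin (p + 2)) :
    (Fin.cons j b : Fin (p + 3) → ι) ∘ Fin.succAbove k.succ = Fin.cons j (b ∘ Fin.succAbove k) := by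
  funext x
  refine Fin.cases ?_ (fun y => ?_) x
  · simp
  · simp [Fin.succ_succAbove_succ]

lemma dd_cons {p : ℕ} (A : (Fin (p + 2) → ι) → T) (j : ι) (b : Fin (p + 2) → ι) :
    dd A (Fin.cons j b) = A b - dd (fun b' => A (Fin.cons j b')) b := by
  unfold dd
  rw [Fin.sum_univ_succ]
  simp only [Fin.val_zero, pow_zero, one_smul, cons_comp_succAbove_zero, Fin.val_succ,
    cons_comp_succAbove_succ, pow_succ, mul_neg, mul_one, neg_smul, Finset.sum_neg_distrib]
  abel

section Homotopy

variable [Fintype ι] (π : ι → T →+ T)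

/-- the cone homotopy attached to a family of additive maps -/
def hh {p : ℕ} (A : (Fin (p + 2) → ι) → T) (b' : Fin (p + 1) → ι) : T :=
  ∑ j, π j (A (Fin.cons j b'))

lemma dd_hh {p : ℕ} (A : (Fin (p + 2) → ι) → T) (b : Fin (p + 2) → ι) :
    dd (hh π A) b = ∑ j, π j (A b) - ∑ j, π j (dd A (Fin.cons j b)) := by
  have h1 : dd (hh π A) b = ∑ j, π j (dd (fun b' => A (Fin.cons j b')) b) := by
    unfold dd hh
    simp only [Finset.smul_sum, map_sum, map_zsmul]
    rw [Finset.sum_comm]
  rw [h1, ← Finset.sum_sub_distrib]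
  refine Finset.sum_congr rfl (fun j _ => ?_)
  rw [dd_cons, map_sub]
  abel

end Homotopy

/-- `d ∘ d = 0`. -/
lemma dd_dd {p : ℕ} (u : (Fin (p + 1) → ι) → T) (b : Fin (p + 3) → ι) : dd (dd u) b = 0 := by
  unfold dd
  simp only [Finset.smul_sum, smul_smul, ← Finset.sum_product']
  let P := Fin (p + 3) × Fin (p + 2)
  let S : Finset P := {ij : P | (ij.1 : ℕ) ≤ (ij.2 : ℕ)}
  rw [Finset.univ_product_univ, ← Finset.sum_add_sum_compl S, ← eq_neg_iff_add_eq_zero,
    ← Finset.sum_neg_distrib]
  -- bijection S → Sᶜ, (i, j) ↦ (j.succ, i.castLT)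
  let φ : ∀ ij : P, ij ∈ S → P := fun ij hij =>
    (ij.2.succ, Fin.castLT ij.1 (lt_of_le_of_lt (Finset.mem_filter.mp hij).right (Fin.is_lt ij.2)))
  apply Finset.sum_bij φ
  · intro ij hij
    simp_rw [S, φ, Finset.compl_filter, Finset.mem_filter_univ, Fin.val_succ,
      Fin.val_castLT] at hij ⊢
    omega
  · rintro ⟨i, j⟩ hij ⟨i', j'⟩ hij' h
    rw [Prod.mk_inj]
    refine ⟨?_, ?_⟩
    · have := congr_arg Prod.snd h
      simp only [φ] at this
      have h2 := congr_arg Fin.val this
      simp only [Fin.val_castLT] at h2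
      exact Fin.ext h2
    · have := congr_arg Prod.fst h
      simp only [φ] at this
      exact Fin.succ_injective _ this
  · rintro ⟨i', j'⟩ hij'
    simp_rw [S, Finset.compl_filter, Finset.mem_filter_univ, not_le] at hij'
    have hi' : i' ≠ 0 := by
      rintro rfl
      simp at hij'
    refine ⟨(Fin.castSucc j', i'.pred hi'), ?_, ?_⟩
    · simp only [S, Finset.mem_filter_univ, Fin.val_castSucc, Fin.val_pred]
      omega
    · simp only [φ, Fin.succ_pred, Fin.castLT_castSucc]
  · rintro ⟨i, j⟩ hij
    simp only [S, Finset.mem_filter_univ] at hij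
    simp only [φ, ← neg_smul]
    have hfun : (b ∘ Fin.succAbove i) ∘ Fin.succAbove j =
        (b ∘ Fin.succAbove j.succ) ∘ Fin.succAbove (Fin.castLT i (lt_of_le_of_lt hij j.is_lt)) := by
      have hle : Fin.castLT i (lt_of_le_of_lt hij j.is_lt) ≤ j := by
        rw [Fin.le_iff_val_le_val]; simpa using hij
      have h := SimplexCategory.δ_comp_δ (n := p) hle
      have h2 : ∀ x, (SimplexCategory.δ (Fin.castSucc (Fin.castLT i (lt_of_le_of_lt hij j.is_lt)))).toOrderHom
          ((SimplexCategory.δ j).toOrderHom x) =
          (SimplexCategory.δ j.succ).toOrderHom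
            ((SimplexCategory.δ (Fin.castLT i (lt_of_le_of_lt hij j.is_lt))).toOrderHom x) := by
        intro x
        have := congrArg (fun f => f.toOrderHom x) h
        simpa using this.symm
      funext x
      have h3 := h2 x
      simp only [Fin.castSucc_castLT] at h3
      simp only [Function.comp_apply]
      exact congrArg b h3
    rw [hfun]
    congr 1
    simp only [Fin.val_succ, Fin.val_castLT, pow_succ]
    ring

/-- **Relative simplex lemma**: functions on tuples that vanish off the surjective tuples form a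
complex which is exact in degrees `≥ card ι`. -/
theorem surj_exact (M : Type*) [AddCommGroup M] :
    ∀ (N : ℕ) (ι : Type) [Fintype ι] [DecidableEq ι], Fintype.card ι = N →
    ∀ (p : ℕ), N ≤ p + 1 → ∀ (f : (Fin (p + 2) → ι) → M),
      (∀ b, ¬ Function.Surjective b → f b = 0) → (∀ c, dd f c = 0) →
      ∃ g : (Fin (p + 1) → ι) → M, (∀ b', ¬ Function.Surjective b' → g b' = 0) ∧
        ∀ b, dd g b = f b := by
  intro N
  induction N with
  | zero =>
    intro ι _ _ hN p _ f _ _
    haveI : IsEmpty ι := Fintype.card_eq_zero_iff.1 hN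
    exact ⟨fun _ => 0, fun _ _ => rfl, fun b => (IsEmpty.false (b 0)).elim⟩
  | succ N ih =>
    intro ι _ _ hN p hp f hf hcoc
    haveI : Nonempty ι := Fintype.card_pos_iff.1 (by omega)
    obtain ⟨s⟩ := ‹Nonempty ι›
    -- first primitive: the cone on `s`
    set g₀ : (Fin (p + 1) → ι) → M := fun b' => f (Fin.cons s b') with hg₀
    have hdg₀ : ∀ b, dd g₀ b = f b := by
      intro b
      have := hcoc (Fin.cons s b)
      rw [dd_cons] at this
      exact (sub_eq_zero.1 this).symm
    have hg₀van : ∀ b' : Fin (p + 1) → ι, (∃ i, i ≠ s ∧ ∀ k, b' k ≠ i) → g₀ b' = 0 := by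
      rintro b' ⟨i, his, hi⟩
      apply hf
      intro hsurj
      obtain ⟨x, hx⟩ := hsurj i
      revert hx
      refine Fin.cases ?_ (fun y => ?_) x
      · simp only [Fin.cons_zero]; exact fun h => his h.symm
      · simp only [Fin.cons_succ]; exact hi y
    let ι' := {i : ι // i ≠ s}
    have hcard' : Fintype.card ι' = N := by
      have h := Set.card_ne_eq s
      have h2 : Fintype.card ι' = Fintype.card ι - 1 := by
        rw [← h]
        exact Fintype.card_congr (Equiv.refl _)
      omega
    cases p with
    | zero =>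
      refine ⟨g₀, fun b' hb' => ?_, hdg₀⟩
      exfalso
      apply hb'
      have hsub : Subsingleton ι := Fintype.card_le_one_iff_subsingleton.1 (by omega)
      intro i
      exact ⟨0, Subsingleton.elim _ _⟩
    | succ p' =>
      set gbar : (Fin (p' + 2) → ι') → M := fun bb => g₀ (fun k => (bb k).1) with hgbar
      have hgbarvan : ∀ bb : Fin (p' + 2) → ι', ¬ Function.Surjective bb → gbar bb = 0 := by
        intro bb hbb
        simp only [Function.Surjective, not_forall, not_exists] at hbb
        obtain ⟨i', hi'⟩ := hbb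
        exact hg₀van _ ⟨i'.1, i'.2, fun k h => hi' k (Subtype.ext h)⟩
      have hgbarcoc : ∀ cc : Fin (p' + 3) → ι', dd gbar cc = 0 := by
        intro cc
        have h1 : dd gbar cc = dd g₀ (fun k => (cc k).1) := rfl
        rw [h1, hdg₀]
        apply hf
        intro hsurj
        obtain ⟨x, hx⟩ := hsurj s
        exact (cc x).2 hx
      obtain ⟨ubar, hubar0, hubar⟩ := ih ι' hcard' p' (by omega) gbar hgbarvan hgbarcoc
      set u : (Fin (p' + 1) → ι) → M := fun b'' =>
        if h : ∀ k, b'' k ≠ s then ubar (fun k => ⟨b'' k, h k⟩) else 0 with hu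
      have hu_val : ∀ bb : Fin (p' + 1) → ι', u (fun k => (bb k).1) = ubar bb := by
        intro bb
        simp only [hu]
        rw [dif_pos (fun k => (bb k).2)]
      have hu_miss : ∀ (b'' : Fin (p' + 1) → ι) (i : ι), i ≠ s → (∀ k, b'' k ≠ i) → u b'' = 0 := by
        intro b'' i his hi
        simp only [hu]
        split_ifs with h
        · apply hubar0
          intro hsurj
          obtain ⟨k, hk⟩ := hsurj ⟨i, his⟩
          exact hi k (congrArg Subtype.val hk)
        · rfl
      refine ⟨fun b' => g₀ b' - dd u b', fun b' hb' => ?_, fun b => ?_⟩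
      · by_cases hs : ∃ k, b' k = s
        · -- misses some `i ≠ s`
          simp only [Function.Surjective, not_forall, not_exists] at hb'
          obtain ⟨i, hi⟩ := hb'
          have his : i ≠ s := by
            rintro rfl
            obtain ⟨k, hk⟩ := hs
            exact hi k hk
          have h1 : g₀ b' = 0 := hg₀van b' ⟨i, his, hi⟩
          have h2 : dd u b' = 0 := by
            unfold dd
            apply Finset.sum_eq_zero
            intro k _
            rw [hu_miss (b' ∘ Fin.succAbove k) i his (fun k' => hi _), smul_zero]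
          show g₀ b' - dd u b' = 0
          rw [h1, h2, sub_zero]
        · -- avoids `s`
          push Not at hs
          set bb : Fin (p' + 2) → ι' := fun k => ⟨b' k, hs k⟩ with hbb
          have e1 : g₀ b' = gbar bb := rfl
          have e2 : dd u b' = dd ubar bb := by
            unfold dd
            refine Finset.sum_congr rfl (fun k _ => ?_)
            congr 1
            exact hu_val (bb ∘ Fin.succAbove k)
          show g₀ b' - dd u b' = 0
          rw [e1, e2, hubar, sub_self]
      · show dd (fun b' => g₀ b' - dd u b') b = f b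
        rw [dd_sub, hdg₀]
        have : dd (fun x => dd u x) b = 0 := dd_dd u b
        rw [this, sub_zero]

end Groth.Agent.Lib.Helper93.CechAlg
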