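import Groth.Agent.Lib.Helper93.CechAlg

/-!
# helper93: top-degree cocycles of the relative simplex complex

Functions on `(N+1)`-tuples of a set with `N+1` elements vanishing off the bijective tuples and
killed by the alternating coface sum are determined by their value at one bijective tuple, and
this value is arbitrary (`top_eval`).
-/

open Finset

namespace Groth.Agent.Lib.Helper93.CechAlg

variable {ι : Type*} {T : Type*} [AddCommGroup T]

lemma dd_zero_fun {p : ℕ} (b : Fin (p + 2) → ι) : dd (fun _ : Fin (p + 1) → ι => (0 : T)) b = 0 := by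
  simp [dd]

lemma dd_congr {p : ℕ} {A B : (Fin (p + 1) → ι) → T} (h : ∀ x, A x = B x) (b : Fin (p + 2) → ι) :
    dd A b = dd B b := by
  have : A = B := funext h
  rw [this]

/-- the lowest case of `dd_cons` -/
lemma dd_cons_zero (A : (Fin 1 → ι) → T) (j : ι) (b : Fin 1 → ι) :
    dd A (Fin.cons j b) = A b - A (fun _ => j) := by
  unfold dd
  rw [Fin.sum_univ_two]
  simp only [Fin.val_zero, pow_zero, one_smul, Fin.val_one, pow_one, neg_smul]
  have e0 : ((Fin.cons j b : Fin 2 → ι) ∘ Fin.succAbove (0 : Fin 2)) = b :=
    cons_comp_succAbove_zero j b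
  have e1 : ((Fin.cons j b : Fin 2 → ι) ∘ Fin.succAbove (1 : Fin 2)) = fun _ => j := by
    funext k
    obtain rfl : k = 0 := Subsingleton.elim _ _
    simp [Fin.succAbove]
  rw [e0, e1]
  abel

/-- **Top-degree cocycles**: evaluation at a bijective tuple is bijective on the cocycles, in degree
`card ι - 1`, of the complex of functions vanishing off the surjective tuples. -/
theorem top_eval (M : Type*) [AddCommGroup M] :
    ∀ (N : ℕ) (ι : Type) [Fintype ι] [DecidableEq ι], Fintype.card ι = N + 1 →
    ∀ (b₀ : Fin (N + 1) → ι), Function.Bijective b₀ →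
      (∀ f : (Fin (N + 1) → ι) → M, (∀ b, ¬ Function.Surjective b → f b = 0) →
        (∀ c, dd f c = 0) → f b₀ = 0 → ∀ b, f b = 0) ∧
      (∀ a : M, ∃ f : (Fin (N + 1) → ι) → M, (∀ b, ¬ Function.Surjective b → f b = 0) ∧
        (∀ c, dd f c = 0) ∧ f b₀ = a) := by
  intro N
  induction N with
  | zero =>
    intro ι _ _ hN b₀ hb₀
    have hsub : Subsingleton ι := Fintype.card_le_one_iff_subsingleton.1 (by omega)
    constructor
    · intro f _ _ h0 b
      have : b = b₀ := by
        funext k
        exact Subsingleton.elim _ _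
      rw [this, h0]
    · intro a
      refine ⟨fun _ => a, fun b hb => ?_, fun c => ?_, rfl⟩
      · exfalso
        apply hb
        intro i
        exact ⟨0, Subsingleton.elim _ _⟩
      · unfold dd
        rw [Fin.sum_univ_two]
        simp
  | succ N ih =>
    intro ι _ _ hN b₀ hb₀
    set s := b₀ 0 with hs
    let ι' := {i : ι // i ≠ s}
    have hcard' : Fintype.card ι' = N + 1 := by
      have h := Set.card_ne_eq s
      have h2 : Fintype.card ι' = Fintype.card ι - 1 := by
        rw [← h]
        exact Fintype.card_congr (Equiv.refl _)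
      omega
    have hb₀ne : ∀ k : Fin (N + 1), b₀ k.succ ≠ s := by
      intro k h
      exact Fin.succ_ne_zero k (hb₀.1 h)
    set b₀' : Fin (N + 1) → ι' := fun k => ⟨b₀ k.succ, hb₀ne k⟩ with hb₀'
    have hb₀'inj : Function.Injective b₀' := by
      intro k k' h
      have := congrArg Subtype.val h
      exact Fin.succ_injective _ (hb₀.1 this)
    have hb₀'bij : Function.Bijective b₀' := by
      rw [Fintype.bijective_iff_injective_and_card]
      exact ⟨hb₀'inj, by rw [Fintype.card_fin, hcard']⟩
    have hb₀cons : (Fin.cons s (fun k => (b₀' k).1) : Fin (N + 2) → ι) = b₀ := by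
      funext x
      refine Fin.cases ?_ (fun y => ?_) x
      · simp [hs]
      · simp [hb₀']
    obtain ⟨ihinj, ihsurj⟩ := ih ι' hcard' b₀' hb₀'bij
    -- a tuple of length `N + 1` meeting every `i ≠ s` avoids `s`
    have havoid : ∀ b' : Fin (N + 1) → ι, (∀ i, i ≠ s → ∃ k, b' k = i) → ∀ k, b' k ≠ s := by
      intro b' hall k hk
      have hsurj : Function.Surjective b' := by
        intro i
        by_cases hi : i = s
        · exact ⟨k, hk.trans hi.symm⟩
        · exact hall i hi
      have := Fintype.card_le_of_surjective b' hsurj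
      rw [Fintype.card_fin] at this
      omega
    constructor
    · intro f hf hcoc h0
      set g₀ : (Fin (N + 1) → ι) → M := fun b' => f (Fin.cons s b') with hg₀
      have hdg₀ : ∀ b, dd g₀ b = f b := by
        intro b
        have := hcoc (Fin.cons s b)
        rw [dd_cons] at this
        exact (sub_eq_zero.1 this).symm
      have hg₀van : ∀ b' : Fin (N + 1) → ι, (∃ i, i ≠ s ∧ ∀ k, b' k ≠ i) → g₀ b' = 0 := by
        rintro b' ⟨i, his, hi⟩
        apply hf
        intro hsurj
        obtain ⟨x, hx⟩ := hsurj i
        revert hx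
        refine Fin.cases ?_ (fun y => ?_) x
        · simp only [Fin.cons_zero]; exact fun h => his h.symm
        · simp only [Fin.cons_succ]; exact hi y
      set gbar : (Fin (N + 1) → ι') → M := fun bb => g₀ (fun k => (bb k).1) with hgbar
      have hgbarvan : ∀ bb : Fin (N + 1) → ι', ¬ Function.Surjective bb → gbar bb = 0 := by
        intro bb hbb
        simp only [Function.Surjective, not_forall, not_exists] at hbb
        obtain ⟨i', hi'⟩ := hbb
        exact hg₀van _ ⟨i'.1, i'.2, fun k h => hi' k (Subtype.ext h)⟩
      have hgbarcoc : ∀ cc : Fin (N + 2) → ι', dd gbar cc = 0 := by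
        intro cc
        have h1 : dd gbar cc = dd g₀ (fun k => (cc k).1) := rfl
        rw [h1, hdg₀]
        apply hf
        intro hsurj
        obtain ⟨x, hx⟩ := hsurj s
        exact (cc x).2 hx
      have hgbar0 : gbar b₀' = 0 := by
        show f (Fin.cons s (fun k => (b₀' k).1)) = 0
        rw [hb₀cons, h0]
      have hgbarall := ihinj gbar hgbarvan hgbarcoc hgbar0
      have hg₀all : ∀ b', g₀ b' = 0 := by
        intro b'
        by_cases hmiss : ∃ i, i ≠ s ∧ ∀ k, b' k ≠ i
        · exact hg₀van b' hmiss
        · push Not at hmiss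
          have hav := havoid b' hmiss
          exact hgbarall (fun k => ⟨b' k, hav k⟩)
      intro b
      rw [← hdg₀ b, dd_congr hg₀all, dd_zero_fun]
    · intro a
      obtain ⟨gbar', hgv, hgc, hga⟩ := ihsurj a
      set g₀' : (Fin (N + 1) → ι) → M := fun b' =>
        if h : ∀ k, b' k ≠ s then gbar' (fun k => ⟨b' k, h k⟩) else 0 with hg₀'
      have hg₀'_val : ∀ bb : Fin (N + 1) → ι', g₀' (fun k => (bb k).1) = gbar' bb := by
        intro bb
        simp only [hg₀']
        rw [dif_pos (fun k => (bb k).2)]
      have hg₀'_hit : ∀ b' : Fin (N + 1) → ι, (∃ k, b' k = s) → g₀' b' = 0 := by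
        rintro b' ⟨k, hk⟩
        simp only [hg₀']
        rw [dif_neg (fun h => h k hk)]
      have hg₀'_miss : ∀ (b' : Fin (N + 1) → ι) (i : ι), i ≠ s → (∀ k, b' k ≠ i) → g₀' b' = 0 := by
        intro b' i his hi
        simp only [hg₀']
        split_ifs with h
        · apply hgv
          intro hsurj
          obtain ⟨k, hk⟩ := hsurj ⟨i, his⟩
          exact hi k (congrArg Subtype.val hk)
        · rfl
      refine ⟨fun b => dd g₀' b, fun b hb => ?_, fun c => dd_dd g₀' c, ?_⟩
      · by_cases hmiss : ∃ i, i ≠ s ∧ ∀ k, b k ≠ i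
        · obtain ⟨i, his, hi⟩ := hmiss
          show dd g₀' b = 0
          unfold dd
          apply Finset.sum_eq_zero
          intro k _
          rw [hg₀'_miss (b ∘ Fin.succAbove k) i his (fun k' => hi _), smul_zero]
        · push Not at hmiss
          have hs' : ∀ k, b k ≠ s := by
            intro k hk
            apply hb
            intro i
            by_cases hi : i = s
            · exact ⟨k, hk.trans hi.symm⟩
            · exact hmiss i hi
          set cc : Fin (N + 2) → ι' := fun k => ⟨b k, hs' k⟩ with hcc
          have e2 : dd g₀' b = dd gbar' cc := by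
            unfold dd
            refine Finset.sum_congr rfl (fun k _ => ?_)
            congr 1
            exact hg₀'_val (cc ∘ Fin.succAbove k)
          show dd g₀' b = 0
          rw [e2, hgc]
      · show dd g₀' b₀ = a
        rw [← hb₀cons]
        have hfin : g₀' (fun k => (b₀' k).1) = a := by rw [hg₀'_val, hga]
        cases N with
        | zero =>
          rw [dd_cons_zero, hfin, hg₀'_hit _ ⟨0, rfl⟩, sub_zero]
        | succ N' =>
          rw [dd_cons, hfin]
          have : ∀ b'' : Fin (N' + 1) → ι, g₀' (Fin.cons s b'') = 0 := fun b'' =>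
            hg₀'_hit _ ⟨0, by simp⟩
          rw [dd_congr this, dd_zero_fun, sub_zero]

end Groth.Agent.Lib.Helper93.CechAlg
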