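import Groth.Agent.Lib.Helper26.CechLES
import Groth.Agent.Lib.Helper93.CechAlg
import Groth.Prelude.Def_CohB1

/-!
# helper93: from an algebraic model to exactness of Mathlib's (full) Čech complex

`X` a topological space, `P` a presheaf of abelian groups, `U : ι → Opens X`, `W₀` an open contained
in all `U i`.  If the restrictions `P(U_b) → P(W₀)` are injective with images `Gs (range b)` and the
"constant-coefficient" alternating complex of the `Gs` is exact, then the Čech complex is exact.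
-/

universe u
open CategoryTheory TopologicalSpace Opposite Limits Simplicial
open Groth.Agent.Lib.Helper28 Groth.Agent.Lib.Helper26

namespace Groth.Agent.Lib.Helper93.CechBridge

open Groth.Agent.Lib.Helper93.CechAlg

variable {X : TopCat.{u}} {ι : Type u} (U : ι → Opens X) (P : (Opens X)ᵒᵖ ⥤ AddCommGrpCat.{u})

lemma sum_evalMap_apply_gen (E : SimplicialObject (FormalCoproduct.{u} (Opens X))) (n : ℕ)
    (x : ↑(∏ᶜ fun i : (E.obj (op ⦋n⦌)).I => ((𝟭 (Opens X)).op ⋙ P).obj (op ((E.obj (op ⦋n⦌)).obj i))))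
    (b : (E.obj (op ⦋n + 1⦌)).I) :
    Pi.π (fun i : (E.obj (op ⦋n + 1⦌)).I => ((𝟭 (Opens X)).op ⋙ P).obj (op ((E.obj (op ⦋n + 1⦌)).obj i))) b
      ((∑ i : Fin (n + 2), (-1 : ℤ) ^ (i : ℕ) • CechY.evalMap (𝟭 (Opens X)) P (E.δ i)) x) =
    ∑ i : Fin (n + 2), (-1 : ℤ) ^ (i : ℕ) •
      P.map ((E.δ i).φ b).op (Pi.π (fun i : (E.obj (op ⦋n⦌)).I =>
        ((𝟭 (Opens X)).op ⋙ P).obj (op ((E.obj (op ⦋n⦌)).obj i))) ((E.δ i).f b) x) := by
  rw [CechA.sum_apply, map_sum]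
  refine Finset.sum_congr rfl (fun k _ => ?_)
  rw [CechA.zsmul_apply, map_zsmul, CechY.π_evalMap]
  rfl

/-- general formula for the Čech differential -/
lemma d_apply (n : ℕ) (x : ((cechComplexFunctor U).obj P).X n) (b : Fin (n + 2) → ι) :
    Pi.π (fun a : Fin (n + 2) → ι => P.obj (op (∏ᶜ (U ∘ a)))) b
      (((cechComplexFunctor U).obj P).d n (n + 1) x) =
    ∑ k : Fin (n + 2), (-1 : ℤ) ^ (k : ℕ) •
      P.map (((CechT.cechE U).δ k).φ b).op
        (Pi.π (fun a : Fin (n + 1) → ι => P.obj (op (∏ᶜ (U ∘ a)))) (((CechT.cechE U).δ k).f b) x) := by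
  have h := CechA.K_d (𝟭 (Opens X)) (CechT.cechE U) P n
  have h2 := ConcreteCategory.congr_hom h x
  refine (congrArg (fun t => Pi.π (fun a : Fin (n + 2) → ι => P.obj (op (∏ᶜ (U ∘ a)))) b t) h2).trans ?_
  exact sum_evalMap_apply_gen P (CechT.cechE U) n x b

/-- the Čech differential, with everything typed by tuples -/
lemma d_apply' (n : ℕ) (x : ((cechComplexFunctor U).obj P).X n) (b : Fin (n + 2) → ι) :
    ∃ f : ∀ k : Fin (n + 2), (∏ᶜ (U ∘ b) : Opens X) ⟶ ∏ᶜ (U ∘ (b ∘ Fin.succAbove k)),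
    Pi.π (fun a : Fin (n + 2) → ι => P.obj (op (∏ᶜ (U ∘ a)))) b
      (((cechComplexFunctor U).obj P).d n (n + 1) x) =
    ∑ k : Fin (n + 2), (-1 : ℤ) ^ (k : ℕ) •
      P.map (f k).op
        (Pi.π (fun a : Fin (n + 1) → ι => P.obj (op (∏ᶜ (U ∘ a)))) (b ∘ Fin.succAbove k) x) :=
  ⟨fun k => ((CechT.cechE U).δ k).φ b, d_apply U P n x b⟩

variable (W₀ : Opens X) (hW₀ : ∀ i, W₀ ≤ U i)

/-- restriction to the small open -/
noncomputable def ρ {n : ℕ} (b : Fin (n + 1) → ι) : P.obj (op (∏ᶜ (U ∘ b))) ⟶ P.obj (op W₀) :=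
  P.map (Pi.lift (fun k => homOfLE (hW₀ (b k))) : W₀ ⟶ ∏ᶜ (U ∘ b)).op

lemma ρ_map {n m : ℕ} (b : Fin (n + 1) → ι) (c : Fin (m + 1) → ι)
    (f : (∏ᶜ (U ∘ c) : Opens X) ⟶ ∏ᶜ (U ∘ b)) (t : P.obj (op (∏ᶜ (U ∘ b)))) :
    ρ U P W₀ hW₀ c (P.map f.op t) = ρ U P W₀ hW₀ b t := by
  unfold ρ
  rw [← ConcreteCategory.comp_apply, ← P.map_comp, ← op_comp]
  congr 3

lemma ρ_congr {n : ℕ} {b b' : Fin (n + 1) → ι} (h : b = b')
    (x : ((cechComplexFunctor U).obj P).X n) :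
    ρ U P W₀ hW₀ b (Pi.π (fun a : Fin (n + 1) → ι => P.obj (op (∏ᶜ (U ∘ a)))) b x) =
      ρ U P W₀ hW₀ b' (Pi.π (fun a : Fin (n + 1) → ι => P.obj (op (∏ᶜ (U ∘ a)))) b' x) := by
  subst h
  rfl

/-- restricting the differential to the small open gives the alternating sum -/
lemma ρ_d (n : ℕ) (x : ((cechComplexFunctor U).obj P).X n) (c : Fin (n + 2) → ι) :
    ρ U P W₀ hW₀ c (Pi.π (fun a : Fin (n + 2) → ι => P.obj (op (∏ᶜ (U ∘ a)))) c
      (((cechComplexFunctor U).obj P).d n (n + 1) x)) =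
    dd (fun b : Fin (n + 1) → ι => ρ U P W₀ hW₀ b
      (Pi.π (fun a : Fin (n + 1) → ι => P.obj (op (∏ᶜ (U ∘ a)))) b x)) c := by
  obtain ⟨f, hf⟩ := d_apply' U P n x c
  rw [hf, map_sum]
  unfold dd
  refine Finset.sum_congr rfl (fun k _ => ?_)
  rw [map_zsmul, ρ_map]

variable (Gs : Set ι → Set (P.obj (op W₀)))

/-- **Bridge, positive degrees.** -/
theorem isZero_cechHTop_succ (p : ℕ)
    (hinj : ∀ (b : Fin (p + 2) → ι), Function.Injective (ρ U P W₀ hW₀ b))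
    (himg₁ : ∀ (b : Fin (p + 2) → ι) (t : P.obj (op (∏ᶜ (U ∘ b)))),
      ρ U P W₀ hW₀ b t ∈ Gs (Set.range b))
    (himg₂ : ∀ (b : Fin (p + 1) → ι) (g : P.obj (op W₀)), g ∈ Gs (Set.range b) →
      ∃ t : P.obj (op (∏ᶜ (U ∘ b))), ρ U P W₀ hW₀ b t = g)
    (halg : ∀ g : (Fin (p + 2) → ι) → P.obj (op W₀), (∀ b, g b ∈ Gs (Set.range b)) →
      (∀ c, dd g c = 0) → ∃ h : (Fin (p + 1) → ι) → P.obj (op W₀),
        (∀ b', h b' ∈ Gs (Set.range b')) ∧ ∀ b, dd h b = g b) :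
    IsZero (CohB1.cechHTop U P (p + 1)) := by
  unfold CohB1.cechHTop
  rw [← HomologicalComplex.exactAt_iff_isZero_homology,
    HomologicalComplex.exactAt_iff' _ p (p + 1) (p + 2) (by simp) (by simp),
    ShortComplex.ab_exact_iff]
  intro x hx
  change ((cechComplexFunctor U).obj P).d (p + 1) (p + 2) x = 0 at hx
  change ∃ y, ((cechComplexFunctor U).obj P).d p (p + 1) y = x
  set g : (Fin (p + 2) → ι) → P.obj (op W₀) := fun b => ρ U P W₀ hW₀ b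
    (Pi.π (fun a : Fin (p + 2) → ι => P.obj (op (∏ᶜ (U ∘ a)))) b x) with hg
  have hgcoc : ∀ c, dd g c = 0 := by
    intro c
    have e1 : Pi.π (fun a : Fin (p + 3) → ι => P.obj (op (∏ᶜ (U ∘ a)))) c
        (((cechComplexFunctor U).obj P).d (p + 1) (p + 2) x) = 0 :=
      (congrArg (fun z => Pi.π (fun a : Fin (p + 3) → ι => P.obj (op (∏ᶜ (U ∘ a)))) c z) hx).trans
        (map_zero _)
    rw [hg, ← ρ_d, e1, map_zero]
  obtain ⟨h, hh, hdh⟩ := halg g (fun b => himg₁ b _) hgcoc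
  choose t ht using fun b' => himg₂ b' (h b') (hh b')
  obtain ⟨y, hy⟩ := CechLES.pi_exists (A := fun a : Fin (p + 1) → ι => P.obj (op (∏ᶜ (U ∘ a)))) t
  refine ⟨y, ?_⟩
  refine CechLES.pi_ext (A := fun a : Fin (p + 2) → ι => P.obj (op (∏ᶜ (U ∘ a)))) _ _ (fun b => ?_)
  apply hinj b
  have := ρ_d U P W₀ hW₀ p y b
  refine this.trans ?_
  simp only [hy, ht]
  exact hdh b

/-- **Bridge, degree zero.** -/
theorem isZero_cechHTop_zero
    (hinj : ∀ (b : Fin 1 → ι), Function.Injective (ρ U P W₀ hW₀ b))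
    (himg₁ : ∀ (b : Fin 1 → ι) (t : P.obj (op (∏ᶜ (U ∘ b)))),
      ρ U P W₀ hW₀ b t ∈ Gs (Set.range b))
    (halg : ∀ g : (Fin 1 → ι) → P.obj (op W₀), (∀ b, g b ∈ Gs (Set.range b)) →
      (∀ c, dd g c = 0) → ∀ b, g b = 0) :
    IsZero (CohB1.cechHTop U P 0) := by
  unfold CohB1.cechHTop
  rw [← HomologicalComplex.exactAt_iff_isZero_homology,
    HomologicalComplex.exactAt_iff' _ 0 0 1 (by simp) (by simp),
    ShortComplex.ab_exact_iff]
  intro x hx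
  change ((cechComplexFunctor U).obj P).d 0 1 x = 0 at hx
  set g : (Fin 1 → ι) → P.obj (op W₀) := fun b => ρ U P W₀ hW₀ b
    (Pi.π (fun a : Fin 1 → ι => P.obj (op (∏ᶜ (U ∘ a)))) b x) with hg
  have hgcoc : ∀ c, dd g c = 0 := by
    intro c
    have e1 : Pi.π (fun a : Fin 2 → ι => P.obj (op (∏ᶜ (U ∘ a)))) c
        (((cechComplexFunctor U).obj P).d 0 1 x) = 0 :=
      (congrArg (fun z => Pi.π (fun a : Fin 2 → ι => P.obj (op (∏ᶜ (U ∘ a)))) c z) hx).trans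
        (map_zero _)
    rw [hg, ← ρ_d, e1, map_zero]
  have hx0 : ∀ b : Fin 1 → ι,
      Pi.π (fun a : Fin 1 → ι => P.obj (op (∏ᶜ (U ∘ a)))) b x = 0 := fun b =>
    hinj b ((halg g (fun b => himg₁ b _) hgcoc b).trans (map_zero _).symm)
  have hx1 : x = 0 :=
    CechLES.pi_ext (A := fun a : Fin 1 → ι => P.obj (op (∏ᶜ (U ∘ a)))) x 0
      (fun b => (hx0 b).trans (map_zero _).symm)
  refine ⟨0, ?_⟩
  rw [hx1]
  exact map_zero _

end Groth.Agent.Lib.Helper93.CechBridge
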