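import Groth.Agent.Lib.Helper93.CechBridge
import Groth.Agent.Lib.Helper93.CechAlgTop

/-!
# helper93: more bridges between Mathlib's Čech complex and the algebraic model
-/

universe u
open CategoryTheory TopologicalSpace Opposite Limits Simplicial
open Groth.Agent.Lib.Helper28 Groth.Agent.Lib.Helper26

namespace Groth.Agent.Lib.Helper93.CechBridge

open Groth.Agent.Lib.Helper93.CechAlg

variable {X : TopCat.{u}} {ι : Type u} (U : ι → Opens X) (P : (Opens X)ᵒᵖ ⥤ AddCommGrpCat.{u})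
variable (W₀ : Opens X) (hW₀ : ∀ i, W₀ ≤ U i)

/-- the model cochain attached to a Čech cochain -/
noncomputable def model {p : ℕ} (x : ((cechComplexFunctor U).obj P).X p) :
    (Fin (p + 1) → ι) → P.obj (op W₀) := fun b =>
  ρ U P W₀ hW₀ b (Pi.π (fun a : Fin (p + 1) → ι => P.obj (op (∏ᶜ (U ∘ a)))) b x)

lemma model_zero {p : ℕ} (b : Fin (p + 1) → ι) :
    model U P W₀ hW₀ (0 : ((cechComplexFunctor U).obj P).X p) b = 0 := by
  unfold model
  have e1 : Pi.π (fun a : Fin (p + 1) → ι => P.obj (op (∏ᶜ (U ∘ a)))) b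
      (0 : ((cechComplexFunctor U).obj P).X p) = 0 := map_zero _
  rw [e1, map_zero]

lemma model_d {p : ℕ} (x : ((cechComplexFunctor U).obj P).X p) (c : Fin (p + 2) → ι) :
    model U P W₀ hW₀ (((cechComplexFunctor U).obj P).d p (p + 1) x) c =
      dd (model U P W₀ hW₀ x) c :=
  ρ_d U P W₀ hW₀ p x c

lemma dd_model_eq_zero {p : ℕ} (x : ((cechComplexFunctor U).obj P).X p)
    (hx : ((cechComplexFunctor U).obj P).d p (p + 1) x = 0) (c : Fin (p + 2) → ι) :
    dd (model U P W₀ hW₀ x) c = 0 := by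
  rw [← model_d, hx, model_zero]

lemma eq_of_model_eq {p : ℕ} (hinj : ∀ (b : Fin (p + 1) → ι), Function.Injective (ρ U P W₀ hW₀ b))
    (x y : ((cechComplexFunctor U).obj P).X p)
    (h : ∀ b, model U P W₀ hW₀ x b = model U P W₀ hW₀ y b) : x = y :=
  CechLES.pi_ext (A := fun a : Fin (p + 1) → ι => P.obj (op (∏ᶜ (U ∘ a)))) _ _
    (fun b => hinj b (h b))

lemma d_eq_zero_of_dd_model {p : ℕ}
    (hinj : ∀ (b : Fin (p + 2) → ι), Function.Injective (ρ U P W₀ hW₀ b))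
    (x : ((cechComplexFunctor U).obj P).X p)
    (h : ∀ c, dd (model U P W₀ hW₀ x) c = 0) :
    ((cechComplexFunctor U).obj P).d p (p + 1) x = 0 := by
  apply eq_of_model_eq U P W₀ hW₀ hinj
  intro c
  rw [model_d, h, model_zero]

variable (Gs : Set ι → Set (P.obj (op W₀)))

/-- a cochain with prescribed model -/
lemma exists_model_eq {p : ℕ}
    (himg₂ : ∀ (b : Fin (p + 1) → ι) (g : P.obj (op W₀)), g ∈ Gs (Set.range b) →
      ∃ t : P.obj (op (∏ᶜ (U ∘ b))), ρ U P W₀ hW₀ b t = g)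
    (h : (Fin (p + 1) → ι) → P.obj (op W₀)) (hh : ∀ b', h b' ∈ Gs (Set.range b')) :
    ∃ y : ((cechComplexFunctor U).obj P).X p, ∀ b, model U P W₀ hW₀ y b = h b := by
  choose t ht using fun b' => himg₂ b' (h b') (hh b')
  obtain ⟨y, hy⟩ := CechLES.pi_exists (A := fun a : Fin (p + 1) → ι => P.obj (op (∏ᶜ (U ∘ a)))) t
  refine ⟨y, fun b => ?_⟩
  unfold model
  rw [hy, ht]

/-- a cocycle whose model is a model-coboundary is a coboundary -/
theorem exists_primitive (p : ℕ) (x : ((cechComplexFunctor U).obj P).X (p + 1))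
    (hinj : ∀ (b : Fin (p + 2) → ι), Function.Injective (ρ U P W₀ hW₀ b))
    (himg₂ : ∀ (b : Fin (p + 1) → ι) (g : P.obj (op W₀)), g ∈ Gs (Set.range b) →
      ∃ t : P.obj (op (∏ᶜ (U ∘ b))), ρ U P W₀ hW₀ b t = g)
    (h : (Fin (p + 1) → ι) → P.obj (op W₀)) (hh : ∀ b', h b' ∈ Gs (Set.range b'))
    (hdh : ∀ b, dd h b = model U P W₀ hW₀ x b) :
    ∃ y, ((cechComplexFunctor U).obj P).d p (p + 1) y = x := by
  obtain ⟨y, hy⟩ := exists_model_eq U P W₀ hW₀ Gs himg₂ h hh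
  refine ⟨y, eq_of_model_eq U P W₀ hW₀ hinj _ _ (fun b => ?_)⟩
  rw [model_d, ← hdh]
  exact dd_congr hy b

end Groth.Agent.Lib.Helper93.CechBridge
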