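import Mathlib
import Groth.Agent.Lib.Helper93.CechAlg

/-!
# helper93: polynomial-level Čech computation for projective space

Cochains are families of polynomials `A b` (numerators over the common denominator `(∏ xᵢ)^K`),
indexed by tuples `b`, subject to the monomial condition `Cond K (range b) (A b)`:
every monomial `m` of `A b` has `K ≤ m i` for `i ∉ range b`.
-/

open Finset MvPolynomial

namespace Groth.Agent.Lib.Helper93.CechPoly

open Groth.Agent.Lib.Helper93.CechAlg

variable {ι : Type} {R : Type*} [CommRing R]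

/-- restriction of a polynomial to the monomials in a set -/
noncomputable def restr (S : Set (ι →₀ ℕ)) : MvPolynomial ι R →ₗ[R] MvPolynomial ι R :=
  letI : DecidablePred (· ∈ S) := Classical.decPred _
  (AddMonoidAlgebra.coeffLinearEquiv _).symm.toLinearMap ∘ₗ Submodule.subtype _ ∘ₗ
    Finsupp.restrictDom _ _ S ∘ₗ (AddMonoidAlgebra.coeffLinearEquiv _).toLinearMap

set_option backward.isDefEq.respectTransparency false in
lemma coeff_restr (S : Set (ι →₀ ℕ)) [DecidablePred (· ∈ S)] (m : ι →₀ ℕ) (φ : MvPolynomial ι R) :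
    coeff m (restr S φ) = if m ∈ S then coeff m φ else 0 := by
  simp [restr, MvPolynomial, coeff, Finsupp.filter_apply]

/-- the monomial condition -/
def Cond (K : ℕ) (s : Set ι) (A : MvPolynomial ι R) : Prop :=
  ∀ m, coeff m A ≠ 0 → ∀ i, i ∉ s → K ≤ m i

lemma Cond.sum {K : ℕ} {s : Set ι} {α : Type*} (t : Finset α) (f : α → MvPolynomial ι R)
    (h : ∀ a ∈ t, Cond K s (f a)) : Cond K s (∑ a ∈ t, f a) := by
  intro m hm i hi
  rw [coeff_sum] at hm
  obtain ⟨a, ha, hne⟩ := Finset.exists_ne_zero_of_sum_ne_zero hm
  exact h a ha m hne i hi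

lemma Cond.add {K : ℕ} {s : Set ι} {A B : MvPolynomial ι R} (hA : Cond K s A) (hB : Cond K s B) :
    Cond K s (A + B) := by
  intro m hm i hi
  rw [coeff_add] at hm
  by_cases h : coeff m A = 0
  · rw [h, zero_add] at hm
    exact hB m hm i hi
  · exact hA m h i hi

lemma isHomogeneous_restr (S : Set (ι →₀ ℕ)) {φ : MvPolynomial ι R} {D : ℕ}
    (h : φ.IsHomogeneous D) : (restr S φ).IsHomogeneous D := by
  classical
  intro m hm
  rw [coeff_restr] at hm
  split_ifs at hm with hmS
  · exact h hm
  · exact (hm rfl).elim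


section Main

variable [Fintype ι] [DecidableEq ι]

/-- monomials having some exponent `≥ K` -/
def Big (K : ℕ) : Set (ι →₀ ℕ) := {m | ∃ i, K ≤ m i}

/-- monomials whose chosen big index is `j` -/
def Sel (K : ℕ) (j : ι) : Set (ι →₀ ℕ) := {m | ∃ h : ∃ i, K ≤ m i, Classical.choose h = j}

lemma Sel.le {K : ℕ} {j : ι} {m : ι →₀ ℕ} (h : m ∈ Sel K j) : K ≤ m j := by
  obtain ⟨h, rfl⟩ := h
  exact Classical.choose_spec h

lemma sum_restr_sel (K : ℕ) (φ : MvPolynomial ι R) :
    ∑ j, restr (Sel K j) φ = restr (Big K) φ := by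
  classical
  ext m
  rw [coeff_sum, coeff_restr]
  simp only [coeff_restr]
  by_cases hm : m ∈ Big K
  · rw [if_pos hm]
    have hm' : ∃ i, K ≤ m i := hm
    rw [Finset.sum_eq_single (Classical.choose hm')]
    · rw [if_pos ⟨hm', rfl⟩]
    · intro j _ hj
      rw [if_neg]
      rintro ⟨h, rfl⟩
      exact hj rfl
    · intro h
      exact (h (Finset.mem_univ _)).elim
  · rw [if_neg hm]
    apply Finset.sum_eq_zero
    intro j _
    rw [if_neg]
    rintro ⟨h, -⟩
    exact hm h

lemma restr_add_restr_compl (S : Set (ι →₀ ℕ)) (φ : MvPolynomial ι R) :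
    restr S φ + restr Sᶜ φ = φ := by
  classical
  ext m
  rw [coeff_add, coeff_restr, coeff_restr]
  by_cases hm : m ∈ S
  · rw [if_pos hm, if_neg (fun h => h hm), add_zero]
  · rw [if_neg hm, if_pos (show m ∈ Sᶜ from hm), zero_add]

theorem poly_main (K D : ℕ) (p : ℕ) (A : (Fin (p + 2) → ι) → MvPolynomial ι R)
    (hhom : ∀ b, (A b).IsHomogeneous D)
    (hcond : ∀ b, Cond K (Set.range b) (A b))
    (hcoc : ∀ c, dd A c = 0)
    (hcase : (∀ m : ι →₀ ℕ, m.degree = D → ∃ i, K ≤ m i) ∨ p + 2 < Fintype.card ι ∨
      Fintype.card ι ≤ p + 1) :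
    ∃ B : (Fin (p + 1) → ι) → MvPolynomial ι R, (∀ b', (B b').IsHomogeneous D) ∧
      (∀ b', Cond K (Set.range b') (B b')) ∧ ∀ b, dd B b = A b := by
  classical
  -- Step 1: the big part is contracted
  let π : ι → MvPolynomial ι R →+ MvPolynomial ι R := fun j => (restr (Sel K j)).toAddMonoidHom
  set B₁ : (Fin (p + 1) → ι) → MvPolynomial ι R := hh π A with hB₁
  have hB₁d : ∀ b, dd B₁ b = restr (Big K) (A b) := by
    intro b
    rw [hB₁, dd_hh]
    have h1 : ∑ j, π j (A b) = restr (Big K) (A b) := sum_restr_sel K (A b)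
    have h2 : ∑ j, π j (dd A (Fin.cons j b)) = 0 := by
      apply Finset.sum_eq_zero
      intro j _
      rw [hcoc, map_zero]
    rw [h1, h2, sub_zero]
  have hB₁hom : ∀ b', (B₁ b').IsHomogeneous D := by
    intro b'
    apply IsHomogeneous.sum
    intro j _
    exact isHomogeneous_restr _ (hhom _)
  have hB₁cond : ∀ b', Cond K (Set.range b') (B₁ b') := by
    intro b'
    apply Cond.sum
    intro j _ m hm i hi
    change coeff m (restr (Sel K j) (A (Fin.cons j b'))) ≠ 0 at hm
    rw [coeff_restr] at hm
    split_ifs at hm with hmS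
    · by_cases hij : i = j
      · subst hij
        exact Sel.le hmS
      · apply hcond _ m hm i
        rintro ⟨x, hx⟩
        revert hx
        refine Fin.cases ?_ (fun y => ?_) x
        · simp only [Fin.cons_zero]; exact fun h => hij h.symm
        · simp only [Fin.cons_succ]; exact fun h => hi ⟨y, h⟩
    · exact (hm rfl).elim
  -- Step 2: the small part
  have hsmall_surj : ∀ (m : ι →₀ ℕ), m ∉ Big K → ∀ b, ¬ Function.Surjective b →
      coeff m (A b) = 0 := by
    intro m hm b hb
    by_contra hne
    simp only [Function.Surjective, not_forall, not_exists] at hb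
    obtain ⟨i, hi⟩ := hb
    exact hm ⟨i, hcond b m hne i (fun ⟨x, hx⟩ => hi x hx)⟩
  have hsmall_coc : ∀ (m : ι →₀ ℕ) c, dd (fun b => coeff m (A b)) c = 0 := by
    intro m c
    have := dd_map (MvPolynomial.coeffAddMonoidHom m (R := R) (σ := ι)) A c
    simp only [coeffAddMonoidHom_apply] at this
    rw [← this, hcoc, coeff_zero]
  have key : ∃ B₂ : (Fin (p + 1) → ι) → MvPolynomial ι R, (∀ b', (B₂ b').IsHomogeneous D) ∧
      (∀ b', Cond K (Set.range b') (B₂ b')) ∧ ∀ b, dd B₂ b = restr (Big K)ᶜ (A b) := by
    have hzero : (∀ b, restr (Big K)ᶜ (A b) = 0) → ∃ B₂ : (Fin (p + 1) → ι) → MvPolynomial ι R,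
        (∀ b', (B₂ b').IsHomogeneous D) ∧
        (∀ b', Cond K (Set.range b') (B₂ b')) ∧ ∀ b, dd B₂ b = restr (Big K)ᶜ (A b) := by
      intro h0
      refine ⟨fun _ => 0, fun _ => isHomogeneous_zero _ _ _, fun _ m hm => ?_, fun b => ?_⟩
      · simp at hm
      · rw [h0]
        simp [dd]
    rcases hcase with h | h | h
    · apply hzero
      intro b
      ext m
      rw [coeff_restr, coeff_zero]
      split_ifs with hm
      · by_contra hne
        have hdeg : m.degree = D := by
          have := hhom b hne
          rw [Finsupp.degree_eq_weight_one]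
          exact this
        exact hm (h m hdeg)
      · rfl
    · apply hzero
      intro b
      ext m
      rw [coeff_restr, coeff_zero]
      split_ifs with hm
      · apply hsmall_surj m hm
        intro hsurj
        have := Fintype.card_le_of_surjective b hsurj
        simp only [Fintype.card_fin] at this
        omega
      · rfl
    · -- use the relative simplex lemma monomial by monomial
      have hex : ∀ m : ι →₀ ℕ, ∃ g : (Fin (p + 1) → ι) → R,
          (∀ b', ¬ Function.Surjective b' → g b' = 0) ∧
          ∀ b, dd g b = if m ∈ Big K then 0 else coeff m (A b) := by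
        intro m
        by_cases hm : m ∈ Big K
        · refine ⟨fun _ => 0, fun _ _ => rfl, fun b => ?_⟩
          rw [if_pos hm]
          simp [dd]
        · obtain ⟨g, hg0, hg⟩ := surj_exact R (Fintype.card ι) ι rfl p h
            (fun b => coeff m (A b)) (hsmall_surj m hm) (hsmall_coc m)
          refine ⟨g, hg0, fun b => ?_⟩
          rw [if_neg hm, hg]
      choose g hg0 hg using hex
      let F : Finset (ι →₀ ℕ) := Finset.univ.biUnion (fun b => (A b).support)
      refine ⟨fun b' => ∑ m ∈ F, monomial m (g m b'), fun b' => ?_, fun b' => ?_, fun b => ?_⟩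
      · apply IsHomogeneous.sum
        intro m hm
        simp only [F, Finset.mem_biUnion, Finset.mem_univ, true_and, mem_support_iff] at hm
        obtain ⟨b, hb⟩ := hm
        have := hhom b hb
        refine isHomogeneous_monomial _ ?_
        rw [Finsupp.degree_eq_weight_one]
        exact this
      · apply Cond.sum
        intro m _ m' hm' i hi
        rw [coeff_monomial] at hm'
        split_ifs at hm' with hmm
        · exfalso
          have : Function.Surjective b' := by
            by_contra hns
            exact hm' (hg0 m b' hns)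
          obtain ⟨x, hx⟩ := this i
          exact hi ⟨x, hx⟩
        · exact (hm' rfl).elim
      · ext m
        have h1 : coeff m (dd (fun b' => ∑ m ∈ F, monomial m (g m b')) b) =
            dd (fun b' => coeff m (∑ m ∈ F, monomial m (g m b'))) b :=
          dd_map (MvPolynomial.coeffAddMonoidHom m (R := R) (σ := ι)) _ b
        rw [h1, coeff_restr]
        have h2 : ∀ b' : Fin (p + 1) → ι, coeff m (∑ m ∈ F, monomial m (g m b')) =
            if m ∈ F then g m b' else 0 := by
          intro b'
          rw [coeff_sum]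
          simp only [coeff_monomial]
          rw [Finset.sum_ite_eq' F m]
        simp only [h2]
        by_cases hmF : m ∈ F
        · simp only [if_pos hmF]
          rw [hg]
          by_cases hm : m ∈ Big K
          · rw [if_pos hm, if_neg (fun h => h hm)]
          · rw [if_neg hm, if_pos (show m ∈ (Big K)ᶜ from hm)]
        · simp only [if_neg hmF]
          have : coeff m (A b) = 0 := by
            by_contra hne
            apply hmF
            simp only [F, Finset.mem_biUnion, Finset.mem_univ, true_and, mem_support_iff]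
            exact ⟨b, hne⟩
          rw [this]
          simp [dd]
  obtain ⟨B₂, hB₂hom, hB₂cond, hB₂d⟩ := key
  refine ⟨fun b' => B₁ b' + B₂ b', fun b' => (hB₁hom b').add (hB₂hom b'),
    fun b' => (hB₁cond b').add (hB₂cond b'), fun b => ?_⟩
  rw [dd_add, hB₁d, hB₂d, restr_add_restr_compl]

/-- numeric criterion for the absence of small monomials -/
lemma exists_big_of_lt (K D : ℕ) (h : K * Fintype.card ι < D + Fintype.card ι) (m : ι →₀ ℕ)
    (hm : m.degree = D) : ∃ i, K ≤ m i := by
  by_contra hcon
  push Not at hcon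
  have h1 : ∑ i, (m i + 1) ≤ ∑ _i : ι, K := Finset.sum_le_sum (fun i _ => hcon i)
  rw [Finset.sum_add_distrib, Finset.sum_const, Finset.sum_const, Finset.card_univ, smul_eq_mul,
    smul_eq_mul, mul_one] at h1
  have h2 : m.degree = ∑ i, m i := Finsupp.degree_eq_sum m
  rw [hm] at h2
  rw [← h2] at h1
  rw [mul_comm] at h1
  omega

end Main

end Groth.Agent.Lib.Helper93.CechPoly
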