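import Groth.Agent.Lib.Helper93.CechPoly
import Groth.Agent.Lib.Helper93.CechAlgTop

/-!
# helper93: polynomial-level Čech computation in the top degree

A top-degree cocycle whose value at one bijective tuple has no "small" monomial is a coboundary.
-/

open Finset MvPolynomial

namespace Groth.Agent.Lib.Helper93.CechPoly

open Groth.Agent.Lib.Helper93.CechAlg

variable {ι : Type} {R : Type*} [CommRing R] [Fintype ι] [DecidableEq ι]

/-- the big part of a cocycle is a coboundary -/
theorem poly_big (K D : ℕ) (p : ℕ) (A : (Fin (p + 2) → ι) → MvPolynomial ι R)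
    (hhom : ∀ b, (A b).IsHomogeneous D)
    (hcond : ∀ b, Cond K (Set.range b) (A b))
    (hcoc : ∀ c, dd A c = 0) :
    ∃ B : (Fin (p + 1) → ι) → MvPolynomial ι R, (∀ b', (B b').IsHomogeneous D) ∧
      (∀ b', Cond K (Set.range b') (B b')) ∧ ∀ b, dd B b = restr (Big K) (A b) := by
  classical
  let π : ι → MvPolynomial ι R →+ MvPolynomial ι R := fun j => (restr (Sel K j)).toAddMonoidHom
  set B₁ : (Fin (p + 1) → ι) → MvPolynomial ι R := hh π A with hB₁
  have hB₁d : ∀ b, dd B₁ b = restr (Big K) (A b) := by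
    intro b
    rw [hB₁, dd_hh]
    have h1 : ∑ j, π j (A b) = restr (Big K) (A b) := sum_restr_sel K (A b)
    have h2 : ∑ j, π j (dd A (Fin.cons j b)) = 0 := by
      apply Finset.sum_eq_zero
      intro j _
      rw [hcoc, map_zero]
    rw [h1, h2, sub_zero]
  have hB₁hom : ∀ b', (B₁ b').IsHomogeneous D := by
    intro b'
    apply IsHomogeneous.sum
    intro j _
    exact isHomogeneous_restr _ (hhom _)
  have hB₁cond : ∀ b', Cond K (Set.range b') (B₁ b') := by
    intro b'
    apply Cond.sum
    intro j _ m hm i hi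
    change coeff m (restr (Sel K j) (A (Fin.cons j b'))) ≠ 0 at hm
    rw [coeff_restr] at hm
    split_ifs at hm with hmS
    · by_cases hij : i = j
      · subst hij
        exact Sel.le hmS
      · apply hcond _ m hm i
        rintro ⟨x, hx⟩
        revert hx
        refine Fin.cases ?_ (fun y => ?_) x
        · simp only [Fin.cons_zero]; exact fun h => hij h.symm
        · simp only [Fin.cons_succ]; exact fun h => hi ⟨y, h⟩
    · exact (hm rfl).elim
  exact ⟨B₁, hB₁hom, hB₁cond, hB₁d⟩

/-- **Top degree**: a cocycle in degree `card ι - 1` whose value at a bijective tuple has no small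
monomial is a coboundary. -/
theorem poly_top (K D : ℕ) (p : ℕ) (A : (Fin (p + 2) → ι) → MvPolynomial ι R)
    (hhom : ∀ b, (A b).IsHomogeneous D)
    (hcond : ∀ b, Cond K (Set.range b) (A b))
    (hcoc : ∀ c, dd A c = 0)
    (hcard : Fintype.card ι = p + 2) (b₀ : Fin (p + 2) → ι) (hb₀ : Function.Bijective b₀)
    (hres : ∀ m : ι →₀ ℕ, m ∉ Big K → coeff m (A b₀) = 0) :
    ∃ B : (Fin (p + 1) → ι) → MvPolynomial ι R, (∀ b', (B b').IsHomogeneous D) ∧
      (∀ b', Cond K (Set.range b') (B b')) ∧ ∀ b, dd B b = A b := by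
  classical
  obtain ⟨B, hBhom, hBcond, hBd⟩ := poly_big K D p A hhom hcond hcoc
  refine ⟨B, hBhom, hBcond, fun b => ?_⟩
  rw [hBd]
  have hsmall_surj : ∀ (m : ι →₀ ℕ), m ∉ Big K → ∀ b, ¬ Function.Surjective b →
      coeff m (A b) = 0 := by
    intro m hm b hb
    by_contra hne
    simp only [Function.Surjective, not_forall, not_exists] at hb
    obtain ⟨i, hi⟩ := hb
    exact hm ⟨i, hcond b m hne i (fun ⟨x, hx⟩ => hi x hx)⟩
  have hsmall_coc : ∀ (m : ι →₀ ℕ) c, dd (fun b => coeff m (A b)) c = 0 := by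
    intro m c
    have := dd_map (MvPolynomial.coeffAddMonoidHom m (R := R) (σ := ι)) A c
    simp only [coeffAddMonoidHom_apply] at this
    rw [← this, hcoc, coeff_zero]
  have hzero : ∀ (m : ι →₀ ℕ), m ∉ Big K → coeff m (A b) = 0 := by
    intro m hm
    exact (top_eval R (p + 1) ι hcard b₀ hb₀).1 (fun b => coeff m (A b)) (hsmall_surj m hm)
      (hsmall_coc m) (hres m hm) b
  ext m
  rw [coeff_restr]
  split_ifs with hm
  · rfl
  · exact (hzero m hm).symm

end Groth.Agent.Lib.Helper93.CechPoly
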