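import Mathlib
import Groth.Agent.Lib.Helper19.StalkCriteria
import Groth.Agent.Lib.Helper93.NearFibre

/-!
# Closed immersion criterion over an algebraically closed field (Hartshorne II.7.3 style)

* `formallyUnramified_of_cotangent`: local hom onto cotangent space and residue field is formally
  unramified.
* `formallyUnramified_of_closedPoints`: on a Jacobson scheme, unramifiedness can be checked at
  closed points.
* `surjective_diagonal_of_injOn_closedPoints`: injective on closed points => universally injective
  (over an algebraically closed field, finite type).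
-/

set_option autoImplicit false
universe u
open CategoryTheory CategoryTheory.Limits AlgebraicGeometry TopologicalSpace IsLocalRing

namespace Groth.Agent.Lib.Helper93.ClosedImmAlgClosed


/-- A local homomorphism to a Noetherian local ring which is surjective on cotangent spaces and on
residue fields is formally unramified. -/
theorem formallyUnramified_of_cotangent {R S : Type*} [CommRing R] [CommRing S] [Algebra R S]
    [IsLocalRing R] [IsLocalRing S] [IsLocalHom (algebraMap R S)] [IsNoetherianRing S]
    [Algebra.EssFiniteType R S]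
    (hT : (maximalIdeal R).map (algebraMap R S) ⊔ maximalIdeal S ^ 2 = maximalIdeal S)
    (hsurj : Function.Surjective (algebraMap (ResidueField R) (ResidueField S))) :
    Algebra.FormallyUnramified R S := by
  have hmap : (maximalIdeal R).map (algebraMap R S) = maximalIdeal S := by
    apply le_antisymm
    · exact ((local_hom_TFAE (algebraMap R S)).out 0 2 rfl rfl).mp ‹_›
    · apply Submodule.le_of_le_smul_of_le_jacobson_bot (IsNoetherian.noetherian _)
        (IsLocalRing.maximalIdeal_le_jacobson _)
      rw [smul_eq_mul, ← pow_two, hT]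
  have : Algebra.IsSeparable (ResidueField R) (ResidueField S) :=
    ⟨fun x => by obtain ⟨a, rfl⟩ := hsurj x; exact isSeparable_algebraMap a⟩
  exact Algebra.FormallyUnramified.of_map_maximalIdeal hmap

/-- Over an algebraically closed field, the residue field map at a closed point is surjective. -/
theorem surjective_residueFieldMap_of_isClosed {k : Type u} [Field k] [IsAlgClosed k]
    {X Y : Scheme.{u}} (f : X ⟶ Y) (q : Y ⟶ Spec (CommRingCat.of k)) [LocallyOfFiniteType (f ≫ q)]
    (x : X) (hx : IsClosed ({x} : Set X)) :
    Function.Surjective (f.residueFieldMap x).hom := by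
  have e := SpecMap_residueFieldIsoBase_inv (f ≫ q) x hx
  let ψ : CommRingCat.of k ⟶ Y.residueField (f x) := Spec.preimage (Y.fromSpecResidueField (f x) ≫ q)
  have hψ : Spec.map ψ = Y.fromSpecResidueField (f x) ≫ q := Spec.map_preimage _
  have h1 : (residueFieldIsoBase (f ≫ q) x hx).inv = ψ ≫ f.residueFieldMap x := by
    apply Spec.map_injective
    rw [e, Spec.map_comp, hψ, ← Category.assoc (Spec.map _),
      Scheme.Hom.SpecMap_residueFieldMap_fromSpecResidueField, Category.assoc]
  have hbij : Function.Bijective (residueFieldIsoBase (f ≫ q) x hx).inv.hom :=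
    (ConcreteCategory.isIso_iff_bijective _).1 inferInstance
  intro t
  obtain ⟨a, ha⟩ := hbij.2 t
  refine ⟨ψ.hom a, ?_⟩
  rw [← ha, h1]
  rfl

/-- Over an algebraically closed field, a morphism which is surjective on cotangent spaces at a
closed point `x` has formally unramified stalk map at `x`. -/
theorem formallyUnramified_stalkMap_of_isClosed {k : Type u} [Field k] [IsAlgClosed k]
    {X Y : Scheme.{u}} (f : X ⟶ Y) (q : Y ⟶ Spec (CommRingCat.of k)) [LocallyOfFiniteType (f ≫ q)]
    [LocallyOfFiniteType f] (x : X) (hx : IsClosed ({x} : Set X))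
    (hT : Ideal.map (f.stalkMap x).hom (maximalIdeal (Y.presheaf.stalk (f x))) ⊔
        maximalIdeal (X.presheaf.stalk x) ^ 2 = maximalIdeal (X.presheaf.stalk x)) :
    (f.stalkMap x).hom.FormallyUnramified := by
  have : IsLocallyNoetherian X := LocallyOfFiniteType.isLocallyNoetherian (f ≫ q)
  have hsurj := surjective_residueFieldMap_of_isClosed f q x hx
  algebraize [(f.stalkMap x).hom]
  have : IsLocalHom (algebraMap (Y.presheaf.stalk (f x)) (X.presheaf.stalk x)) :=
    inferInstanceAs <| IsLocalHom (f.stalkMap x).hom
  have : Algebra.EssFiniteType (Y.presheaf.stalk (f x)) (X.presheaf.stalk x) := by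
    rw [← RingHom.essFiniteType_algebraMap, RingHom.algebraMap_toAlgebra]
    exact LocallyOfFiniteType.stalkMap f x
  rw [← RingHom.algebraMap_toAlgebra (f.stalkMap x).hom, RingHom.formallyUnramified_algebraMap]
  refine formallyUnramified_of_cotangent hT ?_
  intro t
  obtain ⟨a, ha⟩ := hsurj t
  exact ⟨a, ha⟩



/-- On a Jacobson scheme, a morphism locally of finite type whose stalk maps at closed points are
formally unramified is formally unramified. -/
theorem formallyUnramified_of_closedPoints {X Y : Scheme.{u}} (f : X ⟶ Y) [LocallyOfFiniteType f]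
    [JacobsonSpace X]
    (h : ∀ x : X, IsClosed ({x} : Set X) → (f.stalkMap x).hom.FormallyUnramified) :
    FormallyUnramified f := by
  obtain ⟨W, hW, hmax⟩ := Groth.Agent.Lib.Helper93.NearFibre.exists_unramified_open f
  have hall : ∀ x : X, x ∈ W := by
    by_contra hne
    push Not at hne
    obtain ⟨x₀, hx₀⟩ := hne
    have hne' : ((W : Set X)ᶜ).Nonempty := ⟨x₀, hx₀⟩
    obtain ⟨x, hxW, hx⟩ :=
      nonempty_inter_closedPoints hne' W.isOpen.isClosed_compl.isLocallyClosed
    obtain ⟨U, hxU, hU⟩ :=
      Groth.Agent.Lib.Helper19.exists_nhd_formallyUnramified_of_stalkMap f x (h x hx)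
    exact hxW (hmax U hU hxU)
  exact Groth.Agent.Lib.Helper19.formallyUnramified_of_forall_exists_nhd f
    (fun x => ⟨W, hall x, hW⟩)

/-- Over an algebraically closed field, a separated morphism of schemes locally of finite type
which is injective on closed points has surjective diagonal (i.e. is universally injective). -/
theorem surjective_diagonal_of_injOn_closedPoints {k : Type u} [Field k] [IsAlgClosed k]
    {X Y : Scheme.{u}} (f : X ⟶ Y) (q : Y ⟶ Spec (CommRingCat.of k)) [LocallyOfFiniteType (f ≫ q)]
    [LocallyOfFiniteType f] [IsSeparated f]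
    (hinj : Set.InjOn f {x : X | IsClosed ({x} : Set X)}) :
    Surjective (pullback.diagonal f) := by
  let p : pullback f f ⟶ Spec (CommRingCat.of k) := pullback.fst f f ≫ f ≫ q
  have : LocallyOfFiniteType p := inferInstance
  have : JacobsonSpace ↥(pullback f f) := LocallyOfFiniteType.jacobsonSpace p
  rw [surjective_iff]
  by_contra hns
  have hne : ((Set.range (pullback.diagonal f))ᶜ).Nonempty := by
    by_contra hemp
    rw [Set.not_nonempty_iff_eq_empty, Set.compl_empty_iff] at hemp
    exact hns (Set.range_eq_univ.mp hemp)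
  have hcl : IsClosed (Set.range (pullback.diagonal f)) :=
    (pullback.diagonal f).isClosedEmbedding.isClosed_range
  obtain ⟨z, hzΔ, hz⟩ := nonempty_inter_closedPoints hne hcl.isOpen_compl.isLocallyClosed
  apply hzΔ
  let a := pointOfClosedPoint p z hz
  have ha : a ≫ p = 𝟙 _ := pointOfClosedPoint_comp p z hz
  let a₁ := a ≫ pullback.fst f f
  let a₂ := a ≫ pullback.snd f f
  have h₁ : a₁ ≫ (f ≫ q) = 𝟙 _ := by
    rw [← ha]; simp only [a₁, p, Category.assoc]
  have h₂ : a₂ ≫ (f ≫ q) = 𝟙 _ := by
    rw [← ha]; simp only [a₂, p, Category.assoc, pullback.condition_assoc]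
  let pt : Spec (CommRingCat.of k) := IsLocalRing.closedPoint k
  have hc₁ : IsClosed ({a₁ pt} : Set X) := ((pointEquivClosedPoint (f ≫ q)) ⟨a₁, h₁⟩).2
  have hc₂ : IsClosed ({a₂ pt} : Set X) := ((pointEquivClosedPoint (f ≫ q)) ⟨a₂, h₂⟩).2
  have hf12 : f (a₁ pt) = f (a₂ pt) := by
    rw [← Scheme.Hom.comp_apply, ← Scheme.Hom.comp_apply]
    simp only [a₁, a₂, Category.assoc, pullback.condition]
  have h12 : a₁ pt = a₂ pt := hinj hc₁ hc₂ hf12
  have e12 : a₁ = a₂ := ext_of_apply_closedPoint_eq (f ≫ q) h₁ h₂ h12
  have haΔ : a = a₁ ≫ pullback.diagonal f := by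
    apply pullback.hom_ext
    · simp only [a₁, Category.assoc, pullback.diagonal_fst, Category.comp_id]
    · rw [e12]; simp only [a₂, Category.assoc, pullback.diagonal_snd, Category.comp_id]
  refine ⟨a₁ pt, ?_⟩
  rw [← Scheme.Hom.comp_apply, ← haΔ]
  exact pointOfClosedPoint_apply p z hz pt

end Groth.Agent.Lib.Helper93.ClosedImmAlgClosed
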