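import Mathlib
import Groth.Prelude.Def_Cone

set_option autoImplicit false
universe u
open CategoryTheory CategoryTheory.Limits AlgebraicGeometry TopologicalSpace
open AlgebraicGeometry.Proj HomogeneousLocalization

namespace Groth.Agent.Lib.Helper93.ConeProj

variable {R A : Type u} [CommRing R] [CommRing A] [Algebra R A] (𝒜 : ℕ → Submodule R A)
  [GradedAlgebra 𝒜]

/-- The restriction map `A → Γ(E, ⊤)` for the pointed cone `E`, as a morphism of rings. -/
noncomputable def φc : CommRingCat.of A ⟶ Γ((Cone.pointed 𝒜).toScheme, ⊤) :=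
  (Scheme.ΓSpecIso (.of A)).inv ≫ (Cone.pointed 𝒜).ι.appTop

/-- The restriction map `A → Γ(E, ⊤)` for the pointed cone `E`. -/
noncomputable def φ : A →+* Γ((Cone.pointed 𝒜).toScheme, ⊤) := (φc 𝒜).hom

theorem basicOpen_φ (r : A) :
    (Cone.pointed 𝒜).toScheme.basicOpen (φ 𝒜 r) =
      (Cone.pointed 𝒜).ι ⁻¹ᵁ (Cone.coneOpen r) := by
  have h1 : (Spec (CommRingCat.of A)).basicOpen ((Scheme.ΓSpecIso (CommRingCat.of A)).inv r) =
      Cone.coneOpen r := basicOpen_eq_of_affine (R := CommRingCat.of A) r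
  rw [← h1, Scheme.preimage_basicOpen_top]
  rfl

theorem iSup_basicOpen_φ :
    ⨆ (ir : Σ' i r, 0 < i ∧ r ∈ 𝒜 i), (Cone.pointed 𝒜).toScheme.basicOpen (φ 𝒜 ir.2.1) = ⊤ := by
  classical
  rw [eq_top_iff]
  rintro ⟨p, hp⟩ -
  rw [Opens.mem_iSup]
  have hp' : ¬ ((HomogeneousIdeal.irrelevant 𝒜).toIdeal : Set A) ⊆ p.asIdeal := hp
  rw [Set.not_subset] at hp'
  obtain ⟨a, ha, hap⟩ := hp'
  have hdec : a = ∑ i ∈ (DirectSum.decompose 𝒜 a).support, (DirectSum.decompose 𝒜 a i : A) :=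
    (DirectSum.sum_support_decompose 𝒜 a).symm
  have : ∃ i ∈ (DirectSum.decompose 𝒜 a).support, (DirectSum.decompose 𝒜 a i : A) ∉ p.asIdeal := by
    by_contra hall
    push Not at hall
    apply hap
    rw [hdec]
    exact Ideal.sum_mem _ hall
  obtain ⟨i, hi, hai⟩ := this
  have hi0 : i ≠ 0 := by
    rintro rfl
    apply hai
    have : (DirectSum.decompose 𝒜 a 0 : A) = 0 := by
      have := (HomogeneousIdeal.mem_irrelevant_iff 𝒜 a).mp ha
      simpa [GradedRing.proj_apply] using this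
    rw [this]; exact Ideal.zero_mem _
  refine ⟨⟨i, (DirectSum.decompose 𝒜 a i : A), Nat.pos_of_ne_zero hi0, Submodule.coe_mem _⟩, ?_⟩
  rw [basicOpen_φ]
  exact hai

/-- The cover of the pointed cone by the `D(r)`, `r` homogeneous of positive degree. -/
noncomputable def cover : (Cone.pointed 𝒜).toScheme.OpenCover :=
  (Cone.pointed 𝒜).toScheme.openCoverOfIsOpenCover (fun ir : Σ' i r, 0 < i ∧ r ∈ 𝒜 i ↦
    (Cone.pointed 𝒜).toScheme.basicOpen (φ 𝒜 ir.2.1)) (iSup_basicOpen_φ 𝒜)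

set_option backward.isDefEq.respectTransparency false in
set_option backward.defeqAttrib.useBackward true in
/-- The canonical retraction from the pointed cone to `Proj`. -/
noncomputable def retraction : (Cone.pointed 𝒜).toScheme ⟶ Proj 𝒜 := by
  refine (cover 𝒜).glueMorphisms
    (fun ri ↦ toBasicOpenOfGlobalSections 𝒜 (φ 𝒜) rfl ri.2.2.1 ri.2.2.2 ≫ Scheme.Opens.ι _) ?_
  rintro x y
  let e : pullback ((cover 𝒜).f x) ((cover 𝒜).f y) ≅
      ((Cone.pointed 𝒜).toScheme.basicOpen (φ 𝒜 (x.snd.fst * y.snd.fst))) :=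
    (isPullback_opens_inf _ _).isoPullback.symm ≪≫ (Cone.pointed 𝒜).toScheme.isoOfEq (by simp)
  rw [← cancel_epi e.inv]
  trans toBasicOpenOfGlobalSections 𝒜 (φ 𝒜) rfl (Nat.add_pos_left x.2.2.1 y.1)
    (SetLike.mul_mem_graded x.2.2.2 y.2.2.2) ≫ (Scheme.Opens.ι _)
  · simpa [e, cover, Scheme.isoOfEq_inv] using
      homOfLE_toBasicOpenOfGlobalSections_ι _ _ rfl rfl y.2.2.2
  · simpa [e, cover, Scheme.isoOfEq_inv] using
      (homOfLE_toBasicOpenOfGlobalSections_ι _ _ (mul_comm _ _) (add_comm _ _) x.2.2.2).symm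

theorem ι_retraction {d : ℕ} {t : A} (hd : 0 < d) (ht : t ∈ 𝒜 d) :
    ((Cone.pointed 𝒜).toScheme.basicOpen (φ 𝒜 t)).ι ≫ retraction 𝒜 =
      toBasicOpenOfGlobalSections 𝒜 (φ 𝒜) rfl hd ht ≫ (basicOpen 𝒜 t).ι :=
  (cover 𝒜).ι_glueMorphisms _ _ ⟨d, t, hd, ht⟩

theorem toSpecΓ_SpecMap_φc :
    (Cone.pointed 𝒜).toScheme.toSpecΓ ≫ Spec.map (φc 𝒜) = (Cone.pointed 𝒜).ι := by
  rw [φc, Spec.map_comp, ← Category.assoc, ← Scheme.toSpecΓ_naturality, Category.assoc,
    toSpecΓ_SpecMap_ΓSpecIso_inv, Category.comp_id]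

theorem chart_retraction {d : ℕ} {f : A} (hd : 0 < d) (hf : f ∈ 𝒜 d) :
    Cone.chart hf hd ≫ retraction 𝒜 =
      Spec.map (CommRingCat.ofHom (algebraMap (HomogeneousLocalization.Away 𝒜 f)
        (Localization.Away f))) ≫ Proj.awayι 𝒜 f hf hd := by
  set x := φ 𝒜 f with hx
  have hchart : Cone.chart hf hd ≫ (Cone.pointed 𝒜).ι =
      Spec.map (CommRingCat.ofHom (algebraMap A (Localization.Away f))) :=
    IsOpenImmersion.lift_fac _ _ _
  -- the chart lands in `(Cone.pointed 𝒜).toScheme.basicOpen x`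
  have hrange : Set.range (Cone.chart hf hd) ⊆ Set.range ((Cone.pointed 𝒜).toScheme.basicOpen x).ι := by
    rw [Scheme.Opens.range_ι, hx, basicOpen_φ]
    rintro _ ⟨z, rfl⟩
    change (Cone.pointed 𝒜).ι (Cone.chart hf hd z) ∈ (Cone.coneOpen f : Set _)
    rw [← Scheme.Hom.comp_apply, hchart]
    have : Spec.map (CommRingCat.ofHom (algebraMap A (Localization.Away f))) z ∈
        Set.range (Spec.map (CommRingCat.ofHom (algebraMap A (Localization.Away f)))) := ⟨z, rfl⟩
    rw [show Set.range (Spec.map (CommRingCat.ofHom (algebraMap A (Localization.Away f)))) =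
      (PrimeSpectrum.basicOpen f : Set (PrimeSpectrum A)) from
      PrimeSpectrum.localization_away_comap_range (Localization.Away f) f] at this
    exact this
  let k := IsOpenImmersion.lift ((Cone.pointed 𝒜).toScheme.basicOpen x).ι (Cone.chart hf hd) hrange
  have hk : k ≫ ((Cone.pointed 𝒜).toScheme.basicOpen x).ι = Cone.chart hf hd := IsOpenImmersion.lift_fac _ _ _
  rw [← hk, Category.assoc, ι_retraction 𝒜 hd hf]
  -- unfold
  have hmap : Submonoid.powers f ≤ (Submonoid.powers x).comap (φ 𝒜) := by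
    rw [← Submonoid.map_le_iff_le_comap, Submonoid.map_powers]
  let ψ : Localization.Away f →+* Localization.Away x :=
    IsLocalization.map (M := .powers f) (T := .powers x) _ (φ 𝒜) hmap
  have hψ : ψ.comp (algebraMap A (Localization.Away f)) =
      (algebraMap Γ((Cone.pointed 𝒜).toScheme, ⊤) (Localization.Away x)).comp (φ 𝒜) := IsLocalization.map_comp _
  let loc : Γ((Cone.pointed 𝒜).toScheme, ⊤) ⟶ CommRingCat.of (Localization.Away x) :=
    CommRingCat.ofHom (algebraMap Γ((Cone.pointed 𝒜).toScheme, ⊤) (Localization.Away x))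
  have hψ' : CommRingCat.ofHom (algebraMap A (Localization.Away f)) ≫ CommRingCat.ofHom ψ =
      φc 𝒜 ≫ loc := CommRingCat.hom_ext hψ
  let G : ((Cone.pointed 𝒜).toScheme.basicOpen x).toScheme ⟶
      Spec (CommRingCat.of (Localization.Away x)) :=
    ((Cone.pointed 𝒜).toScheme.isoOfEq ((Cone.pointed 𝒜).toScheme.toSpecΓ_preimage_basicOpen x)).inv ≫
      (Cone.pointed 𝒜).toScheme.toSpecΓ ∣_ _ ≫ (basicOpenIsoSpecAway x).hom
  have hunfold : toBasicOpenOfGlobalSections 𝒜 (φ 𝒜) rfl hd hf ≫ (basicOpen 𝒜 f).ι =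
      G ≫ Spec.map (CommRingCat.ofHom ψ) ≫
        Spec.map (CommRingCat.ofHom (algebraMap (HomogeneousLocalization.Away 𝒜 f)
          (Localization.Away f))) ≫ Proj.awayι 𝒜 f hf hd := by
    simp only [toBasicOpenOfGlobalSections, G, Category.assoc, basicOpenIsoSpec_inv_ι,
      CommRingCat.ofHom_comp, Spec.map_comp]
    rfl
  rw [hunfold]
  have hG0 : G ≫ Spec.map (CommRingCat.ofHom (algebraMap Γ((Cone.pointed 𝒜).toScheme, ⊤)
      (Localization.Away x))) =
      ((Cone.pointed 𝒜).toScheme.basicOpen x).ι ≫ (Cone.pointed 𝒜).toScheme.toSpecΓ := by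
    simp only [G, Category.assoc, basicOpenIsoSpecAway_hom_SpecMap, morphismRestrict_ι]
    rw [← Category.assoc, Scheme.isoOfEq_inv_ι]
  have hG : G ≫ Spec.map loc =
      ((Cone.pointed 𝒜).toScheme.basicOpen x).ι ≫ (Cone.pointed 𝒜).toScheme.toSpecΓ := hG0
  have hid : k ≫ G ≫ Spec.map (CommRingCat.ofHom ψ) = 𝟙 _ := by
    rw [← cancel_mono (Spec.map (CommRingCat.ofHom (algebraMap A (Localization.Away f))))]
    calc (k ≫ G ≫ Spec.map (CommRingCat.ofHom ψ)) ≫
          Spec.map (CommRingCat.ofHom (algebraMap A (Localization.Away f)))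
        = k ≫ G ≫ Spec.map (CommRingCat.ofHom (algebraMap A (Localization.Away f)) ≫
            CommRingCat.ofHom ψ) := by
          rw [Spec.map_comp]; simp only [Category.assoc]
      _ = k ≫ G ≫ Spec.map (φc 𝒜 ≫ loc) := by rw [hψ']
      _ = k ≫ (G ≫ Spec.map loc) ≫ Spec.map (φc 𝒜) := by
          rw [Spec.map_comp]; simp only [Category.assoc]
      _ = k ≫ (((Cone.pointed 𝒜).toScheme.basicOpen x).ι ≫
            (Cone.pointed 𝒜).toScheme.toSpecΓ) ≫ Spec.map (φc 𝒜) := by rw [hG]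
      _ = (k ≫ ((Cone.pointed 𝒜).toScheme.basicOpen x).ι) ≫
            ((Cone.pointed 𝒜).toScheme.toSpecΓ ≫ Spec.map (φc 𝒜)) := by
          simp only [Category.assoc]
      _ = Cone.chart hf hd ≫ (Cone.pointed 𝒜).ι := by rw [hk, toSpecΓ_SpecMap_φc]
      _ = Spec.map (CommRingCat.ofHom (algebraMap A (Localization.Away f))) := hchart
      _ = 𝟙 _ ≫ Spec.map (CommRingCat.ofHom (algebraMap A (Localization.Away f))) :=
          (Category.id_comp _).symm
  rw [← Category.assoc, ← Category.assoc, Category.assoc k, hid, Category.id_comp]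


theorem chart_ι {d : ℕ} {f : A} (hd : 0 < d) (hf : f ∈ 𝒜 d) :
    Cone.chart hf hd ≫ (Cone.pointed 𝒜).ι =
      Spec.map (CommRingCat.ofHom (algebraMap A (Localization.Away f))) :=
  IsOpenImmersion.lift_fac _ _ _

instance chart_isOpenImmersion {d : ℕ} {f : A} (hd : 0 < d) (hf : f ∈ 𝒜 d) :
    IsOpenImmersion (Cone.chart hf hd) := by
  have : IsOpenImmersion (Cone.chart hf hd ≫ (Cone.pointed 𝒜).ι) := by
    rw [chart_ι]
    exact IsOpenImmersion.of_isLocalization f
  exact IsOpenImmersion.of_comp _ (Cone.pointed 𝒜).ι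

theorem mem_range_chart {d : ℕ} {f : A} (hd : 0 < d) (hf : f ∈ 𝒜 d)
    (z : (Cone.pointed 𝒜).toScheme) :
    z ∈ Set.range (Cone.chart hf hd) ↔ (Cone.pointed 𝒜).ι z ∈ Cone.coneOpen f := by
  have hr : Set.range (Spec.map (CommRingCat.ofHom (algebraMap A (Localization.Away f)))) =
      (PrimeSpectrum.basicOpen f : Set (PrimeSpectrum A)) :=
    PrimeSpectrum.localization_away_comap_range (Localization.Away f) f
  constructor
  · rintro ⟨w, rfl⟩
    rw [← Scheme.Hom.comp_apply, chart_ι]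
    have : Spec.map (CommRingCat.ofHom (algebraMap A (Localization.Away f))) w ∈
        Set.range (Spec.map (CommRingCat.ofHom (algebraMap A (Localization.Away f)))) := ⟨w, rfl⟩
    rw [hr] at this
    exact this
  · intro hz
    have hz' : (Cone.pointed 𝒜).ι z ∈
        Set.range (Spec.map (CommRingCat.ofHom (algebraMap A (Localization.Away f)))) := by
      rw [hr]; exact hz
    obtain ⟨w, hw⟩ := hz'
    refine ⟨w, ?_⟩
    apply (Cone.pointed 𝒜).ι.isOpenEmbedding.injective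
    rw [← Scheme.Hom.comp_apply, chart_ι, hw]

/-- The cover of the pointed cone by the standard charts. -/
noncomputable def chartCover : (Cone.pointed 𝒜).toScheme.OpenCover :=
  Scheme.Cover.mkOfCovers (Σ' i r, 0 < i ∧ r ∈ 𝒜 i)
    (fun ir => Spec (CommRingCat.of (Localization.Away ir.2.1)))
    (fun ir => Cone.chart ir.2.2.2 ir.2.2.1) (by
      intro z
      have hz : z ∈ (⨆ (ir : Σ' i r, 0 < i ∧ r ∈ 𝒜 i),
          (Cone.pointed 𝒜).toScheme.basicOpen (φ 𝒜 ir.2.1)) := by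
        rw [iSup_basicOpen_φ]; trivial
      obtain ⟨ir, hir⟩ := Opens.mem_iSup.mp hz
      rw [basicOpen_φ] at hir
      exact ⟨ir, (mem_range_chart 𝒜 ir.2.2.1 ir.2.2.2 z).mpr hir⟩)

theorem retraction_unique (π π' : (Cone.pointed 𝒜).toScheme ⟶ Proj 𝒜)
    (h : ∀ (d : ℕ) (f : A) (hd : 0 < d) (hf : f ∈ 𝒜 d),
      Cone.chart hf hd ≫ π = Cone.chart hf hd ≫ π') : π = π' := by
  apply (chartCover 𝒜).hom_ext
  intro (ir : Σ' i r, 0 < i ∧ r ∈ 𝒜 i)
  exact h ir.1 ir.2.1 ir.2.2.1 ir.2.2.2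

end Groth.Agent.Lib.Helper93.ConeProj
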