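import Mathlib
import Groth.Agent.Lib.Helper93.ConeProj

set_option autoImplicit false
universe u
open CategoryTheory CategoryTheory.Limits AlgebraicGeometry TopologicalSpace
open AlgebraicGeometry.Proj HomogeneousLocalization

namespace Groth.Agent.Lib.Helper93.ConeProj

variable {R A : Type u} [CommRing R] [CommRing A] [Algebra R A] (𝒜 : ℕ → Submodule R A)
  [GradedAlgebra 𝒜]

theorem retraction_chart_apply {d : ℕ} {g : A} (hd : 0 < d) (hg : g ∈ 𝒜 d)
    (w : Spec (CommRingCat.of (Localization.Away g))) :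
    retraction 𝒜 (Cone.chart hg hd w) =
      Proj.awayι 𝒜 g hg hd (Spec.map (CommRingCat.ofHom
        (algebraMap (HomogeneousLocalization.Away 𝒜 g) (Localization.Away g))) w) := by
  rw [← Scheme.Hom.comp_apply, chart_retraction, Scheme.Hom.comp_apply]

theorem mem_retraction_chart_iff {d i : ℕ} {g a : A} (hd : 0 < d) (hg : g ∈ 𝒜 d) (hi : 0 < i)
    (ha : a ∈ 𝒜 i) (w : Spec (CommRingCat.of (Localization.Away g))) :
    a ∈ (retraction 𝒜 (Cone.chart hg hd w)).asHomogeneousIdeal ↔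
      algebraMap A (Localization.Away g) a ∈ w.asIdeal := by
  rw [retraction_chart_apply]
  set q := Spec.map (CommRingCat.ofHom
        (algebraMap (HomogeneousLocalization.Away 𝒜 g) (Localization.Away g))) w with hq
  rw [← not_iff_not]
  have h1 : a ∉ (Proj.awayι 𝒜 g hg hd q).asHomogeneousIdeal ↔
      Proj.awayι 𝒜 g hg hd q ∈ Proj.basicOpen 𝒜 a := (Proj.mem_basicOpen 𝒜 a _).symm
  rw [h1]
  have h2 : Proj.awayι 𝒜 g hg hd q ∈ Proj.basicOpen 𝒜 a ↔
      q ∈ Proj.awayι 𝒜 g hg hd ⁻¹ᵁ Proj.basicOpen 𝒜 a := Iff.rfl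
  rw [h2, Proj.awayι_preimage_basicOpen 𝒜 hg hd ha hi]
  change Away.isLocalizationElem hg ha ∉ q.asIdeal ↔ _
  have h4 : Away.isLocalizationElem hg ha ∈ q.asIdeal ↔
      algebraMap (HomogeneousLocalization.Away 𝒜 g) (Localization.Away g)
        (Away.isLocalizationElem hg ha) ∈ w.asIdeal := Iff.rfl
  rw [h4, not_iff_not, HomogeneousLocalization.algebraMap_apply, Away.val_mk,
    Localization.mk_eq_mk', IsLocalization.mk'_mem_iff, map_pow]
  exact w.isPrime.pow_mem_iff_mem d hd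


theorem exists_chart_eq (p : (Cone.pointed 𝒜).toScheme) :
    ∃ (d : ℕ) (g : A) (hd : 0 < d) (hg : g ∈ 𝒜 d)
      (w : Spec (CommRingCat.of (Localization.Away g))), Cone.chart hg hd w = p := by
  have hz : p ∈ (⨆ (ir : Σ' i r, 0 < i ∧ r ∈ 𝒜 i),
      (Cone.pointed 𝒜).toScheme.basicOpen (φ 𝒜 ir.2.1)) := by
    rw [iSup_basicOpen_φ]; trivial
  obtain ⟨ir, hir⟩ := Opens.mem_iSup.mp hz
  rw [basicOpen_φ] at hir
  obtain ⟨w, hw⟩ := (mem_range_chart 𝒜 ir.2.2.1 ir.2.2.2 p).mpr hir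
  exact ⟨ir.1, ir.2.1, ir.2.2.1, ir.2.2.2, w, hw⟩

theorem mem_ι_chart_iff {d : ℕ} {g : A} (hd : 0 < d) (hg : g ∈ 𝒜 d)
    (w : Spec (CommRingCat.of (Localization.Away g))) (a : A) :
    a ∈ ((Cone.pointed 𝒜).ι (Cone.chart hg hd w)).asIdeal ↔
      algebraMap A (Localization.Away g) a ∈ w.asIdeal := by
  rw [← Scheme.Hom.comp_apply, chart_ι]
  rfl

theorem mem_retraction_iff (p : (Cone.pointed 𝒜).toScheme) {i : ℕ} {a : A} (ha : a ∈ 𝒜 i) :
    a ∈ (retraction 𝒜 p).asHomogeneousIdeal ↔ a ∈ ((Cone.pointed 𝒜).ι p).asIdeal := by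
  obtain ⟨d, g, hd, hg, w, rfl⟩ := exists_chart_eq 𝒜 p
  rw [mem_ι_chart_iff]
  have hgw : algebraMap A (Localization.Away g) g ∉ w.asIdeal := fun h =>
    w.isPrime.ne_top (Ideal.eq_top_of_isUnit_mem _ h (IsLocalization.Away.algebraMap_isUnit g))
  rcases Nat.eq_zero_or_pos i with rfl | hi
  · have hag : a * g ∈ 𝒜 (0 + d) := SetLike.mul_mem_graded ha hg
    have key := mem_retraction_chart_iff 𝒜 hd hg (by omega : 0 < 0 + d) hag w
    have hgP : g ∉ (retraction 𝒜 (Cone.chart hg hd w)).asHomogeneousIdeal := by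
      rw [mem_retraction_chart_iff 𝒜 hd hg hd hg w]; exact hgw
    have hP := (retraction 𝒜 (Cone.chart hg hd w)).isPrime
    constructor
    · intro h
      have h1 : a * g ∈ (retraction 𝒜 (Cone.chart hg hd w)).asHomogeneousIdeal :=
        Ideal.mul_mem_right _ _ h
      rw [key, map_mul] at h1
      exact (w.isPrime.mem_or_mem h1).resolve_right hgw
    · intro h
      have h1 : a * g ∈ (retraction 𝒜 (Cone.chart hg hd w)).asHomogeneousIdeal := by
        rw [key, map_mul]; exact Ideal.mul_mem_right _ _ h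
      exact (hP.mem_or_mem h1).resolve_right hgP
  · exact mem_retraction_chart_iff 𝒜 hd hg hi ha w

theorem retraction_asHomogeneousIdeal (p : (Cone.pointed 𝒜).toScheme) :
    (retraction 𝒜 p).asHomogeneousIdeal =
      (((Cone.pointed 𝒜).ι p).asIdeal).homogeneousCore 𝒜 := by
  classical
  apply le_antisymm
  · rw [← Ideal.homogeneousCore.gc 𝒜 _ _]
    intro x hx
    rw [← DirectSum.sum_support_decompose 𝒜 x]
    refine Ideal.sum_mem _ fun i _ => ?_
    rw [← mem_retraction_iff 𝒜 p (Submodule.coe_mem _)]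
    exact (retraction 𝒜 p).asHomogeneousIdeal.isHomogeneous i hx
  · intro x hx
    have hx' : x ∈ Ideal.span ((↑) '' (((↑) : Subtype (SetLike.IsHomogeneousElem 𝒜) → A) ⁻¹'
        (((Cone.pointed 𝒜).ι p).asIdeal : Set A))) := hx
    refine (Ideal.span_le (I := (retraction 𝒜 p).asHomogeneousIdeal.toIdeal)).mpr ?_ hx'
    rintro _ ⟨⟨a, i, hai⟩, ha, rfl⟩
    exact (mem_retraction_iff 𝒜 p hai).mpr ha


theorem retraction_preimage_basicOpen {d : ℕ} {f : A} (hf : f ∈ 𝒜 d) :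
    retraction 𝒜 ⁻¹ᵁ Proj.basicOpen 𝒜 f = (Cone.pointed 𝒜).ι ⁻¹ᵁ Cone.coneOpen f := by
  ext p
  change retraction 𝒜 p ∈ Proj.basicOpen 𝒜 f ↔ f ∉ ((Cone.pointed 𝒜).ι p).asIdeal
  rw [Proj.mem_basicOpen, mem_retraction_iff 𝒜 p hf]

theorem retraction_surjective : Function.Surjective (retraction 𝒜) := by
  intro P
  let P' : Spec (CommRingCat.of A) := (⟨P.asHomogeneousIdeal.toIdeal, P.isPrime⟩ : PrimeSpectrum A)
  have hP : P' ∈ Cone.pointed 𝒜 := by
    intro h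
    exact P.not_irrelevant_le h
  refine ⟨⟨P', hP⟩, ?_⟩
  apply ProjectiveSpectrum.ext
  rw [retraction_asHomogeneousIdeal]
  exact HomogeneousIdeal.toIdeal_homogeneousCore_eq_self _

theorem retraction_isAffineHom : IsAffineHom (retraction 𝒜) := by
  apply isAffineHom_of_forall_exists_isAffineOpen
  intro P
  obtain ⟨f, d, hf, hd, hP⟩ : ∃ (f : A) (d : ℕ) (_ : f ∈ 𝒜 d) (_ : 0 < d), P ∈ Proj.basicOpen 𝒜 f := by
    obtain ⟨p, rfl⟩ := retraction_surjective 𝒜 P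
    have hz : p ∈ (⨆ (ir : Σ' i r, 0 < i ∧ r ∈ 𝒜 i),
        (Cone.pointed 𝒜).toScheme.basicOpen (φ 𝒜 ir.2.1)) := by
      rw [iSup_basicOpen_φ]; trivial
    obtain ⟨ir, hir⟩ := Opens.mem_iSup.mp hz
    rw [basicOpen_φ, ← retraction_preimage_basicOpen 𝒜 ir.2.2.2] at hir
    exact ⟨ir.2.1, ir.1, ir.2.2.2, ir.2.2.1, hir⟩
  refine ⟨Proj.basicOpen 𝒜 f, hP, Proj.isAffineOpen_basicOpen 𝒜 f hf hd, ?_⟩
  rw [retraction_preimage_basicOpen 𝒜 hf]
  have : (Cone.pointed 𝒜).ι ⁻¹ᵁ Cone.coneOpen f = (Cone.chart hf hd).opensRange := by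
    ext z
    exact (mem_range_chart 𝒜 hd hf z).symm
  rw [this]
  exact isAffineOpen_opensRange _

end Groth.Agent.Lib.Helper93.ConeProj
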