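import Mathlib
import Groth.Agent.Lib.Helper93.ConeProj2
import Groth.Agent.Lib.Helper93.AwayLaurent

set_option autoImplicit false
universe u
open CategoryTheory CategoryTheory.Limits AlgebraicGeometry TopologicalSpace
open AlgebraicGeometry.Proj HomogeneousLocalization

namespace Groth.Agent.Lib.Helper93.ConeProj

variable {R A : Type u} [CommRing R] [CommRing A] [Algebra R A] (𝒜 : ℕ → Submodule R A)
  [GradedAlgebra 𝒜]

theorem exists_chart_eq_of_gen
    (hgen : (HomogeneousIdeal.irrelevant 𝒜).toIdeal = Ideal.span (𝒜 1 : Set A))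
    (p : (Cone.pointed 𝒜).toScheme) :
    ∃ (g : A) (hg : g ∈ 𝒜 1)
      (w : Spec (CommRingCat.of (Localization.Away g))), Cone.chart hg one_pos w = p := by
  have hp : ¬ ((HomogeneousIdeal.irrelevant 𝒜).toIdeal : Set A) ⊆ ((Cone.pointed 𝒜).ι p).asIdeal :=
    p.2
  rw [hgen] at hp
  have hp' : ¬ (𝒜 1 : Set A) ⊆ ((Cone.pointed 𝒜).ι p).asIdeal := fun h =>
    hp (Ideal.span_le.mpr h)
  rw [Set.not_subset] at hp'
  obtain ⟨g, hg, hgp⟩ := hp'
  obtain ⟨w, hw⟩ := (mem_range_chart 𝒜 one_pos hg p).mpr hgp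
  exact ⟨g, hg, w, hw⟩

theorem retraction_locallyOfFiniteType
    (hgen : (HomogeneousIdeal.irrelevant 𝒜).toIdeal = Ideal.span (𝒜 1 : Set A)) :
    LocallyOfFiniteType (retraction 𝒜) := by
  let 𝒰 : (Cone.pointed 𝒜).toScheme.OpenCover :=
    Scheme.Cover.mkOfCovers (𝒜 1) (fun g => Spec (CommRingCat.of (Localization.Away g.1)))
      (fun g => Cone.chart g.2 one_pos) (by
        intro z
        obtain ⟨g, hg, w, hw⟩ := exists_chart_eq_of_gen 𝒜 hgen z
        exact ⟨⟨g, hg⟩, w, hw⟩)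
  apply IsZariskiLocalAtSource.of_openCover (P := @LocallyOfFiniteType) 𝒰
  intro (g : 𝒜 1)
  change LocallyOfFiniteType (Cone.chart g.2 one_pos ≫ retraction 𝒜)
  rw [chart_retraction]
  have : LocallyOfFiniteType (Spec.map (CommRingCat.ofHom
      (algebraMap (HomogeneousLocalization.Away 𝒜 g.1) (Localization.Away g.1)))) := by
    rw [HasRingHomProperty.Spec_iff (P := @LocallyOfFiniteType)]
    exact RingHom.finiteType_algebraMap.mpr (AwayLaurent.finiteType_away 𝒜 g.2)
  infer_instance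


theorem isPullback_chart {d : ℕ} {g : A} (hd : 0 < d) (hg : g ∈ 𝒜 d) :
    IsPullback (Spec.map (CommRingCat.ofHom
        (algebraMap (HomogeneousLocalization.Away 𝒜 g) (Localization.Away g))))
      (Cone.chart hg hd) (Proj.awayι 𝒜 g hg hd) (retraction 𝒜) := by
  apply IsOpenImmersion.isPullback _ _ _ _ (chart_retraction 𝒜 hd hg)
  rw [Proj.opensRange_awayι, retraction_preimage_basicOpen 𝒜 hg]
  ext z
  exact (mem_range_chart 𝒜 hd hg z).symm

open scoped AlgebraMonoidAlgebra in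
theorem fibre_iso_aux {g : A} (hg : g ∈ 𝒜 1) (K : Type u) [Field K]
    (ρ : CommRingCat.of (HomogeneousLocalization.Away 𝒜 g) ⟶ CommRingCat.of K) :
    ∃ l : CommRingCat.of (Localization.Away g) ⟶ CommRingCat.of (LaurentPolynomial K),
      IsPushout ρ (CommRingCat.ofHom
          (algebraMap (HomogeneousLocalization.Away 𝒜 g) (Localization.Away g)))
        (CommRingCat.ofHom (algebraMap K (LaurentPolynomial K))) l := by
  algebraize [ρ.hom]
  have h0 := CommRingCat.isPushout_of_isPushout (HomogeneousLocalization.Away 𝒜 g) K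
    (LaurentPolynomial (HomogeneousLocalization.Away 𝒜 g)) (LaurentPolynomial K)
  let e₃ : CommRingCat.of (LaurentPolynomial (HomogeneousLocalization.Away 𝒜 g)) ≅
      CommRingCat.of (Localization.Away g) :=
    (AwayLaurent.awayLaurentEquiv 𝒜 hg).symm.toCommRingCatIso
  refine ⟨e₃.inv ≫ CommRingCat.ofHom (algebraMap
    (LaurentPolynomial (HomogeneousLocalization.Away 𝒜 g)) (LaurentPolynomial K)), ?_⟩
  refine h0.of_iso (Iso.refl _) (Iso.refl _) e₃ (Iso.refl _) ?_ ?_ ?_ ?_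
  · simp only [Iso.refl_hom, Category.comp_id, Category.id_comp]
    rfl
  · simp only [Iso.refl_hom, Category.id_comp]
    ext b
    change AwayLaurent.fromLaurent 𝒜 (algebraMap _ _ b) = algebraMap _ _ b
    rw [← LaurentPolynomial.C_eq_algebraMap, AwayLaurent.fromLaurent, LaurentPolynomial.eval₂_C]
  · simp
  · simp


theorem exists_mem_basicOpen_of_gen
    (hgen : (HomogeneousIdeal.irrelevant 𝒜).toIdeal = Ideal.span (𝒜 1 : Set A))
    (x : Proj 𝒜) : ∃ (g : A) (_ : g ∈ 𝒜 1), x ∈ Proj.basicOpen 𝒜 g := by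
  have hx : x ∈ (⊤ : (Proj 𝒜).Opens) := trivial
  rw [← Proj.iSup_basicOpen_eq_top 𝒜 (fun g : 𝒜 1 => g.1) (by
    rw [hgen]
    apply Ideal.span_mono
    intro a ha
    exact ⟨⟨a, ha⟩, rfl⟩)] at hx
  obtain ⟨g, hg⟩ := Opens.mem_iSup.mp hx
  exact ⟨g.1, g.2, hg⟩

theorem fibre_iso
    (hgen : (HomogeneousIdeal.irrelevant 𝒜).toIdeal = Ideal.span (𝒜 1 : Set A))
    (x : Proj 𝒜) :
    ∃ e : pullback (retraction 𝒜) ((Proj 𝒜).fromSpecResidueField x) ≅
        Spec (CommRingCat.of (LaurentPolynomial ((Proj 𝒜).residueField x))),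
      e.hom ≫ Spec.map (CommRingCat.ofHom (algebraMap ((Proj 𝒜).residueField x)
        (LaurentPolynomial ((Proj 𝒜).residueField x)))) =
        pullback.snd (retraction 𝒜) ((Proj 𝒜).fromSpecResidueField x) := by
  obtain ⟨g, hg, hx⟩ := exists_mem_basicOpen_of_gen 𝒜 hgen x
  rw [← Proj.opensRange_awayι 𝒜 g hg one_pos] at hx
  obtain ⟨q, rfl⟩ := hx
  -- the point as a morphism to `Spec A_(g)`
  let g₀ : Spec ((Proj 𝒜).residueField (Proj.awayι 𝒜 g hg one_pos q)) ⟶
      Spec (CommRingCat.of (HomogeneousLocalization.Away 𝒜 g)) :=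
    Spec.map (inv ((Proj.awayι 𝒜 g hg one_pos).residueFieldMap q)) ≫
      (Spec (CommRingCat.of (HomogeneousLocalization.Away 𝒜 g))).fromSpecResidueField q
  have hg₀ : g₀ ≫ Proj.awayι 𝒜 g hg one_pos =
      (Proj 𝒜).fromSpecResidueField (Proj.awayι 𝒜 g hg one_pos q) := by
    simp only [g₀, Category.assoc]
    rw [← Scheme.Hom.SpecMap_residueFieldMap_fromSpecResidueField, ← Category.assoc,
      ← Spec.map_comp, IsIso.hom_inv_id, Spec.map_id, Category.id_comp]
  let ρ : CommRingCat.of (HomogeneousLocalization.Away 𝒜 g) ⟶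
      CommRingCat.of ((Proj 𝒜).residueField (Proj.awayι 𝒜 g hg one_pos q)) := Spec.preimage g₀
  have hρ : Spec.map ρ = g₀ := Spec.map_preimage _
  obtain ⟨l, hl⟩ := fibre_iso_aux 𝒜 hg ((Proj 𝒜).residueField (Proj.awayι 𝒜 g hg one_pos q)) ρ
  have h1 := isPullback_SpecMap_of_isPushout _ _ _ _ hl
  have h2 := isPullback_chart 𝒜 one_pos hg
  have h3 := (h1.paste_vert h2).flip
  rw [hρ, hg₀] at h3
  exact ⟨h3.isoPullback.symm, h3.isoPullback_inv_snd⟩

end Groth.Agent.Lib.Helper93.ConeProj
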