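import Mathlib

set_option autoImplicit false
open TopologicalSpace Topology Order

namespace Groth.Agent.Lib.Helper93.DimDrop

/-- If `g : α → β` is strictly monotone and every value has a strictly larger element,
then `dim α + 1 ≤ dim β`. -/
theorem krullDim_add_one_le_of_strictMono {α β : Type*} [Preorder α] [Preorder β] (g : α → β)
    (hg : StrictMono g) (h : ∀ a, ∃ b, g a < b) : krullDim α + 1 ≤ krullDim β := by
  rcases isEmpty_or_nonempty α with hα | hα
  · rw [krullDim_eq_bot]; simp
  have key : ∀ p : LTSeries α, ((p.length + 1 : ℕ) : WithBot ℕ∞) ≤ krullDim β := by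
    intro p
    obtain ⟨b, hb⟩ := h p.last
    let q : LTSeries β := (p.map g hg).snoc b (by simpa using hb)
    have : q.length = p.length + 1 := by simp [q]
    rw [← this]
    exact LTSeries.length_le_krullDim q
  rcases eq_or_ne (krullDim β) ⊤ with htop | htop
  · rw [htop]; exact le_top
  have hβ : Nonempty β := ⟨g hα.some⟩
  obtain ⟨N, hN⟩ : ∃ N : ℕ, krullDim β = N := by
    have hbot : krullDim β ≠ ⊥ := krullDim_ne_bot_iff.mpr hβ
    obtain ⟨m, hm⟩ := WithBot.ne_bot_iff_exists.mp hbot
    have hm' : m ≠ ⊤ := by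
      rintro rfl
      exact htop hm.symm
    obtain ⟨N, rfl⟩ := ENat.ne_top_iff_exists.mp hm'
    exact ⟨N, hm.symm⟩
  rw [hN] at key ⊢
  have key' : ∀ p : LTSeries α, p.length + 1 ≤ N := fun p => by exact_mod_cast key p
  have hle : krullDim α ≤ ((N - 1 : ℕ) : WithBot ℕ∞) := by
    unfold krullDim
    refine iSup_le fun p => ?_
    have := key' p
    exact_mod_cast (by omega : p.length ≤ N - 1)
  have hN1 : 1 ≤ N := by
    have := key' (RelSeries.singleton _ hα.some)
    omega
  calc krullDim α + 1 ≤ ((N - 1 : ℕ) : WithBot ℕ∞) + 1 := by gcongr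
    _ = (N : WithBot ℕ∞) := by
      have : (N - 1 : ℕ) + 1 = N := by omega
      exact_mod_cast this

end Groth.Agent.Lib.Helper93.DimDrop

namespace Groth.Agent.Lib.Helper93.DimDrop

/-- Dimension drop: a subspace all of whose points have proper generalizations in the bigger
subspace has strictly smaller dimension. -/
theorem topologicalKrullDim_add_one_le {P : Type*} [TopologicalSpace P] {Y' Y : Set P}
    (hsub : Y' ⊆ Y) [QuasiSober ↥Y']
    (h : ∀ y ∈ Y', ∃ y' ∈ Y, y' ⤳ y ∧ ¬ y ⤳ y') :
    topologicalKrullDim ↥Y' + 1 ≤ topologicalKrullDim ↥Y := by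
  have hind : IsInducing (Set.inclusion hsub) := (IsEmbedding.inclusion hsub).isInducing
  refine krullDim_add_one_le_of_strictMono _
    (IrreducibleCloseds.map_strictMono_of_isInducing hind) ?_
  intro c
  obtain ⟨y, hy⟩ := QuasiSober.sober c.isIrreducible c.isClosed
  obtain ⟨y', hy'Y, hsp, hnsp⟩ := h y.1 y.2
  refine ⟨⟨closure {(⟨y', hy'Y⟩ : ↥Y)}, isIrreducible_singleton.closure, isClosed_closure⟩, ?_⟩
  have hsp' : (⟨y', hy'Y⟩ : ↥Y) ⤳ Set.inclusion hsub y :=
    IsInducing.subtypeVal.specializes_iff.mp hsp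
  have hmap : (IrreducibleCloseds.map (Set.inclusion hsub) hind.continuous c : Set ↥Y) ⊆
      closure {Set.inclusion hsub y} := by
    rw [IrreducibleCloseds.coe_map]
    apply closure_minimal _ isClosed_closure
    rw [← hy.def]
    exact (image_closure_subset_closure_image hind.continuous).trans
      (by rw [Set.image_singleton])
  refine lt_of_le_of_ne ?_ ?_
  · show (IrreducibleCloseds.map (Set.inclusion hsub) hind.continuous c : Set ↥Y) ⊆
      closure {(⟨y', hy'Y⟩ : ↥Y)}
    refine hmap.trans ?_
    exact closure_minimal (Set.singleton_subset_iff.mpr hsp'.mem_closure) isClosed_closure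
  · intro heq
    apply hnsp
    have hmem : (⟨y', hy'Y⟩ : ↥Y) ∈
        (IrreducibleCloseds.map (Set.inclusion hsub) hind.continuous c : Set ↥Y) := by
      rw [heq]
      exact subset_closure rfl
    have h2 : Set.inclusion hsub y ⤳ (⟨y', hy'Y⟩ : ↥Y) :=
      specializes_iff_mem_closure.mpr (hmap hmem)
    exact IsInducing.subtypeVal.specializes_iff.mpr h2

theorem quasiSober_diff {P : Type*} [TopologicalSpace P] [QuasiSober P] {F Z : Set P}
    (hF : IsClosed F) (hZ : IsClosed Z) : QuasiSober ↥(F \ Z) := by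
  haveI : QuasiSober ↥(Zᶜ) := hZ.isOpen_compl.isOpenEmbedding_subtypeVal.quasiSober
  rw [Set.sdiff_eq]
  exact QuasiSober.inter_of_isClosed_of_quasiSober_right F hF

end Groth.Agent.Lib.Helper93.DimDrop
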