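import Mathlib
import Groth.Agent.Lib.Helper10.ChainCodim
import Groth.Agent.S7581
import Groth.Agent.Lib.Helper44.CatSpace

set_option autoImplicit false

namespace Groth.Agent.Lib.Helper93.DimFunLocal

open Groth.Agent.Lib.Helper10.ChainCodim TopologicalSpace Topology

universe u

section Poset

variable {P : Type*} [PartialOrder P]

/-- relative dimension of `y` with respect to `x₀`, measured inside `T`. -/
noncomputable def e (x₀ y T : P) : ℤ := ((cd x₀ T).toNat : ℤ) - ((cd y T).toNat : ℤ)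

variable (hfin : ∀ a b : P, a ≤ b → cd a b ≠ ⊤)
  (hadd : ∀ a b c : P, a ≤ b → b ≤ c → cd a c = cd a b + cd b c)

include hfin hadd

theorem toNat_cd_add {a b c : P} (hab : a ≤ b) (hbc : b ≤ c) :
    ((cd a c).toNat : ℤ) = ((cd a b).toNat : ℤ) + ((cd b c).toNat : ℤ) := by
  rw [hadd a b c hab hbc, ENat.toNat_add (hfin a b hab) (hfin b c hbc)]
  push_cast
  rfl

theorem e_mono {x₀ y T T' : P} (h1 : x₀ ≤ T) (h2 : y ≤ T) (h3 : T ≤ T') :
    e x₀ y T = e x₀ y T' := by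
  unfold e
  rw [toNat_cd_add hfin hadd h1 h3, toNat_cd_add hfin hadd h2 h3]
  ring

theorem e_sub {x₀ y z T : P} (hzy : z ≤ y) (hyT : y ≤ T) :
    e x₀ y T - e x₀ z T = ((cd z y).toNat : ℤ) := by
  unfold e
  rw [toNat_cd_add hfin hadd hzy hyT]
  ring

omit hfin hadd in
set_option backward.isDefEq.respectTransparency false in
theorem one_le_cd_of_lt {a b : P} (h : a < b) : 1 ≤ cd a b := by
  have := le_cd (a := a) (b := b) ((RelSeries.singleton _ a).snoc b h) (by simp) (by simp)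
  simpa using this

end Poset

section Top

variable {X : Type u} [TopologicalSpace X]

open Groth.Agent.Lib.Helper44

/-- In a Noetherian sober space every point `x` has an open neighbourhood `U` such that for `y ∈ U`
the irreducible closed subsets containing both `x` and `y` are "connected from below" after
enlarging. -/
theorem exists_open_good [NoetherianSpace X] [QuasiSober X] (x : X) :
    ∃ U : Opens X, x ∈ U ∧ ∀ y ∈ U,
      (∃ T : IrreducibleCloseds X, x ∈ (T : Set X) ∧ y ∈ (T : Set X)) ∧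
      ∀ T T' : IrreducibleCloseds X, x ∈ (T : Set X) → y ∈ (T : Set X) → x ∈ (T' : Set X) →
        y ∈ (T' : Set X) →
        ∃ Z Z' W : IrreducibleCloseds X, T ≤ Z ∧ T' ≤ Z' ∧ W ≤ Z ∧ W ≤ Z' ∧
          x ∈ (W : Set X) ∧ y ∈ (W : Set X) := by
  obtain ⟨𝒵, h𝒵fin, h𝒵cl, h𝒵irr, h𝒵cov⟩ :=
    NoetherianSpace.exists_finite_set_isClosed_irreducible (isClosed_univ (X := X))
  have hS : ∀ p : Set X × Set X, ∃ S : Set (Set X), S.Finite ∧ (∀ t ∈ S, IsClosed t) ∧
      (∀ t ∈ S, IsIrreducible t) ∧ closure p.1 ∩ closure p.2 = ⋃₀ S := fun p =>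
    NoetherianSpace.exists_finite_set_isClosed_irreducible (isClosed_closure.inter isClosed_closure)
  choose S hSfin hScl hSirr hSeq using hS
  let 𝒲 : Set (Set X) := ⋃ p ∈ 𝒵 ×ˢ 𝒵, S p
  have h𝒲fin : 𝒲.Finite := (h𝒵fin.prod h𝒵fin).biUnion (fun p _ => hSfin p)
  let B : Set (Set X) := {T | T ∈ 𝒲 ∧ x ∉ T}
  have hBfin : B.Finite := h𝒲fin.subset (fun T hT => hT.1)
  have hBcl : IsClosed (⋃₀ B) := by
    rw [Set.sUnion_eq_biUnion]
    refine hBfin.isClosed_biUnion (fun T hT => ?_)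
    obtain ⟨p, hp, hTp⟩ := Set.mem_iUnion₂.1 hT.1
    exact hScl p T hTp
  -- key fact
  have K : ∀ y, y ∉ ⋃₀ B → ∀ Z ∈ 𝒵, ∀ Z' ∈ 𝒵, y ∈ Z → y ∈ Z' →
      ∃ W : IrreducibleCloseds X, (W : Set X) ⊆ Z ∧ (W : Set X) ⊆ Z' ∧ x ∈ (W : Set X) ∧
        y ∈ (W : Set X) := by
    intro y hy Z hZ Z' hZ' hyZ hyZ'
    have hmem : y ∈ closure (Z, Z').1 ∩ closure (Z, Z').2 :=
      ⟨subset_closure hyZ, subset_closure hyZ'⟩
    rw [hSeq] at hmem
    obtain ⟨T, hT, hyT⟩ := hmem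
    have hT𝒲 : T ∈ 𝒲 := Set.mem_iUnion₂.2 ⟨(Z, Z'), ⟨hZ, hZ'⟩, hT⟩
    have hxT : x ∈ T := by
      by_contra hxT
      exact hy ⟨T, ⟨hT𝒲, hxT⟩, hyT⟩
    have hsub : T ⊆ closure (Z, Z').1 ∩ closure (Z, Z').2 := by
      rw [hSeq]; exact Set.subset_sUnion_of_mem hT
    rw [(h𝒵cl Z hZ).closure_eq, (h𝒵cl Z' hZ').closure_eq] at hsub
    exact ⟨⟨T, hSirr _ T hT, hScl _ T hT⟩, fun a ha => (hsub ha).1, fun a ha => (hsub ha).2,
      hxT, hyT⟩
  have hin𝒵 : ∀ T : IrreducibleCloseds X, ∃ Z ∈ 𝒵, (T : Set X) ⊆ Z := by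
    intro T
    obtain ⟨ξ, hξ⟩ := QuasiSober.sober T.isIrreducible T.isClosed
    have : ξ ∈ ⋃₀ 𝒵 := by rw [← h𝒵cov]; trivial
    obtain ⟨Z, hZ, hξZ⟩ := this
    refine ⟨Z, hZ, ?_⟩
    rw [← hξ.def]
    exact (h𝒵cl Z hZ).closure_subset_iff.2 (Set.singleton_subset_iff.2 hξZ)
  refine ⟨⟨(⋃₀ B)ᶜ, hBcl.isOpen_compl⟩, ?_, ?_⟩
  · rintro ⟨T, hT, hxT⟩
    exact hT.2 hxT
  · intro y hy
    have hy' : y ∉ ⋃₀ B := hy
    constructor
    · have : y ∈ ⋃₀ 𝒵 := by rw [← h𝒵cov]; trivial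
      obtain ⟨Z, hZ, hyZ⟩ := this
      obtain ⟨W, -, -, hxW, hyW⟩ := K y hy' Z hZ Z hZ hyZ hyZ
      exact ⟨W, hxW, hyW⟩
    · intro T T' hxT hyT hxT' hyT'
      obtain ⟨Z, hZ, hTZ⟩ := hin𝒵 T
      obtain ⟨Z', hZ', hTZ'⟩ := hin𝒵 T'
      obtain ⟨W, hWZ, hWZ', hxW, hyW⟩ := K y hy' Z hZ Z' hZ' (hTZ hyT) (hTZ' hyT')
      exact ⟨⟨Z, h𝒵irr Z hZ, h𝒵cl Z hZ⟩, ⟨Z', h𝒵irr Z' hZ', h𝒵cl Z' hZ'⟩, W, hTZ, hTZ', hWZ, hWZ',
        hxW, hyW⟩

/-- Stacks 02IC: a Noetherian sober catenary space locally has a dimension function. -/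
theorem exists_dimensionFunction [NoetherianSpace X] [QuasiSober X] [T0Space X]
    (hX : PtTop.IsCatenarySpace X) (x : X) :
    ∃ U : Opens X, x ∈ U ∧ ∃ δ : U → ℤ, PtTop.IsDimensionFunction δ := by
  rw [Groth.Agent.S7581.isCatenary_iff] at hX
  have hfin : ∀ a b : IrreducibleCloseds X, a ≤ b → cd a b ≠ ⊤ := fun a b h => (hX a b h).1
  have hadd := additive_of_catenary hX
  obtain ⟨U, hxU, hU⟩ := exists_open_good x
  obtain ⟨x₀, hx₀⟩ : ∃ x₀, x₀ = ptClosure x := ⟨_, rfl⟩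
  have hconst : ∀ y ∈ U, ∀ T T' : IrreducibleCloseds X, x₀ ≤ T → ptClosure y ≤ T → x₀ ≤ T' →
      ptClosure y ≤ T' → e x₀ (ptClosure y) T = e x₀ (ptClosure y) T' := by
    intro y hy T T' h1 h2 h3 h4
    obtain ⟨Z, Z', W, hTZ, hTZ', hWZ, hWZ', hxW, hyW⟩ := (hU y hy).2 T T'
      ((ptClosure_le_iff _ _).1 (hx₀ ▸ h1)) ((ptClosure_le_iff _ _).1 h2)
      ((ptClosure_le_iff _ _).1 (hx₀ ▸ h3)) ((ptClosure_le_iff _ _).1 h4)
    have hxW' : x₀ ≤ W := hx₀ ▸ (ptClosure_le_iff _ _).2 hxW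
    have hyW' : ptClosure y ≤ W := (ptClosure_le_iff _ _).2 hyW
    rw [e_mono hfin hadd h1 h2 hTZ, ← e_mono hfin hadd hxW' hyW' hWZ,
      e_mono hfin hadd hxW' hyW' hWZ', ← e_mono hfin hadd h3 h4 hTZ']
  have hex : ∀ y ∈ U, ∃ T, x₀ ≤ T ∧ ptClosure y ≤ T := by
    intro y hy
    obtain ⟨T, hxT, hyT⟩ := (hU y hy).1
    exact ⟨T, hx₀ ▸ (ptClosure_le_iff _ _).2 hxT, (ptClosure_le_iff _ _).2 hyT⟩
  classical
  let δ : X → ℤ := fun y =>
    if h : ∃ T, x₀ ≤ T ∧ ptClosure y ≤ T then e x₀ (ptClosure y) h.choose else 0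
  have hδ : ∀ y ∈ U, ∀ T, x₀ ≤ T → ptClosure y ≤ T → δ y = e x₀ (ptClosure y) T := by
    intro y hy T h1 h2
    have h : ∃ T, x₀ ≤ T ∧ ptClosure y ≤ T := ⟨T, h1, h2⟩
    simp only [δ, dif_pos h]
    exact hconst y hy _ _ h.choose_spec.1 h.choose_spec.2 h1 h2
  have hkey : ∀ y ∈ U, ∀ z ∈ U, y ⤳ z →
      δ y - δ z = ((cd (ptClosure z) (ptClosure y)).toNat : ℤ) := by
    intro y hy z hz hyz
    obtain ⟨T, h1, h2⟩ := hex y hy
    have hzy : ptClosure z ≤ ptClosure y := (ptClosure_le_ptClosure_iff _ _).2 hyz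
    rw [hδ y hy T h1 h2, hδ z hz T h1 (hzy.trans h2)]
    exact e_sub hfin hadd hzy h2
  have hlt : ∀ u v : U, u ⤳ v → u ≠ v → ptClosure v.1 < ptClosure u.1 := by
    intro u v huv hne
    have huv' : u.1 ⤳ v.1 := (IsInducing.subtypeVal.specializes_iff).2 huv
    refine lt_of_le_of_ne ((ptClosure_le_ptClosure_iff _ _).2 huv') ?_
    intro heq
    apply hne
    have : v.1 ⤳ u.1 := (ptClosure_le_ptClosure_iff _ _).1 heq.ge
    exact Subtype.ext ((huv'.antisymm this).eq)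
  refine ⟨U, hxU, fun u => δ u.1, ?_, ?_⟩
  · intro u v huv hne
    have huv' : u.1 ⤳ v.1 := (IsInducing.subtypeVal.specializes_iff).2 huv
    have h1 := hkey u.1 u.2 v.1 v.2 huv'
    have h2 := one_le_cd_of_lt (hlt u v huv hne)
    have h3 := hfin _ _ (hlt u v huv hne).le
    lift cd (ptClosure v.1) (ptClosure u.1) to ℕ using h3 with n hn
    have : 1 ≤ n := by exact_mod_cast h2
    simp only [ENat.toNat_natCast] at h1
    show δ v.1 < δ u.1
    omega
  · rintro u v ⟨huv, hne, himm⟩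
    have huv' : u.1 ⤳ v.1 := (IsInducing.subtypeVal.specializes_iff).2 huv
    have h1 := hkey u.1 u.2 v.1 v.2 huv'
    have hcov : ptClosure v.1 ⋖ ptClosure u.1 := by
      refine ⟨hlt u v huv hne, ?_⟩
      intro W hW1 hW2
      obtain ⟨w, hw⟩ := QuasiSober.sober W.isIrreducible W.isClosed
      have hWw : W = ptClosure w := by
        apply IrreducibleCloseds.ext
        exact hw.def.symm
      rw [hWw] at hW1 hW2
      have hwv : w ⤳ v.1 := (ptClosure_le_ptClosure_iff _ _).1 hW1.le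
      have huw : u.1 ⤳ w := (ptClosure_le_ptClosure_iff _ _).1 hW2.le
      have hwU : w ∈ U := hwv.mem_open U.isOpen v.2
      have h3 := himm ⟨w, hwU⟩ ((IsInducing.subtypeVal.specializes_iff).1 huw)
        ((IsInducing.subtypeVal.specializes_iff).1 hwv)
      rcases h3 with h3 | h3
      · have : w = u.1 := congrArg Subtype.val h3
        rw [this] at hW2
        exact lt_irrefl _ hW2
      · have : w = v.1 := congrArg Subtype.val h3
        rw [this] at hW1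
        exact lt_irrefl _ hW1
    rw [cd_covBy hcov] at h1
    simp at h1
    show δ u.1 = δ v.1 + 1
    omega

/-- Dimension functions pull back along injective inducing maps whose range is stable under
generalization (e.g. open embeddings, homeomorphisms). -/
theorem isDimensionFunction_comp {A B : Type*} [TopologicalSpace A] [TopologicalSpace B]
    {f : A → B} (hf : IsInducing f) (hinj : Function.Injective f)
    (hgen : StableUnderGeneralization (Set.range f)) {δ : B → ℤ}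
    (hδ : PtTop.IsDimensionFunction δ) : PtTop.IsDimensionFunction (δ ∘ f) := by
  refine ⟨?_, ?_⟩
  · intro x y hxy hne
    exact hδ.1 (f x) (f y) (hf.specializes_iff.2 hxy) (hinj.ne hne)
  · rintro x y ⟨hxy, hne, himm⟩
    apply hδ.2 (f x) (f y)
    refine ⟨hf.specializes_iff.2 hxy, hinj.ne hne, ?_⟩
    intro z hxz hzy
    obtain ⟨w, rfl⟩ := hgen hzy ⟨y, rfl⟩
    rcases himm w (hf.specializes_iff.1 hxz) (hf.specializes_iff.1 hzy) with h | h
    · exact Or.inl (congrArg f h)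
    · exact Or.inr (congrArg f h)

/-- Relative version of `exists_dimensionFunction`: a point with a Noetherian open neighbourhood in
a sober catenary space has an open neighbourhood with a dimension function. -/
theorem exists_dimensionFunction_of_nhd [QuasiSober X] [T0Space X]
    (V : Opens X) [NoetherianSpace V] (hV : PtTop.IsCatenarySpace V) (x : X) (hx : x ∈ V) :
    ∃ U : Opens X, x ∈ U ∧ ∃ δ : U → ℤ, PtTop.IsDimensionFunction δ := by
  have : QuasiSober V := V.isOpenEmbedding'.quasiSober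
  obtain ⟨U', hxU', δ', hδ'⟩ := exists_dimensionFunction hV ⟨x, hx⟩
  let U : Opens X := ⟨Subtype.val '' (U' : Set V), V.isOpen.isOpenMap_subtype_val _ U'.isOpen⟩
  let g : U → U' := fun u => ⟨u.2.choose, u.2.choose_spec.1⟩
  have hg : ∀ u : U, ((g u).1 : X) = u.1 := fun u => u.2.choose_spec.2
  have h1 : IsInducing ((Subtype.val : V → X) ∘ (Subtype.val : U' → V)) :=
    IsInducing.subtypeVal.comp IsInducing.subtypeVal
  have h2 : ((Subtype.val : V → X) ∘ (Subtype.val : U' → V)) ∘ g = (Subtype.val : U → X) :=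
    funext hg
  have hgind : IsInducing g := (IsInducing.of_comp_iff h1).1 (h2 ▸ IsInducing.subtypeVal)
  have hginj : Function.Injective g := by
    intro u u' h
    apply Subtype.ext
    rw [← hg u, ← hg u', h]
  have hgsurj : Function.Surjective g := by
    intro w
    refine ⟨⟨w.1.1, ⟨w.1, w.2, rfl⟩⟩, ?_⟩
    apply Subtype.ext
    apply Subtype.ext
    exact hg _
  refine ⟨U, ⟨⟨x, hx⟩, hxU', rfl⟩, δ' ∘ g, isDimensionFunction_comp hgind hginj ?_ hδ'⟩
  rw [hgsurj.range_eq]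
  exact fun _ _ _ _ => trivial

end Top

end Groth.Agent.Lib.Helper93.DimFunLocal
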