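import Mathlib
import Groth.Prelude.Def_EGA4b
import Groth.Agent.Lib.Helper93.DeltaZCat
import Groth.Agent.Lib.Helper93.DeltaZFT
import Groth.Agent.Lib.Helper73.DimFT.Hypersurface

/-!
# Equidimensional catenary Noetherian local rings: `ht q + dim A/q = dim A`, hyperplane sections
-/

set_option autoImplicit false
universe u

open Specialization Topology

namespace Groth.Agent.Lib.Helper93.EquidimCat

open Algz Groth.Agent.Lib.Helper93.DeltaZ
open Groth.Agent.Lib.Helper70 Groth.Agent.Lib.Helper44 Groth.Agent.Lib.Helper73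

lemma codimPt_le_height_primeSpectrum {R : Type u} [CommRing R] (Q0 Q : PrimeSpectrum R)
    (h : Q0 ⤳ Q) : codimPt Q0 Q h ≤ Order.height Q := by
  rw [codimPt_def, height_Ici_eq_coheight_Iic]
  let f : Set.Iic (toEquiv Q0) → (PrimeSpectrum R)ᵒᵈ := fun z => OrderDual.toDual (ofEquiv z.1)
  have hf : StrictMono f := by
    intro a b hab
    have h1 : a.1 < b.1 := hab
    change ofEquiv b.1 < ofEquiv a.1
    rw [lt_iff_le_not_ge] at h1 ⊢
    constructor
    · rw [PrimeSpectrum.le_iff_specializes]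
      exact (toEquiv_le_toEquiv (a := ofEquiv a.1) (b := ofEquiv b.1)).mp h1.1
    · intro h2
      apply h1.2
      rw [PrimeSpectrum.le_iff_specializes] at h2
      exact (toEquiv_le_toEquiv (a := ofEquiv b.1) (b := ofEquiv a.1)).mpr h2
  exact Order.coheight_le_coheight_apply_of_strictMono f hf ⟨toEquiv Q, toEquiv_le_toEquiv.mpr h⟩

section local_ring
variable {A : Type u} [CommRing A] [IsLocalRing A]

lemma coheight_ne_top (hA' : CAlg.IsCatenary A) (x : PrimeSpectrum A) : Order.coheight x ≠ ⊤ := by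
  have hQ : PosetCat (PrimeSpectrum A)ᵒᵈ := PosetCat.dual ((isCatenary_iff_posetCat A).mp hA')
  exact (posetCat_height_lt_top hQ (OrderDual.toDual x)).ne

lemma cohtInt_eq (x : PrimeSpectrum A) (n : ℕ) (hn : Order.coheight x = n) : cohtInt A x = n := by
  unfold cohtInt
  rw [hn, ENat.toNat_natCast]

/-- In an equidimensional catenary local ring, `ht q + dim A/q = dim A`. -/
lemma height_add_coheight_eq (hA : EGA4.IsEquidim A) (hA' : CAlg.IsCatenary A)
    (q : PrimeSpectrum A) :
    ((Order.height q + Order.coheight q : ℕ∞) : WithBot ℕ∞) = ringKrullDim A := by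
  apply le_antisymm
  · rw [ringKrullDim, Order.krullDim_eq_iSup_height_add_coheight_of_nonempty, WithBot.coe_le_coe]
    exact le_iSup (fun a : PrimeSpectrum A => Order.height a + Order.coheight a) q
  · obtain ⟨q0, hq0min, hq0le⟩ :=
      Ideal.exists_minimalPrimes_le (bot_le : (⊥ : Ideal A) ≤ q.asIdeal)
    have hq0p : q0.IsPrime := hq0min.1.1
    let Q0 : PrimeSpectrum A := ⟨q0, hq0p⟩
    have h1 : ringKrullDim (A ⧸ q0) = ringKrullDim A := hA q0 hq0min
    rw [← h1, ringKrullDim_quotient_eq_coheight Q0, WithBot.coe_le_coe]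
    have hspec : Q0 ⤳ q := (PrimeSpectrum.le_iff_specializes _ _).mp hq0le
    have hd := cohtInt_dimFunLike hA'
    have h2 := hd.codimPt_eq Q0 q hspec
    have h3 := codimPt_le_height_primeSpectrum Q0 q hspec
    obtain ⟨n, hn⟩ := ENat.ne_top_iff_exists.mp (coheight_ne_top hA' Q0)
    obtain ⟨m, hm⟩ := ENat.ne_top_iff_exists.mp (coheight_ne_top hA' q)
    rw [h2, cohtInt_eq Q0 n hn.symm, cohtInt_eq q m hm.symm] at h3
    rw [← hn, ← hm]
    by_cases htop : Order.height q = ⊤
    · rw [htop, top_add]; exact le_top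
    · obtain ⟨k, hk⟩ := ENat.ne_top_iff_exists.mp htop
      rw [← hk] at h3 ⊢
      have h4 : ((n : ℤ) - m).toNat ≤ k := by exact_mod_cast h3
      have h5 : n ≤ k + m := by omega
      exact_mod_cast h5

lemma exists_height_coheight (hA : EGA4.IsEquidim A) (hA' : CAlg.IsCatenary A)
    (D : ℕ) (hD : ringKrullDim A = D) (q : PrimeSpectrum A) :
    ∃ a b : ℕ, Order.height q = a ∧ Order.coheight q = b ∧ a + b = D := by
  have h := height_add_coheight_eq hA hA' q
  rw [hD] at h
  have h' : Order.height q + Order.coheight q = (D : ℕ∞) := by exact_mod_cast h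
  have h1 : Order.height q ≠ ⊤ := by
    intro e; rw [e, top_add] at h'; exact ENat.top_ne_natCast _ h'
  obtain ⟨a, ha⟩ := ENat.ne_top_iff_exists.mp h1
  obtain ⟨b, hb⟩ := ENat.ne_top_iff_exists.mp (coheight_ne_top hA' q)
  refine ⟨a, b, ha.symm, hb.symm, ?_⟩
  rw [← ha, ← hb] at h'
  exact_mod_cast h'

end local_ring

section quotient
variable {A : Type u} [CommRing A]

lemma height_map_add_coheight_le (t : A) (q : PrimeSpectrum A) (htq : t ∈ q.asIdeal) :
    (((q.asIdeal.map (Ideal.Quotient.mk (Ideal.span {t}))).height + Order.coheight q : ℕ∞) :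
      WithBot ℕ∞) ≤ ringKrullDim (A ⧸ Ideal.span {t}) := by
  have hle : Ideal.span {t} ≤ q.asIdeal := (Ideal.span_singleton_le_iff_mem _).mpr htq
  have hq' : (q.asIdeal.map (Ideal.Quotient.mk (Ideal.span {t}))).IsPrime :=
    Ideal.isPrime_map_quotientMk_of_isPrime hle
  let Q' : PrimeSpectrum (A ⧸ Ideal.span {t}) := ⟨_, hq'⟩
  have : Nonempty (PrimeSpectrum (A ⧸ Ideal.span {t})) := ⟨Q'⟩
  have h1 : Order.coheight Q' = Order.coheight q := by
    have e1 := ringKrullDim_quotient_eq_coheight Q'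
    have e2 := ringKrullDim_quotient_eq_coheight q
    have e3 := ringKrullDim_eq_of_ringEquiv (DoubleQuot.quotQuotEquivQuotOfLE hle)
    have e4 : ((Order.coheight Q' : ℕ∞) : WithBot ℕ∞) = (Order.coheight q : ℕ∞) :=
      e1.symm.trans (e3.trans e2)
    exact_mod_cast e4
  rw [← h1, Q'.height_eq_orderHeight, ringKrullDim,
    Order.krullDim_eq_iSup_height_add_coheight_of_nonempty, WithBot.coe_le_coe]
  exact le_iSup (fun a : PrimeSpectrum (A ⧸ Ideal.span {t}) => Order.height a + Order.coheight a) Q'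

end quotient

section main
variable (A : Type u) [CommRing A] [IsNoetherianRing A] [IsLocalRing A]

theorem iInf_height_hyperplane_section_le
    (hA : EGA4.IsEquidim A) (hA' : CAlg.IsCatenary A) (t : A)
    (ht : ringKrullDim (A ⧸ Ideal.span {t}) + 1 = ringKrullDim A) (Z : Set (PrimeSpectrum A))
    (hZ : StableUnderSpecialization Z) :
    (⨅ p ∈ {p ∈ Z | t ∈ p.asIdeal}, (p.asIdeal.map (Ideal.Quotient.mk (Ideal.span {t}))).height) ≤
        ⨅ p ∈ Z, p.asIdeal.height ∧
      (⨅ p ∈ Z, p.asIdeal.height) ≤ ⨅ p ∈ {p ∈ Z | t ∉ p.asIdeal}, p.asIdeal.height := by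
  constructor
  swap
  · exact le_iInf₂ fun p hp => iInf₂_le p hp.1
  -- dimension of `A` as a natural number
  have hfin : ringKrullDim A < ⊤ := ringKrullDim_lt_top
  have hnn : 0 ≤ ringKrullDim A := ringKrullDim_nonneg_of_nontrivial
  obtain ⟨D, hD⟩ : ∃ D : ℕ, ringKrullDim A = D := by
    generalize ringKrullDim A = x at hfin hnn
    induction x using WithBot.recBotCoe with
    | bot => exact absurd hnn (by simp)
    | coe x =>
      induction x using ENat.recTopCoe with
      | top => exact absurd hfin (by simp)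
      | coe n => exact ⟨n, rfl⟩
  obtain ⟨D', hD', hDD'⟩ : ∃ D' : ℕ, ringKrullDim (A ⧸ Ideal.span {t}) = D' ∧ D' + 1 = D := by
    rw [hD] at ht
    generalize ringKrullDim (A ⧸ Ideal.span {t}) = x at ht
    induction x using WithBot.recBotCoe with
    | bot => simp at ht
    | coe x =>
      induction x using ENat.recTopCoe with
      | top =>
        exfalso
        have : ((⊤ : ℕ∞) : WithBot ℕ∞) + 1 = ((⊤ : ℕ∞) : WithBot ℕ∞) := rfl
        rw [this] at ht
        have h2 : (⊤ : ℕ∞) = (D : ℕ∞) := by exact_mod_cast ht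
        exact ENat.top_ne_natCast _ h2
      | coe n =>
        refine ⟨n, rfl, ?_⟩
        exact_mod_cast ht
  -- `t` lies in the maximal ideal
  have htm : t ∈ (IsLocalRing.closedPoint A).asIdeal := by
    by_contra hnot
    have hu : IsUnit t := by
      by_contra hnu
      exact hnot ((IsLocalRing.mem_maximalIdeal t).mpr hnu)
    have htop : Ideal.span {t} = ⊤ := Ideal.span_singleton_eq_top.mpr hu
    have hsub : Subsingleton (A ⧸ Ideal.span {t}) := by
      rw [htop]; exact Ideal.Quotient.subsingleton_iff.mpr rfl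
    have : ringKrullDim (A ⧸ Ideal.span {t}) = ⊥ := ringKrullDim_eq_bot_of_subsingleton
    rw [this] at hD'
    exact absurd hD' (by simp)
  refine le_iInf₂ fun p hp => ?_
  rw [p.height_eq_orderHeight]
  obtain ⟨a, b, ha, hb, hab⟩ := exists_height_coheight hA hA' D hD p
  by_cases htp : t ∈ p.asIdeal
  · refine iInf₂_le_of_le p ⟨hp, htp⟩ ?_
    have h2 := height_map_add_coheight_le t p htp
    rw [hD', hb] at h2
    have hfin' : (p.asIdeal.map (Ideal.Quotient.mk (Ideal.span {t}))).height ≠ ⊤ := by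
      intro e; rw [e, top_add] at h2
      have : (⊤ : ℕ∞) ≤ (D' : ℕ∞) := by exact_mod_cast h2
      exact absurd (top_le_iff.mp this) (ENat.natCast_ne_top _)
    obtain ⟨a', ha'⟩ := ENat.ne_top_iff_exists.mp hfin'
    rw [← ha'] at h2 ⊢
    rw [ha]
    have h3 : a' + b ≤ D' := by exact_mod_cast h2
    have h4 : a' ≤ a := by omega
    exact_mod_cast h4
  · obtain ⟨r, hcov, hrm, htr⟩ :=
      exists_covBy_mem_le t p (IsLocalRing.closedPoint A) le_top htm htp
    have hpr : p ⤳ r := (PrimeSpectrum.le_iff_specializes _ _).mp hcov.le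
    have hrZ : r ∈ Z := hZ hpr hp
    refine iInf₂_le_of_le r ⟨hrZ, htr⟩ ?_
    obtain ⟨a2, b2, ha2, hb2, hab2⟩ := exists_height_coheight hA hA' D hD r
    -- `coht p = coht r + 1`
    have hd := cohtInt_dimFunLike hA'
    have hne : p ≠ r := hcov.lt.ne
    have himm : ∀ z : PrimeSpectrum A, p ⤳ z → z ⤳ r → z = p ∨ z = r := by
      intro z h1 h2
      rw [← PrimeSpectrum.le_iff_specializes] at h1 h2
      by_contra hcon
      push Not at hcon
      exact hcov.2 (lt_of_le_of_ne h1 (Ne.symm hcon.1)) (lt_of_le_of_ne h2 hcon.2)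
    have h5 := (hd p r hpr hne).2 himm
    rw [cohtInt_eq p b hb, cohtInt_eq r b2 hb2] at h5
    have h2 := height_map_add_coheight_le t r htr
    rw [hD', hb2] at h2
    have hfin' : (r.asIdeal.map (Ideal.Quotient.mk (Ideal.span {t}))).height ≠ ⊤ := by
      intro e; rw [e, top_add] at h2
      have : (⊤ : ℕ∞) ≤ (D' : ℕ∞) := by exact_mod_cast h2
      exact absurd (top_le_iff.mp this) (ENat.natCast_ne_top _)
    obtain ⟨a', ha'⟩ := ENat.ne_top_iff_exists.mp hfin'
    rw [← ha'] at h2 ⊢
    rw [ha]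
    have h3 : a' + b2 ≤ D' := by exact_mod_cast h2
    have h4 : a' ≤ a := by omega
    exact_mod_cast h4

end main

end Groth.Agent.Lib.Helper93.EquidimCat
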