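import Mathlib

set_option autoImplicit false
universe u

namespace Groth.Agent.Lib.Helper93.EtDescent

open TensorProduct MvPolynomial

section model
variable {A B : Type u} [CommRing A] [CommRing B] [Algebra A B]

/-- A finitely presented algebra over a localization `B = S⁻¹A` has a finitely presented model
over `A`. -/
theorem exists_model_of_isLocalization (S : Submonoid A) [IsLocalization S B]
    (D : Type u) [CommRing D] [Algebra B D] [Algebra A D] [IsScalarTower A B D]
    [Algebra.FinitePresentation B D] :
    ∃ (C₀ : Type u) (_ : CommRing C₀) (_ : Algebra A C₀), Algebra.FinitePresentation A C₀ ∧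
      Nonempty (B ⊗[A] C₀ ≃ₐ[B] D) := by
  classical
  let P₀ := Algebra.Presentation.ofFinitePresentation B D
  have hb : ∀ j, ∃ b : S, ∀ a ∈ (P₀.relation j).coeffs,
      IsLocalization.IsInteger A ((b : A) • a) := fun j =>
    IsLocalization.exist_integer_multiples_of_finset S (P₀.relation j).coeffs
  choose b hb using hb
  let P : Algebra.Presentation B D _ _ :=
    { toGenerators := P₀.toGenerators
      relation := fun j => C (algebraMap A B (b j)) * P₀.relation j
      span_range_relation_eq_ker := by
        rw [← P₀.span_range_relation_eq_ker]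
        apply le_antisymm
        · rw [Ideal.span_le]
          rintro _ ⟨j, rfl⟩
          exact Ideal.mul_mem_left _ _ (Ideal.subset_span ⟨j, rfl⟩)
        · rw [Ideal.span_le]
          rintro _ ⟨j, rfl⟩
          obtain ⟨v, hv⟩ := (IsLocalization.map_units B (b j)).exists_left_inv
          have : P₀.relation j =
              C v * (C (algebraMap A B (b j)) * P₀.relation j) := by
            rw [← mul_assoc, ← C_mul, hv, C_1, one_mul]
          rw [this]
          exact Ideal.mul_mem_left _ _ (Ideal.subset_span ⟨j, rfl⟩) }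
  haveI : P.HasCoeffs A := by
    constructor
    intro c hc
    simp only [Algebra.Presentation.coeffs, Set.mem_iUnion, Finset.mem_coe] at hc
    obtain ⟨j, hj⟩ := hc
    obtain ⟨n, hn, rfl⟩ := mem_coeffs_iff.mp hj
    have hn' : coeff n (P.relation j) = algebraMap A B (b j) * coeff n (P₀.relation j) := by
      change coeff n (C (algebraMap A B (b j)) * P₀.relation j) = _
      rw [coeff_C_mul]
    rw [hn']
    by_cases h0 : coeff n (P₀.relation j) = 0
    · rw [h0, mul_zero]; exact ⟨0, map_zero _⟩
    · have := hb j _ (coeff_mem_coeffs n h0)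
      rw [Algebra.smul_def] at this
      exact this
  exact ⟨P.ModelOfHasCoeffs A, inferInstance, inferInstance, inferInstance,
    ⟨P.tensorModelOfHasCoeffsEquiv A⟩⟩

end model

section spread
variable {A B : Type u} [CommRing A] [CommRing B] [Algebra A B]

/-- If `C₀` is a finitely presented `A`-algebra whose localization `C₀ ⊗[A] S⁻¹A` is formally
étale over `A`, then `C₀[1/s]` is étale over `A` for some `s ∈ S`. -/
theorem exists_etale_away (S : Submonoid A) [IsLocalization S B]
    (C₀ : Type u) [CommRing C₀] [Algebra A C₀] [Algebra.FinitePresentation A C₀]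
    [h : Algebra.FormallyEtale A (C₀ ⊗[A] B)] :
    ∃ s ∈ S, Algebra.Etale A (Localization.Away (algebraMap A C₀ s)) := by
  set T := Algebra.algebraMapSubmonoid C₀ S with hT
  have hloc : IsLocalization T (C₀ ⊗[A] B) := inferInstance
  have hU : ∀ Q : PrimeSpectrum C₀, Disjoint (T : Set C₀) Q.asIdeal →
      Q ∈ Algebra.etaleLocus A C₀ := by
    intro Q hQ
    have hQ'prime : (Ideal.map (algebraMap C₀ (C₀ ⊗[A] B)) Q.asIdeal).IsPrime :=
      IsLocalization.isPrime_of_isPrime_disjoint T (C₀ ⊗[A] B) _ Q.isPrime hQ
    have hcomap : Ideal.comap (algebraMap C₀ (C₀ ⊗[A] B))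
        (Ideal.map (algebraMap C₀ (C₀ ⊗[A] B)) Q.asIdeal) = Q.asIdeal :=
      IsLocalization.under_map_of_isPrime_disjoint T (C₀ ⊗[A] B) Q.isPrime hQ
    set Q' := Ideal.map (algebraMap C₀ (C₀ ⊗[A] B)) Q.asIdeal with hQ'
    have h1 : IsLocalization.AtPrime (Localization.AtPrime Q')
        (Q'.comap (algebraMap C₀ (C₀ ⊗[A] B))) :=
      IsLocalization.isLocalization_isLocalization_atPrime_isLocalization T
        (Localization.AtPrime Q') Q'
    haveI : Algebra.FormallyEtale (C₀ ⊗[A] B) (Localization.AtPrime Q') :=
      .of_isLocalization Q'.primeCompl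
    haveI : Algebra.FormallyEtale A (Localization.AtPrime Q') := .comp A (C₀ ⊗[A] B) _
    haveI : IsLocalization.AtPrime (Localization.AtPrime Q') Q.asIdeal := by
      have hsub : (Q'.comap (algebraMap C₀ (C₀ ⊗[A] B))).primeCompl = Q.asIdeal.primeCompl := by
        ext x
        simp only [Ideal.mem_primeCompl_iff]
        rw [hcomap]
      unfold IsLocalization.AtPrime at h1 ⊢
      rw [← hsub]
      exact h1
    let e : Localization.AtPrime Q.asIdeal ≃ₐ[C₀] Localization.AtPrime Q' :=
      IsLocalization.algEquiv Q.asIdeal.primeCompl _ _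
    exact Algebra.FormallyEtale.of_equiv (e.restrictScalars A).symm
  have hopen : IsOpen (Algebra.etaleLocus A C₀) := Algebra.isOpen_etaleLocus
  set K := PrimeSpectrum.vanishingIdeal (Algebra.etaleLocus A C₀)ᶜ with hKdef
  have hK : PrimeSpectrum.zeroLocus (K : Set C₀) = (Algebra.etaleLocus A C₀)ᶜ := by
    rw [hKdef, PrimeSpectrum.zeroLocus_vanishingIdeal_eq_closure, hopen.isClosed_compl.closure_eq]
  have hnd : ¬ Disjoint (K : Set C₀) (T : Set C₀) := by
    intro hd
    obtain ⟨p, hp, hKp, hpT⟩ := Ideal.exists_le_prime_disjoint K T hd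
    have h1 : (⟨p, hp⟩ : PrimeSpectrum C₀) ∈ Algebra.etaleLocus A C₀ := hU ⟨p, hp⟩ hpT.symm
    have h2 : (⟨p, hp⟩ : PrimeSpectrum C₀) ∈ (Algebra.etaleLocus A C₀)ᶜ := by
      rw [← hK]; exact hKp
    exact h2 h1
  rw [Set.not_disjoint_iff] at hnd
  obtain ⟨t, htK, htT⟩ := hnd
  obtain ⟨s, hs, rfl⟩ := htT
  refine ⟨s, hs, ?_⟩
  rw [← Algebra.basicOpen_subset_etaleLocus_iff_etale]
  intro q hq
  by_contra hqU
  have : q ∈ PrimeSpectrum.zeroLocus (K : Set C₀) := by rw [hK]; exact hqU
  exact hq (this htK)

end spread


section etprod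

/-- Auxiliary `Bool`-indexed family. -/
def BoolFam (X Y : Type u) : Bool → Type u
  | true => X
  | false => Y

variable {R : Type*} {X Y : Type u} [CommRing R] [CommRing X] [CommRing Y] [Algebra R X]
  [Algebra R Y]

instance (b : Bool) : CommRing (BoolFam X Y b) :=
  match b with
  | true => inferInstanceAs (CommRing X)
  | false => inferInstanceAs (CommRing Y)

instance (b : Bool) : Algebra R (BoolFam X Y b) :=
  match b with
  | true => inferInstanceAs (Algebra R X)
  | false => inferInstanceAs (Algebra R Y)

instance (b : Bool) [Algebra.Etale R X] [Algebra.Etale R Y] : Algebra.Etale R (BoolFam X Y b) :=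
  match b with
  | true => inferInstanceAs (Algebra.Etale R X)
  | false => inferInstanceAs (Algebra.Etale R Y)

/-- The product as a `Bool`-indexed pi type. -/
def boolFamEquiv : (∀ b, BoolFam X Y b) ≃ₐ[R] X × Y where
  toFun g := (g true, g false)
  invFun p := fun b => match b with
    | true => p.1
    | false => p.2
  left_inv g := by funext b; cases b <;> rfl
  right_inv p := rfl
  map_mul' := fun _ _ => rfl
  map_add' := fun _ _ => rfl
  commutes' := fun r => rfl

/-- Binary products of étale algebras are étale. -/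
lemma etale_prod [Algebra.Etale R X] [Algebra.Etale R Y] : Algebra.Etale R (X × Y) :=
  Algebra.Etale.of_equiv (boolFamEquiv (R := R) (X := X) (Y := Y))

end etprod

end Groth.Agent.Lib.Helper93.EtDescent
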