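import Mathlib

set_option autoImplicit false
open TensorProduct

namespace Groth.Agent.Lib.Helper93.FlatFibreIso

/-- R1: if `C = B / I` is `R`-flat and `I` dies in `K ⊗[R] B`, then `K ⊗[R] I = 0`. -/
theorem subsingleton_tensor_ker {R B C K : Type*} [CommRing R] [CommRing B] [CommRing C]
    [CommRing K] [Algebra R B] [Algebra R C] [Algebra B C] [IsScalarTower R B C] [Algebra R K]
    [Module.Flat R C] (hsurj : Function.Surjective (algebraMap B C))
    (H : ∀ a ∈ RingHom.ker (algebraMap B C), (1 : K) ⊗ₜ[R] (a : B) = 0) :
    Subsingleton (K ⊗[R] (RingHom.ker (algebraMap B C))) := by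
  let I : Ideal B := RingHom.ker (algebraMap B C)
  let g : I →ₗ[R] B := I.subtype.restrictScalars R
  let f : B →ₗ[R] C := (IsScalarTower.toAlgHom R B C).toLinearMap
  have hg : Function.Injective g := Subtype.val_injective
  have hex : Function.Exact g f := by
    intro b
    constructor
    · intro hb
      exact ⟨⟨b, hb⟩, rfl⟩
    · rintro ⟨a, rfl⟩
      exact a.2
  have hinj : Function.Injective (g.lTensor K) :=
    LinearMap.lTensor_injective_of_exact_of_flat f hsurj g hg hex K
  have hzero : ∀ z : K ⊗[R] I, g.lTensor K z = 0 := by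
    intro z
    induction z using TensorProduct.induction_on with
    | zero => simp
    | tmul c a =>
      rw [LinearMap.lTensor_tmul]
      have h1 : c ⊗ₜ[R] (g a) = c • ((1 : K) ⊗ₜ[R] (a : B)) := by
        rw [TensorProduct.smul_tmul', smul_eq_mul, mul_one]; rfl
      rw [h1, H a a.2, smul_zero]
    | add x y hx hy => rw [map_add, hx, hy, add_zero]
  refine ⟨fun z w => hinj ?_⟩
  rw [hzero z, hzero w]


/-- R2: transfer of vanishing `K ⊗[R] I = 0` to `L ⊗[B] I = 0` for an `R`-algebra `K` and a
`B`-algebra `L` receiving `K` compatibly. -/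
theorem subsingleton_tensor_of_subsingleton {R B K L : Type*} [CommRing R] [CommRing B]
    [CommRing K] [CommRing L] [Algebra R B] [Algebra R K] [Algebra R L] [Algebra B L]
    [Algebra K L] [IsScalarTower R B L] [IsScalarTower R K L] (I : Ideal B)
    [Subsingleton (K ⊗[R] I)] : Subsingleton (L ⊗[B] I) := by
  let F : K ⊗[R] I →+ L ⊗[B] I := TensorProduct.liftAddHom
    { toFun := fun c =>
        { toFun := fun a => (algebraMap K L c) ⊗ₜ[B] a
          map_zero' := by simp
          map_add' := fun a b => by rw [TensorProduct.tmul_add] }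
      map_zero' := by ext a; simp
      map_add' := fun c d => by ext a; simp [TensorProduct.add_tmul] }
    (by
      intro r c a
      simp only [AddMonoidHom.coe_mk, ZeroHom.coe_mk]
      have h1 : algebraMap K L (r • c) = (algebraMap R B r) • algebraMap K L c := by
        rw [Algebra.smul_def, map_mul, ← IsScalarTower.algebraMap_apply R K L,
          IsScalarTower.algebraMap_apply R B L, Algebra.smul_def]
      have h2 : (r • a : I) = (algebraMap R B r) • a := by
        ext
        simp [Algebra.smul_def]
      rw [h1, h2, TensorProduct.smul_tmul])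
  have hF : ∀ (c : K) (a : I), F (c ⊗ₜ[R] a) = (algebraMap K L c) ⊗ₜ[B] a := fun c a => rfl
  have hone : ∀ a : I, (1 : L) ⊗ₜ[B] a = 0 := by
    intro a
    have : F ((1 : K) ⊗ₜ[R] a) = F 0 := congrArg F (Subsingleton.elim _ _)
    rw [hF, map_one, map_zero] at this
    exact this
  have hall : ∀ z : L ⊗[B] I, z = 0 := by
    intro z
    induction z using TensorProduct.induction_on with
    | zero => rfl
    | tmul l a =>
      have : l ⊗ₜ[B] a = l • ((1 : L) ⊗ₜ[B] a) := by
        rw [TensorProduct.smul_tmul', smul_eq_mul, mul_one]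
      rw [this, hone, smul_zero]
    | add x y hx hy => rw [hx, hy, add_zero]
  exact ⟨fun z w => (hall z).trans (hall w).symm⟩

/-- R3: Nakayama in the form: if `L ⊗[B] M = 0` for a field `L` over `B` and a finite module `M`,
then some element of the annihilator of `M` is nonzero in `L`. -/
theorem exists_mem_annihilator_algebraMap_ne_zero {B L M : Type*} [CommRing B] [Field L]
    [Algebra B L] [AddCommGroup M] [Module B M] [Module.Finite B M]
    [Subsingleton (L ⊗[B] M)] : ∃ b ∈ Module.annihilator B M, algebraMap B L b ≠ 0 := by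
  let q : Ideal B := RingHom.ker (algebraMap B L)
  have hq : q.IsPrime := RingHom.ker_isPrime _
  let κ := q.ResidueField
  let lift : κ →+* L := Ideal.ResidueField.lift q (algebraMap B L) le_rfl (by
    intro b hb
    have : algebraMap B L b ≠ 0 := hb
    exact isUnit_iff_ne_zero.mpr this)
  let _ : Algebra κ L := lift.toAlgebra
  have : IsScalarTower B κ L := IsScalarTower.of_algebraMap_eq (fun b => by
    rw [RingHom.algebraMap_toAlgebra]
    exact (Ideal.ResidueField.lift_algebraMap q (algebraMap B L) _ _ b).symm)
  let e := TensorProduct.AlgebraTensorModule.cancelBaseChange B κ κ L M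
  have h1 : Subsingleton (L ⊗[κ] (κ ⊗[B] M)) := e.toEquiv.subsingleton
  have h2 : Subsingleton (κ ⊗[B] M) := Module.FaithfullyFlat.lTensor_reflects_triviality κ L _
  have h3 : (⟨q, hq⟩ : PrimeSpectrum B) ∉ Module.support B M := by
    rw [Module.mem_support_iff_nontrivial_residueField_tensorProduct]
    exact not_nontrivial_iff_subsingleton.mpr h2
  rw [Module.mem_support_iff_of_finite] at h3
  obtain ⟨b, hb, hbq⟩ := Set.not_subset.mp h3
  exact ⟨b, hb, hbq⟩

/-- If `b` kills `ker φ`, the map induced by `φ` on localizations away from `b` is injective. -/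
theorem injective_of_away {B C B' C' : Type*} [CommRing B] [CommRing C] [CommRing B'] [CommRing C']
    [Algebra B B'] [Algebra C C'] (φ : B →+* C) (b : B) [IsLocalization.Away b B']
    (c : C) (hc : φ b = c) [IsLocalization.Away c C'] (ψ : B' →+* C')
    (hψ : ψ.comp (algebraMap B B') = (algebraMap C C').comp φ)
    (hb : ∀ a ∈ RingHom.ker φ, b * a = 0) : Function.Injective ψ := by
  subst hc
  rw [injective_iff_map_eq_zero]
  intro a' ha'
  obtain ⟨n, x, hx⟩ := IsLocalization.Away.surj b a'
  have hbunit : IsUnit (algebraMap B B' b) := IsLocalization.Away.algebraMap_isUnit b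
  have h1 : algebraMap C C' (φ x) = 0 := by
    have := congrArg ψ hx
    rw [map_mul, ha', zero_mul] at this
    have h2 : ψ (algebraMap B B' x) = algebraMap C C' (φ x) := congrArg (fun f => f x) hψ
    rw [← h2, ← this]
  obtain ⟨⟨_, m, rfl⟩, hm⟩ := (IsLocalization.map_eq_zero_iff (Submonoid.powers (φ b)) C' _).mp h1
  have h3 : b ^ m * x ∈ RingHom.ker φ := by
    rw [RingHom.mem_ker, map_mul, map_pow]; exact hm
  have h4 : b * (b ^ m * x) = 0 := hb _ h3
  have h5 : algebraMap B B' x = 0 := by
    have := congrArg (algebraMap B B') h4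
    rw [map_mul, map_mul, map_pow, map_zero, ← mul_assoc, ← pow_succ'] at this
    exact (hbunit.pow (m + 1)).mul_right_eq_zero.mp this
  rw [h5] at hx
  exact (hbunit.pow n).mul_left_eq_zero.mp hx


end Groth.Agent.Lib.Helper93.FlatFibreIso
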