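import Mathlib
import Groth.Agent.Lib.Helper93.FlatFibreIso

set_option autoImplicit false
universe u
open CategoryTheory CategoryTheory.Limits AlgebraicGeometry TopologicalSpace TensorProduct

namespace Groth.Agent.Lib.Helper93.FlatFibreIso

theorem fromSpecResidueField_eq {S : Scheme.{u}} {W : S.Opens} (hW : IsAffineOpen W) (s : S)
    (hsW : s ∈ W) :
    S.fromSpecResidueField s = Spec.map (S.evaluation W s hsW) ≫ hW.fromSpec := by
  rw [Scheme.fromSpecResidueField, ← hW.fromSpecStalk_eq_fromSpecStalk hsW,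
    IsAffineOpen.fromSpecStalk, ← Category.assoc, ← Spec.map_comp]
  rfl

theorem evaluation_comp {S Y : Scheme.{u}} (h : Y ⟶ S) (W : S.Opens) (V : Y.Opens)
    (hVW : V ≤ h ⁻¹ᵁ W) (y : Y) (hyV : y ∈ V) :
    h.appLE W V hVW ≫ Y.evaluation V y hyV =
      S.evaluation W (h y) (hVW hyV) ≫ h.residueFieldMap y := by
  rw [Scheme.evaluation_naturality, Scheme.Hom.appLE, Category.assoc]
  congr 1
  rw [← Scheme.germ_residue, ← Scheme.germ_residue, ← Category.assoc]
  congr 1
  exact Y.presheaf.germ_res (homOfLE hVW) y hyV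

/-- The factorisation property of an isomorphism on fibres. -/
theorem exists_lift_of_isIso_fibre {S X Y : Scheme.{u}} (s : S) (g : X ⟶ S) (h : Y ⟶ S)
    (p : X ⟶ Y) (e₁ : g ≫ 𝟙 S = p ≫ h)
    (e₂ : S.fromSpecResidueField s ≫ 𝟙 S = 𝟙 _ ≫ S.fromSpecResidueField s)
    (hs : IsIso (pullback.map g (S.fromSpecResidueField s) h (S.fromSpecResidueField s) p (𝟙 _)
      (𝟙 _) e₁ e₂))
    {T : Scheme.{u}} (t : T ⟶ Y) (u : T ⟶ Spec (S.residueField s))
    (htu : t ≫ h = u ≫ S.fromSpecResidueField s) : ∃ σ : T ⟶ X, σ ≫ p = t := by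
  set φ := pullback.map g (S.fromSpecResidueField s) h (S.fromSpecResidueField s) p (𝟙 _)
      (𝟙 _) e₁ e₂ with hφ
  have h1 : φ ≫ pullback.fst h _ = pullback.fst g _ ≫ p := pullback.lift_fst _ _ _
  refine ⟨pullback.lift t u htu ≫ inv φ ≫ pullback.fst g _, ?_⟩
  rw [Category.assoc, Category.assoc, ← h1, IsIso.inv_hom_id_assoc, pullback.lift_fst]


/-- The key step: injectivity of `p.app D(b)` from `b • ker (p.app V) = 0`. -/
theorem injective_app_basicOpen {X Y : Scheme.{u}} (p : X ⟶ Y) {V : Y.Opens} (hV : IsAffineOpen V)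
    (hU : IsAffineOpen (p ⁻¹ᵁ V)) (b : Γ(Y, V))
    (hb : ∀ a ∈ RingHom.ker (p.app V).hom, b * a = 0) :
    Function.Injective (p.app (Y.basicOpen b)).hom := by
  obtain ⟨c, hc⟩ : ∃ c : Γ(X, p ⁻¹ᵁ V), (p.app V).hom b = c := ⟨_, rfl⟩
  have e : X.basicOpen c ≤ p ⁻¹ᵁ Y.basicOpen b := by
    rw [← hc]; exact (Scheme.preimage_basicOpen p b).ge
  have h1 : Function.Injective (p.appLE (Y.basicOpen b) (X.basicOpen c) e).hom := by
    have := hV.isLocalization_basicOpen b
    have := hU.isLocalization_basicOpen c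
    apply injective_of_away (p.app V).hom b c hc (p.appLE (Y.basicOpen b) (X.basicOpen c) e).hom
      _ hb
    ext x
    simp only [RingHom.algebraMap_toAlgebra, ← CommRingCat.hom_comp]
    rw [Scheme.Hom.map_appLE, Scheme.Hom.app_eq_appLE, Scheme.Hom.appLE_map]
  rw [Scheme.Hom.appLE, CommRingCat.hom_comp] at h1
  exact Function.Injective.of_comp h1


/-- A closed immersion `p : X ⟶ Y` over `S` with `X` flat over `S` which, over the fibre of `y`,
admits sections through every point of the fibre (factorisation property), is an isomorphism near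
`y`. -/
theorem exists_isIso_morphismRestrict_of_isClosedImmersion {S X Y : Scheme.{u}} (h : Y ⟶ S)
    (p : X ⟶ Y) [Flat (p ≫ h)] [IsLocallyNoetherian Y] [IsClosedImmersion p] (y : Y) (s : S)
    (hys : h y = s)
    (hfac : ∀ (T : Scheme.{u}) (t : T ⟶ Y) (u : T ⟶ Spec (S.residueField s)),
      t ≫ h = u ≫ S.fromSpecResidueField s → ∃ σ : T ⟶ X, σ ≫ p = t) :
    ∃ V : Y.Opens, y ∈ V ∧ IsIso (p ∣_ V) := by
  subst hys
  obtain ⟨_, ⟨W, hW, rfl⟩, hsW, -⟩ := S.isBasis_affineOpens.exists_subset_of_mem_open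
    (Set.mem_univ (h y)) isOpen_univ
  obtain ⟨_, ⟨V, hV, rfl⟩, hyV, hVW⟩ := Y.isBasis_affineOpens.exists_subset_of_mem_open
    (show y ∈ h ⁻¹ᵁ W from hsW) (h ⁻¹ᵁ W).isOpen
  have hU : IsAffineOpen (p ⁻¹ᵁ V) := hV.preimage p
  have hφsurj : Function.Surjective (p.app V).hom := p.app_surjective V hV
  -- the rings
  let α := h.appLE W V hVW
  let ρ := S.evaluation W (h y) hsW
  let β := Y.evaluation V y hyV
  let κ := h.residueFieldMap y
  have hcompat : α ≫ β = ρ ≫ κ := evaluation_comp h W V hVW y hyV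
  have hflat : ((p.app V).hom.comp α.hom).Flat := by
    have := Scheme.Hom.flat_appLE (p ≫ h) hW hU
      (show p ⁻¹ᵁ V ≤ (p ≫ h) ⁻¹ᵁ W from fun z hz => hVW hz)
    have heq : α ≫ p.app V = (p ≫ h).appLE W (p ⁻¹ᵁ V) (fun z hz => hVW hz) := by
      rw [Scheme.Hom.app_eq_appLE, Scheme.Hom.appLE_comp_appLE]
    rw [← heq] at this
    exact this
  -- algebra structures
  algebraize [α.hom, (p.app V).hom, (p.app V).hom.comp α.hom, ρ.hom, β.hom, κ.hom,
    κ.hom.comp ρ.hom]
  have htower : IsScalarTower Γ(S, W) Γ(Y, V) (Y.residueField y) := by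
    apply IsScalarTower.of_algebraMap_eq
    intro r
    simp only [RingHom.algebraMap_toAlgebra]
    exact congrArg (fun f => f.hom r) hcompat.symm
  -- the test scheme
  let P := CommRingCat.of ((S.residueField (h y)) ⊗[Γ(S, W)] Γ(Y, V))
  let inclR : Γ(Y, V) ⟶ P := CommRingCat.ofHom
    (Algebra.TensorProduct.includeRight (R := Γ(S, W)) (A := S.residueField (h y))
      (B := Γ(Y, V))).toRingHom
  let inclL : S.residueField (h y) ⟶ P := CommRingCat.ofHom
    (Algebra.TensorProduct.includeLeftRingHom (R := Γ(S, W)) (A := S.residueField (h y))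
      (B := Γ(Y, V)))
  have hincl : α ≫ inclR = ρ ≫ inclL := by
    ext r
    exact (congrArg (fun f => f r) (Algebra.TensorProduct.includeLeftRingHom_comp_algebraMap
      (R := Γ(S, W)) (A := S.residueField (h y)) (B := Γ(Y, V)))).symm
  let t : Spec P ⟶ Y := Spec.map inclR ≫ hV.fromSpec
  let u : Spec P ⟶ Spec (S.residueField (h y)) := Spec.map inclL
  have htu : t ≫ h = u ≫ S.fromSpecResidueField (h y) := by
    rw [fromSpecResidueField_eq hW (h y) hsW]
    simp only [t, u, Category.assoc]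
    rw [← IsAffineOpen.SpecMap_appLE_fromSpec h hW hV hVW, ← Category.assoc, ← Category.assoc,
      ← Spec.map_comp, ← Spec.map_comp]
    exact congrArg (fun f => Spec.map f ≫ hW.fromSpec) hincl
  obtain ⟨σ, hσ⟩ := hfac (Spec P) t u htu
  -- `σ` factors through the affine open `p ⁻¹ᵁ V`
  have hσU : Set.range σ ⊆ Set.range hU.fromSpec := by
    rw [hU.range_fromSpec]
    rintro _ ⟨z, rfl⟩
    change p (σ z) ∈ V
    rw [← Scheme.Hom.comp_apply, hσ]
    have : t z ∈ Set.range hV.fromSpec := ⟨Spec.map inclR z, rfl⟩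
    rw [hV.range_fromSpec] at this
    exact this
  let σ' := IsOpenImmersion.lift hU.fromSpec σ hσU
  have hσ' : σ' ≫ hU.fromSpec = σ := IsOpenImmersion.lift_fac _ _ _
  obtain ⟨γ, hγ⟩ : ∃ γ : Γ(X, p ⁻¹ᵁ V) ⟶ P, Spec.map γ = σ' := ⟨_, Spec.map_preimage _⟩
  have hkey : p.app V ≫ γ = inclR := by
    apply Spec.map_injective
    rw [← cancel_mono hV.fromSpec, Spec.map_comp, Category.assoc]
    have h1 : Spec.map (p.app V) ≫ hV.fromSpec = hU.fromSpec ≫ p := by
      rw [Scheme.Hom.app_eq_appLE]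
      exact IsAffineOpen.SpecMap_appLE_fromSpec p hV hU le_rfl
    rw [h1, hγ, ← Category.assoc, hσ', hσ]
  have H : ∀ a ∈ RingHom.ker (algebraMap Γ(Y, V) Γ(X, p ⁻¹ᵁ V)),
      (1 : S.residueField (h y)) ⊗ₜ[Γ(S, W)] (a : Γ(Y, V)) = 0 := by
    intro a ha
    have h1 : inclR.hom a = γ.hom ((p.app V).hom a) := (congrArg (fun f => f.hom a) hkey).symm
    have h2 : (p.app V).hom a = 0 := ha
    rw [h2, map_zero] at h1
    exact h1
  have hflat' : Module.Flat Γ(S, W) Γ(X, p ⁻¹ᵁ V) := hflat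
  have hsurj' : Function.Surjective (algebraMap Γ(Y, V) Γ(X, p ⁻¹ᵁ V)) := hφsurj
  have hR1 := subsingleton_tensor_ker (R := Γ(S, W)) (B := Γ(Y, V)) (C := Γ(X, p ⁻¹ᵁ V))
    (K := S.residueField (h y)) hsurj' H
  have hR2 := subsingleton_tensor_of_subsingleton (R := Γ(S, W)) (B := Γ(Y, V))
    (K := S.residueField (h y)) (L := Y.residueField y)
    (RingHom.ker (algebraMap Γ(Y, V) Γ(X, p ⁻¹ᵁ V)))
  have hNoeth : IsNoetherianRing Γ(Y, V) := IsLocallyNoetherian.component_noetherian ⟨V, hV⟩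
  have hfin : Module.Finite Γ(Y, V) (RingHom.ker (algebraMap Γ(Y, V) Γ(X, p ⁻¹ᵁ V))) :=
    Module.IsNoetherian.finite _ _
  obtain ⟨b, hbann, hbne⟩ := exists_mem_annihilator_algebraMap_ne_zero (B := Γ(Y, V))
    (L := Y.residueField y) (M := RingHom.ker (algebraMap Γ(Y, V) Γ(X, p ⁻¹ᵁ V)))
  have hyb : y ∈ Y.basicOpen b := (Y.evaluation_ne_zero_iff_mem_basicOpen y hyV b).mp hbne
  have hb : ∀ a ∈ RingHom.ker (p.app V).hom, b * a = 0 := by
    intro a ha
    have := Module.mem_annihilator.mp hbann ⟨a, ha⟩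
    exact congrArg Subtype.val this
  have hinj := injective_app_basicOpen p hV hU b hb
  refine ⟨Y.basicOpen b, hyb, ?_⟩
  have : IsClosedImmersion (p ∣_ Y.basicOpen b) := IsZariskiLocalAtTarget.restrict ‹_› _
  have : IsAffine (Y.basicOpen b).toScheme := hV.basicOpen b
  apply IsClosedImmersion.isIso_of_injective_of_isAffine
  rw [morphismRestrict_appTop]
  change Function.Injective ((X.presheaf.map (eqToHom _).op).hom ∘
    (p.app ((Y.basicOpen b).ι ''ᵁ ⊤)).hom)
  refine Function.Injective.comp ?_ ?_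
  · exact (ConcreteCategory.bijective_of_isIso _).1
  · have : ∀ D : Y.Opens, D = Y.basicOpen b → Function.Injective (p.app D).hom := by
      rintro D rfl; exact hinj
    exact this _ (by simp)


/-- Transfer from the restriction `p ∣_ h ⁻¹ᵁ U` to the base change `X_U ⟶ Y_U`. -/
theorem isIso_pullbackMap_of_isIso_morphismRestrict {S X Y : Scheme.{u}} (g : X ⟶ S) (h : Y ⟶ S)
    (p : X ⟶ Y) (U : S.Opens) (e₁ : g ≫ 𝟙 S = p ≫ h) (e₂ : U.ι ≫ 𝟙 S = 𝟙 _ ≫ U.ι)
    [IsIso (p ∣_ h ⁻¹ᵁ U)] : IsIso (pullback.map g U.ι h U.ι p (𝟙 _) (𝟙 _) e₁ e₂) := by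
  have hw : g = p ≫ h := by rw [← e₁, Category.comp_id]
  subst hw
  set m := pullback.map (p ≫ h) U.ι h U.ι p (𝟙 _) (𝟙 _) e₁ e₂ with hm
  let V := h ⁻¹ᵁ U
  let iV := pullback.fst h U.ι
  let iU := pullback.fst (p ≫ h) U.ι
  have hiV : iV.opensRange = V := by
    rw [Scheme.Hom.opensRange_pullbackFst, Scheme.Opens.opensRange_ι]
  have hiU : iU.opensRange = p ⁻¹ᵁ V := by
    rw [Scheme.Hom.opensRange_pullbackFst, Scheme.Opens.opensRange_ι]
    rfl
  have hH : iU ≫ p = m ≫ iV := (pullback.lift_fst _ _ _).symm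
  have big : IsPullback m iU iV p := IsOpenImmersion.isPullback m iU iV p hH (by rw [hiV, hiU])
  let e := IsOpenImmersion.isoOfRangeEq iV V.ι (by
    rw [Scheme.Opens.range_ι]; exact congrArg (fun O : Y.Opens => (O : Set Y)) hiV)
  have he : e.hom ≫ V.ι = iV := IsOpenImmersion.isoOfRangeEq_hom_fac _ _ _
  let k := IsOpenImmersion.lift (p ⁻¹ᵁ V).ι iU (by
    rw [Scheme.Opens.range_ι]
    exact (congrArg (fun O : X.Opens => (O : Set X)) hiU).le)
  have hk : k ≫ (p ⁻¹ᵁ V).ι = iU := IsOpenImmersion.lift_fac _ _ _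
  have hcomm : m ≫ e.hom = k ≫ p ∣_ V := by
    rw [← cancel_mono V.ι, Category.assoc, Category.assoc, he, morphismRestrict_ι, ← Category.assoc,
      hk, hH]
  have big' : IsPullback m (k ≫ (p ⁻¹ᵁ V).ι) (e.hom ≫ V.ι) p := by
    rw [hk, he]; exact big
  have left := IsPullback.of_bot big' hcomm (isPullback_morphismRestrict p V)
  exact left.isIso_fst_of_isIso

end Groth.Agent.Lib.Helper93.FlatFibreIso
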