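import Mathlib
import Groth.Agent.Lib.Helper93.FlatFibreIso2
import Groth.Agent.Lib.Helper93.NearFibre

set_option autoImplicit false
universe u
open CategoryTheory CategoryTheory.Limits AlgebraicGeometry TopologicalSpace TensorProduct

namespace Groth.Agent.Lib.Helper93.FlatFibreIso

theorem exists_isIso_pullbackMap
    {S X Y : Scheme.{u}} [IsNoetherian S] (s : S) (g : X ⟶ S) (h : Y ⟶ S) (p : X ⟶ Y)
    (w : p ≫ h = g) [IsProper g] [IsProper h] [Flat g]
    (e₁ : g ≫ 𝟙 S = p ≫ h)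
    (e₂ : S.fromSpecResidueField s ≫ 𝟙 S = 𝟙 _ ≫ S.fromSpecResidueField s)
    (hs : IsIso (pullback.map g (S.fromSpecResidueField s) h (S.fromSpecResidueField s) p (𝟙 _)
      (𝟙 _) e₁ e₂)) :
    ∃ U : S.Opens, s ∈ U ∧ IsIso (p ∣_ h ⁻¹ᵁ U) := by
  subst w
  have hp : IsProper p := IsProper.of_comp p h
  have hcl : IsClosedMap h := h.isClosedMap
  have hYN : IsLocallyNoetherian Y := LocallyOfFiniteType.isLocallyNoetherian h
  have key : ∀ y, h y = s → ∃ V : Y.Opens, y ∈ V ∧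
      (MorphismProperty.isomorphisms Scheme.{u}) (p ∣_ V) := by
    intro y hy
    have hmono : Mono (pullback.map (p ≫ h) (S.fromSpecResidueField s) h
        (S.fromSpecResidueField s) p (𝟙 _) (𝟙 _) e₁ e₂) := inferInstance
    have := Groth.Agent.Lib.Helper93.NearFibre.mono_fiberToSpecResidueField_of_mono_fiberMap p
      (p ≫ h) h rfl s y hy e₁ e₂
    obtain ⟨V₁, hyV₁, hV₁⟩ := Groth.Agent.Lib.Helper93.NearFibre.exists_mono_morphismRestrict p y
    have hci : IsClosedImmersion (p ∣_ V₁) := by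
      rw [IsClosedImmersion.iff_isProper_and_mono]
      exact ⟨inferInstance, hV₁⟩
    -- apply the local lemma to `p ∣_ V₁`
    let p' := p ∣_ V₁
    let h' := V₁.ι ≫ h
    let y' : V₁.toScheme := ⟨y, hyV₁⟩
    have hflat' : Flat (p' ≫ h') := by
      have : p' ≫ h' = (p ⁻¹ᵁ V₁).ι ≫ p ≫ h := by
        simp only [p', h', ← Category.assoc, morphismRestrict_ι]
      rw [this]
      infer_instance
    have hys' : h' y' = s := hy
    have hfac : ∀ (T : Scheme.{u}) (t : T ⟶ V₁.toScheme) (u : T ⟶ Spec (S.residueField s)),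
        t ≫ h' = u ≫ S.fromSpecResidueField s → ∃ σ : T ⟶ (p ⁻¹ᵁ V₁).toScheme, σ ≫ p' = t := by
      intro T t u htu
      obtain ⟨σ, hσ⟩ := exists_lift_of_isIso_fibre s (p ≫ h) h p e₁ e₂ hs (t ≫ V₁.ι) u
        (by rw [Category.assoc]; exact htu)
      have hr : Set.range σ ⊆ Set.range (p ⁻¹ᵁ V₁).ι := by
        rw [Scheme.Opens.range_ι]
        rintro _ ⟨z, rfl⟩
        change p (σ z) ∈ V₁
        rw [← Scheme.Hom.comp_apply, hσ, Scheme.Hom.comp_apply]
        exact (t z).2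
      refine ⟨IsOpenImmersion.lift (p ⁻¹ᵁ V₁).ι σ hr, ?_⟩
      rw [← cancel_mono V₁.ι, Category.assoc, morphismRestrict_ι, ← Category.assoc,
        IsOpenImmersion.lift_fac, hσ]
    obtain ⟨V', hyV', hV'⟩ := exists_isIso_morphismRestrict_of_isClosedImmersion h' p' y' s hys' hfac
    refine ⟨V₁.ι ''ᵁ V', ⟨y', hyV', rfl⟩, ?_⟩
    exact ((MorphismProperty.isomorphisms Scheme.{u}).arrow_mk_iso_iff
      (morphismRestrictRestrict p V₁ V')).mp hV'
  obtain ⟨U, hsU, hU⟩ := Groth.Agent.Lib.Helper93.NearFibre.exists_nhds_morphismRestrict_of_fibre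
    (MorphismProperty.isomorphisms Scheme.{u}) p h hcl s key
  exact ⟨U, hsU, hU⟩

end Groth.Agent.Lib.Helper93.FlatFibreIso
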