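import Mathlib

set_option autoImplicit false

namespace Groth.Agent.Lib.Helper93.GenClosed

/-- In a Noetherian domain, if `t ≠ 0` lies in every nonzero prime below the prime `n`, then
`n` is the only nonzero prime below `n` (i.e. `n` has height `≤ 1`). -/
theorem eq_of_forall_mem_of_le {D : Type*} [CommRing D] [IsDomain D] [IsNoetherianRing D]
    (n : Ideal D) [hn : n.IsPrime] (t : D) (ht0 : t ≠ 0) (htn : t ∈ n)
    (H : ∀ P : Ideal D, P.IsPrime → P ≠ ⊥ → P ≤ n → t ∈ P)
    (P : Ideal D) [hP : P.IsPrime] (hP0 : P ≠ ⊥) (hPn : P ≤ n) : P = n := by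
  classical
  by_contra hne
  have hlt : P < n := lt_of_le_of_ne hPn hne
  set I : Ideal D := Ideal.span {t} with hI
  have hIn : I ≤ n := (Ideal.span_singleton_le_iff_mem _).mpr htn
  have hfin : I.minimalPrimes.Finite := Ideal.finite_minimalPrimes_of_isNoetherianRing D I
  have hheight : ∀ Q ∈ I.minimalPrimes, Q.height ≤ 1 := fun Q hQ =>
    Ideal.height_le_one_of_isPrincipal_of_mem_minimalPrimes I Q hQ
  have hstep : ∀ (Q Q' : Ideal D), Q.IsPrime → Q'.IsPrime → Q'.height ≤ 1 → Q < Q' → Q = ⊥ := by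
    intro Q Q' hQ hQ' hh hlt
    have h1 := Ideal.height_add_one_le_of_lt_of_isPrime hlt
    have h2 : Q.height + 1 ≤ 1 := h1.trans hh
    have h3 : Q.height = 0 := by
      have : Q.height + 1 ≤ 0 + 1 := by simpa using h2
      exact le_antisymm ((ENat.add_le_add_iff_right ENat.one_ne_top).mp this) zero_le
    exact Ideal.height_eq_zero_iff_eq_bot.mp h3
  have hnM : n ∉ I.minimalPrimes := fun h => hP0 (hstep P n hP hn (hheight n h) hlt)
  have hnle : ∀ Q ∈ I.minimalPrimes, ¬ n ≤ Q := by
    intro Q hQ hnQ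
    have h1 : Q ≤ n := hQ.2 ⟨hn, hIn⟩ hnQ
    have h2 : Q = n := le_antisymm h1 hnQ
    exact hnM (h2 ▸ hQ)
  obtain ⟨s, hsn, hs⟩ : ∃ s ∈ n, ∀ Q ∈ I.minimalPrimes, s ∉ Q := by
    by_contra hcon
    push Not at hcon
    have hsub : (n : Set D) ⊆ ⋃ Q ∈ (hfin.toFinset : Set (Ideal D)), ((id Q : Ideal D) : Set D) := by
      intro s hs
      obtain ⟨Q, hQ, hsQ⟩ := hcon s hs
      simp only [Set.Finite.coe_toFinset, id_eq, Set.mem_iUnion, SetLike.mem_coe, exists_prop]
      exact ⟨Q, hQ, hsQ⟩
    rw [Ideal.subset_union_prime (f := id) ⊥ ⊥ (fun Q hQ _ _ => by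
      have : Q ∈ I.minimalPrimes := by simpa using hQ
      exact this.1.1)] at hsub
    obtain ⟨Q, hQ, hnQ⟩ := hsub
    exact hnle Q (by simpa using hQ) hnQ
  obtain ⟨P', hP'min, hP'n⟩ := Ideal.exists_minimalPrimes_le
    (I := Ideal.span {s}) (J := n) ((Ideal.span_singleton_le_iff_mem _).mpr hsn)
  have hP'prime : P'.IsPrime := hP'min.1.1
  have hsP' : s ∈ P' := hP'min.1.2 (Ideal.mem_span_singleton_self s)
  obtain ⟨Q0, hQ0, hQ0n⟩ := Ideal.exists_minimalPrimes_le hIn
  have hs0 : s ≠ 0 := fun h => hs Q0 hQ0 (h ▸ Q0.zero_mem)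
  have hP'0 : P' ≠ ⊥ := fun h => hs0 (by simpa [h] using hsP')
  have htP' : t ∈ P' := H P' hP'prime hP'0 hP'n
  obtain ⟨Q, hQ, hQP'⟩ := Ideal.exists_minimalPrimes_le (I := I) (J := P')
    ((Ideal.span_singleton_le_iff_mem _).mpr htP')
  have hP'h : P'.height ≤ 1 :=
    Ideal.height_le_one_of_isPrincipal_of_mem_minimalPrimes (Ideal.span {s}) P' hP'min
  have htQ : t ∈ Q := hQ.1.2 (Ideal.mem_span_singleton_self t)
  have hQ0' : Q ≠ ⊥ := fun h => ht0 (by simpa [h] using htQ)
  have hQprime : Q.IsPrime := hQ.1.1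
  have hQeq : Q = P' := by
    by_contra hne'
    exact hQ0' (hstep Q P' hQprime hP'prime hP'h (lt_of_le_of_ne hQP' hne'))
  exact hs Q hQ (hQeq ▸ hsP')


/-- A maximal ideal of a finite type algebra over a Noetherian ring which is minimal over the
extension of its contraction is isolated in its fibre. -/
theorem quasiFiniteAt_of_minimal {R D : Type*} [CommRing R] [CommRing D] [Algebra R D]
    [Algebra.FiniteType R D] [IsNoetherianRing R]
    (n : Ideal D) [hn : n.IsMaximal]
    (hmin : ∀ P : Ideal D, P.IsPrime → (n.under R).map (algebraMap R D) ≤ P → P ≤ n → P = n) :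
    Algebra.QuasiFiniteAt R n := by
  have hN : IsNoetherianRing D := Algebra.FiniteType.isNoetherianRing R D
  let q : PrimeSpectrum D := ⟨n, hn.isPrime⟩
  refine Algebra.QuasiFiniteAt.of_isOpen_singleton_fiber q ?_
  set J : Ideal D := (n.under R).map (algebraMap R D) with hJ
  have hfin : J.minimalPrimes.Finite := Ideal.finite_minimalPrimes_of_isNoetherianRing D J
  let C : Set (PrimeSpectrum D) := ⋃ Q ∈ (J.minimalPrimes \ {n}), PrimeSpectrum.zeroLocus (Q : Set D)
  have hC : IsClosed C :=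
    (hfin.subset Set.sdiff_subset).isClosed_biUnion fun Q _ => PrimeSpectrum.isClosed_zeroLocus _
  have key : ({⟨q, rfl⟩} : Set (PrimeSpectrum.comap (algebraMap R D) ⁻¹'
      {q.comap (algebraMap R D)})) = Subtype.val ⁻¹' Cᶜ := by
    ext ⟨P, hP⟩
    simp only [Set.mem_singleton_iff, Subtype.mk.injEq, Set.mem_preimage, Set.mem_compl_iff]
    constructor
    · rintro rfl
      simp only [C, Set.mem_iUnion, not_exists]
      rintro Q ⟨hQM, hQn⟩ hQ
      have hQle : Q ≤ n := by
        rw [PrimeSpectrum.mem_zeroLocus] at hQ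
        exact hQ
      exact hQn (hmin Q hQM.1.1 hQM.1.2 hQle)
    · intro hPC
      have hPunder : P.asIdeal.under R = n.under R := by
        have := congrArg PrimeSpectrum.asIdeal hP
        exact this
      have hJP : J ≤ P.asIdeal := by
        rw [hJ, Ideal.map_le_iff_le_comap, ← hPunder]
      obtain ⟨Q, hQM, hQP⟩ := Ideal.exists_minimalPrimes_le hJP
      have hQn : Q = n := by
        by_contra hne
        apply hPC
        simp only [C, Set.mem_iUnion]
        exact ⟨Q, ⟨hQM, hne⟩, (PrimeSpectrum.mem_zeroLocus _ _).mpr hQP⟩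
      have hnP : n ≤ P.asIdeal := hQn ▸ hQP
      exact PrimeSpectrum.ext (hn.eq_of_le P.isPrime.ne_top hnP).symm
  rw [key]
  exact hC.isOpen_compl.preimage continuous_subtype_val


/-- A prime at which a finite type algebra is quasi-finite is closed in its fibre. -/
theorem isClosed_singleton_fiber {R S : Type*} [CommRing R] [CommRing S] [Algebra R S]
    [Algebra.FiniteType R S] (q : PrimeSpectrum S) [Algebra.QuasiFiniteAt R q.asIdeal] :
    IsClosed (X := PrimeSpectrum.comap (algebraMap R S) ⁻¹' {q.comap (algebraMap R S)})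
      {⟨q, rfl⟩} := by
  let p := q.comap (algebraMap R S)
  let e := PrimeSpectrum.preimageHomeomorphFiber R S p
  rw [← e.isClosed_image, Set.image_singleton]
  suffices Algebra.QuasiFiniteAt p.asIdeal.ResidueField (e ⟨q, rfl⟩).asIdeal from
    (Algebra.QuasiFiniteAt.isClopen_singleton (R := p.asIdeal.ResidueField) _).isClosed
  exact .baseChange q.asIdeal _ congr($(e.symm_apply_apply ⟨q, rfl⟩).1.asIdeal).symm

theorem eq_of_le_of_under_eq_of_quasiFiniteAt {R S : Type*} [CommRing R] [CommRing S]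
    [Algebra R S] [Algebra.FiniteType R S] (Q P : Ideal S) [hQ : Q.IsPrime] [hP : P.IsPrime]
    [Algebra.QuasiFiniteAt R Q] (hle : Q ≤ P) (hunder : P.under R = Q.under R) : P = Q := by
  let q : PrimeSpectrum S := ⟨Q, hQ⟩
  let p : PrimeSpectrum S := ⟨P, hP⟩
  have hcl := isClosed_singleton_fiber (R := R) q
  have hpmem : p ∈ PrimeSpectrum.comap (algebraMap R S) ⁻¹' {q.comap (algebraMap R S)} :=
    PrimeSpectrum.ext hunder
  have hspec : (⟨q, rfl⟩ : PrimeSpectrum.comap (algebraMap R S) ⁻¹' {q.comap (algebraMap R S)}) ⤳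
      ⟨p, hpmem⟩ := by
    apply (Topology.IsInducing.subtypeVal.specializes_iff).mp
    exact (PrimeSpectrum.le_iff_specializes q p).mp hle
  have := hspec.mem_closed hcl rfl
  have h2 : p = q := congrArg Subtype.val this
  exact congrArg PrimeSpectrum.asIdeal h2


/-- Let `R ⊆ D` be a finite type extension of domains with `R` Noetherian, `n` a maximal ideal of
`D` over a height-one prime of `R`, such that every nonzero prime of `D` below `n` meets `R`
nontrivially. Then every nonzero prime of `D` meets `R` nontrivially. -/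
theorem eq_bot_of_under_eq_bot {R D : Type*} [CommRing R] [IsDomain R] [IsNoetherianRing R]
    [CommRing D] [IsDomain D] [Algebra R D] [Algebra.FiniteType R D]
    (hinj : Function.Injective (algebraMap R D))
    (n : Ideal D) [hn : n.IsMaximal]
    (hdim : ∀ p : Ideal R, p.IsPrime → p ≠ ⊥ → p ≤ n.under R → p = n.under R)
    (hm : n.under R ≠ ⊥)
    (H : ∀ P : Ideal D, P.IsPrime → P ≠ ⊥ → P ≤ n → P.under R ≠ ⊥)
    (P : Ideal D) [hP : P.IsPrime] (hPu : P.under R = ⊥) : P = ⊥ := by
  have hN : IsNoetherianRing D := Algebra.FiniteType.isNoetherianRing R D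
  obtain ⟨t, htm, ht0⟩ := Submodule.exists_mem_ne_zero_of_ne_bot hm
  have ht'n : algebraMap R D t ∈ n := htm
  have ht'0 : algebraMap R D t ≠ 0 := fun h => ht0 (hinj (by rw [h, map_zero]))
  have hall : ∀ P' : Ideal D, P'.IsPrime → P' ≠ ⊥ → P' ≤ n → algebraMap R D t ∈ P' := by
    intro P' hP' hP'0 hP'n
    have h1 : P'.under R = n.under R :=
      hdim _ (Ideal.IsPrime.under R P') (H P' hP' hP'0 hP'n) (Ideal.comap_mono hP'n)
    have : t ∈ P'.under R := h1 ▸ htm
    exact this
  have hK : ∀ P' : Ideal D, P'.IsPrime → P' ≠ ⊥ → P' ≤ n → P' = n := fun P' hP' hP'0 hP'n =>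
    eq_of_forall_mem_of_le n (algebraMap R D t) ht'0 ht'n hall P' hP'0 hP'n
  have hQF : Algebra.QuasiFiniteAt R n := by
    apply quasiFiniteAt_of_minimal
    intro P' hP' hle hP'n
    apply hK P' hP' _ hP'n
    intro h0
    have : algebraMap R D t ∈ P' := hle (Ideal.mem_map_of_mem _ htm)
    rw [h0] at this
    exact ht'0 (by simpa using this)
  have hbot : (⊥ : Ideal D).IsPrime := Ideal.isPrime_bot
  have hQF0 : Algebra.QuasiFiniteAt R (⊥ : Ideal D) := Algebra.QuasiFiniteAt.of_le (Q := n) bot_le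
  have hbu : (⊥ : Ideal D).under R = ⊥ := by
    rw [Ideal.under, Ideal.comap_bot_of_injective _ hinj]
  exact eq_of_le_of_under_eq_of_quasiFiniteAt (R := R) ⊥ P bot_le (hPu.trans hbu.symm)


/-- Let `A` be a finite type algebra over a Noetherian domain `R`, `m'` a maximal ideal of `A` over
a height-one prime of `R`, containing a prime lying over `0`. Then there is a prime `q ≤ m'` lying
over `0` which is maximal among *all* primes of `A` lying over `0`. -/
theorem exists_prime_le_maximal_under_eq_bot {R A : Type*} [CommRing R] [IsDomain R]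
    [IsNoetherianRing R] [CommRing A] [Algebra R A] [Algebra.FiniteType R A]
    (m' : Ideal A) [hm' : m'.IsMaximal]
    (hdim : ∀ p : Ideal R, p.IsPrime → p ≠ ⊥ → p ≤ m'.under R → p = m'.under R)
    (hm : m'.under R ≠ ⊥)
    (q0 : Ideal A) (hq0 : q0.IsPrime) (hq0m : q0 ≤ m') (hq0u : q0.under R = ⊥) :
    ∃ q : Ideal A, q.IsPrime ∧ q ≤ m' ∧ q.under R = ⊥ ∧
      ∀ q' : Ideal A, q'.IsPrime → q ≤ q' → q'.under R = ⊥ → q' = q := by
  have hN : IsNoetherianRing A := Algebra.FiniteType.isNoetherianRing R A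
  let S : Set (Ideal A) := {q | q.IsPrime ∧ q ≤ m' ∧ q.under R = ⊥}
  have hS : S.Nonempty := ⟨q0, hq0, hq0m, hq0u⟩
  obtain ⟨q, ⟨hq, hqm, hqu⟩, hmax⟩ :=
    (IsWellFounded.wf (r := ((· > ·) : Ideal A → Ideal A → Prop))).has_min S hS
  refine ⟨q, hq, hqm, hqu, ?_⟩
  -- the quotient domain
  let mk := Ideal.Quotient.mk q
  have hmk : Function.Surjective mk := Ideal.Quotient.mk_surjective
  have hker : RingHom.ker mk = q := Ideal.mk_ker
  have hcm : ∀ I : Ideal A, q ≤ I → (I.map mk).comap mk = I := by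
    intro I hI
    rw [Ideal.comap_map_of_surjective mk hmk, ← RingHom.ker_eq_comap_bot, hker, sup_eq_left.mpr hI]
  have hunder : ∀ P : Ideal (A ⧸ q), P.under R = (P.comap mk).under R := by
    intro P
    rw [Ideal.under, Ideal.under, Ideal.comap_comap]
    rfl
  have hinj : Function.Injective (algebraMap R (A ⧸ q)) := by
    rw [RingHom.injective_iff_ker_eq_bot]
    have : RingHom.ker (algebraMap R (A ⧸ q)) = ((⊥ : Ideal (A ⧸ q)).comap mk).under R := by
      rw [← hunder]; rfl
    rw [this, ← RingHom.ker_eq_comap_bot, hker, hqu]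
  let n : Ideal (A ⧸ q) := m'.map mk
  have hn : n.IsMaximal := Ideal.IsMaximal.map_of_surjective_of_ker_le hmk (hker.le.trans hqm)
  have hnu : n.under R = m'.under R := by rw [hunder, hcm m' hqm]
  have hD : IsDomain (A ⧸ q) := Ideal.Quotient.isDomain q
  have key := eq_bot_of_under_eq_bot (R := R) (D := A ⧸ q) hinj n (by rwa [hnu]) (by rwa [hnu])
    (by
      intro P hP hP0 hPn hPu
      have hP' : (P.comap mk).IsPrime := Ideal.comap_isPrime mk P
      have hqP : q ≤ P.comap mk := by
        refine hker.ge.trans ?_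
        rw [RingHom.ker_eq_comap_bot]; exact Ideal.comap_mono bot_le
      have hPm : P.comap mk ≤ m' := by
        rw [← hcm m' hqm]; exact Ideal.comap_mono hPn
      have hmem : P.comap mk ∈ S := ⟨hP', hPm, by rw [← hunder]; exact hPu⟩
      have hne : P.comap mk ≠ q := by
        intro h
        apply hP0
        apply Ideal.comap_injective_of_surjective mk hmk
        rw [h, ← RingHom.ker_eq_comap_bot, hker]
      exact hmax _ hmem (lt_of_le_of_ne hqP (Ne.symm hne)))
  intro q' hq' hqq' hq'u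
  have hP : (q'.map mk).IsPrime := Ideal.map_isPrime_of_surjective hmk (hker.le.trans hqq')
  have h1 := key (q'.map mk) (by rw [hunder, hcm q' hqq']; exact hq'u)
  rw [← hcm q' hqq', h1, ← RingHom.ker_eq_comap_bot, hker]

end Groth.Agent.Lib.Helper93.GenClosed
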