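import Mathlib
import Groth.Agent.Lib.Helper93.GenClosed

set_option autoImplicit false
universe u
open CategoryTheory AlgebraicGeometry TopologicalSpace

namespace Groth.Agent.Lib.Helper93.GenClosed

theorem exists_closed_generic_fibre_specializes {R : Type u} [CommRing R] [IsDedekindDomain R]
    {X : Scheme.{u}} [IrreducibleSpace X] (f : X ⟶ Spec (CommRingCat.of R)) [LocallyOfFiniteType f]
    (hdom : DenseRange f.base) (x' : X) (hx' : IsClosed ({x'} : Set X))
    (hs : (f.base x').asIdeal.IsMaximal) :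
    ∃ x : X, (f.base x).asIdeal = ⊥ ∧
      (∀ z : X, (f.base z).asIdeal = ⊥ → x ⤳ z → z = x) ∧ x ⤳ x' := by
  by_cases hbot : (f.base x').asIdeal = ⊥
  · refine ⟨x', hbot, fun z _ hz => ?_, specializes_rfl⟩
    exact hz.mem_closed hx' rfl
  -- an affine open neighbourhood of `x'`
  obtain ⟨_, ⟨U, hU, rfl⟩, hx'U, -⟩ := X.isBasis_affineOpens.exists_subset_of_mem_open
    (Set.mem_univ x') isOpen_univ
  let j : Spec Γ(X, U) ⟶ X := hU.fromSpec
  have hrange : Set.range j = (U : Set X) := hU.range_fromSpec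
  obtain ⟨ψ, hψ⟩ : ∃ ψ : CommRingCat.of R ⟶ Γ(X, U), Spec.map ψ = j ≫ f :=
    ⟨Spec.preimage _, Spec.map_preimage _⟩
  have hft : ψ.hom.FiniteType := by
    have : LocallyOfFiniteType (Spec.map ψ) := by rw [hψ]; infer_instance
    exact (HasRingHomProperty.Spec_iff (P := @LocallyOfFiniteType)).mp this
  algebraize [ψ.hom]
  have hfj : ∀ p : Spec Γ(X, U), (f.base (j p)).asIdeal = p.asIdeal.under R := by
    intro p
    rw [← Scheme.Hom.comp_apply, ← hψ]
    rfl
  have hjemb := j.isOpenEmbedding
  have hspec : ∀ p p' : Spec Γ(X, U), j p ⤳ j p' ↔ p.asIdeal ≤ p'.asIdeal := by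
    intro p p'
    rw [hjemb.isInducing.specializes_iff]
    exact (PrimeSpectrum.le_iff_specializes p p').symm
  obtain ⟨m', rfl⟩ : ∃ m' : Spec Γ(X, U), j m' = x' := by
    have : x' ∈ Set.range j := by rw [hrange]; exact hx'U
    exact this
  have hm'max : m'.asIdeal.IsMaximal := by
    have : ({m'} : Set (Spec Γ(X, U))) = j ⁻¹' {j m'} := by
      ext p
      simp only [Set.mem_singleton_iff, Set.mem_preimage]
      exact ⟨fun h => h ▸ rfl, fun h => hjemb.injective h⟩
    have hcl : IsClosed ({m'} : Set (Spec Γ(X, U))) := by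
      rw [this]
      exact hx'.preimage j.continuous
    exact (PrimeSpectrum.isClosed_singleton_iff_isMaximal (R := Γ(X, U)) m').mp hcl
  -- the generic point
  let ξ := genericPoint X
  have hξU : ξ ∈ (U : Set X) :=
    ((genericPoint_spec X).mem_open_set_iff U.isOpen).mpr ⟨j m', by simpa using hx'U⟩
  obtain ⟨q0, hq0⟩ : ∃ q0 : Spec Γ(X, U), j q0 = ξ := by
    have : ξ ∈ Set.range j := by rw [hrange]; exact hξU
    exact this
  have hq0m : q0.asIdeal ≤ m'.asIdeal := by
    rw [← hspec, hq0]
    exact genericPoint_specializes _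
  have hq0u : q0.asIdeal.under R = ⊥ := by
    rw [← hfj, hq0]
    -- `f ξ` is the generic point of `Spec R`
    have hcl : closure {f.base ξ} = Set.univ := by
      apply Set.eq_univ_of_univ_subset
      rw [← hdom.closure_eq]
      apply closure_minimal _ isClosed_closure
      rintro _ ⟨z, rfl⟩
      have h1 : ξ ⤳ z := genericPoint_specializes z
      exact (h1.map f.continuous).mem_closure
    let b : Spec (CommRingCat.of R) := (⟨⊥, Ideal.isPrime_bot⟩ : PrimeSpectrum R)
    have hb : f.base ξ ⤳ b := by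
      rw [specializes_iff_mem_closure, hcl]; trivial
    have hle : (f.base ξ).asIdeal ≤ (⊥ : Ideal R) := (PrimeSpectrum.le_iff_specializes _ b).mpr hb
    exact le_bot_iff.mp hle
  have hm : m'.asIdeal.under R ≠ ⊥ := by rw [← hfj]; exact hbot
  have hmmax : (m'.asIdeal.under R).IsMaximal := by rw [← hfj]; exact hs
  have hdim : ∀ p : Ideal R, p.IsPrime → p ≠ ⊥ → p ≤ m'.asIdeal.under R →
      p = m'.asIdeal.under R := by
    intro p hp hp0 hple
    have hpmax : p.IsMaximal := hp.isMaximal hp0
    exact hpmax.eq_of_le hmmax.ne_top hple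
  obtain ⟨q, hq, hqm, hqu, hqmax⟩ := exists_prime_le_maximal_under_eq_bot (R := R) m'.asIdeal
    hdim hm q0.asIdeal q0.isPrime hq0m hq0u
  let qp : Spec Γ(X, U) := (⟨q, hq⟩ : PrimeSpectrum Γ(X, U))
  have hfx : (f.base (j qp)).asIdeal = ⊥ := by rw [hfj]; exact hqu
  refine ⟨j qp, hfx, ?_, (hspec qp m').mpr hqm⟩
  intro z hz hxz
  set y := f.base (j qp) with hy
  have hzy : f.base z = y := PrimeSpectrum.ext (hz.trans hfx.symm)
  -- the fibre over `y` is a Jacobson space
  have hJ : JacobsonSpace (f.base ⁻¹' {y}) :=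
    JacobsonSpace.of_isOpenEmbedding (f.fiberHomeo y).symm.isOpenEmbedding
  let xF : f.base ⁻¹' {y} := ⟨j qp, rfl⟩
  let zF : f.base ⁻¹' {y} := ⟨z, hzy⟩
  have hlc : IsLocallyClosed ({xF} : Set (f.base ⁻¹' {y})) := by
    refine ⟨Subtype.val ⁻¹' (U : Set X), Subtype.val ⁻¹' (closure {j qp}),
      U.isOpen.preimage continuous_subtype_val, isClosed_closure.preimage continuous_subtype_val, ?_⟩
    ext ⟨w, hw⟩
    simp only [Set.mem_singleton_iff, Set.mem_inter_iff, Set.mem_preimage]
    constructor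
    · intro h
      have hw' : w = j qp := congrArg Subtype.val h
      subst hw'
      refine ⟨?_, subset_closure rfl⟩
      rw [← hrange]; exact ⟨qp, rfl⟩
    · rintro ⟨hwU, hwcl⟩
      rw [← hrange] at hwU
      obtain ⟨p, rfl⟩ := hwU
      have h1 : j qp ⤳ j p := specializes_iff_mem_closure.mpr hwcl
      have h2 : q ≤ p.asIdeal := (hspec qp p).mp h1
      have h3 : p.asIdeal.under R = ⊥ := by
        rw [← hfj]
        have : f.base (j p) = y := hw
        rw [this]; exact hfx
      have h4 : p.asIdeal = q := hqmax p.asIdeal p.isPrime h2 h3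
      have h5 : p = qp := PrimeSpectrum.ext h4
      subst h5
      rfl
  have hcl : IsClosed ({xF} : Set (f.base ⁻¹' {y})) :=
    isClosed_singleton_of_isLocallyClosed_singleton hlc
  have hsp : xF ⤳ zF := Topology.IsInducing.subtypeVal.specializes_iff.mp hxz
  have := hsp.mem_closed hcl rfl
  exact congrArg Subtype.val this

end Groth.Agent.Lib.Helper93.GenClosed
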