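import Groth.Prelude.Def_GrSeg
import Groth.Prelude.Def_GrLC
import Groth.Agent.Lib.Helper93.Segre
import Mathlib

set_option autoImplicit false
universe u

namespace Groth.Agent.Lib.Helper93.GrDual

section Graded
variable {M : Type u} [AddCommGroup M] (ℳ : ℤ → AddSubgroup M) [DirectSum.Decomposition ℳ]

theorem mem_of_decompose_eq_zero {n : ℤ} {x : M}
    (h : ∀ i : ℤ, i ≠ n → ((DirectSum.decompose ℳ x) i : M) = 0) : x ∈ ℳ n := by
  classical
  have hxe : x = ((DirectSum.decompose ℳ x) n : M) := by
    conv_lhs => rw [← DirectSum.sum_support_decompose ℳ x]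
    rw [Finset.sum_eq_single n]
    · intro i _ hi
      exact h i hi
    · intro h'
      simpa using h'
  rw [hxe]
  exact SetLike.coe_mem _

theorem eq_zero_of_decompose_eq_zero {x : M}
    (h : ∀ i : ℤ, ((DirectSum.decompose ℳ x) i : M) = 0) : x = 0 := by
  classical
  rw [← DirectSum.sum_support_decompose ℳ x]
  exact Finset.sum_eq_zero (fun i _ => h i)

end Graded

section GrHom
variable {R : Type u} [CommRing R] {F M : Type u} [AddCommGroup F] [Module R F]
  [AddCommGroup M] [Module R M]
  (ℱ : ℤ → AddSubgroup F) [DirectSum.Decomposition ℱ]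
  (ℳ : ℤ → AddSubgroup M) [DirectSum.Decomposition ℳ]

theorem grHom_decompose {f : F →ₗ[R] M} (hf : GrLC.IsGrHom ℱ ℳ f) (x : F) (n : ℤ) :
    ((DirectSum.decompose ℳ (f x)) n : M) = f ((DirectSum.decompose ℱ x) n : F) := by
  classical
  induction x using DirectSum.Decomposition.inductionOn ℱ with
  | zero => simp
  | add x y hx hy =>
    rw [map_add, DirectSum.decompose_add, DirectSum.add_apply, AddSubgroup.coe_add, hx, hy,
      DirectSum.decompose_add, DirectSum.add_apply, AddSubgroup.coe_add, map_add]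
  | homogeneous x =>
    rename_i j
    have h1 : f x ∈ ℳ j := hf j x x.2
    by_cases hjn : j = n
    · subst hjn
      rw [DirectSum.decompose_of_mem_same ℳ h1, DirectSum.decompose_of_mem_same ℱ x.2]
    · rw [DirectSum.decompose_of_mem_ne ℳ h1 hjn, DirectSum.decompose_of_mem_ne ℱ x.2 hjn,
        map_zero]

end GrHom

section Dual
variable {k : Type u} [Field k] {R : Type u} [CommRing R] [Algebra k R]
  {M : Type u} [AddCommGroup M] [Module R M] [Module k M] [IsScalarTower k R M]
  {D : Type u} [AddCommGroup D] [Module R D] [Module k D] [IsScalarTower k R D]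
  {τ : Type u} [SetLike τ M] [AddSubgroupClass τ M]
  (ℳ : ℤ → τ) [DirectSum.Decomposition ℳ]
  (𝒟 : ℤ → AddSubgroup D) [DirectSum.Decomposition 𝒟]
  {β : D →ₗ[k] M →ₗ[k] k} (hD : GrSeg.IsGDual R ℳ 𝒟 β)

include hD

theorem beta_decompose_left {n : ℤ} {x : M} (hx : x ∈ ℳ (-n)) (d : D) :
    β d x = β ((DirectSum.decompose 𝒟 d) n : D) x := by
  classical
  induction d using DirectSum.Decomposition.inductionOn 𝒟 with
  | zero => simp
  | add d d' h h' =>
    rw [map_add, LinearMap.add_apply, h, h', DirectSum.decompose_add, DirectSum.add_apply,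
      AddSubgroup.coe_add, map_add, LinearMap.add_apply]
  | homogeneous d =>
    rename_i m
    by_cases hmn : m = n
    · subst hmn
      rw [DirectSum.decompose_of_mem_same 𝒟 d.2]
    · rw [DirectSum.decompose_of_mem_ne 𝒟 d.2 hmn, map_zero, LinearMap.zero_apply]
      exact hD.vanish m d d.2 (-n) (fun h => hmn (by omega)) x hx

theorem beta_decompose_right {n : ℤ} {d : D} (hd : d ∈ 𝒟 n) (x : M) :
    β d x = β d ((DirectSum.decompose ℳ x) (-n) : M) := by
  classical
  induction x using DirectSum.Decomposition.inductionOn ℳ with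
  | zero => simp
  | add x y hx hy =>
    rw [map_add, hx, hy, DirectSum.decompose_add, DirectSum.add_apply,
      AddMemClass.coe_add, map_add]
  | homogeneous x =>
    rename_i m
    by_cases hmn : m = -n
    · subst hmn
      rw [DirectSum.decompose_of_mem_same ℳ x.2]
    · rw [DirectSum.decompose_of_mem_ne ℳ x.2 hmn, map_zero]
      exact hD.vanish n d hd m hmn x x.2

theorem beta_eq_zero {d : D} (h : ∀ x, β d x = 0) : d = 0 := by
  apply eq_zero_of_decompose_eq_zero 𝒟
  intro n
  apply hD.eq_zero n _ (SetLike.coe_mem _)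
  intro x hx
  rw [← beta_decompose_left ℳ 𝒟 hD hx d]
  exact h x

theorem ext_of_mem {n : ℤ} {d d' : D} (hd : d ∈ 𝒟 n) (hd' : d' ∈ 𝒟 n)
    (h : ∀ x ∈ ℳ (-n), β d x = β d' x) : d = d' := by
  rw [← sub_eq_zero]
  apply hD.eq_zero n _ (sub_mem hd hd')
  intro x hx
  rw [map_sub, LinearMap.sub_apply, h x hx, sub_self]

theorem exists_dual (n : ℤ) (l : M →ₗ[k] k) :
    ∃ d ∈ 𝒟 n, ∀ x, β d x = l ((DirectSum.decompose ℳ x) (-n) : M) := by
  obtain ⟨d, hd, hdl⟩ := hD.exists_eq n l
  refine ⟨d, hd, fun x => ?_⟩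
  rw [beta_decompose_right ℳ 𝒟 hD hd x]
  exact hdl _ (SetLike.coe_mem _)

end Dual

section Irrelevant
variable {k : Type u} [Field k] {R : Type u} [CommRing R] [Algebra k R]
  (𝒜 : ℤ → Submodule k R) [GradedAlgebra 𝒜]
  {I : Ideal R} (hI : I = Ideal.span (⋃ n ∈ Set.Ioi (0 : ℤ), (𝒜 n : Set R)))

include hI in
theorem mem_irrelevant_of_pos {i : ℤ} (hi : 0 < i) {r : R} (hr : r ∈ 𝒜 i) : r ∈ I := by
  rw [hI]
  apply Ideal.subset_span
  simp only [Set.mem_iUnion]
  exact ⟨i, hi, hr⟩

include hI in
theorem exists_sub_mem_irrelevant (hpos : ∀ n : ℤ, n < 0 → 𝒜 n = ⊥)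
    (h0 : 𝒜 0 = Submodule.span k {(1 : R)}) (r : R) :
    ∃ c : k, r - algebraMap k R c ∈ I := by
  classical
  induction r using DirectSum.Decomposition.inductionOn 𝒜 with
  | zero => exact ⟨0, by simp⟩
  | add x y hx hy =>
    obtain ⟨c1, h1⟩ := hx
    obtain ⟨c2, h2⟩ := hy
    refine ⟨c1 + c2, ?_⟩
    have e : x + y - algebraMap k R (c1 + c2) = (x - algebraMap k R c1) + (y - algebraMap k R c2) := by
      rw [map_add]; ring
    rw [e]
    exact I.add_mem h1 h2
  | homogeneous r =>
    rename_i i
    obtain ⟨r, hr⟩ := r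
    change ∃ c : k, r - algebraMap k R c ∈ I
    rcases lt_trichotomy i 0 with hi | hi | hi
    · rw [hpos i hi] at hr
      rw [(Submodule.mem_bot k).mp hr]
      exact ⟨0, by simp⟩
    · subst hi
      rw [h0, Submodule.mem_span_singleton] at hr
      obtain ⟨c, hc⟩ := hr
      refine ⟨c, ?_⟩
      rw [← hc, Algebra.algebraMap_eq_smul_one, sub_self]
      exact I.zero_mem
    · exact ⟨0, by rw [map_zero, sub_zero]; exact mem_irrelevant_of_pos 𝒜 hI hi hr⟩

include hI in
theorem decompose_zero_of_mem_irrelevant (hpos : ∀ n : ℤ, n < 0 → 𝒜 n = ⊥) {r : R} (hr : r ∈ I) :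
    ((DirectSum.decompose 𝒜 r) 0 : R) = 0 := by
  classical
  rw [hI, Ideal.span, Submodule.mem_span_set'] at hr
  obtain ⟨n, f, g, rfl⟩ := hr
  rw [DirectSum.decompose_sum, DFinsupp.finsetSum_apply, AddSubmonoidClass.coe_finsetSum]
  apply Finset.sum_eq_zero
  intro j _
  obtain ⟨i, hi, hgi⟩ : ∃ i : ℤ, 0 < i ∧ (g j : R) ∈ 𝒜 i := by
    have h := (g j).2
    simp only [Set.mem_iUnion] at h
    obtain ⟨i, hi, hgi⟩ := h
    exact ⟨i, hi, hgi⟩
  have h := DirectSum.coe_decompose_mul_add_of_right_mem 𝒜 (a := f j) hgi (i := -i)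
  rw [neg_add_cancel] at h
  rw [smul_eq_mul, h]
  have hz : ∀ z : R, z ∈ 𝒜 (-i) → z = 0 := by
    intro z hz
    rw [hpos (-i) (by omega)] at hz
    exact (Submodule.mem_bot k).mp hz
  rw [hz _ (SetLike.coe_mem _), zero_mul]

include hI in
theorem one_notMem_irrelevant [Nontrivial R] (hpos : ∀ n : ℤ, n < 0 → 𝒜 n = ⊥) :
    (1 : R) ∉ I := by
  intro h
  have h0 := decompose_zero_of_mem_irrelevant 𝒜 hI hpos h
  rw [DirectSum.decompose_of_mem_same 𝒜 (SetLike.GradedOne.one_mem (A := 𝒜))] at h0
  exact one_ne_zero h0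

variable {F : Type u} [AddCommGroup F] [Module R F]
  (ℱ : ℤ → AddSubgroup F) [DirectSum.Decomposition ℱ]
  (hF : ∀ (i j : ℤ) (a : R) (x : F), a ∈ 𝒜 i → x ∈ ℱ j → a • x ∈ ℱ (i + j))

include hI hF in
theorem irrelevant_smul_top_homogeneous {x : F} (hx : x ∈ I • (⊤ : Submodule R F)) (n : ℤ) :
    ((DirectSum.decompose ℱ x) n : F) ∈ I • (⊤ : Submodule R F) := by
  classical
  refine Submodule.smul_induction_on hx ?_ ?_
  · intro r hr y _
    rw [hI] at hr
    revert y
    induction hr using Submodule.span_induction with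
    | mem r hr =>
      intro y _
      simp only [Set.mem_iUnion] at hr
      obtain ⟨i, hi, hri⟩ := hr
      have h := Segre.decompose_smul_of_left_mem 𝒜 ℱ hF hri y (n - i)
      rw [add_sub_cancel] at h
      rw [h]
      exact Submodule.smul_mem_smul (mem_irrelevant_of_pos 𝒜 hI hi hri) trivial
    | zero =>
      intro y _
      simp
    | add r1 r2 _ _ h1 h2 =>
      intro y hy
      rw [add_smul, DirectSum.decompose_add, DirectSum.add_apply, AddSubgroup.coe_add]
      exact add_mem (h1 y hy) (h2 y hy)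
    | smul a r _ h =>
      intro y _
      rw [smul_eq_mul, mul_comm, mul_smul]
      exact h (a • y) trivial
  · intro x y hx hy
    rw [DirectSum.decompose_add, DirectSum.add_apply, AddSubgroup.coe_add]
    exact add_mem hx hy

include hF in
theorem exists_lower_bound [Module.Finite R F] (hpos : ∀ n : ℤ, n < 0 → 𝒜 n = ⊥) :
    ∃ n0 : ℤ, ∀ j : ℤ, j < n0 → ∀ x ∈ ℱ j, x = 0 := by
  classical
  obtain ⟨s, hs⟩ := (Module.finite_def.mp (inferInstance : Module.Finite R F))
  let U : Finset ℤ := s.biUnion (fun x => (DirectSum.decompose ℱ x).support)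
  obtain ⟨n0, hn0⟩ : ∃ n0 : ℤ, ∀ u ∈ U, n0 ≤ u := by
    by_cases hU : U.Nonempty
    · exact ⟨U.min' hU, fun u hu => Finset.min'_le U u hu⟩
    · rw [Finset.not_nonempty_iff_eq_empty] at hU
      exact ⟨0, fun u hu => by rw [hU] at hu; simp at hu⟩
  refine ⟨n0, ?_⟩
  let F' : Submodule R F :=
    { carrier := {x | ∀ j : ℤ, j < n0 → ((DirectSum.decompose ℱ x) j : F) = 0}
      add_mem' := by
        intro a b ha hb j hj
        rw [DirectSum.decompose_add, DirectSum.add_apply, AddSubgroup.coe_add, ha j hj, hb j hj,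
          add_zero]
      zero_mem' := by
        intro j _
        simp
      smul_mem' := by
        intro r x hx
        induction r using DirectSum.Decomposition.inductionOn 𝒜 with
        | zero =>
          intro j _
          simp
        | add r1 r2 h1 h2 =>
          intro j hj
          rw [add_smul, DirectSum.decompose_add, DirectSum.add_apply, AddSubgroup.coe_add,
            h1 j hj, h2 j hj, add_zero]
        | homogeneous r =>
          rename_i i
          obtain ⟨r, hr⟩ := r
          intro j hj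
          change ((DirectSum.decompose ℱ (r • x)) j : F) = 0
          by_cases hi : i < 0
          · rw [hpos i hi] at hr
            rw [(Submodule.mem_bot k).mp hr]
            simp
          · have h := Segre.decompose_smul_of_left_mem 𝒜 ℱ hF hr x (j - i)
            rw [add_sub_cancel] at h
            rw [h, hx (j - i) (by omega), smul_zero] }
  have hF' : F' = ⊤ := by
    rw [eq_top_iff, ← hs, Submodule.span_le]
    intro x hx j hj
    by_contra hne
    have hmem : j ∈ U := by
      rw [Finset.mem_biUnion]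
      refine ⟨x, hx, ?_⟩
      rw [DFinsupp.mem_support_toFun]
      intro h0
      exact hne (by rw [h0]; rfl)
    have := hn0 j hmem
    omega
  intro j hj x hx
  have hxF' : x ∈ F' := by rw [hF']; trivial
  have h := hxF' j hj
  rwa [DirectSum.decompose_of_mem_same ℱ hx] at h

end Irrelevant

section FinitePieces
variable {k : Type u} [Field k] {R : Type u} [CommRing R] [Algebra k R]
  (𝒜 : ℤ → Submodule k R) [GradedAlgebra 𝒜]
  {M : Type u} [AddCommGroup M] [Module R M] [Module k M] [IsScalarTower k R M]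
  (ℳ : ℤ → AddSubgroup M) [DirectSum.Decomposition ℳ]
  (hM : ∀ (i j : ℤ) (a : R) (x : M), a ∈ 𝒜 i → x ∈ ℳ j → a • x ∈ ℳ (i + j))

include hM in
theorem ksmul_mem (c : k) {j : ℤ} {x : M} (hx : x ∈ ℳ j) : c • x ∈ ℳ j := by
  have h := hM 0 j (algebraMap k R c) x (SetLike.algebraMap_mem_graded 𝒜 c) hx
  rwa [zero_add, algebraMap_smul] at h

/-- The degree-`n` piece as a `k`-subspace. -/
def pieceSub (n : ℤ) : Submodule k M where
  carrier := ℳ n
  add_mem' := fun h1 h2 => add_mem h1 h2
  zero_mem' := zero_mem _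
  smul_mem' := fun c _ hx => ksmul_mem 𝒜 ℳ hM c hx

theorem mem_pieceSub {n : ℤ} {x : M} : x ∈ pieceSub 𝒜 ℳ hM n ↔ x ∈ ℳ n := Iff.rfl

include hM in
theorem exists_finset_span_piece [IsNoetherianRing R] [Module.Finite R M]
    (hpos : ∀ n : ℤ, n < 0 → 𝒜 n = ⊥) (h0 : 𝒜 0 = Submodule.span k {(1 : R)}) (n : ℤ) :
    ∃ s : Finset M, (∀ y ∈ s, y ∈ ℳ n) ∧ ∀ x ∈ ℳ n, x ∈ Submodule.span k (s : Set M) := by
  classical
  let N : Submodule R M :=
    { carrier := {x | ∀ j : ℤ, j < n → ((DirectSum.decompose ℳ x) j : M) = 0}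
      add_mem' := by
        intro a b ha hb j hj
        rw [DirectSum.decompose_add, DirectSum.add_apply, AddSubgroup.coe_add, ha j hj, hb j hj,
          add_zero]
      zero_mem' := by
        intro j _
        simp
      smul_mem' := by
        intro r x hx
        induction r using DirectSum.Decomposition.inductionOn 𝒜 with
        | zero =>
          intro j _
          simp
        | add r1 r2 h1 h2 =>
          intro j hj
          rw [add_smul, DirectSum.decompose_add, DirectSum.add_apply, AddSubgroup.coe_add,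
            h1 j hj, h2 j hj, add_zero]
        | homogeneous r =>
          rename_i i
          obtain ⟨r, hr⟩ := r
          intro j hj
          change ((DirectSum.decompose ℳ (r • x)) j : M) = 0
          by_cases hi : i < 0
          · rw [hpos i hi] at hr
            rw [(Submodule.mem_bot k).mp hr]
            simp
          · have h := Segre.decompose_smul_of_left_mem 𝒜 ℳ hM hr x (j - i)
            rw [add_sub_cancel] at h
            rw [h, hx (j - i) (by omega), smul_zero] }
  haveI : IsNoetherian R M := isNoetherian_of_isNoetherianRing_of_finite R M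
  obtain ⟨t, ht⟩ : N.FG := IsNoetherian.noetherian N
  refine ⟨t.image (fun y => ((DirectSum.decompose ℳ y) n : M)), ?_, ?_⟩
  · intro y hy
    rw [Finset.mem_image] at hy
    obtain ⟨y', _, rfl⟩ := hy
    exact SetLike.coe_mem _
  · intro x hx
    have hxN : x ∈ N := by
      intro j hj
      exact DirectSum.decompose_of_mem_ne ℳ hx (by omega)
    have key : ∀ w ∈ Submodule.span R (t : Set M), ((DirectSum.decompose ℳ w) n : M) ∈
        Submodule.span k ((t.image (fun y => ((DirectSum.decompose ℳ y) n : M)) : Finset M) :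
          Set M) := by
      intro w hw
      induction hw using Submodule.span_induction with
      | mem w hw =>
        apply Submodule.subset_span
        rw [Finset.coe_image]
        exact ⟨w, hw, rfl⟩
      | zero => simp
      | add a b _ _ ha hb =>
        rw [DirectSum.decompose_add, DirectSum.add_apply, AddSubgroup.coe_add]
        exact add_mem ha hb
      | smul r w hw ih =>
        have hwN : w ∈ N := by rw [← ht]; exact hw
        clear hw
        induction r using DirectSum.Decomposition.inductionOn 𝒜 with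
        | zero => simp
        | add r1 r2 h1 h2 =>
          rw [add_smul, DirectSum.decompose_add, DirectSum.add_apply, AddSubgroup.coe_add]
          exact add_mem h1 h2
        | homogeneous r =>
          rename_i i
          obtain ⟨r, hr⟩ := r
          change ((DirectSum.decompose ℳ (r • w)) n : M) ∈ _
          have h := Segre.decompose_smul_of_left_mem 𝒜 ℳ hM hr w (n - i)
          rw [add_sub_cancel] at h
          rw [h]
          rcases lt_trichotomy i 0 with hi | hi | hi
          · rw [hpos i hi] at hr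
            rw [(Submodule.mem_bot k).mp hr, zero_smul]
            exact zero_mem _
          · subst hi
            rw [h0, Submodule.mem_span_singleton] at hr
            obtain ⟨c, rfl⟩ := hr
            rw [sub_zero, smul_assoc, one_smul]
            exact Submodule.smul_mem _ _ ih
          · rw [hwN (n - i) (by omega), smul_zero]
            exact zero_mem _
    have hx' := key x (by rw [ht]; exact hxN)
    rwa [DirectSum.decompose_of_mem_same ℳ hx] at hx'

end FinitePieces

section Reflexive
variable {k : Type u} [Field k] {R : Type u} [CommRing R] [Algebra k R]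
  (𝒜 : ℤ → Submodule k R) [GradedAlgebra 𝒜]
  {M : Type u} [AddCommGroup M] [Module R M] [Module k M] [IsScalarTower k R M]
  {D : Type u} [AddCommGroup D] [Module R D] [Module k D] [IsScalarTower k R D]
  (ℳ : ℤ → AddSubgroup M) [DirectSum.Decomposition ℳ]
  (𝒟 : ℤ → AddSubgroup D) [DirectSum.Decomposition 𝒟]
  (hM : ∀ (i j : ℤ) (a : R) (x : M), a ∈ 𝒜 i → x ∈ ℳ j → a • x ∈ ℳ (i + j))
  (hDs : ∀ (i j : ℤ) (a : R) (x : D), a ∈ 𝒜 i → x ∈ 𝒟 j → a • x ∈ 𝒟 (i + j))
  {β : D →ₗ[k] M →ₗ[k] k} (hD : GrSeg.IsGDual R ℳ 𝒟 β)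

include hD in
theorem flip_eq_zero {n : ℤ} {x : M} (hx : x ∈ ℳ n) (h : ∀ d ∈ 𝒟 (-n), β d x = 0) : x = 0 := by
  by_contra hne
  have h1 : ¬ ∀ f : Module.Dual k M, f x = 0 := by
    rw [Module.forall_dual_apply_eq_zero_iff k x]
    exact hne
  push_neg at h1
  obtain ⟨l, hl⟩ := h1
  obtain ⟨d, hd, hdβ⟩ := exists_dual ℳ 𝒟 hD (-n) l
  apply hl
  have h2 := hdβ x
  rw [neg_neg, DirectSum.decompose_of_mem_same ℳ hx] at h2
  rw [← h2]
  exact h d hd

include hD in
theorem flip_separates {y : M} (h : ∀ d, β d y = 0) : y = 0 := by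
  apply eq_zero_of_decompose_eq_zero ℳ
  intro n
  apply flip_eq_zero ℳ 𝒟 hD (SetLike.coe_mem _)
  intro d hd
  have h1 := beta_decompose_right ℳ 𝒟 hD hd y
  rw [neg_neg] at h1
  rw [← h1]
  exact h d

include hM hDs hD in
theorem flip_exists_eq [IsNoetherianRing R] [Module.Finite R M]
    (hpos : ∀ n : ℤ, n < 0 → 𝒜 n = ⊥) (h0 : 𝒜 0 = Submodule.span k {(1 : R)})
    (n : ℤ) (G : D →ₗ[k] k) : ∃ x ∈ ℳ n, ∀ d ∈ 𝒟 (-n), β d x = G d := by
  classical
  set V : Submodule k M := pieceSub 𝒜 ℳ hM n with hV
  set W : Submodule k D := pieceSub 𝒜 𝒟 hDs (-n) with hW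
  obtain ⟨s, hs1, hs2⟩ := exists_finset_span_piece 𝒜 ℳ hM hpos h0 n
  have hVs : V = Submodule.span k (s : Set M) := by
    apply le_antisymm
    · intro x hx
      exact hs2 x hx
    · rw [Submodule.span_le]
      intro y hy
      exact hs1 y hy
  haveI : FiniteDimensional k V := by
    rw [hVs]
    exact FiniteDimensional.span_finset k s
  let ψ : W →ₗ[k] Module.Dual k V := V.subtype.dualMap ∘ₗ β ∘ₗ W.subtype
  have hψ : ∀ (d : W) (x : V), ψ d x = β d x := fun d x => rfl
  have hψinj : Function.Injective ψ := by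
    rw [injective_iff_map_eq_zero]
    intro d hd
    apply Subtype.ext
    apply hD.eq_zero (-n) d d.2
    intro x hx
    rw [neg_neg] at hx
    have h1 := LinearMap.congr_fun hd ⟨x, hx⟩
    exact h1
  have hψsurj : Function.Surjective ψ := by
    intro l
    obtain ⟨g, hg⟩ := LinearMap.exists_extend l
    obtain ⟨d, hd, hdg⟩ := hD.exists_eq (-n) g
    refine ⟨⟨d, hd⟩, ?_⟩
    apply LinearMap.ext
    intro x
    rw [hψ]
    have hx : (x : M) ∈ ℳ (- -n) := by rw [neg_neg]; exact x.2
    rw [hdg x hx, ← hg]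
    rfl
  let eψ : W ≃ₗ[k] Module.Dual k V := LinearEquiv.ofBijective ψ ⟨hψinj, hψsurj⟩
  haveI : FiniteDimensional k W := LinearEquiv.finiteDimensional eψ.symm
  have hdim : Module.finrank k V = Module.finrank k (Module.Dual k W) := by
    rw [Subspace.dual_finrank_eq, eψ.finrank_eq, Subspace.dual_finrank_eq]
  let θ : V →ₗ[k] Module.Dual k W := W.subtype.dualMap ∘ₗ β.flip ∘ₗ V.subtype
  have hθ : ∀ (x : V) (d : W), θ x d = β d x := fun x d => rfl
  have hθinj : Function.Injective θ := by
    rw [injective_iff_map_eq_zero]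
    intro x hx
    apply Subtype.ext
    apply flip_eq_zero ℳ 𝒟 hD x.2
    intro d hd
    exact LinearMap.congr_fun hx ⟨d, hd⟩
  have hθsurj : Function.Surjective θ :=
    (LinearMap.injective_iff_surjective_of_finrank_eq_finrank hdim).mp hθinj
  obtain ⟨x, hx⟩ := hθsurj (G ∘ₗ W.subtype)
  refine ⟨x, x.2, fun d hd => ?_⟩
  have h1 := LinearMap.congr_fun hx ⟨d, hd⟩
  exact h1

end Reflexive

end Groth.Agent.Lib.Helper93.GrDual
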