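import Mathlib
import Groth.Agent.Lib.Helper53.ClosedEmbCoh

set_option autoImplicit false
universe u

open CategoryTheory TopologicalSpace Opposite CategoryTheory.Limits Abelian

namespace Groth.Agent.Lib.Helper93.HEquivNat

open Groth.Agent.Lib.Helper53

variable {X Y : TopCat.{u}} (f : X ⟶ Y)

/-- the constant sheaf ℤ -/
noncomputable abbrev PZ (X : TopCat.{u}) : CohTop.Ab X :=
  (constantSheaf (Opens.grothendieckTopology X) AddCommGrpCat.{u}).obj (AddCommGrpCat.of (ULift ℤ))

/-- the canonical class `ℤ_Y → f_* ℤ_X` -/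
noncomputable def ubar : Ext (PZ Y) ((CohTop.push f).obj (PZ X)) 0 :=
  h0Equiv f (PZ X) (Ext.mk₀ (𝟙 (PZ X)))

variable (hpc : PreservesFiniteColimits (CohTop.push f))

/-- the canonical comparison map `H^p(X, F) → H^p(Y, f_* F)` -/
noncomputable def cmp (p : ℕ) (F : CohTop.Ab X) :
    CohTop.H F p →+ CohTop.H ((CohTop.push f).obj F) p :=
  haveI := hpc
  AddMonoidHom.comp ((ubar f).precomp _ (zero_add p)) ((CohTop.push f).mapExtAddHom (PZ X) F p)

lemma cmp_apply (p : ℕ) (F : CohTop.Ab X) (x : CohTop.H F p) :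
    haveI := hpc
    cmp f hpc p F x = (ubar f).comp (x.mapExactFunctor (CohTop.push f)) (zero_add p) := rfl

lemma cmp_naturality (p : ℕ) {F G : CohTop.Ab X} (φ : F ⟶ G) (x : CohTop.H F p) :
    cmp f hpc p G (Sheaf.H.map φ p x) =
      Sheaf.H.map ((CohTop.push f).map φ) p (cmp f hpc p F x) := by
  haveI := hpc
  rw [cmp_apply, cmp_apply, Sheaf.H.map_apply, Sheaf.H.map_apply, Ext.mapExactFunctor_comp,
    Ext.mapExactFunctor_mk₀, Ext.comp_assoc_of_third_deg_zero]

lemma cmp_zero_eq (F : CohTop.Ab X) (x : CohTop.H F 0) : cmp f hpc 0 F x = h0Equiv f F x := by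
  haveI := hpc
  obtain ⟨φ, rfl⟩ := (Ext.mk₀_bijective _ _).2 x
  have h1 : cmp f hpc 0 F (Ext.mk₀ φ) =
      Sheaf.H.map ((CohTop.push f).map φ) 0 (ubar f) := by
    rw [cmp_apply, Ext.mapExactFunctor_mk₀, Sheaf.H.map_apply]
  rw [h1, ubar, ← h0Equiv_naturality, Sheaf.H.map_apply, Ext.mk₀_comp_mk₀, Category.id_comp]

lemma cmp_extClass (p : ℕ) {S : ShortComplex (CohTop.Ab X)} (hS : S.ShortExact)
    (x : CohTop.H S.X₃ p) :
    haveI := hpc
    cmp f hpc (p + 1) S.X₁ (x.comp hS.extClass rfl) =
      (cmp f hpc p S.X₃ x).comp (hS.map_of_exact (CohTop.push f)).extClass rfl := by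
  haveI := hpc
  rw [cmp_apply, cmp_apply, Ext.mapExactFunctor_comp, Ext.mapExactFunctor_extClass]
  exact (Ext.comp_assoc _ _ _ (zero_add p) rfl (by omega)).symm

attribute [local instance] Ext.subsingleton_of_injective in
theorem cmp_bijective (p : ℕ) : ∀ F : CohTop.Ab X, Function.Bijective (cmp f hpc p F) := by
  haveI := hpc
  induction p with
  | zero =>
    intro F
    have : ⇑(cmp f hpc 0 F) = ⇑(h0Equiv f F) := funext (cmp_zero_eq f hpc F)
    rw [this]
    exact (h0Equiv f F).bijective
  | succ n hn =>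
    intro F
    let I : InjectivePresentation F := Classical.arbitrary _
    let S := ShortComplex.mk _ _ (cokernel.condition I.f)
    have hS : S.ShortExact := { exact := ShortComplex.exact_cokernel I.f }
    haveI : Injective S.X₂ := I.injective
    haveI : Injective (S.map (CohTop.push f)).X₂ := by
      change Injective ((CohTop.push f).obj I.J)
      infer_instance
    exact AddMonoidHom.bijective_of_surjective_of_bijective_of_right_exact _ _ _ _
      (cmp f hpc n S.X₂) (cmp f hpc n S.X₃) (cmp f hpc (n + 1) S.X₁)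
      (by
        ext x
        exact (cmp_naturality f hpc n S.g x).symm)
      (by
        ext x
        exact (cmp_extClass f hpc n hS x).symm)
      ((ShortComplex.ab_exact_iff_function_exact _).mp
        (Ext.covariant_sequence_exact₃' (PZ X) hS n (n + 1) rfl))
      ((ShortComplex.ab_exact_iff_function_exact _).mp
        (Ext.covariant_sequence_exact₃' (PZ Y) (hS.map_of_exact (CohTop.push f)) n (n + 1) rfl))
      (hn _).surjective (hn _)
      (fun x₁ ↦ Ext.covariant_sequence_exact₁ _ hS x₁ (by subsingleton) rfl)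
      (fun y₁ ↦ Ext.covariant_sequence_exact₁ _ (hS.map_of_exact (CohTop.push f)) y₁
        (by subsingleton) rfl)

/-- **Natural** comparison isomorphism `H^p(X, F) ≃ H^p(Y, f_* F)` for `f_*` exact
(e.g. `f` a closed embedding). -/
noncomputable def hEquiv (p : ℕ) (F : CohTop.Ab X) :
    CohTop.H F p ≃+ CohTop.H ((CohTop.push f).obj F) p :=
  AddEquiv.ofBijective (cmp f hpc p F) (cmp_bijective f hpc p F)

lemma hEquiv_naturality (p : ℕ) {F G : CohTop.Ab X} (φ : F ⟶ G) (x : CohTop.H F p) :
    hEquiv f hpc p G (Sheaf.H.map φ p x) =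
      Sheaf.H.map ((CohTop.push f).map φ) p (hEquiv f hpc p F x) :=
  cmp_naturality f hpc p φ x

end Groth.Agent.Lib.Helper93.HEquivNat
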