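import Mathlib
import Groth.Prelude.Def_Coh
import Groth.Agent.Lib.Helper93.HEquivNat

set_option autoImplicit false
universe u

open CategoryTheory TopologicalSpace Opposite CategoryTheory.Limits AlgebraicGeometry

namespace Groth.Agent.Lib.Helper93.HEquivLin

open Groth.Agent.Lib.Helper93.HEquivNat

variable {X P : Scheme.{u}} (i : X ⟶ P)

/-- `i_*` of multiplication by `i^♯ r` is multiplication by `r`. -/
theorem push_smulAb (M : X.Modules) (r : Coh.Γtop P) :
    (CohTop.push i.base).map (Coh.smulAb M (i.appTop.hom r)) =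
      Coh.smulAb ((Scheme.Modules.pushforward i).obj M) r := by
  ext U m
  change (Coh.smulAb M _).hom.app (op ((Opens.map i.base).obj U.unop)) m = _
  rw [Coh.smulAb_app]
  change _ = @HSMul.hSMul (P.ringCatSheaf.obj.obj U)
    (((Scheme.Modules.pushforward i).obj M).val.obj U)
    (((Scheme.Modules.pushforward i).obj M).val.obj U) _ (Coh.resTop P U r) m
  have key : (Coh.resTop X (op ((Opens.map i.base).obj (unop U)))) (i.appTop.hom r) =
      (i.app U.unop).hom (Coh.resTop P U r) := by
    have h := i.naturality (homOfLE (le_top : U.unop ≤ ⊤)).op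
    exact (congrArg (fun φ => φ.hom r) h).symm
  rw [key]
  rfl

/-- `toGlobal` is compatible with a morphism over the base. -/
theorem toGlobal_comp {A : Type u} [CommRing A] (g : P ⟶ Spec (CommRingCat.of A)) (a : A) :
    Coh.toGlobal (i ≫ g) a = i.appTop.hom (Coh.toGlobal g a) := by
  unfold Coh.toGlobal
  rw [Scheme.Hom.comp_appTop]
  rfl

/-- **`A`-linear** comparison `H^q(X, M) ≃ H^q(P, i_* M)` for a closed immersion `i` over `Spec A`. -/
theorem nonempty_HH_linearEquiv (A : Type u) [CommRing A]
    [X.Over (Spec (CommRingCat.of A))] [P.Over (Spec (CommRingCat.of A))] [IsClosedImmersion i]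
    (hi : i ≫ (P ↘ Spec (CommRingCat.of A)) = X ↘ Spec (CommRingCat.of A))
    (M : X.Modules) (q : ℕ) :
    Nonempty (Coh.HH X M q ≃ₗ[A] Coh.HH P ((Scheme.Modules.pushforward i).obj M) q) := by
  have hce : Topology.IsClosedEmbedding i.base := i.isClosedEmbedding
  have hpc := Groth.Agent.Lib.Helper53.preservesFiniteColimits_push_of_isClosedEmbedding
    i.base hce
  let e : Coh.HH X M q ≃+ Coh.HH P ((Scheme.Modules.pushforward i).obj M) q :=
    hEquiv i.base hpc q (Coh.toAb M)
  refine ⟨{ e with map_smul' := ?_ }⟩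
  intro a x
  show e (a • x) = a • e x
  have h1 : a • x = Sheaf.H.map (Coh.smulAb M (Coh.toGlobal (X ↘ Spec (CommRingCat.of A)) a)) q x :=
    rfl
  have h2 : a • e x = Sheaf.H.map (Coh.smulAb ((Scheme.Modules.pushforward i).obj M)
      (Coh.toGlobal (P ↘ Spec (CommRingCat.of A)) a)) q (e x) := rfl
  rw [h1, h2, ← push_smulAb, ← toGlobal_comp, hi]
  exact hEquiv_naturality i.base hpc q _ x

end Groth.Agent.Lib.Helper93.HEquivLin
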