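import Mathlib

/-!
# helper93: identifying a homology group of a cochain complex of abelian groups through a functional

If `Λ : K.X n →+ A` kills the coboundaries, detects the coboundaries among the cocycles and is
surjective on cocycles, then it induces `K.homology n ≃+ A`, compatibly with endomorphisms.
-/

universe u
open CategoryTheory Limits

namespace Groth.Agent.Lib.Helper93.HomBridge

variable (K : CochainComplex AddCommGrpCat.{u} ℕ) (n : ℕ) {A : Type u} [AddCommGroup A]
  (Λ : K.X n →+ A)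

lemma exists_cycle (c : K.X n) (hc : K.d n (n + 1) c = 0) : ∃ z : K.cycles n, K.iCycles n z = c := by
  have hk := K.cyclesIsKernel n (n + 1) (by simp)
  have hex : (ShortComplex.mk (K.iCycles n) (K.d n (n + 1)) (K.iCycles_d n (n + 1))).Exact :=
    ShortComplex.exact_of_f_is_kernel _ hk
  rw [ShortComplex.ab_exact_iff] at hex
  exact hex c hc

lemma exists_boundary (z : K.cycles n) (hz : K.homologyπ n z = 0) :
    ∃ c' : K.X ((ComplexShape.up ℕ).prev n), K.toCycles _ n c' = z := by
  have hk := K.homologyIsCokernel ((ComplexShape.up ℕ).prev n) n rfl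
  have hex : (ShortComplex.mk (K.toCycles ((ComplexShape.up ℕ).prev n) n) (K.homologyπ n)
      (K.toCycles_comp_homologyπ _ n)).Exact :=
    ShortComplex.exact_of_g_is_cokernel _ hk
  rw [ShortComplex.ab_exact_iff] at hex
  exact hex z hz

lemma homologyπ_surjective : Function.Surjective (K.homologyπ n) :=
  (AddCommGrpCat.epi_iff_surjective _).1 inferInstance

lemma iCycles_injective : Function.Injective (K.iCycles n) :=
  (AddCommGrpCat.mono_iff_injective _).1 inferInstance

theorem exists_homology_equiv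
    (ha : ∀ (m : ℕ) (x : K.X m), Λ (K.d m n x) = 0)
    (hb : ∀ c : K.X n, K.d n (n + 1) c = 0 → Λ c = 0 →
      ∃ (m : ℕ) (c' : K.X m), K.d m n c' = c)
    (hc : ∀ a : A, ∃ c : K.X n, K.d n (n + 1) c = 0 ∧ Λ c = a) :
    ∃ e : K.homology n ≃+ A, ∀ (φ : K ⟶ K) (ψ : A →+ A),
      (∀ c, Λ (φ.f n c) = ψ (Λ c)) →
      ∀ x, e (HomologicalComplex.homologyMap φ n x) = ψ (e x) := by
  have hk := K.homologyIsCokernel ((ComplexShape.up ℕ).prev n) n rfl
  have hw : K.toCycles ((ComplexShape.up ℕ).prev n) n ≫ (K.iCycles n ≫ AddCommGrpCat.ofHom Λ) = 0 := by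
    rw [← Category.assoc, K.toCycles_i]
    ext x
    exact ha _ x
  let Λ' : K.homology n ⟶ AddCommGrpCat.of A :=
    hk.desc (CokernelCofork.ofπ (K.iCycles n ≫ AddCommGrpCat.ofHom Λ) hw)
  have hΛ' : K.homologyπ n ≫ Λ' = K.iCycles n ≫ AddCommGrpCat.ofHom Λ :=
    hk.fac (CokernelCofork.ofπ (K.iCycles n ≫ AddCommGrpCat.ofHom Λ) hw) WalkingParallelPair.one
  have hΛ'z : ∀ z : K.cycles n, Λ' (K.homologyπ n z) = Λ (K.iCycles n z) := fun z =>
    ConcreteCategory.congr_hom hΛ' z
  have hinj : Function.Injective Λ' := by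
    rw [injective_iff_map_eq_zero]
    intro x hx
    obtain ⟨z, rfl⟩ := homologyπ_surjective K n x
    rw [hΛ'z] at hx
    obtain ⟨m, c', hc'⟩ := hb (K.iCycles n z)
      (ConcreteCategory.congr_hom (K.iCycles_d n (n + 1)) z) hx
    have hz : K.toCycles m n c' = z := by
      apply iCycles_injective K n
      rw [← hc']
      exact ConcreteCategory.congr_hom (K.toCycles_i m n) c'
    rw [← hz]
    exact ConcreteCategory.congr_hom (K.toCycles_comp_homologyπ m n) c'
  have hsurj : Function.Surjective Λ' := by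
    intro a
    obtain ⟨c, hc0, hca⟩ := hc a
    obtain ⟨z, hz⟩ := exists_cycle K n c hc0
    exact ⟨K.homologyπ n z, by rw [hΛ'z, hz, hca]⟩
  refine ⟨AddEquiv.ofBijective Λ'.hom ⟨hinj, hsurj⟩, fun φ ψ hφ x => ?_⟩
  obtain ⟨z, rfl⟩ := homologyπ_surjective K n x
  have h1 : HomologicalComplex.homologyMap φ n (K.homologyπ n z) =
      K.homologyπ n (HomologicalComplex.cyclesMap φ n z) :=
    ConcreteCategory.congr_hom (HomologicalComplex.homologyπ_naturality φ n) z
  have h2 : K.iCycles n (HomologicalComplex.cyclesMap φ n z) = φ.f n (K.iCycles n z) :=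
    ConcreteCategory.congr_hom (HomologicalComplex.cyclesMap_i φ n) z
  show Λ' (HomologicalComplex.homologyMap φ n (K.homologyπ n z)) = ψ (Λ' (K.homologyπ n z))
  rw [h1, hΛ'z, hΛ'z, h2, hφ]

end Groth.Agent.Lib.Helper93.HomBridge
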