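import Groth.Agent.Lib.Helper26.CechLES
import Mathlib.Algebra.Homology.HomologySequenceLemmas

/-!
# helper93: a natural version of Leray's theorem (Čech = derived for acyclic covers)

`exists_leray_nat`: a family of isomorphisms `Ȟ^p(U, F) ≃+ H^p(⋃ U, F)` for all sheaves `F` acyclic on
the finite intersections of `U`, commuting with all morphisms of such sheaves.
-/

universe u
open CategoryTheory TopologicalSpace Opposite Limits Abelian
open Groth.Agent.Lib.Helper53 Groth.Agent.Lib.Helper26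
open Groth.Agent.Lib.Helper26.CechLES Groth.Agent.Lib.Helper28

namespace Groth.Agent.Lib.Helper93.LerayNat

section Alg

variable {A₂ A₃ A₁ B₂ B₃ B₁ : Type*} [AddCommGroup A₂] [AddCommGroup A₃] [AddCommGroup A₁]
  [AddCommGroup B₂] [AddCommGroup B₃] [AddCommGroup B₁]
  (g : A₂ →+ A₃) (δ : A₃ →+ A₁) (hδ : Function.Surjective δ) (hker : δ.ker = g.range)
  (g' : B₂ →+ B₃) (δ' : B₃ →+ B₁) (hδ' : Function.Surjective δ') (hker' : δ'.ker = g'.range)
  (e₃ : A₃ ≃+ B₃) (he : AddSubgroup.map (e₃ : A₃ →+ B₃) g.range = g'.range)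

/-- the isomorphism induced on cokernels -/
noncomputable def shiftEquiv : A₁ ≃+ B₁ :=
  ((QuotientAddGroup.quotientKerEquivOfSurjective δ hδ).symm.trans
    (QuotientAddGroup.congr δ.ker δ'.ker e₃ (by rw [hker, hker', he]))).trans
    (QuotientAddGroup.quotientKerEquivOfSurjective δ' hδ')

lemma shiftEquiv_apply (y : A₃) :
    shiftEquiv g δ hδ hker g' δ' hδ' hker' e₃ he (δ y) = δ' (e₃ y) := by
  unfold shiftEquiv
  have h1 : (QuotientAddGroup.quotientKerEquivOfSurjective δ hδ).symm (δ y) =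
      (QuotientAddGroup.mk y : A₃ ⧸ δ.ker) := by
    rw [AddEquiv.symm_apply_eq]
    rfl
  rw [AddEquiv.trans_apply, AddEquiv.trans_apply, h1]
  rfl

end Alg

section LES

variable {T : ShortComplex (CochainComplex AddCommGrpCat.{u} ℕ)} (hT : T.ShortExact)

include hT in
lemma δ_surjective (p : ℕ) (h₂ : IsZero (T.X₂.homology (p + 1))) :
    Function.Surjective (hT.δ p (p + 1) rfl) := by
  have := hT.epi_δ p (p + 1) rfl h₂
  exact (AddCommGrpCat.epi_iff_surjective _).1 this

include hT in
lemma δ_ker (p : ℕ) : (hT.δ p (p + 1) rfl).hom.ker =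
    (HomologicalComplex.homologyMap T.g p).hom.range := by
  have := hT.homology_exact₃ p (p + 1) rfl
  rw [ShortComplex.ab_exact_iff_range_eq_ker] at this
  exact this.symm

end LES

section ExtSide

variable {C : Type*} [Category C] [Abelian C] [HasExt C]
  {S : ShortComplex C} (hS : S.ShortExact) (P : C)

lemma ext_δ_surjective (p : ℕ) (h₂ : ∀ x : Ext P S.X₂ (p + 1), x = 0) :
    Function.Surjective (hS.extClass.postcomp P (rfl : p + 1 = p + 1)) := by
  intro x₁
  exact Ext.covariant_sequence_exact₁ P hS x₁ (h₂ _) rfl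

lemma ext_δ_ker (p : ℕ) :
    (hS.extClass.postcomp P (rfl : p + 1 = p + 1)).ker =
      ((Ext.mk₀ S.g).postcomp P (add_zero p)).range := by
  ext x
  rw [AddMonoidHom.mem_ker, AddMonoidHom.mem_range]
  constructor
  · intro hx
    exact Ext.covariant_sequence_exact₃ P hS x rfl hx
  · rintro ⟨x₂, rfl⟩
    change (x₂.comp (Ext.mk₀ S.g) (add_zero p)).comp hS.extClass rfl = 0
    rw [Ext.comp_assoc_of_second_deg_zero, hS.comp_extClass, Ext.comp_zero]

end ExtSide

section Main

variable {X : TopCat.{u}} {ι : Type u} (U : ι → Opens X)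

/-- `F` is acyclic on all finite intersections of members of `U` -/
def Acyc (F : CohTop.Ab X) : Prop :=
  ∀ (n : ℕ) (a : Fin (n + 1) → ι) (q : ℕ),
    Subsingleton (CohTop.HU F (q + 1) (iInf fun k => U (a k)))

lemma acyc_of_injective (I : CohTop.Ab X) [Injective I] : Acyc U I := by
  intro n a q
  refine ⟨fun x y => ?_⟩
  have h0 : ∀ z : Ext (freeSheaf (iInf fun k => U (a k))) I (q + 1), z = 0 :=
    fun z => Ext.eq_zero_of_injective z
  exact (h0 x).trans (h0 y).symm

variable {U} in
lemma acyc_X₃ {F : CohTop.Ab X} (hF : Acyc U F) : Acyc U (injSeq F).X₃ :=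
  fun n a q => CechVanish.subsingleton_HU_injSeq_X₃ F _ q (hF n a (q + 1))

/-- the map induced on Čech cohomology -/
noncomputable abbrev cechMap {F G : CohTop.Ab X} (φ : F ⟶ G) (p : ℕ) :
    CohTop.cechH F.obj U p →+ CohTop.cechH G.obj U p :=
  (HomologicalComplex.homologyMap ((cechComplexFunctor U).map φ.hom) p).hom

/-- a family of comparison isomorphisms in degree `p` -/
abbrev Fam (p : ℕ) : Type (u + 1) :=
  ∀ F : CohTop.Ab X, Acyc U F → (CohTop.cechH F.obj U p ≃+ CohTop.HU F p (iSup U))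

/-- naturality of a family of comparison isomorphisms -/
def IsNat (p : ℕ) (e : Fam U p) : Prop :=
  ∀ (F G : CohTop.Ab X) (hF : Acyc U F) (hG : Acyc U G) (φ : F ⟶ G)
    (x : CohTop.cechH F.obj U p),
    e G hG (cechMap U φ p x) = (e F hF x).comp (Ext.mk₀ φ) (add_zero p)

variable {U} in
lemma range_eq {p : ℕ} {e : Fam U p} (he : IsNat U p e) {F : CohTop.Ab X} (hF : Acyc U F) :
    AddSubgroup.map
      ((e (injSeq F).X₃ (acyc_X₃ hF) : _ ≃+ _) :
        CohTop.cechH (injSeq F).X₃.obj U p →+ CohTop.HU (injSeq F).X₃ p (iSup U))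
      (cechMap U (injSeq F).g p).range =
      ((Ext.mk₀ (injSeq F).g).postcomp (freeSheaf (iSup U)) (add_zero p)).range := by
  have hI : Acyc U (injSeq F).X₂ := acyc_of_injective U _
  ext y
  constructor
  · rintro ⟨_, ⟨x₂, rfl⟩, rfl⟩
    exact ⟨e (injSeq F).X₂ hI x₂, (he _ _ hI (acyc_X₃ hF) (injSeq F).g x₂).symm⟩
  · rintro ⟨x₂', rfl⟩
    refine ⟨_, ⟨(e (injSeq F).X₂ hI).symm x₂', rfl⟩, ?_⟩
    have := he _ _ hI (acyc_X₃ hF) (injSeq F).g ((e (injSeq F).X₂ hI).symm x₂')
    rw [AddEquiv.apply_symm_apply] at this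
    exact this

variable {U} in
/-- dimension shifting of a family of comparison isomorphisms -/
noncomputable def step {p : ℕ} (e : Fam U p) (he : IsNat U p e) : Fam U (p + 1) := fun F hF =>
  shiftEquiv (cechMap U (injSeq F).g p)
    ((cechSC_injSeq_shortExact U hF).δ p (p + 1) rfl).hom
    (δ_surjective (cechSC_injSeq_shortExact U hF) p (isZero_cechSC_injSeq_X₂ U F p))
    (δ_ker (cechSC_injSeq_shortExact U hF) p)
    ((Ext.mk₀ (injSeq F).g).postcomp (freeSheaf (iSup U)) (add_zero p))
    ((injSeq_shortExact F).extClass.postcomp (freeSheaf (iSup U)) (rfl : p + 1 = p + 1))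
    (ext_δ_surjective (injSeq_shortExact F) (freeSheaf (iSup U)) p
      (fun x => Ext.eq_zero_of_injective x))
    (ext_δ_ker (injSeq_shortExact F) (freeSheaf (iSup U)) p)
    (e (injSeq F).X₃ (acyc_X₃ hF)) (range_eq he hF)

variable {U} in
lemma step_apply {p : ℕ} (e : Fam U p) (he : IsNat U p e) (F : CohTop.Ab X) (hF : Acyc U F)
    (y : CohTop.cechH (injSeq F).X₃.obj U p) :
    step e he F hF (((cechSC_injSeq_shortExact U hF).δ p (p + 1) rfl).hom y) =
      (e (injSeq F).X₃ (acyc_X₃ hF) y).comp (injSeq_shortExact F).extClass rfl :=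
  shiftEquiv_apply _ _ _ _ _ _ _ _ _ _ y

/-- extension to the injective hulls -/
noncomputable def injExt {F G : CohTop.Ab X} (φ : F ⟶ G) :
    Injective.under F ⟶ Injective.under G :=
  Injective.factorThru (φ ≫ Injective.ι G) (Injective.ι F)

lemma injExt_comm {F G : CohTop.Ab X} (φ : F ⟶ G) :
    Injective.ι F ≫ injExt φ = φ ≫ Injective.ι G := Injective.comp_factorThru _ _

/-- the morphism of injective embeddings induced by a morphism of sheaves -/
noncomputable def injSeqMap {F G : CohTop.Ab X} (φ : F ⟶ G) : injSeq F ⟶ injSeq G :=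
  ShortComplex.homMk (S₁ := injSeq F) (S₂ := injSeq G) φ (injExt φ)
    (cokernel.map (Injective.ι F) (Injective.ι G) φ (injExt φ) (injExt_comm φ))
    (injExt_comm φ).symm
    (by
      change injExt φ ≫ cokernel.π (Injective.ι G) = cokernel.π (Injective.ι F) ≫
        cokernel.map (Injective.ι F) (Injective.ι G) φ (injExt φ) (injExt_comm φ)
      rw [cokernel.π_desc])

/-- functoriality of `cechSC` -/
noncomputable def cechSCMap {S S' : ShortComplex (CohTop.Ab X)} (Φ : S ⟶ S') :
    cechSC U S ⟶ cechSC U S' :=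
  ShortComplex.homMk ((cechComplexFunctor U).map Φ.τ₁.hom) ((cechComplexFunctor U).map Φ.τ₂.hom)
    ((cechComplexFunctor U).map Φ.τ₃.hom)
    (by
      change (cechComplexFunctor U).map _ ≫ (cechComplexFunctor U).map _ =
        (cechComplexFunctor U).map _ ≫ (cechComplexFunctor U).map _
      rw [← Functor.map_comp, ← Functor.map_comp]
      congr 1
      exact congrArg (fun k => k.hom) Φ.comm₁₂)
    (by
      change (cechComplexFunctor U).map _ ≫ (cechComplexFunctor U).map _ =
        (cechComplexFunctor U).map _ ≫ (cechComplexFunctor U).map _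
      rw [← Functor.map_comp, ← Functor.map_comp]
      congr 1
      exact congrArg (fun k => k.hom) Φ.comm₂₃)

lemma injSeqMap_τ₁ {F G : CohTop.Ab X} (φ : F ⟶ G) : (injSeqMap φ).τ₁ = φ := rfl

lemma cechSCMap_τ₁ {S S' : ShortComplex (CohTop.Ab X)} (Φ : S ⟶ S') :
    (cechSCMap U Φ).τ₁ = (cechComplexFunctor U).map Φ.τ₁.hom := rfl

lemma cechSCMap_τ₃ {S S' : ShortComplex (CohTop.Ab X)} (Φ : S ⟶ S') :
    (cechSCMap U Φ).τ₃ = (cechComplexFunctor U).map Φ.τ₃.hom := rfl

variable {U} in
lemma isNat_step {p : ℕ} (e : Fam U p) (he : IsNat U p e) : IsNat U (p + 1) (step e he) := by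
  intro F G hF hG φ x
  obtain ⟨y, rfl⟩ := δ_surjective (cechSC_injSeq_shortExact U hF) p
    (isZero_cechSC_injSeq_X₂ U F p) x
  -- naturality of the Čech connecting map
  have h1 := HomologicalComplex.HomologySequence.δ_naturality (cechSCMap U (injSeqMap φ))
    (cechSC_injSeq_shortExact U hF) (cechSC_injSeq_shortExact U hG) p (p + 1) rfl
  have h1' : cechMap U φ (p + 1) (((cechSC_injSeq_shortExact U hF).δ p (p + 1) rfl).hom y) =
      ((cechSC_injSeq_shortExact U hG).δ p (p + 1) rfl).hom
        (cechMap U (injSeqMap φ).τ₃ p y) := by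
    rw [cechSCMap_τ₁, cechSCMap_τ₃, injSeqMap_τ₁] at h1
    have := ConcreteCategory.congr_hom h1 y
    rw [ConcreteCategory.comp_apply, ConcreteCategory.comp_apply] at this
    exact this
  -- naturality of the Ext connecting map
  have h2 := ShortComplex.ShortExact.extClass_naturality (injSeq_shortExact F)
    (injSeq_shortExact G) (injSeqMap φ)
  have h2' : (injSeq_shortExact F).extClass.comp (Ext.mk₀ φ) (add_zero 1) =
      (Ext.mk₀ (injSeqMap φ).τ₃).comp (injSeq_shortExact G).extClass (zero_add 1) := by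
    rw [injSeqMap_τ₁] at h2
    exact h2
  rw [h1', step_apply, step_apply, he _ _ (acyc_X₃ hF) (acyc_X₃ hG) (injSeqMap φ).τ₃ y]
  rw [Ext.comp_assoc_of_second_deg_zero, ← h2']
  exact (Ext.comp_assoc_of_third_deg_zero _ _ _ _).symm

/-- **Natural Leray theorem**: there is a family of isomorphisms `Ȟ^p(U, F) ≃ H^p(⋃ U, F)`, for all
sheaves `F` acyclic on the finite intersections of `U`, commuting with all morphisms of sheaves. -/
theorem exists_leray_nat (p : ℕ) : ∃ e : Fam U p, IsNat U p e := by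
  induction p with
  | zero => exact ⟨fun F _ => θ U F, fun F G _ _ φ x => θ_naturality U φ x⟩
  | succ p ih =>
    obtain ⟨e, he⟩ := ih
    exact ⟨step e he, isNat_step e he⟩

end Main

end Groth.Agent.Lib.Helper93.LerayNat
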