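import Mathlib
import Groth.Agent.Lib.Helper35.PbTensor

/-!
# The projection formula for invertible modules

For any morphism `u : X' ⟶ X`, any `F : X'.Modules` and any invertible `L : X.Modules`:
`u_*F ⊗ L ≅ u_*(F ⊗ u^*L)`.
-/

set_option autoImplicit false
universe u

open CategoryTheory AlgebraicGeometry TopologicalSpace Opposite TensorProduct

namespace Groth.Agent.Lib.Helper93.ProjFormula

open Groth.Agent.Lib.Helper35.AbSheaf Groth.Agent.Lib.Helper35.Gen
open Groth.Agent.Lib.Helper60.TensorLib Groth.Agent.Lib.Helper35.PbInv Scheme.Modules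

variable {X' X : Scheme.{u}} (u : X' ⟶ X) (F : X'.Modules) (L : X.Modules)

/-- the target `F ⊗ u^*L` -/
noncomputable abbrev tgt : X'.Modules :=
  CohB1.tensorMod F ((Scheme.Modules.pullback u).obj L)

/-- the pairing `(m, l) ↦ m ⊗ u^*l` -/
noncomputable def pair (U : X.Opens) :
    Γ((pushforward u).obj F, U) →ₗ[Γ(X, U)] Γ(L, U) →ₗ[Γ(X, U)]
      Γ((pushforward u).obj (tgt u F L), U) :=
  LinearMap.mk₂ Γ(X, U)
    (fun m l => (show Γ((pushforward u).obj (tgt u F L), U) from
      tm F ((Scheme.Modules.pullback u).obj L) (show Γ(F, u ⁻¹ᵁ U) from m) (pbSec u L U l)))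
    (fun m₁ m₂ l => by
      change tm _ _ ((show Γ(F, u ⁻¹ᵁ U) from m₁) + (show Γ(F, u ⁻¹ᵁ U) from m₂)) (pbSec u L U l) =
        tm _ _ _ _ + tm _ _ _ _
      rw [tm_add_left]
      rfl)
    (fun c m l => by
      change tm _ _ ((u.app U).hom c • (show Γ(F, u ⁻¹ᵁ U) from m)) (pbSec u L U l) =
        (u.app U).hom c • tm _ _ _ _
      rw [tm_smul_left])
    (fun m l₁ l₂ => by
      change tm _ _ (show Γ(F, u ⁻¹ᵁ U) from m) (pbSec u L U (l₁ + l₂)) = tm _ _ _ _ + tm _ _ _ _
      rw [map_add, tm_add_right]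
      rfl)
    (fun c m l => by
      change tm _ _ (show Γ(F, u ⁻¹ᵁ U) from m) (pbSec u L U (c • l)) =
        (u.app U).hom c • tm _ _ _ _
      rw [pbSec_smul, tm_smul_right])

lemma pair_apply (U : X.Opens) (m : Γ((pushforward u).obj F, U)) (l : Γ(L, U)) :
    (pair u F L U m l : Γ(tgt u F L, u ⁻¹ᵁ U)) =
      tm F ((Scheme.Modules.pullback u).obj L) (show Γ(F, u ⁻¹ᵁ U) from m) (pbSec u L U l) := rfl

lemma pair_nat {U V : X.Opens} (i : V ⟶ U) (m : Γ((pushforward u).obj F, U)) (l : Γ(L, U)) :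
    ((pushforward u).obj (tgt u F L)).presheaf.map i.op (pair u F L U m l) =
      pair u F L V (((pushforward u).obj F).presheaf.map i.op m) (L.presheaf.map i.op l) := by
  have hi : i = homOfLE i.le := Subsingleton.elim _ _
  rw [hi]
  change rs (tgt u F L) (u.preimage_mono i.le)
      (tm _ _ (show Γ(F, u ⁻¹ᵁ U) from m) (pbSec u L U l)) =
    tm _ _ (rs F (u.preimage_mono i.le) (show Γ(F, u ⁻¹ᵁ U) from m)) (pbSec u L V (rs L i.le l))
  rw [rs_tm, pbSec_rs]

/-- **Projection formula** for an invertible module. -/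
theorem nonempty_projection_formula (hL : PicF.IsInvertible L) :
    Nonempty (CohB1.tensorMod ((pushforward u).obj F) L ≅
      (pushforward u).obj (CohB1.tensorMod F ((Scheme.Modules.pullback u).obj L))) := by
  refine nonempty_tensorMod_iso ((pushforward u).obj F) L ((pushforward u).obj (tgt u F L))
    (pair u F L) (fun i m l => pair_nat u F L i m l) ?_
  intro x
  obtain ⟨U, hxU, e, he⟩ := exists_isGen_of_isInvertible hL x
  refine ⟨U, hxU, fun W hW => ?_⟩
  refine lift_bijective_of_generator_right (pair u F L W) (rs L hW e) (he W hW) ?_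
  have h1 := tm_right_bijective F ((Scheme.Modules.pullback u).obj L) (pbSec u L U e)
    (isGen_pbSec u L U e he) (u ⁻¹ᵁ W) (u.preimage_mono hW)
  have h2 : (fun m : Γ((pushforward u).obj F, W) => pair u F L W m (rs L hW e)) =
      (fun m : Γ(F, u ⁻¹ᵁ W) => tm F ((Scheme.Modules.pullback u).obj L) m
        (rs ((Scheme.Modules.pullback u).obj L) (u.preimage_mono hW) (pbSec u L U e))) := by
    funext m
    rw [pbSec_rs]
    rfl
  rw [h2]
  exact h1

end Groth.Agent.Lib.Helper93.ProjFormula
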