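import Mathlib
import Groth.Prelude.Def_Pic13
import Groth.Agent.Lib.Helper93.ProjFormula
import Groth.Agent.Lib.Helper93.SerreVan
import Groth.Agent.Lib.Helper13.ClosedPushMod

set_option autoImplicit false
universe u
open CategoryTheory CategoryTheory.Limits AlgebraicGeometry

namespace Groth.Agent.Lib.Helper93.MumfordClosedM

/-- piece (M) of S12112: push the sequence `F(-1) → F → G` forward to `P^n`. -/
theorem exists_mono_cokernel_iso (k : Type u) [Field k] {n : ℕ} {X : Scheme.{u}}
    (i : X ⟶ CohB1.ProjSpace n k) [IsClosedImmersion i] (F G : X.Modules)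
    (f : Pic13.twistOn k i F (-1) ⟶ F) (g : F ⟶ G) (hfg : f ≫ g = 0)
    (hS : (ShortComplex.mk f g hfg).ShortExact) :
    ∃ (ι : CohB1.tensorMod ((Scheme.Modules.pushforward i).obj F)
        (Twist.twistProjSpace n k (-1)) ⟶ (Scheme.Modules.pushforward i).obj F),
      Mono ι ∧ Nonempty (cokernel ι ≅ (Scheme.Modules.pushforward i).obj G) := by
  obtain ⟨φ⟩ := Groth.Agent.Lib.Helper93.ProjFormula.nonempty_projection_formula i F
    (Twist.twistProjSpace n k (-1)) (Groth.Agent.Lib.Helper93.SerreVan.isInvertible_twist n k (-1))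
  haveI : PreservesLimitsOfSize.{u, u} (Scheme.Modules.pushforward i) :=
    (Scheme.Modules.pullbackPushforwardAdjunction i).rightAdjoint_preservesLimits
  haveI : PreservesFiniteLimits (Scheme.Modules.pushforward i) :=
    PreservesLimitsOfSize.preservesFiniteLimits _
  haveI : PreservesColimitsOfSize.{u, u} (Scheme.Modules.pushforward i) :=
    Groth.Agent.Lib.Helper13.ClosedPushMod.preservesColimitsOfSize_pushforward _
  haveI : PreservesFiniteColimits (Scheme.Modules.pushforward i) :=
    PreservesColimitsOfSize.preservesFiniteColimits _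
  have hS' := hS.map_of_exact (Scheme.Modules.pushforward i)
  let f' : CohB1.tensorMod F ((Scheme.Modules.pullback i).obj (Twist.twistProjSpace n k (-1))) ⟶ F := f
  haveI hm : Mono ((Scheme.Modules.pushforward i).map f') := hS'.mono_f
  refine ⟨φ.hom ≫ (Scheme.Modules.pushforward i).map f', mono_comp _ _, ⟨?_⟩⟩
  exact cokernelEpiComp φ.hom ((Scheme.Modules.pushforward i).map f') ≪≫
    IsColimit.coconePointUniqueUpToIso (colimit.isColimit _) hS'.gIsCokernel

end Groth.Agent.Lib.Helper93.MumfordClosedM
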