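import Mathlib
import Groth.Prelude.Def_Pic13
import Groth.Agent.Lib.Helper93.MumfordClosedM
import Groth.Agent.Lib.Helper97.RegClosed

set_option autoImplicit false
universe u
open CategoryTheory CategoryTheory.Limits AlgebraicGeometry

namespace Groth.Agent.Lib.Helper93.MumfordClosedR

open Groth.Agent.Lib.Helper97.TwistExact

/-- pieces (M)+(R) of S12112: the pushed-forward sequence on `P^n` with `m`-regular cokernel. -/
theorem exists_mono_regular (k : Type u) [Field k] {n : ℕ} {X : Scheme.{u}}
    (i : X ⟶ CohB1.ProjSpace n k) [IsClosedImmersion i] (F G : X.Modules)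
    (f : Pic13.twistOn k i F (-1) ⟶ F) (g : F ⟶ G) (hfg : f ≫ g = 0)
    (hS : (ShortComplex.mk f g hfg).ShortExact) (m : ℤ) (hGm : Pic13.IsMRegular k i G m) :
    ∃ (ι : CohB1.tensorMod ((Scheme.Modules.pushforward i).obj F)
        (Twist.twistProjSpace n k (-1)) ⟶ (Scheme.Modules.pushforward i).obj F),
      Mono ι ∧ Curv2.IsMRegular k n (cokernel ι) m := by
  obtain ⟨ι, hι, ⟨e⟩⟩ :=
    Groth.Agent.Lib.Helper93.MumfordClosedM.exists_mono_cokernel_iso k i F G f g hfg hS
  refine ⟨ι, hι, ?_⟩
  intro q hq _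
  have h1 := (Groth.Agent.Lib.Helper97.RegClosed.subsingleton_iff k i G (m - q) q).1 (hGm q hq)
  have e' : CohB1.tensorMod ((Scheme.Modules.pushforward i).obj G)
      (Twist.twistProjSpace n k (m - q)) ≅
      CohB1.tensorMod (cokernel ι) (Twist.twistProjSpace n k (m - q)) :=
    (twistF (Twist.twistProjSpace n k (m - q))).mapIso e.symm
  exact subsingleton_HH_of_iso' e' q h1

end Groth.Agent.Lib.Helper93.MumfordClosedR
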