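import Mathlib

set_option autoImplicit false

universe u

namespace Groth.Agent.Lib.Helper93.NodeC0

open TensorProduct KaehlerDifferential

/-- Abstract injectivity step: for `K0 ⊆ L` fields of char 0 with `L` essentially of finite type
over `K0`, a differential `D x` of `K0/k` detected by a linear functional stays nonzero in
`Ω[L/k]`. -/
theorem D_algebraMap_ne_zero (k K0 L : Type u) [Field k] [Field K0] [Field L]
    [Algebra k K0] [Algebra k L] [Algebra K0 L] [IsScalarTower k K0 L] [CharZero K0]
    [Algebra.EssFiniteType K0 L] (x : K0) (ψ : Ω[K0⁄k] →ₗ[K0] K0)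
    (hψ : ψ (KaehlerDifferential.D k K0 x) = 1) :
    KaehlerDifferential.D k L (algebraMap K0 L x) ≠ 0 := by
  intro h0
  have hsm : Algebra.FormallySmooth K0 L := inferInstance
  have hsub : Subsingleton (Algebra.H1Cotangent K0 L) :=
    Algebra.FormallySmooth.subsingleton_h1Cotangent
  have hinj : Function.Injective (KaehlerDifferential.mapBaseChange k K0 L) := by
    rw [injective_iff_map_eq_zero]
    intro z hz
    obtain ⟨w, rfl⟩ := (Algebra.H1Cotangent.exact_δ_mapBaseChange k K0 L z).mp hz
    rw [Subsingleton.elim w 0, map_zero]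
  have h1 : KaehlerDifferential.mapBaseChange k K0 L ((1 : L) ⊗ₜ[K0] KaehlerDifferential.D k K0 x)
      = 0 := by
    rw [KaehlerDifferential.mapBaseChange_tmul, one_smul, KaehlerDifferential.map_D, h0]
  have h2 : (1 : L) ⊗ₜ[K0] KaehlerDifferential.D k K0 x = 0 :=
    hinj (by rw [h1, map_zero])
  have h3 := congrArg (fun z => TensorProduct.rid K0 L (LinearMap.lTensor L ψ z)) h2
  simp only [LinearMap.lTensor_tmul, hψ, TensorProduct.rid_tmul, one_smul, map_zero] at h3
  exact one_ne_zero h3

/-- On the fraction field of `k[X]` there is a functional on differentials with `D X ↦ 1`. -/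
theorem exists_psi (k K0 : Type u) [Field k] [Field K0] [Algebra k K0]
    [Algebra (Polynomial k) K0] [IsScalarTower k (Polynomial k) K0]
    [IsFractionRing (Polynomial k) K0] :
    ∃ ψ : Ω[K0⁄k] →ₗ[K0] K0,
      ψ (KaehlerDifferential.D k K0 (algebraMap (Polynomial k) K0 Polynomial.X)) = 1 := by
  haveI : Algebra.FormallyEtale (Polynomial k) K0 :=
    Algebra.FormallyEtale.of_isLocalization (nonZeroDivisors (Polynomial k))
  let e1 := (KaehlerDifferential.tensorKaehlerEquivOfFormallyEtale k (Polynomial k) K0).symm
  let ψ : Ω[K0⁄k] →ₗ[K0] K0 :=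
    (TensorProduct.AlgebraTensorModule.rid (Polynomial k) K0 K0).toLinearMap ∘ₗ
      ((KaehlerDifferential.polynomialEquiv k).toLinearMap.baseChange K0) ∘ₗ e1.toLinearMap
  refine ⟨ψ, ?_⟩
  show (TensorProduct.AlgebraTensorModule.rid (Polynomial k) K0 K0)
    (((KaehlerDifferential.polynomialEquiv k).toLinearMap.baseChange K0)
      (e1 (KaehlerDifferential.D k K0 (algebraMap (Polynomial k) K0 Polynomial.X)))) = 1
  rw [KaehlerDifferential.tensorKaehlerEquivOfFormallyEtale_symm_D_algebraMap]
  rw [LinearMap.baseChange_tmul]
  simp [KaehlerDifferential.polynomialEquiv_D]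

/-- **[C0]** (helper80's S14386 marketplace): over a field `k` of characteristic zero, an element
`t` of a finitely generated `k`-domain whose differential vanishes is algebraic over `k`. -/
theorem c0 (k : Type u) [Field k] [CharZero k] (D : Type u) [CommRing D] [IsDomain D]
    [Algebra k D] [Algebra.FiniteType k D] (t : D)
    (ht : KaehlerDifferential.D k D t = 0) : IsAlgebraic k t := by
  by_contra hna
  have htr : Transcendental k t := hna
  let L := FractionRing D
  let t' : L := algebraMap D L t
  have hinjDL : Function.Injective (algebraMap D L) := IsFractionRing.injective D L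
  have htr' : Transcendental k t' := by
    intro hal
    apply hna
    exact (isAlgebraic_algebraMap_iff hinjDL).mp hal
  have hinj : Function.Injective (Polynomial.aeval t' : Polynomial k →ₐ[k] L) :=
    transcendental_iff_injective.mp htr'
  let K0 := FractionRing (Polynomial k)
  let φ : K0 →+* L :=
    IsFractionRing.lift (g := (Polynomial.aeval t' : Polynomial k →ₐ[k] L).toRingHom) hinj
  letI : Algebra K0 L := φ.toAlgebra
  have hφ : ∀ p : Polynomial k, φ (algebraMap (Polynomial k) K0 p) = Polynomial.aeval t' p :=
    fun p => IsFractionRing.lift_algebraMap hinj p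
  haveI : IsScalarTower k K0 L := by
    refine IsScalarTower.of_algebraMap_eq (fun c => ?_)
    show algebraMap k L c = φ (algebraMap k K0 c)
    rw [IsScalarTower.algebraMap_apply k (Polynomial k) K0, hφ]
    simp
  haveI : CharZero K0 := charZero_of_injective_algebraMap (algebraMap k K0).injective
  haveI : Algebra.EssFiniteType D L := Algebra.EssFiniteType.of_isLocalization L (nonZeroDivisors D)
  haveI : Algebra.EssFiniteType k L := Algebra.EssFiniteType.comp k D L
  haveI : Algebra.EssFiniteType K0 L := Algebra.EssFiniteType.of_comp k K0 L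
  obtain ⟨ψ, hψ⟩ := exists_psi k K0
  have hne := D_algebraMap_ne_zero k K0 L (algebraMap (Polynomial k) K0 Polynomial.X) ψ hψ
  apply hne
  have hx : algebraMap K0 L (algebraMap (Polynomial k) K0 Polynomial.X) = t' := by
    show φ _ = t'
    rw [hφ]; simp
  rw [hx]
  have := KaehlerDifferential.map_D k k D L t
  rw [ht, map_zero] at this
  exact this.symm

end Groth.Agent.Lib.Helper93.NodeC0
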