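import Mathlib

/-!
# helper93: the "reversal" operator on polynomials

`ν K` sends a monomial `x^m` with all exponents `< K` to `x^(K-1-m)` and kills the other monomials.
It identifies the Laurent monomials `x^m / (x₀⋯xₙ)^K` with all exponents negative with ordinary
monomials (Serre duality on projective space, concretely).
-/

open MvPolynomial

namespace Groth.Agent.Lib.Helper93.NuPoly

variable {σ : Type*} [Fintype σ] [DecidableEq σ] (R : Type*) [CommRing R]

lemma wt_eq_deg' {τ : Type*} (m : τ →₀ ℕ) : Finsupp.weight (1 : τ → ℕ) m = m.degree := by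
  rw [Finsupp.degree_eq_weight_one]
  rfl

/-- reversal of exponents -/
noncomputable def rev (K : ℕ) (m : σ →₀ ℕ) : σ →₀ ℕ :=
  Finsupp.equivFunOnFinite.symm (fun i => K - 1 - m i)

@[simp] lemma rev_apply (K : ℕ) (m : σ →₀ ℕ) (i : σ) : rev K m i = K - 1 - m i := rfl

/-- all exponents are `< K` -/
def Small (K : ℕ) (m : σ →₀ ℕ) : Prop := ∀ i, m i < K

lemma small_rev {K : ℕ} {m : σ →₀ ℕ} (h : Small K m) : Small K (rev K m) := by
  intro i
  have := h i
  rw [rev_apply]
  omega

lemma rev_rev {K : ℕ} {m : σ →₀ ℕ} (h : Small K m) : rev K (rev K m) = m := by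
  ext i
  have := h i
  rw [rev_apply, rev_apply]
  omega

open scoped Classical in
/-- the reversal operator -/
noncomputable def ν (K : ℕ) : MvPolynomial σ R →ₗ[R] MvPolynomial σ R :=
  (basisMonomials σ R).constr R
    (fun m => if Small K m then monomial (rev K m) (1 : R) else 0)

open scoped Classical in
lemma ν_monomial (K : ℕ) (m : σ →₀ ℕ) (r : R) :
    ν R K (monomial m r) = if Small K m then monomial (rev K m) r else 0 := by
  have h1 : monomial m r = r • (basisMonomials σ R) m := by
    rw [coe_basisMonomials, smul_monomial, smul_eq_mul, mul_one]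
  rw [h1, map_smul, ν, Module.Basis.constr_basis]
  split_ifs
  · rw [smul_monomial, smul_eq_mul, mul_one]
  · rw [smul_zero]

open scoped Classical in
lemma coeff_ν (K : ℕ) (m' : σ →₀ ℕ) (A : MvPolynomial σ R) :
    coeff m' (ν R K A) = if Small K m' then coeff (rev K m') A else 0 := by
  induction A using MvPolynomial.induction_on' with
  | monomial m r =>
    rw [ν_monomial, coeff_monomial]
    by_cases hm : Small K m
    · rw [if_pos hm, coeff_monomial]
      by_cases h : rev K m = m'
      · have hm' : Small K m' := h ▸ small_rev hm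
        have h2 : m = rev K m' := by rw [← h, rev_rev hm]
        rw [if_pos h, if_pos hm', if_pos h2]
      · rw [if_neg h]
        split_ifs with hm' h2
        · exact (h (by rw [h2, rev_rev hm'])).elim
        · rfl
        · rfl
    · rw [if_neg hm, coeff_zero]
      split_ifs with hm' h2
      · exact (hm (h2 ▸ small_rev hm')).elim
      · rfl
      · rfl
  | add p q hp hq =>
    rw [map_add, coeff_add, hp, hq, coeff_add]
    split_ifs
    · rfl
    · rw [add_zero]

/-- independence of the exponent of the denominator -/
lemma ν_mul_monomial (K j : ℕ) (e : σ →₀ ℕ) (he : ∀ i, e i = j) (A : MvPolynomial σ R) :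
    ν R (K + j) (A * monomial e 1) = ν R K A := by
  classical
  ext m'
  rw [coeff_ν, coeff_ν]
  by_cases h : Small K m'
  · have h' : Small (K + j) m' := fun i => lt_of_lt_of_le (h i) (Nat.le_add_right _ _)
    rw [if_pos h, if_pos h', coeff_mul_monomial', mul_one]
    have hle : e ≤ rev (K + j) m' := by
      intro i
      have := h i
      rw [rev_apply, he]
      omega
    rw [if_pos hle]
    congr 1
    ext i
    have := h i
    rw [Finsupp.tsub_apply, rev_apply, rev_apply, he]
    omega
  · rw [if_neg h]
    split_ifs with h'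
    · rw [coeff_mul_monomial', mul_one]
      have hnle : ¬ e ≤ rev (K + j) m' := by
        intro hle
        apply h
        intro i
        have h1 := hle i
        have h2 := h' i
        rw [rev_apply, he] at h1
        omega
      rw [if_neg hnle]
    · rfl

/-- polynomials all of whose monomials are big in one fixed variable are killed -/
lemma ν_eq_zero_of_big (K : ℕ) (A : MvPolynomial σ R) (i : σ)
    (h : ∀ m, coeff m A ≠ 0 → K ≤ m i) : ν R K A = 0 := by
  classical
  ext m'
  rw [coeff_ν, coeff_zero]
  split_ifs with hs
  · by_contra hne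
    have h1 := h _ hne
    have h2 := hs i
    rw [rev_apply] at h1
    omega
  · rfl

/-- the small coefficients are recovered from `ν` -/
lemma coeff_eq_zero_of_ν_eq_zero (K : ℕ) (A : MvPolynomial σ R) (h : ν R K A = 0) (m : σ →₀ ℕ)
    (hm : Small K m) : coeff m A = 0 := by
  classical
  have h1 := coeff_ν R K (rev K m) A
  rw [h, coeff_zero, if_pos (small_rev hm), rev_rev hm] at h1
  exact h1.symm

lemma isHomogeneous_ν (K D k : ℕ) (hDk : D + k = Fintype.card σ * (K - 1)) (A : MvPolynomial σ R)
    (hA : A.IsHomogeneous D) : (ν R K A).IsHomogeneous k := by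
  classical
  intro m' hm'
  rw [coeff_ν] at hm'
  split_ifs at hm' with hs
  · have h1 := hA hm'
    show Finsupp.weight 1 m' = k
    rw [wt_eq_deg'] at h1 ⊢
    rw [Finsupp.degree_eq_sum] at h1 ⊢
    have h2 : ∑ i, (rev K m' i + m' i) = ∑ _i : σ, (K - 1) := by
      refine Finset.sum_congr rfl (fun i _ => ?_)
      have := hs i
      rw [rev_apply]
      omega
    rw [Finset.sum_add_distrib, Finset.sum_const, Finset.card_univ, smul_eq_mul] at h2
    omega
  · exact (hm' rfl).elim

/-- `ν` is an involution on polynomials with small monomials -/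
lemma ν_ν (K : ℕ) (a : MvPolynomial σ R) (h : ∀ m, coeff m a ≠ 0 → Small K m) :
    ν R K (ν R K a) = a := by
  classical
  ext m'
  rw [coeff_ν]
  split_ifs with hs
  · rw [coeff_ν, if_pos (small_rev hs), rev_rev hs]
  · by_contra hne
    exact hs (h m' (Ne.symm hne))

end Groth.Agent.Lib.Helper93.NuPoly
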