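import Mathlib
import Groth.Prelude.Def_W4bk4grossh111Obs
import Groth.Agent.Lib.Helper85.ObsHull

set_option autoImplicit false
set_option linter.style.haveILetI false
universe u
open CategoryTheory CategoryTheory.Limits MonoidalCategory CartesianMonoidalCategory MonObj
  AlgebraicGeometry Opposite TopologicalSpace
open scoped TensorProduct
open Groth.Agent.Lib.Helper19.AffinePts Groth.Agent.Lib.Helper85.ObsHull

namespace Groth.Agent.Lib.Helper93.ObsTfaeT3

variable {k : Type u} [Field k]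

/-- T3 of helper85's S11188 marketplace: a vector fixed by all rational points of `H` is fixed by
`H` functorially, given the two density inputs `hT1`, `hT2`. -/
theorem mem_fixedUnder_of_pts (G H : Over (Spec (CommRingCat.of k))) [GrpObj G] [GrpObj H]
    [IsAffine H.left] (i : H ⟶ G)
    {M : Type u} [AddCommGroup M] [Module k M] (ρ : VecGrp.GMod G M) (v : M)
    (hT1 : ∀ (B : Type u) [CommRing B] [Algebra k B] (x y : B ⊗[k] M),
      (∀ l : M →ₗ[k] k, coef l B x = coef l B y) → x = y)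
    (hT2 : ∀ r : Γ(H.left, ⊤), (∀ x : VecGrp.pt k k ⟶ H, ev H x r = 0) → r = 0)
    (hv : ∀ h : VecGrp.pt k k ⟶ H, ρ.ρ k (h ≫ i) ((1 : k) ⊗ₜ[k] v) = (1 : k) ⊗ₜ[k] v) :
    v ∈ ρ.fixedUnder i := by
  letI := algU H ⊤
  -- the universal point
  have key : ρ.ρ Γ(H.left, ⊤) (gU H (isAffineOpen_top H.left) ≫ i)
      ((1 : Γ(H.left, ⊤)) ⊗ₜ[k] v) = (1 : Γ(H.left, ⊤)) ⊗ₜ[k] v := by
    apply hT1
    intro l
    rw [← sub_eq_zero]
    apply hT2
    intro x
    obtain ⟨ψ, hψ⟩ := exists_factor_top H x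
    rw [← factor_apply H x ψ hψ, map_sub, sub_eq_zero, ← coef_Wmap, ← coef_Wmap,
      ρ.naturality ψ, VecGrp.Wmap_tmul, map_one, ← Category.assoc, hψ, hv]
  intro B _ _ h
  obtain ⟨ψ, hψ⟩ := exists_factor_top H h
  have h1 := ρ.naturality ψ (gU H (isAffineOpen_top H.left) ≫ i) ((1 : Γ(H.left, ⊤)) ⊗ₜ[k] v)
  rw [key, VecGrp.Wmap_tmul, map_one, ← Category.assoc, hψ] at h1
  exact h1.symm

end Groth.Agent.Lib.Helper93.ObsTfaeT3
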