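import Groth.Agent.Lib.Helper60.TildeQCoh
import Groth.Agent.Lib.Helper93.CechPoly
import Groth.Prelude.Def_Twist2

/-!
# helper93: sections of `O(d)` on the standard opens of `P^n_R` as fractions `A / (∏ xᵢ)^K`
-/

set_option autoImplicit false
universe u
open CategoryTheory AlgebraicGeometry TopologicalSpace Opposite MvPolynomial
open Groth.Agent.Lib.Helper60.TildeSec Groth.Agent.Lib.Helper93.CechPoly

namespace Groth.Agent.Lib.Helper93.PnCoh

variable (n : ℕ) (R : Type u) [CommRing R]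

local notation "𝒜" => CohB1.polyGrading n R
local notation "S" => MvPolynomial (Fin (n + 1)) R

lemma wt_eq_deg {σ : Type*} (m : σ →₀ ℕ) : Finsupp.weight (1 : σ → ℕ) m = m.degree := by
  rw [Finsupp.degree_eq_weight_one]
  rfl

/-- the squarefree monomial `∏_{i ∈ s} xᵢ` -/
noncomputable def fS (s : Finset (Fin (n + 1))) : S := ∏ i ∈ s, X i

lemma fS_mem (s : Finset (Fin (n + 1))) : fS n R s ∈ 𝒜 s.card := by
  unfold fS
  have : (∏ i ∈ s, (X i : S)).IsHomogeneous (∑ _i ∈ s, 1) :=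
    IsHomogeneous.prod s _ _ (fun i _ => isHomogeneous_X R i)
  simpa using this

lemma fS_pow_mem (s : Finset (Fin (n + 1))) (K : ℕ) : fS n R s ^ K ∈ 𝒜 (K * s.card) := by
  have := SetLike.pow_mem_graded K (fS_mem n R s)
  rwa [smul_eq_mul] at this

lemma fS_mul_compl (s : Finset (Fin (n + 1))) : fS n R s * fS n R sᶜ = fS n R Finset.univ := by
  unfold fS
  exact Finset.prod_mul_prod_compl s _

/-- the exponent vector `K` on `s`, `0` elsewhere -/
noncomputable def expo (s : Finset (Fin (n + 1))) (K : ℕ) : Fin (n + 1) →₀ ℕ :=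
  ∑ i ∈ s, Finsupp.single i K

lemma expo_apply (s : Finset (Fin (n + 1))) (K : ℕ) (i : Fin (n + 1)) :
    expo n s K i = if i ∈ s then K else 0 := by
  classical
  unfold expo
  rw [Finsupp.finsetSum_apply]
  simp only [Finsupp.single_apply]
  rw [Finset.sum_ite_eq' s i]

lemma fS_pow_eq (s : Finset (Fin (n + 1))) (K : ℕ) :
    fS n R s ^ K = monomial (expo n s K) (1 : R) := by
  unfold fS expo
  rw [← Finset.prod_pow, monomial_sum_one]
  refine Finset.prod_congr rfl (fun i _ => ?_)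
  rw [X_pow_eq_monomial]

lemma isRegular_fS_pow (s : Finset (Fin (n + 1))) (K : ℕ) : IsRegular (fS n R s ^ K) := by
  apply IsRegular.pow
  unfold fS
  exact IsRegular.prod (fun i _ => isRegular_X)

/-- `Cond K s A` says every monomial of `A` dominates `expo sᶜ K`. -/
lemma cond_iff (K : ℕ) (s : Finset (Fin (n + 1))) (A : S) :
    Cond K (s : Set (Fin (n + 1))) A ↔ ∀ m, coeff m A ≠ 0 → expo n sᶜ K ≤ m := by
  constructor
  · intro h m hm i
    rw [expo_apply]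
    split_ifs with hi
    · exact h m hm i (by simpa using hi)
    · exact Nat.zero_le _
  · intro h m hm i hi
    have := h m hm i
    rw [expo_apply, if_pos (by simpa using hi)] at this
    exact this

lemma cond_mul_fS_pow (K : ℕ) (s : Finset (Fin (n + 1))) (a : S) :
    Cond K (s : Set (Fin (n + 1))) (a * fS n R sᶜ ^ K) := by
  classical
  rw [cond_iff, fS_pow_eq]
  intro m hm
  rw [coeff_mul_monomial'] at hm
  by_contra hle
  rw [if_neg hle] at hm
  exact hm rfl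

/-- a polynomial satisfying `Cond K s` is divisible by `fS sᶜ ^ K` -/
lemma exists_eq_mul_of_cond (K : ℕ) (s : Finset (Fin (n + 1))) (A : S) {e : ℕ}
    (hA : A ∈ 𝒜 e) (hc : Cond K (s : Set (Fin (n + 1))) A) (hA0 : A ≠ 0) :
    ∃ a : S, a ∈ 𝒜 (e - K * sᶜ.card) ∧ A = a * fS n R sᶜ ^ K ∧ K * sᶜ.card ≤ e := by
  classical
  rw [cond_iff] at hc
  have hmod : A.modMonomial (expo n sᶜ K) = 0 := by
    ext m
    rw [coeff_zero]
    by_cases hle : expo n sᶜ K ≤ m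
    · exact coeff_modMonomial_of_le A hle
    · rw [coeff_modMonomial_of_not_le A hle]
      by_contra hne
      exact hle (hc m hne)
  have hdiv := divMonomial_add_modMonomial A (expo n sᶜ K)
  rw [hmod, add_zero] at hdiv
  have hdeg : (expo n sᶜ K).degree = K * sᶜ.card := by
    unfold expo
    rw [map_sum]
    simp [Finsupp.degree_single, mul_comm]
  refine ⟨A.divMonomial (expo n sᶜ K), ?_, ?_, ?_⟩
  · intro m hm
    rw [coeff_divMonomial] at hm
    have h1 := hA hm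
    have h2 : Finsupp.degree (expo n sᶜ K + m) = e := by
      rw [← wt_eq_deg]; exact h1
    rw [map_add, hdeg] at h2
    show Finsupp.weight 1 m = e - K * sᶜ.card
    rw [wt_eq_deg]
    omega
  · rw [fS_pow_eq, mul_comm]
    exact hdiv.symm
  · obtain ⟨m, hm⟩ := ne_zero_iff.1 hA0
    have h1 := hA hm
    have h2 : Finsupp.degree m = e := by
      rw [← wt_eq_deg]; exact h1
    obtain ⟨m', hm'⟩ : ∃ m', m = expo n sᶜ K + m' := ⟨m - expo n sᶜ K, (add_tsub_cancel_of_le (hc m hm)).symm⟩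
    rw [hm', map_add, hdeg] at h2
    omega


section Sections

variable (d : ℤ)

/-- `g ∈ Γ(V, O(d))` is the fraction `A / f^K` at every point of `V` -/
def IsFrac {V : (Proj 𝒜).Opens} (f : S) (hf : ∀ y ∈ V, f ∉ y.asHomogeneousIdeal) (K : ℕ) (A : S)
    (g : Γ(GrMod.tilde 𝒜 𝒜 d, V)) : Prop :=
  ∀ y : V, GrMod.val g y = LocalizedModule.mk A
    (⟨f ^ K, fun h => hf y.1 y.2 (y.1.isPrime.mem_of_pow_mem K h)⟩ :
      y.1.asHomogeneousIdeal.toIdeal.primeCompl)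

variable {n R d}

lemma add_val {V : (Proj 𝒜).Opens} (g g' : Γ(GrMod.tilde 𝒜 𝒜 d, V)) (y : V) :
    GrMod.val (g + g') y = GrMod.val g y + GrMod.val g' y := rfl

lemma neg_val {V : (Proj 𝒜).Opens} (g : Γ(GrMod.tilde 𝒜 𝒜 d, V)) (y : V) :
    GrMod.val (-g) y = - GrMod.val g y := rfl

lemma IsFrac.ext {V : (Proj 𝒜).Opens} {f : S} {hf : ∀ y ∈ V, f ∉ y.asHomogeneousIdeal} {K : ℕ}
    {A : S} {g g' : Γ(GrMod.tilde 𝒜 𝒜 d, V)} (h : IsFrac n R d f hf K A g)
    (h' : IsFrac n R d f hf K A g') : g = g' :=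
  sec_ext 𝒜 𝒜 d g g' (fun y => (h y).trans (h' y).symm)

lemma IsFrac.zero {V : (Proj 𝒜).Opens} {f : S} {hf : ∀ y ∈ V, f ∉ y.asHomogeneousIdeal} {K : ℕ} :
    IsFrac n R d f hf K 0 (0 : Γ(GrMod.tilde 𝒜 𝒜 d, V)) := by
  intro y
  rw [zero_val, LocalizedModule.zero_mk]

lemma IsFrac.add {V : (Proj 𝒜).Opens} {f : S} {hf : ∀ y ∈ V, f ∉ y.asHomogeneousIdeal} {K : ℕ}
    {A A' : S} {g g' : Γ(GrMod.tilde 𝒜 𝒜 d, V)} (h : IsFrac n R d f hf K A g)
    (h' : IsFrac n R d f hf K A' g') : IsFrac n R d f hf K (A + A') (g + g') := by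
  intro y
  rw [add_val, h y, h' y, LocalizedModule.mk_add_mk, LocalizedModule.mk_eq]
  refine ⟨1, ?_⟩
  simp only [one_smul, Submonoid.smul_def, Submonoid.coe_mul, smul_eq_mul]
  ring

lemma IsFrac.neg {V : (Proj 𝒜).Opens} {f : S} {hf : ∀ y ∈ V, f ∉ y.asHomogeneousIdeal} {K : ℕ}
    {A : S} {g : Γ(GrMod.tilde 𝒜 𝒜 d, V)} (h : IsFrac n R d f hf K A g) :
    IsFrac n R d f hf K (-A) (-g) := by
  intro y
  rw [neg_val, h y, LocalizedModule.mk_neg]

lemma IsFrac.zsmul {V : (Proj 𝒜).Opens} {f : S} {hf : ∀ y ∈ V, f ∉ y.asHomogeneousIdeal} {K : ℕ}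
    {A : S} {g : Γ(GrMod.tilde 𝒜 𝒜 d, V)} (h : IsFrac n R d f hf K A g) (z : ℤ) :
    IsFrac n R d f hf K (z • A) (z • g) := by
  induction z using Int.induction_on with
  | zero => simpa using IsFrac.zero
  | succ i ih =>
    have e1 : ((i : ℤ) + 1) • A = (i : ℤ) • A + A := by rw [add_smul, one_smul]
    have e2 : ((i : ℤ) + 1) • g = (i : ℤ) • g + g := by rw [add_smul, one_smul]
    rw [e1, e2]
    exact ih.add h
  | pred i ih =>
    have e1 : (-(i : ℤ) - 1) • A = -(i : ℤ) • A + -A := by rw [sub_smul, one_smul, sub_eq_add_neg]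
    have e2 : (-(i : ℤ) - 1) • g = -(i : ℤ) • g + -g := by rw [sub_smul, one_smul, sub_eq_add_neg]
    rw [e1, e2]
    exact ih.add h.neg

lemma IsFrac.sum {V : (Proj 𝒜).Opens} {f : S} {hf : ∀ y ∈ V, f ∉ y.asHomogeneousIdeal} {K : ℕ}
    {α : Type*} (t : Finset α) (A : α → S) (g : α → Γ(GrMod.tilde 𝒜 𝒜 d, V))
    (h : ∀ a ∈ t, IsFrac n R d f hf K (A a) (g a)) :
    IsFrac n R d f hf K (∑ a ∈ t, A a) (∑ a ∈ t, g a) := by
  classical
  induction t using Finset.induction_on with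
  | empty => simpa using IsFrac.zero
  | insert a t ha ih =>
    rw [Finset.sum_insert ha, Finset.sum_insert ha]
    exact (h a (Finset.mem_insert_self a t)).add
      (ih (fun b hb => h b (Finset.mem_insert_of_mem hb)))

lemma IsFrac.mul_pow {V : (Proj 𝒜).Opens} {f : S} {hf : ∀ y ∈ V, f ∉ y.asHomogeneousIdeal} {K : ℕ}
    {A : S} {g : Γ(GrMod.tilde 𝒜 𝒜 d, V)} (h : IsFrac n R d f hf K A g) (j : ℕ) :
    IsFrac n R d f hf (K + j) (A * f ^ j) g := by
  intro y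
  rw [h y, LocalizedModule.mk_eq]
  refine ⟨1, ?_⟩
  simp only [one_smul, Submonoid.smul_def, smul_eq_mul]
  ring

/-- restriction and change of denominator -/
lemma IsFrac.res {V V' : (Proj 𝒜).Opens} (i : V' ⟶ V) {f₁ f₂ f : S} (hff : f₁ * f₂ = f)
    {hf₁ : ∀ y ∈ V, f₁ ∉ y.asHomogeneousIdeal} (hf : ∀ y ∈ V', f ∉ y.asHomogeneousIdeal) {K : ℕ}
    {A : S} {g : Γ(GrMod.tilde 𝒜 𝒜 d, V)} (h : IsFrac n R d f₁ hf₁ K A g) :
    IsFrac n R d f hf K (A * f₂ ^ K) ((GrMod.tilde 𝒜 𝒜 d).presheaf.map i.op g) := by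
  intro y
  rw [res_val, h ⟨y.1, i.le y.2⟩, LocalizedModule.mk_eq]
  refine ⟨1, ?_⟩
  simp only [one_smul, Submonoid.smul_def, smul_eq_mul]
  rw [← hff]
  ring

/-- every section over `D₊(f)` is a fraction -/
lemma exists_isFrac {V : (Proj 𝒜).Opens} {f : S} {c : ℕ} (hc : 0 < c) (hfc : f ∈ 𝒜 c)
    (hV : ∀ y, y ∈ V ↔ f ∉ y.asHomogeneousIdeal) (t : Γ(GrMod.tilde 𝒜 𝒜 d, V)) :
    ∃ (K e : ℕ) (m : S), m ∈ 𝒜 e ∧ (e : ℤ) = K * c + d ∧
      IsFrac n R d f (fun y hy => (hV y).1 hy) K m t := by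
  obtain ⟨K, e, m, hm, he, hval⟩ := exists_eq_frac 𝒜 𝒜 hc hfc V hV
    (show GrMod.sect 𝒜 𝒜 d (op V) from t)
  exact ⟨K, e, m, hm, he, fun y => hval y⟩

/-- numerators of the zero section vanish -/
lemma IsFrac.num_eq_zero {V : (Proj 𝒜).Opens} {f : S} {c : ℕ} (hc : 0 < c) (hfc : f ∈ 𝒜 c)
    (hV : ∀ y, y ∈ V ↔ f ∉ y.asHomogeneousIdeal) (hreg : ∀ N : ℕ, IsRegular (f ^ N))
    {K e : ℕ} {A : S} (hA : A ∈ 𝒜 e)
    (h : IsFrac n R d f (fun y hy => (hV y).1 hy) K A (0 : Γ(GrMod.tilde 𝒜 𝒜 d, V))) : A = 0 := by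
  obtain ⟨N, hN⟩ := exists_pow_smul_eq_zero 𝒜 𝒜 hA hc hfc (fun x hx => by
    have h1 := h ⟨x, (hV x).2 hx⟩
    rw [zero_val] at h1
    have h2 := h1.symm
    rw [← LocalizedModule.zero_mk (⟨f ^ K, fun h => hx (x.isPrime.mem_of_pow_mem K h)⟩ :
      x.asHomogeneousIdeal.toIdeal.primeCompl), LocalizedModule.mk_eq] at h2
    obtain ⟨u, hu⟩ := h2
    refine ⟨u.1 * f ^ K, ?_, ?_⟩
    · intro hmem
      rcases x.isPrime.mem_or_mem hmem with h3 | h3
      · exact u.2 h3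
      · exact hx (x.isPrime.mem_of_pow_mem K h3)
    · simp only [Submonoid.smul_def, smul_zero] at hu
      rw [mul_smul]
      exact hu)
  rw [smul_eq_mul] at hN
  exact (hreg N).left (by show f ^ N * A = f ^ N * 0; rw [hN, mul_zero])

/-- a fraction defines a section -/
lemma exists_section_of_frac {V : (Proj 𝒜).Opens} {f : S} {c : ℕ} (hfc : f ∈ 𝒜 c)
    (hf : ∀ y ∈ V, f ∉ y.asHomogeneousIdeal) {K e : ℕ} {a : S} (ha : a ∈ 𝒜 e)
    (he : (e : ℤ) = K * c + d) :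
    ∃ t : Γ(GrMod.tilde 𝒜 𝒜 d, V), IsFrac n R d f hf K a t := by
  have hfK : f ^ K ∈ 𝒜 (K * c) := by
    have := SetLike.pow_mem_graded K hfc
    rwa [smul_eq_mul] at this
  refine ⟨fracSec 𝒜 𝒜 a ha (f ^ K) hfK (by push_cast; exact he) V
    (fun y hy h => hf y hy (y.isPrime.mem_of_pow_mem K h)), fun y => ?_⟩
  rfl

end Sections

end Groth.Agent.Lib.Helper93.PnCoh
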