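import Groth.Agent.Lib.Helper93.PnCoh1
import Groth.Agent.Lib.Helper93.CechBridge
import Groth.Agent.Lib.Helper28.CechTop

/-!
# helper93: Čech cohomology of `O(d)` on `P^n_R` for the standard cover
-/

set_option autoImplicit false
universe u
open CategoryTheory AlgebraicGeometry TopologicalSpace Opposite MvPolynomial Limits
open Groth.Agent.Lib.Helper60.TildeSec Groth.Agent.Lib.Helper93.CechPoly
open Groth.Agent.Lib.Helper93.CechAlg Groth.Agent.Lib.Helper93.CechBridge

namespace Groth.Agent.Lib.Helper93.PnCoh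

variable (n : ℕ) (R : Type u) [CommRing R] (d : ℤ)

local notation "𝒜" => CohB1.polyGrading n R
local notation "S" => MvPolynomial (Fin (n + 1)) R

/-- index type of the standard cover, in the universe of the scheme -/
abbrev Idx (n : ℕ) : Type u := ULift.{u} (Fin (n + 1))

/-- the standard cover of `P^n_R` -/
noncomputable def U : Idx.{u} n → (Proj 𝒜).Opens := fun i => Proj.basicOpen 𝒜 (X i.down)

/-- the smallest open `D₊(x₀⋯xₙ)` -/
noncomputable def W₀ : (Proj 𝒜).Opens := Proj.basicOpen 𝒜 (fS n R Finset.univ)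

/-- the set of coordinates occurring in a tuple -/
noncomputable def sOf {m : ℕ} (b : Fin (m + 1) → Idx.{u} n) : Finset (Fin (n + 1)) :=
  Finset.image (fun k => (b k).down) Finset.univ

lemma coe_sOf {m : ℕ} (b : Fin (m + 1) → Idx.{u} n) :
    (sOf n b : Set (Fin (n + 1))) = ULift.down '' Set.range b := by
  ext i
  simp [sOf]

lemma sOf_card_pos {m : ℕ} (b : Fin (m + 1) → Idx.{u} n) : 0 < (sOf n b).card :=
  Finset.card_pos.2 ⟨(b 0).down, Finset.mem_image.2 ⟨0, Finset.mem_univ _, rfl⟩⟩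

lemma fS_notMem_iff (s : Finset (Fin (n + 1))) (y : ProjectiveSpectrum 𝒜) :
    fS n R s ∉ y.asHomogeneousIdeal ↔ ∀ i ∈ s, (X i : S) ∉ y.asHomogeneousIdeal := by
  unfold fS
  have := (Ideal.IsPrime.prod_mem_iff (p := y.asHomogeneousIdeal.toIdeal) (s := s)
    (x := fun i => (X i : S)))
  constructor
  · intro h i hi hmem
    exact h (this.2 ⟨i, hi, hmem⟩)
  · intro h hmem
    obtain ⟨i, hi, hmem'⟩ := this.1 hmem
    exact h i hi hmem'

lemma mem_W₀ (y : Proj 𝒜) : y ∈ W₀ n R ↔ fS n R Finset.univ ∉ y.asHomogeneousIdeal :=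
  Proj.mem_basicOpen 𝒜 _ y

lemma W₀_le (i : Idx.{u} n) : W₀ n R ≤ U n R i := by
  intro y hy
  have h1 := (fS_notMem_iff n R Finset.univ y).1 ((mem_W₀ n R y).1 hy) i.down (Finset.mem_univ _)
  exact (Proj.mem_basicOpen 𝒜 _ y).2 h1

lemma mem_prod_iff {m : ℕ} (b : Fin (m + 1) → Idx.{u} n) (y : Proj 𝒜) :
    y ∈ (∏ᶜ (U n R ∘ b) : (Proj 𝒜).Opens) ↔ fS n R (sOf n b) ∉ y.asHomogeneousIdeal := by
  have h1 : (∏ᶜ (U n R ∘ b) : (Proj 𝒜).Opens) = iInf fun k => U n R (b k) :=
    Groth.Agent.Lib.Helper28.CechTop.cechE_obj_eq (U n R) m b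
  rw [h1, fS_notMem_iff]
  have h2 : y ∈ (iInf fun k => U n R (b k) : (Proj 𝒜).Opens) ↔ ∀ k, y ∈ U n R (b k) := by
    rw [← SetLike.mem_coe, Opens.coe_iInf]
    simp
  rw [h2]
  constructor
  · intro h i hi
    obtain ⟨k, -, rfl⟩ := Finset.mem_image.1 hi
    exact (Proj.mem_basicOpen 𝒜 _ y).1 (h k)
  · intro h k
    exact (Proj.mem_basicOpen 𝒜 _ y).2 (h _ (Finset.mem_image.2 ⟨k, Finset.mem_univ _, rfl⟩))

/-- the presheaf of abelian groups underlying `O(d)` -/
noncomputable abbrev P : (Opens (Proj 𝒜))ᵒᵖ ⥤ AddCommGrpCat.{u} := (GrMod.tilde 𝒜 𝒜 d).presheaf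

lemma fAll_notMem (y : Proj 𝒜) (hy : y ∈ W₀ n R) : fS n R Finset.univ ∉ y.asHomogeneousIdeal :=
  (mem_W₀ n R y).1 hy

/-- the model subsets of `Γ(W₀, O(d))` -/
def Gs (s : Set (Idx.{u} n)) : Set (Γ(GrMod.tilde 𝒜 𝒜 d, W₀ n R)) :=
  {g | ∃ (K e : ℕ) (A : S), A ∈ 𝒜 e ∧ (e : ℤ) = K * ((n : ℤ) + 1) + d ∧
    Cond K (ULift.down '' s) A ∧ IsFrac n R d (fS n R Finset.univ) (fAll_notMem n R) K A g}


lemma card_add_compl (s : Finset (Fin (n + 1))) : ((s.card : ℤ) + (sᶜ.card : ℤ)) = (n : ℤ) + 1 := by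
  have := Finset.card_add_card_compl s
  rw [Fintype.card_fin] at this
  exact_mod_cast this

lemma fAll_mem : fS n R Finset.univ ∈ 𝒜 (n + 1) := by
  have := fS_mem n R Finset.univ
  rwa [Finset.card_univ, Fintype.card_fin] at this

lemma mem_W₀_iff (y : Proj 𝒜) : y ∈ W₀ n R ↔ fS n R Finset.univ ∉ y.asHomogeneousIdeal :=
  mem_W₀ n R y

/-- restriction of a fraction over `U_b` to `W₀` -/
lemma isFrac_ρ {m : ℕ} (b : Fin (m + 1) → Idx.{u} n) (t : (P n R d).obj (op (∏ᶜ (U n R ∘ b))))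
    {K : ℕ} {a : S}
    (h : IsFrac n R d (fS n R (sOf n b)) (fun y hy => (mem_prod_iff n R b y).1 hy) K a t) :
    IsFrac n R d (fS n R Finset.univ) (fAll_notMem n R) K (a * fS n R (sOf n b)ᶜ ^ K)
      (ρ (U n R) (P n R d) (W₀ n R) (W₀_le n R) b t) :=
  IsFrac.res _ (fS_mul_compl n R (sOf n b)) (fAll_notMem n R) h

lemma ρ_injective {m : ℕ} (b : Fin (m + 1) → Idx.{u} n) :
    Function.Injective (ρ (U n R) (P n R d) (W₀ n R) (W₀_le n R) b) := by
  refine (injective_iff_map_eq_zero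
    (ConcreteCategory.hom (ρ (U n R) (P n R d) (W₀ n R) (W₀_le n R) b))).2 ?_
  intro t ht
  obtain ⟨K, e, a, ha, he, hfrac⟩ := exists_isFrac (n := n) (R := R) (d := d) (sOf_card_pos n b)
    (fS_mem n R (sOf n b)) (mem_prod_iff n R b) t
  have h1 := isFrac_ρ n R d b t hfrac
  rw [ht] at h1
  have hmem : a * fS n R (sOf n b)ᶜ ^ K ∈ 𝒜 (e + K * (sOf n b)ᶜ.card) :=
    SetLike.mul_mem_graded ha (fS_pow_mem n R _ K)
  have h2 := IsFrac.num_eq_zero (n := n) (R := R) (d := d) (Nat.succ_pos n) (fAll_mem n R)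
    (mem_W₀_iff n R) (isRegular_fS_pow n R Finset.univ) hmem h1
  have h3 : a = 0 := (isRegular_fS_pow n R (sOf n b)ᶜ K).right (by
    show a * fS n R (sOf n b)ᶜ ^ K = 0 * fS n R (sOf n b)ᶜ ^ K
    rw [h2, zero_mul])
  rw [h3] at hfrac
  exact hfrac.ext IsFrac.zero

lemma ρ_mem_Gs {m : ℕ} (b : Fin (m + 1) → Idx.{u} n) (t : (P n R d).obj (op (∏ᶜ (U n R ∘ b)))) :
    ρ (U n R) (P n R d) (W₀ n R) (W₀_le n R) b t ∈ Gs n R d (Set.range b) := by
  obtain ⟨K, e, a, ha, he, hfrac⟩ := exists_isFrac (n := n) (R := R) (d := d) (sOf_card_pos n b)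
    (fS_mem n R (sOf n b)) (mem_prod_iff n R b) t
  refine ⟨K, e + K * (sOf n b)ᶜ.card, a * fS n R (sOf n b)ᶜ ^ K,
    SetLike.mul_mem_graded ha (fS_pow_mem n R _ K), ?_, ?_, isFrac_ρ n R d b t hfrac⟩
  · have := card_add_compl n (sOf n b)
    push_cast
    rw [he]
    linear_combination (K : ℤ) * this
  · rw [← coe_sOf]
    exact cond_mul_fS_pow n R K (sOf n b) a

lemma exists_ρ_eq {m : ℕ} (b : Fin (m + 1) → Idx.{u} n) (g : (P n R d).obj (op (W₀ n R)))
    (hg : g ∈ Gs n R d (Set.range b)) :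
    ∃ t : (P n R d).obj (op (∏ᶜ (U n R ∘ b))),
      ρ (U n R) (P n R d) (W₀ n R) (W₀_le n R) b t = g := by
  obtain ⟨K, e, A, hA, he, hcond, hfrac⟩ := hg
  by_cases hA0 : A = 0
  · refine ⟨0, ?_⟩
    rw [map_zero]
    rw [hA0] at hfrac
    exact IsFrac.zero.ext hfrac
  · rw [← coe_sOf] at hcond
    obtain ⟨a, ha, hAa, hle⟩ := exists_eq_mul_of_cond n R K (sOf n b) A hA hcond hA0
    have he' : ((e - K * (sOf n b)ᶜ.card : ℕ) : ℤ) = K * (sOf n b).card + d := by
      have := card_add_compl n (sOf n b)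
      rw [Nat.cast_sub hle]
      push_cast
      rw [he]
      linear_combination (-(K : ℤ)) * this
    obtain ⟨t, ht⟩ := exists_section_of_frac (n := n) (R := R) (d := d) (fS_mem n R (sOf n b))
      (fun y hy => (mem_prod_iff n R b y).1 hy) ha he'
    refine ⟨t, ?_⟩
    have h1 := isFrac_ρ n R d b t ht
    rw [← hAa] at h1
    exact h1.ext hfrac


/-- `Cond` lifts when multiplying by powers of the product of all the variables -/
lemma cond_mul_fAll_pow (K j : ℕ) (s : Set (Fin (n + 1))) (A : S) (h : Cond K s A) :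
    Cond (K + j) s (A * fS n R Finset.univ ^ j) := by
  classical
  rw [fS_pow_eq]
  intro m hm i hi
  rw [coeff_mul_monomial'] at hm
  split_ifs at hm with hle
  · rw [mul_one] at hm
    have h1 := h _ hm i hi
    have h2 := hle i
    rw [expo_apply, if_pos (Finset.mem_univ _)] at h2
    have h3 : (m - expo n Finset.univ j) i = m i - j := by
      rw [Finsupp.tsub_apply, expo_apply, if_pos (Finset.mem_univ _)]
    omega
  · exact (hm rfl).elim

/-- raising the exponent of the denominator -/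
lemma Gs_raise {s : Set (Idx.{u} n)} {g : Γ(GrMod.tilde 𝒜 𝒜 d, W₀ n R)} {K e : ℕ} {A : S}
    (hA : A ∈ 𝒜 e) (he : (e : ℤ) = K * ((n : ℤ) + 1) + d) (hc : Cond K (ULift.down '' s) A)
    (hf : IsFrac n R d (fS n R Finset.univ) (fAll_notMem n R) K A g) (K' : ℕ) (hK : K ≤ K') :
    ∃ (e' : ℕ) (A' : S), A' ∈ 𝒜 e' ∧ (e' : ℤ) = K' * ((n : ℤ) + 1) + d ∧
      Cond K' (ULift.down '' s) A' ∧
      IsFrac n R d (fS n R Finset.univ) (fAll_notMem n R) K' A' g := by
  obtain ⟨j, rfl⟩ := Nat.exists_eq_add_of_le hK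
  refine ⟨e + j * (n + 1), A * fS n R Finset.univ ^ j, ?_, ?_, cond_mul_fAll_pow n R K j _ A hc,
    hf.mul_pow j⟩
  · have h1 : fS n R Finset.univ ^ j ∈ 𝒜 (j * (n + 1)) := by
      have := SetLike.pow_mem_graded j (fAll_mem n R)
      rwa [smul_eq_mul] at this
    exact SetLike.mul_mem_graded hA h1
  · push_cast
    rw [he]
    ring

theorem halg (p : ℕ) (hcase : -((n : ℤ) + 1) < d ∨ p + 1 < n ∨ n < p + 1)
    (g : (Fin (p + 2) → Idx.{u} n) → (P n R d).obj (op (W₀ n R)))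
    (hg : ∀ b, g b ∈ Gs n R d (Set.range b)) (hcoc : ∀ c, dd g c = 0) :
    ∃ h : (Fin (p + 1) → Idx.{u} n) → (P n R d).obj (op (W₀ n R)),
      (∀ b', h b' ∈ Gs n R d (Set.range b')) ∧ ∀ b, dd h b = g b := by
  classical
  choose K₁ e₁ A₁ hA₁ he₁ hc₁ hf₁ using hg
  set K := Finset.univ.sup K₁ with hKdef
  have hK : ∀ b, K₁ b ≤ K := fun b => Finset.le_sup (Finset.mem_univ b)
  choose e A hA he hc hf using fun b =>
    Gs_raise n R d (hA₁ b) (he₁ b) (hc₁ b) (hf₁ b) K (hK b)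
  set D := e (fun _ => ULift.up 0) with hD
  have heD : ∀ b, e b = D := by
    intro b
    have h1 := he b
    have h2 := he (fun _ => ULift.up 0)
    have : (e b : ℤ) = (D : ℤ) := by rw [hD, h1, h2]
    exact_mod_cast this
  have hDz : (D : ℤ) = K * ((n : ℤ) + 1) + d := he _
  -- transport to tuples of `Fin (n + 1)`
  set A₀ : (Fin (p + 2) → Fin (n + 1)) → S := fun b₀ => A (fun k => ULift.up (b₀ k)) with hA₀
  have hhom : ∀ b₀, (A₀ b₀).IsHomogeneous D := by
    intro b₀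
    have := hA (fun k => ULift.up (b₀ k))
    rw [heD] at this
    exact this
  have hcond : ∀ b₀, Cond K (Set.range b₀) (A₀ b₀) := by
    intro b₀
    have := hc (fun k => ULift.up (b₀ k))
    convert this using 1
    ext i
    simp
  have hcoc₀ : ∀ c₀, dd A₀ c₀ = 0 := by
    intro c₀
    have h1 : IsFrac n R d (fS n R Finset.univ) (fAll_notMem n R) K (dd A₀ c₀)
        (dd g (fun k => ULift.up (c₀ k))) := by
      unfold dd
      apply IsFrac.sum
      intro k _
      exact (hf _).zsmul _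
    rw [hcoc] at h1
    have hmem : dd A₀ c₀ ∈ 𝒜 D := by
      unfold dd
      apply Submodule.sum_mem
      intro k _
      exact Submodule.smul_of_tower_mem _ _ (hhom _)
    exact IsFrac.num_eq_zero (n := n) (R := R) (d := d) (Nat.succ_pos n) (fAll_mem n R)
      (mem_W₀_iff n R) (isRegular_fS_pow n R Finset.univ) hmem h1
  have hcase' : (∀ m : Fin (n + 1) →₀ ℕ, m.degree = D → ∃ i, K ≤ m i) ∨
      p + 2 < Fintype.card (Fin (n + 1)) ∨ Fintype.card (Fin (n + 1)) ≤ p + 1 := by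
    rw [Fintype.card_fin]
    rcases hcase with h | h | h
    · left
      intro m hm
      apply exists_big_of_lt K D _ m hm
      rw [Fintype.card_fin]
      have : ((K * (n + 1) : ℕ) : ℤ) < ((D + (n + 1) : ℕ) : ℤ) := by
        push_cast
        rw [hDz]
        linarith
      exact_mod_cast this
    · right; left; omega
    · right; right; omega
  obtain ⟨B₀, hB₀hom, hB₀cond, hB₀d⟩ := poly_main K D p A₀ hhom hcond hcoc₀ hcase'
  -- back to sections
  have hsec : ∀ b' : Fin (p + 1) → Idx.{u} n, ∃ t : (P n R d).obj (op (W₀ n R)),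
      IsFrac n R d (fS n R Finset.univ) (fAll_notMem n R) K (B₀ (fun k => (b' k).down)) t := by
    intro b'
    exact exists_section_of_frac (n := n) (R := R) (d := d) (fAll_mem n R) (fAll_notMem n R)
      (hB₀hom _) (by push_cast; exact hDz)
  choose h hh using hsec
  refine ⟨h, fun b' => ?_, fun b => ?_⟩
  · refine ⟨K, D, B₀ (fun k => (b' k).down), hB₀hom _, hDz, ?_, hh b'⟩
    have := hB₀cond (fun k => (b' k).down)
    convert this using 1
    ext i
    simp
  · have h1 : IsFrac n R d (fS n R Finset.univ) (fAll_notMem n R) K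
        (dd B₀ (fun k => (b k).down)) (dd h b) := by
      unfold dd
      apply IsFrac.sum
      intro k _
      exact (hh _).zsmul _
    rw [hB₀d] at h1
    exact h1.ext (hf b)


theorem halg0 (hd : d < 0) (hn : 1 ≤ n)
    (g : (Fin 1 → Idx.{u} n) → (P n R d).obj (op (W₀ n R)))
    (hg : ∀ b, g b ∈ Gs n R d (Set.range b)) (hcoc : ∀ c : Fin 2 → Idx.{u} n, dd g c = 0) :
    ∀ b, g b = 0 := by
  classical
  -- all components agree
  have hconst : ∀ b b' : Fin 1 → Idx.{u} n, g b = g b' := by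
    intro b b'
    have h := hcoc (fun k => if k = 0 then b' 0 else b 0)
    unfold dd at h
    rw [Fin.sum_univ_two] at h
    simp only [Fin.val_zero, pow_zero, one_smul, Fin.val_one, pow_one, neg_smul] at h
    have e0 : ((fun k : Fin 2 => if k = 0 then b' 0 else b 0) ∘ Fin.succAbove (0 : Fin 2)) = b := by
      funext k
      obtain rfl : k = 0 := Subsingleton.elim _ _
      simp [Fin.succAbove_zero]
    have e1 : ((fun k : Fin 2 => if k = 0 then b' 0 else b 0) ∘ Fin.succAbove (1 : Fin 2)) = b' := by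
      funext k
      obtain rfl : k = 0 := Subsingleton.elim _ _
      simp [Fin.succAbove]
    rw [e0, e1] at h
    exact (add_neg_eq_zero.1 h)
  intro b
  -- pick another index
  haveI : Nontrivial (Fin (n + 1)) := Fin.nontrivial_iff_two_le.2 (by omega)
  obtain ⟨i', hi'⟩ := exists_ne (b 0).down
  set b' : Fin 1 → Idx.{u} n := fun _ => ULift.up i' with hb'
  obtain ⟨K₁, e₁, A₁, hA₁, he₁, hc₁, hf₁⟩ := hg b
  obtain ⟨K₂, e₂, A₂, hA₂, he₂, hc₂, hf₂⟩ := hg b'
  rw [← hconst b b'] at hf₂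
  obtain ⟨e, A, hA, he, hc, hf⟩ := Gs_raise n R d hA₁ he₁ hc₁ hf₁ (max K₁ K₂) (le_max_left _ _)
  obtain ⟨e', A', hA', he', hc', hf'⟩ := Gs_raise n R d hA₂ he₂ hc₂ hf₂ (max K₁ K₂) (le_max_right _ _)
  set K := max K₁ K₂
  have hee : e' = e := by
    have : (e' : ℤ) = (e : ℤ) := by rw [he, he']
    exact_mod_cast this
  subst hee
  have hAA : A = A' := by
    have h1 := hf.add hf'.neg
    rw [add_neg_cancel] at h1
    have hmem : A + -A' ∈ 𝒜 e' := Submodule.add_mem _ hA (Submodule.neg_mem _ hA')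
    have := IsFrac.num_eq_zero (n := n) (R := R) (d := d) (Nat.succ_pos n) (fAll_mem n R)
      (mem_W₀_iff n R) (isRegular_fS_pow n R Finset.univ) hmem h1
    exact add_neg_eq_zero.1 this
  subst hAA
  -- every monomial of `A` has all exponents `≥ K`, impossible in degree `< K (n+1)`
  have hA0 : A = 0 := by
    ext m
    rw [coeff_zero]
    by_contra hne
    have hall : ∀ i, K ≤ m i := by
      intro i
      by_cases hi : i = (b 0).down
      · apply hc' m hne i
        rintro ⟨x, ⟨k, rfl⟩, hx⟩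
        simp only [hb'] at hx
        exact hi' (hx.trans hi)
      · apply hc m hne i
        rintro ⟨x, ⟨k, rfl⟩, hx⟩
        obtain rfl : k = 0 := Subsingleton.elim _ _
        exact hi hx.symm
    have hdeg : m.degree = e' := by
      rw [← wt_eq_deg]
      exact hA hne
    have h1 : ∑ _i : Fin (n + 1), K ≤ ∑ i, m i := Finset.sum_le_sum (fun i _ => hall i)
    rw [Finset.sum_const, Finset.card_univ, Fintype.card_fin, smul_eq_mul,
      ← Finsupp.degree_eq_sum, hdeg] at h1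
    have h2 : (((n + 1) * K : ℕ) : ℤ) ≤ (e' : ℤ) := by exact_mod_cast h1
    rw [he] at h2
    push_cast at h2
    nlinarith
  rw [hA0] at hf
  exact hf.ext IsFrac.zero

theorem isZero_cechH_succ (p : ℕ) (hcase : -((n : ℤ) + 1) < d ∨ p + 1 < n ∨ n < p + 1) :
    IsZero (CohB1.cechHTop (U n R) (P n R d) (p + 1)) :=
  isZero_cechHTop_succ (U n R) (P n R d) (W₀ n R) (W₀_le n R) (Gs n R d) p
    (fun b => ρ_injective n R d b) (fun b t => ρ_mem_Gs n R d b t)
    (fun b g hg => exists_ρ_eq n R d b g hg) (halg n R d p hcase)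

theorem isZero_cechH_zero (hd : d < 0) (hn : 1 ≤ n) :
    IsZero (CohB1.cechHTop (U n R) (P n R d) 0) :=
  isZero_cechHTop_zero (U n R) (P n R d) (W₀ n R) (W₀_le n R) (Gs n R d)
    (fun b => ρ_injective n R d b) (fun b t => ρ_mem_Gs n R d b t) (halg0 n R d hd hn)

end Groth.Agent.Lib.Helper93.PnCoh
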