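import Groth.Agent.Lib.Helper93.PnCoh4
import Groth.Agent.Lib.Helper93.NuPoly
import Groth.Agent.Lib.Helper93.CechAlgTop
import Groth.Agent.Lib.Helper93.HomBridge

/-!
# helper93: top cohomology of `O(d)` on `P^n_R` — the residue functional
-/

set_option autoImplicit false
universe u
open CategoryTheory AlgebraicGeometry TopologicalSpace Opposite MvPolynomial Limits
open Groth.Agent.Lib.Helper60.TildeSec Groth.Agent.Lib.Helper93.CechPoly
open Groth.Agent.Lib.Helper93.CechAlg Groth.Agent.Lib.Helper93.CechBridge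
open Groth.Agent.Lib.Helper60.ProjFrac Groth.Agent.Lib.Helper60.ProjUPLib
open Groth.Agent.Lib.Helper60.TwistLib
open Groth.Agent.Lib.Helper93.NuPoly

namespace Groth.Agent.Lib.Helper93.PnCoh

variable (n : ℕ) (R : Type u) [CommRing R] (d : ℤ)

local notation "𝒜" => CohB1.polyGrading n R
local notation "S" => MvPolynomial (Fin (n + 1)) R
local notation "fA" => fS n R Finset.univ

/-- every section over `W₀` is a fraction with homogeneous numerator -/
lemma exists_isFrac_W₀ (g : Γ(GrMod.tilde 𝒜 𝒜 d, W₀ n R)) :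
    ∃ (K e : ℕ) (A : S), A ∈ 𝒜 e ∧ (e : ℤ) = K * ((n : ℤ) + 1) + d ∧
      IsFrac n R d fA (fAll_notMem n R) K A g := by
  obtain ⟨K, e, A, hA, he, h⟩ := exists_isFrac (n := n) (R := R) (d := d) (Nat.succ_pos n)
    (fAll_mem n R) (mem_W₀_iff n R) g
  exact ⟨K, e, A, hA, by push_cast at he; exact he, h⟩

lemma fA_pow_eq (j : ℕ) : ∃ e : Fin (n + 1) →₀ ℕ, (∀ i, e i = j) ∧ fA ^ j = monomial e (1 : R) :=
  ⟨expo n Finset.univ j, fun i => by rw [expo_apply, if_pos (Finset.mem_univ _)], fS_pow_eq n R _ j⟩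

lemma ν_mul_fA_pow (K j : ℕ) (A : S) : ν R (K + j) (A * fA ^ j) = ν R K A := by
  obtain ⟨e, he, hfe⟩ := fA_pow_eq n R j
  rw [hfe]
  exact ν_mul_monomial R K j e he A

lemma fA_pow_mem (j : ℕ) : fA ^ j ∈ 𝒜 (j * (n + 1)) := by
  have := SetLike.pow_mem_graded j (fAll_mem n R)
  rwa [smul_eq_mul] at this

variable {n R d}

/-- two fractions with the same denominator representing the same section have equal numerators -/
lemma IsFrac.num_eq {g : Γ(GrMod.tilde 𝒜 𝒜 d, W₀ n R)} {K e : ℕ} {A A' : S} (hA : A ∈ 𝒜 e)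
    (hA' : A' ∈ 𝒜 e) (h : IsFrac n R d fA (fAll_notMem n R) K A g)
    (h' : IsFrac n R d fA (fAll_notMem n R) K A' g) : A = A' := by
  have h1 := h.add h'.neg
  rw [add_neg_cancel] at h1
  have hmem : A + -A' ∈ 𝒜 e := Submodule.add_mem _ hA (Submodule.neg_mem _ hA')
  have := IsFrac.num_eq_zero (n := n) (R := R) (d := d) (Nat.succ_pos n) (fAll_mem n R)
    (mem_W₀_iff n R) (isRegular_fS_pow n R Finset.univ) hmem h1
  exact add_neg_eq_zero.1 this

/-- raising the exponent of the denominator -/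
lemma IsFrac.raise {g : Γ(GrMod.tilde 𝒜 𝒜 d, W₀ n R)} {K e : ℕ} {A : S} (hA : A ∈ 𝒜 e)
    (he : (e : ℤ) = K * ((n : ℤ) + 1) + d) (h : IsFrac n R d fA (fAll_notMem n R) K A g)
    (K' : ℕ) (hK : K ≤ K') :
    ∃ (e' : ℕ) (A' : S), A' ∈ 𝒜 e' ∧ (e' : ℤ) = K' * ((n : ℤ) + 1) + d ∧
      IsFrac n R d fA (fAll_notMem n R) K' A' g ∧ ν R K' A' = ν R K A := by
  obtain ⟨j, rfl⟩ := Nat.exists_eq_add_of_le hK
  refine ⟨e + j * (n + 1), A * fA ^ j, SetLike.mul_mem_graded hA (fA_pow_mem n R j), ?_,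
    h.mul_pow j, ν_mul_fA_pow n R K j A⟩
  push_cast
  rw [he]
  ring

/-- the reversal of the numerator does not depend on the representation as a fraction -/
lemma ν_eq_of_isFrac {g : Γ(GrMod.tilde 𝒜 𝒜 d, W₀ n R)} {K K' e e' : ℕ} {A A' : S}
    (hA : A ∈ 𝒜 e) (hA' : A' ∈ 𝒜 e') (he : (e : ℤ) = K * ((n : ℤ) + 1) + d)
    (he' : (e' : ℤ) = K' * ((n : ℤ) + 1) + d) (h : IsFrac n R d fA (fAll_notMem n R) K A g)
    (h' : IsFrac n R d fA (fAll_notMem n R) K' A' g) : ν R K A = ν R K' A' := by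
  obtain ⟨e₁, A₁, hA₁, he₁, hf₁, hν₁⟩ := h.raise hA he (max K K') (le_max_left _ _)
  obtain ⟨e₂, A₂, hA₂, he₂, hf₂, hν₂⟩ := h'.raise hA' he' (max K K') (le_max_right _ _)
  have hee : e₂ = e₁ := by
    have : (e₂ : ℤ) = (e₁ : ℤ) := by rw [he₁, he₂]
    exact_mod_cast this
  subst hee
  rw [← hν₁, ← hν₂, IsFrac.num_eq hA₁ hA₂ hf₁ hf₂]

variable (n R d)

/-- the residue functional on sections over `W₀` -/
noncomputable def lamFun (g : Γ(GrMod.tilde 𝒜 𝒜 d, W₀ n R)) : S :=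
  ν R (exists_isFrac_W₀ n R d g).choose
    (exists_isFrac_W₀ n R d g).choose_spec.choose_spec.choose

variable {n R d}

lemma lamFun_eq {g : Γ(GrMod.tilde 𝒜 𝒜 d, W₀ n R)} {K e : ℕ} {A : S} (hA : A ∈ 𝒜 e)
    (he : (e : ℤ) = K * ((n : ℤ) + 1) + d) (h : IsFrac n R d fA (fAll_notMem n R) K A g) :
    lamFun n R d g = ν R K A := by
  obtain ⟨hA₀, he₀, h₀⟩ := (exists_isFrac_W₀ n R d g).choose_spec.choose_spec.choose_spec
  exact ν_eq_of_isFrac hA₀ hA he₀ he h₀ h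

lemma lamFun_add (g g' : Γ(GrMod.tilde 𝒜 𝒜 d, W₀ n R)) :
    lamFun n R d (g + g') = lamFun n R d g + lamFun n R d g' := by
  obtain ⟨K, e, A, hA, he, h⟩ := exists_isFrac_W₀ n R d g
  obtain ⟨K', e', A', hA', he', h'⟩ := exists_isFrac_W₀ n R d g'
  obtain ⟨e₁, A₁, hA₁, he₁, hf₁, hν₁⟩ := h.raise hA he (max K K') (le_max_left _ _)
  obtain ⟨e₂, A₂, hA₂, he₂, hf₂, hν₂⟩ := h'.raise hA' he' (max K K') (le_max_right _ _)
  have hee : e₂ = e₁ := by
    have : (e₂ : ℤ) = (e₁ : ℤ) := by rw [he₁, he₂]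
    exact_mod_cast this
  subst hee
  rw [lamFun_eq hA he h, lamFun_eq hA' he' h',
    lamFun_eq (Submodule.add_mem _ hA₁ hA₂) he₁ (hf₁.add hf₂), map_add, hν₁, hν₂]

variable (n R d)

/-- the residue functional, as an additive map -/
noncomputable def lam : Γ(GrMod.tilde 𝒜 𝒜 d, W₀ n R) →+ S :=
  AddMonoidHom.mk' (lamFun n R d) lamFun_add

variable {n R d}

lemma lam_eq {g : Γ(GrMod.tilde 𝒜 𝒜 d, W₀ n R)} {K e : ℕ} {A : S} (hA : A ∈ 𝒜 e)
    (he : (e : ℤ) = K * ((n : ℤ) + 1) + d) (h : IsFrac n R d fA (fAll_notMem n R) K A g) :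
    lam n R d g = ν R K A := lamFun_eq hA he h

/-- sections coming from an open `U_b` with `b` not surjective have no residue -/
lemma lam_eq_zero_of_mem_Gs {s : Set (Idx.{u} n)} {g : Γ(GrMod.tilde 𝒜 𝒜 d, W₀ n R)}
    (hg : g ∈ Gs n R d s) (i : Idx.{u} n) (hi : i ∉ s) : lam n R d g = 0 := by
  obtain ⟨K, e, A, hA, he, hc, h⟩ := hg
  rw [lam_eq hA he h]
  apply ν_eq_zero_of_big R K A i.down
  intro m hm
  apply hc m hm
  rintro ⟨x, hx, hxi⟩
  apply hi
  have : x = i := by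
    cases x; cases i; simp_all
  rwa [← this]

end Groth.Agent.Lib.Helper93.PnCoh
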