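import Groth.Agent.Lib.Helper93.PnCoh5
import Groth.Agent.Lib.Helper93.CechPoly2
import Groth.Agent.Lib.Helper93.CechBridge2

/-!
# helper93: top cohomology of `O(d)` on `P^n_R` — cocycles and coboundaries in the top degree
-/

set_option autoImplicit false
universe u
open CategoryTheory AlgebraicGeometry TopologicalSpace Opposite MvPolynomial Limits
open Groth.Agent.Lib.Helper60.TildeSec Groth.Agent.Lib.Helper93.CechPoly
open Groth.Agent.Lib.Helper93.CechAlg Groth.Agent.Lib.Helper93.CechBridge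
open Groth.Agent.Lib.Helper93.NuPoly

namespace Groth.Agent.Lib.Helper93.PnCoh

variable (n : ℕ) (R : Type u) [CommRing R] (d : ℤ)

local notation "𝒜" => CohB1.polyGrading n R
local notation "S" => MvPolynomial (Fin (n + 1)) R
local notation "fA" => fS n R Finset.univ

lemma small_iff_notMem_big (K : ℕ) (m : Fin (n + 1) →₀ ℕ) : NuPoly.Small K m ↔ m ∉ Big K := by
  unfold NuPoly.Small Big
  simp only [Set.mem_setOf_eq, not_exists, not_le]

/-- a top-degree model cocycle without residue is a model coboundary -/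
theorem halg_top (p : ℕ) (hn : p + 1 = n) (b₀ : Fin (p + 2) → Idx.{u} n)
    (hb₀ : Function.Bijective b₀)
    (g : (Fin (p + 2) → Idx.{u} n) → (P n R d).obj (op (W₀ n R)))
    (hg : ∀ b, g b ∈ Gs n R d (Set.range b)) (hcoc : ∀ c, dd g c = 0)
    (hres : lam n R d (g b₀) = 0) :
    ∃ h : (Fin (p + 1) → Idx.{u} n) → (P n R d).obj (op (W₀ n R)),
      (∀ b', h b' ∈ Gs n R d (Set.range b')) ∧ ∀ b, dd h b = g b := by
  classical
  choose K₁ e₁ A₁ hA₁ he₁ hc₁ hf₁ using hg
  set K := Finset.univ.sup K₁ with hKdef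
  have hK : ∀ b, K₁ b ≤ K := fun b => Finset.le_sup (Finset.mem_univ b)
  choose e A hA he hc hf using fun b =>
    Gs_raise n R d (hA₁ b) (he₁ b) (hc₁ b) (hf₁ b) K (hK b)
  set D := e (fun _ => ULift.up 0) with hD
  have heD : ∀ b, e b = D := by
    intro b
    have h1 := he b
    have h2 := he (fun _ => ULift.up 0)
    have : (e b : ℤ) = (D : ℤ) := by rw [hD, h1, h2]
    exact_mod_cast this
  have hDz : (D : ℤ) = K * ((n : ℤ) + 1) + d := he _
  -- transport to tuples of `Fin (n + 1)`
  set A₀ : (Fin (p + 2) → Fin (n + 1)) → S := fun b₁ => A (fun k => ULift.up (b₁ k)) with hA₀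
  have hhom : ∀ b₁, (A₀ b₁).IsHomogeneous D := by
    intro b₁
    have := hA (fun k => ULift.up (b₁ k))
    rw [heD] at this
    exact this
  have hcond : ∀ b₁, Cond K (Set.range b₁) (A₀ b₁) := by
    intro b₁
    have := hc (fun k => ULift.up (b₁ k))
    convert this using 1
    ext i
    simp
  have hcoc₀ : ∀ c₀, dd A₀ c₀ = 0 := by
    intro c₀
    have h1 : IsFrac n R d (fS n R Finset.univ) (fAll_notMem n R) K (dd A₀ c₀)
        (dd g (fun k => ULift.up (c₀ k))) := by
      unfold dd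
      apply IsFrac.sum
      intro k _
      exact (hf _).zsmul _
    rw [hcoc] at h1
    have hmem : dd A₀ c₀ ∈ 𝒜 D := by
      unfold dd
      apply Submodule.sum_mem
      intro k _
      exact Submodule.smul_of_tower_mem _ _ (hhom _)
    exact IsFrac.num_eq_zero (n := n) (R := R) (d := d) (Nat.succ_pos n) (fAll_mem n R)
      (mem_W₀_iff n R) (isRegular_fS_pow n R Finset.univ) hmem h1
  -- the residue condition
  set b₁ : Fin (p + 2) → Fin (n + 1) := fun k => (b₀ k).down with hb₁
  have hb₁bij : Function.Bijective b₁ := by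
    have : b₁ = ULift.down ∘ b₀ := rfl
    rw [this]
    exact (Equiv.ulift.bijective).comp hb₀
  have hA₀b₁ : A₀ b₁ = A b₀ := rfl
  have hres' : ∀ m : Fin (n + 1) →₀ ℕ, m ∉ Big K → coeff m (A₀ b₁) = 0 := by
    intro m hm
    rw [hA₀b₁]
    have h1 : ν R K (A b₀) = 0 := by
      rw [← lam_eq (hA b₀) (he b₀) (hf b₀)]
      exact hres
    exact coeff_eq_zero_of_ν_eq_zero R K (A b₀) h1 m ((small_iff_notMem_big n K m).2 hm)
  have hcard : Fintype.card (Fin (n + 1)) = p + 2 := by
    rw [Fintype.card_fin]; omega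
  obtain ⟨B₀, hB₀hom, hB₀cond, hB₀d⟩ :=
    poly_top K D p A₀ hhom hcond hcoc₀ hcard b₁ hb₁bij hres'
  -- back to sections
  have hsec : ∀ b' : Fin (p + 1) → Idx.{u} n, ∃ t : (P n R d).obj (op (W₀ n R)),
      IsFrac n R d (fS n R Finset.univ) (fAll_notMem n R) K (B₀ (fun k => (b' k).down)) t := by
    intro b'
    exact exists_section_of_frac (n := n) (R := R) (d := d) (fAll_mem n R) (fAll_notMem n R)
      (hB₀hom _) (by push_cast; exact hDz)
  choose h hh using hsec
  refine ⟨h, fun b' => ?_, fun b => ?_⟩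
  · refine ⟨K, D, B₀ (fun k => (b' k).down), hB₀hom _, hDz, ?_, hh b'⟩
    have := hB₀cond (fun k => (b' k).down)
    convert this using 1
    ext i
    simp
  · have h1 : IsFrac n R d (fS n R Finset.univ) (fAll_notMem n R) K
        (dd B₀ (fun k => (b k).down)) (dd h b) := by
      unfold dd
      apply IsFrac.sum
      intro k _
      exact (hh _).zsmul _
    rw [hB₀d] at h1
    exact h1.ext (hf b)

/-- a top-degree model cocycle with prescribed residue -/
theorem exists_model_cocycle (k : ℕ) (hd : d = -((n : ℤ) + 1 + k))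
    (b₀ : Fin (n + 1) → Idx.{u} n) (hb₀ : Function.Bijective b₀) (a : S) (ha : a ∈ 𝒜 k) :
    ∃ g : (Fin (n + 1) → Idx.{u} n) → (P n R d).obj (op (W₀ n R)),
      (∀ b, g b ∈ Gs n R d (Set.range b)) ∧ (∀ c, dd g c = 0) ∧ lam n R d (g b₀) = a := by
  classical
  set K := k + 1 with hK
  set D := n * k with hD
  have hDz : (D : ℤ) = K * ((n : ℤ) + 1) + d := by
    rw [hd, hD, hK]
    push_cast
    ring
  have hÂ : (ν R K a).IsHomogeneous D := by
    apply isHomogeneous_ν R K k D ?_ a ha
    rw [Fintype.card_fin, hK, hD]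
    simp only [Nat.add_sub_cancel]
    ring
  obtain ⟨g₀, hg₀⟩ := exists_section_of_frac (n := n) (R := R) (d := d) (fAll_mem n R)
    (fAll_notMem n R) (K := K) (e := D) (a := ν R K a) hÂ (by push_cast; exact hDz)
  have hsmall : ∀ m, coeff m a ≠ 0 → NuPoly.Small K m := by
    intro m hm i
    have h1 : Finsupp.degree m = k := by
      rw [← wt_eq_deg]; exact ha hm
    have h2 : m i ≤ Finsupp.degree m := by
      rw [Finsupp.degree_eq_sum]
      exact Finset.single_le_sum (f := fun i => m i) (fun _ _ => Nat.zero_le _) (Finset.mem_univ i)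
    omega
  have hlam : lam n R d g₀ = a := by
    rw [lam_eq hÂ hDz hg₀, ν_ν R K a hsmall]
  set b₁ : Fin (n + 1) → Fin (n + 1) := fun j => (b₀ j).down with hb₁
  have hb₁bij : Function.Bijective b₁ := by
    have : b₁ = ULift.down ∘ b₀ := rfl
    rw [this]
    exact (Equiv.ulift.bijective).comp hb₀
  obtain ⟨sgn, hsv, hsc, hs0⟩ :=
    (top_eval ℤ n (Fin (n + 1)) (by rw [Fintype.card_fin]) b₁ hb₁bij).2 1
  refine ⟨fun b => sgn (fun j => (b j).down) • g₀, fun b => ?_, fun c => ?_, ?_⟩
  · refine ⟨K, D, sgn (fun j => (b j).down) • ν R K a, Submodule.smul_of_tower_mem _ _ hÂ, hDz,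
      ?_, hg₀.zsmul _⟩
    by_cases hsurj : Function.Surjective (fun j => (b j).down)
    · intro m _ i hi
      exfalso
      apply hi
      obtain ⟨j, hj⟩ := hsurj i
      exact ⟨b j, ⟨j, rfl⟩, hj⟩
    · rw [hsv _ hsurj, zero_smul]
      intro m hm
      simp at hm
  · let φ : ℤ →+ (P n R d).obj (op (W₀ n R)) := (smulAddHom ℤ _).flip g₀
    have h1 := dd_map φ (fun b : Fin (n + 1) → Idx.{u} n => sgn (fun j => (b j).down)) c
    have h2 : dd (fun b : Fin (n + 1) → Idx.{u} n => sgn (fun j => (b j).down)) c =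
        dd sgn (fun j => (c j).down) := rfl
    rw [h2, hsc, map_zero] at h1
    exact h1.symm
  · show lam n R d (sgn b₁ • g₀) = a
    rw [hs0, one_smul, hlam]

/-- coboundaries have no residue -/
lemma lam_dd_eq_zero (p : ℕ) (b₀ : Fin (p + 2) → Idx.{u} n) (hb₀ : Function.Injective b₀)
    (h : (Fin (p + 1) → Idx.{u} n) → (P n R d).obj (op (W₀ n R)))
    (hh : ∀ b', h b' ∈ Gs n R d (Set.range b')) : lam n R d (dd h b₀) = 0 := by
  unfold dd
  rw [map_sum]
  apply Finset.sum_eq_zero
  intro k _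
  rw [map_zsmul, lam_eq_zero_of_mem_Gs (hh _) (b₀ k), smul_zero]
  rintro ⟨j, hj⟩
  have := hb₀ hj
  exact Fin.succAbove_ne k j this

end Groth.Agent.Lib.Helper93.PnCoh
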