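import Groth.Agent.Lib.Helper93.PnCoh4
import Groth.Agent.Lib.Helper21.DevSummand
import Groth.Agent.Lib.Lead.CohAff3
import Groth.Agent.Lib.Helper7.ProjSpaceProper

/-!
# helper93: the twisting sheaves on `P^n_R` are coherent; finite coproducts of coherent modules
-/

set_option autoImplicit false
universe u
open CategoryTheory CategoryTheory.Limits AlgebraicGeometry TopologicalSpace Opposite MvPolynomial
open Groth.Agent.Lib.Helper60.TildeSec Groth.Agent.Lib.Helper60.ProjFrac

namespace Groth.Agent.Lib.Helper93.PnFin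

open Groth.Agent.Lib.Helper93.PnCoh

section Sigma

variable {X : Scheme.{u}}

/-- finite coproducts of coherent modules are coherent -/
theorem isCoh_sigma : ∀ {r : ℕ} (f : Fin r → X.Modules), (∀ j, Coh.IsCoh (f j)) → Coh.IsCoh (∐ f)
  | 0, f, _ => by
    apply Groth.Agent.Lib.Helper21.Devissage.isCoh_of_isZero
    rw [IsZero.iff_id_eq_zero]
    exact Sigma.hom_ext _ _ (fun j => Fin.elim0 j)
  | r + 1, f, hf => by
    haveI : HasFiniteBiproducts X.Modules := Abelian.hasFiniteBiproducts
    have ih := isCoh_sigma (fun j : Fin r => f j.succ) (fun j => hf j.succ)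
    let e : (∐ f) ≅ (f 0 ⨿ ∐ fun j : Fin r => f j.succ) :=
      IsColimit.coconePointUniqueUpToIso (coproductIsCoproduct f)
        (extendCofanIsColimit f (coproductIsCoproduct _) (coprodIsCoprod _ _))
    have h1 : Coh.IsCoh (f 0 ⊞ ∐ fun j : Fin r => f j.succ) :=
      Groth.Agent.Lib.Helper21.DevSummand.isCoh_biprod (hf 0) ih
    exact Groth.Agent.Lib.Helper21.Devissage.isCoh_of_iso
      ((biprod.isoCoprod _ _).trans e.symm) h1

end Sigma

end Groth.Agent.Lib.Helper93.PnFin
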