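import Mathlib

set_option autoImplicit false
universe u

open TensorProduct

namespace Groth.Agent.Lib.Helper93.PrimKF3

section

variable {k k2 k0 κ : Type u} [Field k] [Field k2] [Field k0] [Field κ] [Algebra k k2]
  [Algebra k k0] [Algebra k2 k0] [IsScalarTower k k2 k0] [Algebra k κ]

/-- the comparison map `D = k2 ⊗ κ → k0 ⊗ κ`. -/
noncomputable abbrev jmap : k2 ⊗[k] κ →ₐ[k] k0 ⊗[k] κ :=
  Algebra.TensorProduct.map (IsScalarTower.toAlgHom k k2 k0) (AlgHom.id k κ)

/-- a nonzero element of the domain `D = k2 ⊗ κ` acts injectively on `k0 ⊗ κ`. -/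
theorem jmap_mul_eq_zero [IsDomain (k2 ⊗[k] κ)] (d : k2 ⊗[k] κ) (hd : d ≠ 0) (w : k0 ⊗[k] κ)
    (h : jmap (k0 := k0) d * w = 0) : w = 0 := by
  classical
  let ι := Module.Free.ChooseBasisIndex k2 k0
  let b : Module.Basis ι k2 k0 := Module.Free.chooseBasis k2 k0
  let Φ : k0 ⊗[k] κ ≃ₗ[k] (ι →₀ k2 ⊗[k] κ) :=
    (LinearEquiv.rTensor κ (b.repr.restrictScalars k)) ≪≫ₗ (TensorProduct.finsuppLeft k k k2 κ ι)
  have hΦ : ∀ (a : k0) (c : κ) (i : ι), Φ (a ⊗ₜ c) i = b.repr a i ⊗ₜ c := by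
    intro a c i
    show (TensorProduct.finsuppLeft k k k2 κ ι) ((b.repr a) ⊗ₜ[k] c) i = _
    rw [TensorProduct.finsuppLeft_apply_tmul_apply]
  have key : ∀ (d : k2 ⊗[k] κ) (x : k0 ⊗[k] κ) (i : ι), Φ (jmap (k0 := k0) d * x) i = d * Φ x i := by
    intro d x i
    induction d using TensorProduct.induction_on with
    | zero => simp
    | tmul a2 c2 =>
      induction x using TensorProduct.induction_on with
      | zero => simp
      | tmul a c =>
        rw [Algebra.TensorProduct.map_tmul, Algebra.TensorProduct.tmul_mul_tmul, hΦ, hΦ,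
          Algebra.TensorProduct.tmul_mul_tmul]
        congr 1
        show b.repr (algebraMap k2 k0 a2 * a) i = a2 * b.repr a i
        rw [← Algebra.smul_def, map_smul]
        rfl
      | add x y hx hy =>
        rw [mul_add, map_add, Finsupp.add_apply, hx, hy, map_add, Finsupp.add_apply, mul_add]
    | add d1 d2 h1 h2 =>
      rw [map_add, add_mul, map_add, Finsupp.add_apply, h1, h2, add_mul]
  have h0 : Φ w = 0 := by
    ext i
    have := key d w i
    rw [h, map_zero, Finsupp.zero_apply] at this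
    rcases mul_eq_zero.mp this.symm with h' | h'
    · exact absurd h' hd
    · simpa using h'
  exact Φ.map_eq_zero_iff.mp h0

theorem exists_pow_eq_jmap [IsPurelyInseparable k2 k0] (p : ℕ) [ExpChar k p]
    [ExpChar (k0 ⊗[k] κ) p] [ExpChar (k2 ⊗[k] κ) p]
    (t : k0 ⊗[k] κ) : ∃ (n : ℕ) (d : k2 ⊗[k] κ), t ^ p ^ n = jmap (k0 := k0) d := by
  haveI : ExpChar k2 p := expChar_of_injective_algebraMap (algebraMap k k2).injective p
  induction t using TensorProduct.induction_on with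
  | zero => exact ⟨0, 0, by simp⟩
  | tmul a c =>
    obtain ⟨n, a2, ha2⟩ := IsPurelyInseparable.pow_mem k2 p a
    refine ⟨n, a2 ⊗ₜ (c ^ p ^ n), ?_⟩
    rw [Algebra.TensorProduct.tmul_pow, Algebra.TensorProduct.map_tmul, ← ha2]
    rfl
  | add x y hx hy =>
    obtain ⟨n1, d1, h1⟩ := hx
    obtain ⟨n2, d2, h2⟩ := hy
    refine ⟨n1 + n2, d1 ^ p ^ n2 + d2 ^ p ^ n1, ?_⟩
    rw [add_pow_expChar_pow, map_add, map_pow, map_pow, ← h1, ← h2, ← pow_mul, ← pow_mul,
      ← pow_add, ← pow_add, add_comm n2 n1]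

end

theorem kf_core {k k2 k0 κ : Type u} [Field k] [Field k2] [Field k0] [Field κ] [Algebra k k2]
    [Algebra k k0] [Algebra k2 k0] [IsScalarTower k k2 k0] [Algebra k κ]
    [IsPurelyInseparable k2 k0] [IsDomain (k2 ⊗[k] κ)] (t w : k0 ⊗[k] κ) (hw : w ≠ 0)
    (h : t * w = 0) : IsNilpotent t := by
  haveI : Nontrivial (k0 ⊗[k] κ) := ⟨⟨w, 0, hw⟩⟩
  let p := ringExpChar k
  haveI : ExpChar k p := inferInstance
  haveI : ExpChar (k0 ⊗[k] κ) p :=
    expChar_of_injective_algebraMap (algebraMap k (k0 ⊗[k] κ)).injective p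
  haveI : ExpChar (k2 ⊗[k] κ) p :=
    expChar_of_injective_algebraMap (algebraMap k (k2 ⊗[k] κ)).injective p
  obtain ⟨n, d, hd⟩ := exists_pow_eq_jmap (k2 := k2) p t
  by_cases hd0 : d = 0
  · exact ⟨p ^ n, by rw [hd, hd0, map_zero]⟩
  · exfalso
    apply hw
    apply jmap_mul_eq_zero d hd0 w
    rw [← hd]
    have hpos : 0 < p ^ n := pow_pos (expChar_pos k p) n
    obtain ⟨m, hm⟩ := Nat.exists_eq_succ_of_ne_zero hpos.ne'
    rw [hm, pow_succ, mul_assoc, h, mul_zero]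

end Groth.Agent.Lib.Helper93.PrimKF3
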