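import Mathlib
import Groth.Agent.Lib.Helper93.PrimKF3

set_option autoImplicit false
universe u

open TensorProduct

namespace Groth.Agent.Lib.Helper93.PrimKF

section aux

variable {k κ k' : Type u} [Field k] [Field κ] [Field k'] [Algebra k κ] [Algebra k k']

/-- every tensor of `k' ⊗ κ` comes from `K ⊗ κ` as soon as the image of `K` contains a finite set. -/
theorem exists_finset (x : k' ⊗[k] κ) : ∃ T : Finset k', ∀ (K : Type u) [CommRing K] [Algebra k K]
    (f : K →ₐ[k] k'), (↑T : Set k') ⊆ Set.range f →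
    ∃ y : K ⊗[k] κ, Algebra.TensorProduct.map f (AlgHom.id k κ) y = x := by
  classical
  induction x using TensorProduct.induction_on with
  | zero => exact ⟨∅, fun K _ _ f _ => ⟨0, map_zero _⟩⟩
  | tmul a c =>
    refine ⟨{a}, fun K _ _ f hf => ?_⟩
    obtain ⟨a', ha'⟩ := hf (by simp : a ∈ ((↑({a} : Finset k')) : Set k'))
    exact ⟨a' ⊗ₜ c, by simp [ha']⟩
  | add x y hx hy =>
    obtain ⟨T1, h1⟩ := hx
    obtain ⟨T2, h2⟩ := hy
    refine ⟨T1 ∪ T2, fun K _ _ f hf => ?_⟩
    obtain ⟨y1, hy1⟩ := h1 K f (fun z hz => hf (by simp [Finset.mem_coe.mp hz]))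
    obtain ⟨y2, hy2⟩ := h2 K f (fun z hz => hf (by simp [Finset.mem_coe.mp hz]))
    exact ⟨y1 + y2, by rw [map_add, hy1, hy2]⟩

theorem map_injective (K : Type u) [CommRing K] [Algebra k K] (f : K →ₐ[k] k')
    (hf : Function.Injective f) :
    Function.Injective (Algebra.TensorProduct.map f (AlgHom.id k κ)) := by
  have h : Function.Injective (LinearMap.rTensor κ f.toLinearMap) :=
    Module.Flat.rTensor_preserves_injective_linearMap _ hf
  intro x y hxy
  apply h
  have e : ∀ z : K ⊗[k] κ, LinearMap.rTensor κ f.toLinearMap z =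
      Algebra.TensorProduct.map f (AlgHom.id k κ) z := by
    intro z
    induction z using TensorProduct.induction_on with
    | zero => simp
    | tmul a r => simp
    | add x y hx hy => rw [map_add, map_add, hx, hy]
  rw [e, e, hxy]

end aux

/-- `[KF]` conditional on the structure lemma `[KF2]` for finitely generated field extensions. -/
theorem kf_of_exists_k2 {k κ k' : Type u} [Field k] [Field κ] [Field k'] [Algebra k κ] [Algebra k k']
    (H : ∀ (k0 : Type u) [Field k0] [Algebra k k0], (⊤ : IntermediateField k k0).FG →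
      ∃ k2 : IntermediateField k k0, IsPurelyInseparable k2 k0 ∧ IsDomain (k2 ⊗[k] κ))
    (t w : k' ⊗[k] κ) (hw : w ≠ 0) (h : t * w = 0) : IsNilpotent t := by
  classical
  obtain ⟨Tt, hTt⟩ := exists_finset t
  obtain ⟨Tw, hTw⟩ := exists_finset w
  let K0 : IntermediateField k k' := IntermediateField.adjoin k (↑(Tt ∪ Tw) : Set k')
  have hsub : (↑(Tt ∪ Tw) : Set k') ⊆ Set.range K0.val := by
    intro z hz
    exact ⟨⟨z, IntermediateField.subset_adjoin k _ hz⟩, rfl⟩
  obtain ⟨t₀, ht₀⟩ := hTt K0 K0.val (fun z hz => hsub (by simp [Finset.mem_coe.mp hz]))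
  obtain ⟨w₀, hw₀⟩ := hTw K0 K0.val (fun z hz => hsub (by simp [Finset.mem_coe.mp hz]))
  have hinj := map_injective (κ := κ) K0 K0.val Subtype.val_injective
  have hw₀ne : w₀ ≠ 0 := by
    rintro rfl
    exact hw (by rw [← hw₀, map_zero])
  have h₀ : t₀ * w₀ = 0 := by
    apply hinj
    rw [map_mul, ht₀, hw₀, h, map_zero]
  have hfg : (⊤ : IntermediateField k K0).FG :=
    IntermediateField.fg_top_iff.mpr
      (IntermediateField.essFiniteType_iff.mpr (IntermediateField.fg_adjoin_finset _))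
  obtain ⟨k2, hpi, hdom⟩ := H K0 hfg
  obtain ⟨n, hn⟩ := Groth.Agent.Lib.Helper93.PrimKF3.kf_core (k2 := k2) t₀ w₀ hw₀ne h₀
  exact ⟨n, by rw [← ht₀, ← map_pow, hn, map_zero]⟩

end Groth.Agent.Lib.Helper93.PrimKF
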