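import Mathlib
import Groth.Agent.Lib.Helper93.PrimKF
import Groth.Agent.Lib.Helper51.PrimKF2

set_option autoImplicit false
universe u

open TensorProduct

namespace Groth.Agent.Lib.Helper93.PrimKFfin

/-- `[KF]` of S4899 (msg 4539): for `κ/k` primary, zero divisors of `k' ⊗[k] κ` are nilpotent. -/
theorem isNilpotent_of_mul_eq_zero_of_primary {k κ k' : Type u} [Field k] [Field κ] [Field k'] [Algebra k κ] [Algebra k k'] (hprim : ∀ a : κ, IsSeparable k a → a ∈ Set.range (algebraMap k κ)) (t w : k' ⊗[k] κ) (hw : w ≠ 0) (h : t * w = 0) : IsNilpotent t :=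
  Groth.Agent.Lib.Helper93.PrimKF.kf_of_exists_k2
    (fun _ _ _ hfg => Groth.Agent.Lib.Helper51.PrimKF2.exists_k2 hfg hprim) t w hw h

end Groth.Agent.Lib.Helper93.PrimKFfin
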