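import Mathlib
import Groth.Agent.Lib.Helper93.ProjAvoid
import Groth.Agent.Lib.Helper93.DimDrop

set_option autoImplicit false
open AlgebraicGeometry TopologicalSpace Topology DirectSum Order

namespace Groth.Agent.Lib.Helper93.ProjAvoid

open Groth.Agent.Lib.Helper93.DimDrop

/-- In a Noetherian quasi-sober space, a closed set has a finite set of points such that every
point of the closed set is a specialization of one of them. -/
theorem exists_finite_generic_points {T : Type*} [TopologicalSpace T] [NoetherianSpace T]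
    [QuasiSober T] {F : Set T} (hF : IsClosed F) :
    ∃ M : Set T, M.Finite ∧ M ⊆ F ∧ ∀ y ∈ F, ∃ m ∈ M, m ⤳ y := by
  have : QuasiSober ↥F := hF.isClosedEmbedding_subtypeVal.quasiSober
  have hfin : (irreducibleComponents ↥F).Finite := NoetherianSpace.finite_irreducibleComponents
  have hgen : ∀ u : irreducibleComponents ↥F, ∃ m : ↥F, IsGenericPoint m (u : Set ↥F) :=
    fun u => QuasiSober.sober u.2.1 (isClosed_of_mem_irreducibleComponents _ u.2)
  choose gp hgp using hgen
  have : Finite (irreducibleComponents ↥F) := hfin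
  refine ⟨Set.range fun u => (gp u).1, Set.finite_range _, ?_, ?_⟩
  · rintro _ ⟨u, rfl⟩
    exact (gp u).2
  · intro y hy
    obtain ⟨u, hu, hyu⟩ := exists_mem_irreducibleComponents_subset_of_isIrreducible
      ({(⟨y, hy⟩ : ↥F)}) isIrreducible_singleton
    refine ⟨(gp ⟨u, hu⟩).1, ⟨⟨u, hu⟩, rfl⟩, ?_⟩
    have h1 : gp ⟨u, hu⟩ ⤳ (⟨y, hy⟩ : ↥F) := by
      rw [specializes_iff_mem_closure, (hgp ⟨u, hu⟩).def]
      exact hyu rfl
    exact h1.map continuous_subtype_val

section Cover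

variable {A σ : Type*} [CommRing A] [SetLike σ A] [AddSubmonoidClass σ A] (𝒜 : ℕ → σ)
  [GradedRing 𝒜]

/-- Covering `F ∖ Z` by `d` basic opens of hypersurfaces through `Z`, when `dim (F ∖ Z) < d`. -/
theorem exists_hypersurfaces_cover [IsNoetherianRing A] [QuasiSober (ProjectiveSpectrum 𝒜)]
    (Z : Set (ProjectiveSpectrum 𝒜)) (hZ : IsClosed Z) :
    ∀ (d : ℕ) (F : Set (ProjectiveSpectrum 𝒜)), IsClosed F →
      topologicalKrullDim ↥(F \ Z) < (d : WithBot ℕ∞) →
      ∃ h : Fin d → A, (∀ j, ∃ e, 0 < e ∧ h j ∈ 𝒜 e) ∧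
        (∀ j, ∀ z ∈ Z, h j ∈ z.asHomogeneousIdeal.toIdeal) ∧
        ∀ x ∈ F, x ∉ Z → ∃ j, h j ∉ x.asHomogeneousIdeal.toIdeal := by
  have : NoetherianSpace (ProjectiveSpectrum 𝒜) := noetherianSpace_projectiveSpectrum 𝒜
  intro d
  induction d with
  | zero =>
    intro F hF hdim
    refine ⟨Fin.elim0, fun j => j.elim0, fun j => j.elim0, ?_⟩
    intro x hx hxZ
    exfalso
    have hne : Nonempty ↥(F \ Z) := ⟨⟨x, hx, hxZ⟩⟩
    have h0 : (0 : WithBot ℕ∞) ≤ topologicalKrullDim ↥(F \ Z) := by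
      unfold topologicalKrullDim
      haveI : Nonempty (IrreducibleCloseds ↥(F \ Z)) :=
        ⟨⟨closure {⟨x, hx, hxZ⟩}, isIrreducible_singleton.closure, isClosed_closure⟩⟩
      exact Order.krullDim_nonneg
    exact absurd (lt_of_le_of_lt h0 hdim) (by simp)
  | succ d ih =>
    intro F hF hdim
    obtain ⟨M, hMfin, hMF, hM⟩ := exists_finite_generic_points hF
    have hM' : (M \ Z).Finite := hMfin.subset Set.sdiff_subset
    let J : HomogeneousIdeal 𝒜 := ProjectiveSpectrum.vanishingIdeal Z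
    have hJZ : ∀ x, x ∉ Z → ¬ J.toIdeal ≤ x.asHomogeneousIdeal.toIdeal := by
      intro x hx hle
      apply hx
      rw [← hZ.closure_eq, ← ProjectiveSpectrum.zeroLocus_vanishingIdeal_eq_closure]
      exact hle
    classical
    obtain ⟨g, hgJ, e, he, hge, hg⟩ := exists_homogeneous_notMem 𝒜 J.toIdeal hM'.toFinset
      (fun x => x.asHomogeneousIdeal.toIdeal) (fun x _ => x.isPrime)
      (fun x hx => exists_pos_homogeneous_notMem 𝒜 J x
        (hJZ x ((Set.Finite.mem_toFinset hM').mp hx).2))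
    have hgZ : ∀ z ∈ Z, g ∈ z.asHomogeneousIdeal.toIdeal := by
      intro z hz
      have := (ProjectiveSpectrum.mem_vanishingIdeal Z g).mp hgJ
      exact this z hz
    let F' : Set (ProjectiveSpectrum 𝒜) := F ∩ ProjectiveSpectrum.zeroLocus 𝒜 {g}
    have hF' : IsClosed F' := hF.inter (ProjectiveSpectrum.isClosed_zeroLocus 𝒜 _)
    have hmemF' : ∀ x, x ∈ F' ↔ x ∈ F ∧ g ∈ x.asHomogeneousIdeal.toIdeal := by
      intro x
      simp only [F', Set.mem_inter_iff, ProjectiveSpectrum.mem_zeroLocus,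
        Set.singleton_subset_iff]
      rfl
    have hdrop : topologicalKrullDim ↥(F' \ Z) + 1 ≤ topologicalKrullDim ↥(F \ Z) := by
      haveI : QuasiSober ↥(F' \ Z) := quasiSober_diff hF' hZ
      refine topologicalKrullDim_add_one_le
        (Set.sdiff_subset_sdiff_left Set.inter_subset_left) ?_
      rintro y ⟨hyF', hyZ⟩
      obtain ⟨m, hmM, hmy⟩ := hM y ((hmemF' y).mp hyF').1
      have hmZ : m ∉ Z := fun hmZ => hyZ (hmy.mem_closed hZ hmZ)
      refine ⟨m, ⟨hMF hmM, hmZ⟩, hmy, ?_⟩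
      intro hym
      have hgm : g ∉ m.asHomogeneousIdeal.toIdeal :=
        hg m ((Set.Finite.mem_toFinset hM').mpr ⟨hmM, hmZ⟩)
      apply hgm
      have : m ∈ ProjectiveSpectrum.zeroLocus 𝒜 {g} :=
        hym.mem_closed (ProjectiveSpectrum.isClosed_zeroLocus 𝒜 _)
          (by
            rw [ProjectiveSpectrum.mem_zeroLocus, Set.singleton_subset_iff]
            exact ((hmemF' y).mp hyF').2)
      rw [ProjectiveSpectrum.mem_zeroLocus, Set.singleton_subset_iff] at this
      exact this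
    have hdim' : topologicalKrullDim ↥(F' \ Z) < (d : WithBot ℕ∞) := by
      have h1 : topologicalKrullDim ↥(F' \ Z) + 1 < ((d + 1 : ℕ) : WithBot ℕ∞) :=
        lt_of_le_of_lt hdrop hdim
      rcases eq_or_ne (topologicalKrullDim ↥(F' \ Z)) ⊥ with hbot | hbot
      · rw [hbot]; exact WithBot.bot_lt_coe _
      obtain ⟨a, ha⟩ := WithBot.ne_bot_iff_exists.mp hbot
      rw [← ha] at h1 ⊢
      have h2 : a + 1 < ((d + 1 : ℕ) : ℕ∞) := by exact_mod_cast h1
      have h3 : a < (d : ℕ∞) := by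
        rcases eq_or_ne a ⊤ with rfl | hat
        · simp at h2
        obtain ⟨k, rfl⟩ := ENat.ne_top_iff_exists.mp hat
        have : k + 1 < d + 1 := by exact_mod_cast h2
        exact_mod_cast (by omega : k < d)
      exact_mod_cast h3
    obtain ⟨h', h1, h2, h3⟩ := ih F' hF' hdim'
    refine ⟨Fin.snoc h' g, ?_, ?_, ?_⟩
    · intro j
      refine Fin.lastCases ?_ (fun i => ?_) j
      · rw [Fin.snoc_last]; exact ⟨e, he, hge⟩
      · rw [Fin.snoc_castSucc]; exact h1 i
    · intro j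
      refine Fin.lastCases ?_ (fun i => ?_) j
      · rw [Fin.snoc_last]; exact hgZ
      · rw [Fin.snoc_castSucc]; exact h2 i
    · intro x hxF hxZ
      by_cases hgx : g ∈ x.asHomogeneousIdeal.toIdeal
      · obtain ⟨j, hj⟩ := h3 x ((hmemF' x).mpr ⟨hxF, hgx⟩) hxZ
        exact ⟨j.castSucc, by rw [Fin.snoc_castSucc]; exact hj⟩
      · exact ⟨Fin.last d, by rw [Fin.snoc_last]; exact hgx⟩

/-- A locally closed subset `R` of `Proj` over a Noetherian ring, of dimension `d`, is covered by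
`d + 1` basic opens `D₊(h i)`, each of which meets the closure of `R` only inside `R`. -/
theorem exists_cover_of_isLocallyClosed [IsNoetherianRing A] [QuasiSober (ProjectiveSpectrum 𝒜)]
    (R : Set (ProjectiveSpectrum 𝒜)) (hR : IsLocallyClosed R) (d : ℕ)
    (hdim : topologicalKrullDim ↥R = d) :
    ∃ h : Fin (d + 1) → A,
      (∀ i, ∃ e : ℕ, 0 < e ∧ h i ∈ 𝒜 e) ∧
      (∀ x ∈ R, ∃ i, h i ∉ x.asHomogeneousIdeal.toIdeal) ∧
      (∀ i, ∀ x ∈ closure R, h i ∉ x.asHomogeneousIdeal.toIdeal → x ∈ R) := by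
  obtain ⟨W, Z0, hW, hZ0, heq0⟩ := hR
  have hrange : R = W ∩ closure R := by
    apply subset_antisymm
    · intro x hx
      refine ⟨?_, subset_closure hx⟩
      rw [heq0] at hx
      exact hx.1
    · rintro x ⟨hxW, hxc⟩
      rw [heq0]
      refine ⟨hxW, ?_⟩
      have : closure R ⊆ Z0 := by
        rw [heq0]
        exact closure_minimal Set.inter_subset_right hZ0
      exact this hxc
  have hZ : IsClosed (closure R ∩ Wᶜ) := isClosed_closure.inter hW.isClosed_compl
  have hFZ : closure R \ (closure R ∩ Wᶜ) = R := by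
    ext x
    simp only [Set.mem_diff, Set.mem_inter_iff, Set.mem_compl_iff, not_and, not_not]
    constructor
    · rintro ⟨h1, h2⟩
      rw [hrange]
      exact ⟨h2 h1, h1⟩
    · intro hx
      rw [hrange] at hx
      exact ⟨hx.2, fun _ => hx.1⟩
  have hdim' : topologicalKrullDim ↥(closure R \ (closure R ∩ Wᶜ)) <
      ((d + 1 : ℕ) : WithBot ℕ∞) := by
    rw [hFZ, hdim]
    exact_mod_cast Nat.lt_succ_self d
  obtain ⟨h, h1, h2, h3⟩ := exists_hypersurfaces_cover 𝒜 (closure R ∩ Wᶜ) hZ (d + 1)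
    (closure R) isClosed_closure hdim'
  refine ⟨h, h1, ?_, ?_⟩
  · intro x hx
    have hx' : x ∈ closure R \ (closure R ∩ Wᶜ) := by rw [hFZ]; exact hx
    exact h3 x hx'.1 hx'.2
  · intro i x hx hi
    have hxZ : x ∉ closure R ∩ Wᶜ := fun hz => hi (h2 i x hz)
    have : x ∈ closure R \ (closure R ∩ Wᶜ) := ⟨hx, hxZ⟩
    rwa [hFZ] at this

end Cover

end Groth.Agent.Lib.Helper93.ProjAvoid
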