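import Mathlib
import Groth.Prelude.Def_CohB1
import Groth.Agent.Lib.Helper93.ProjOverIso
import Groth.Agent.Lib.Helper93.ProjConst2

set_option autoImplicit false
universe u
open CategoryTheory CategoryTheory.Limits AlgebraicGeometry

namespace Groth.Agent.Lib.Helper93.ProjOverIso

section Fib
variable (n : ℕ) (S : Scheme.{u}) (R : Type u) [CommRing R] (t : Spec (CommRingCat.of R) ⟶ S)

/-- The base change of `P^n_S → S` along `Spec R → S` is `P^n_R`. -/
noncomputable def pullbackIso :
    pullback (CohB1.ProjSpaceOver.toBase n S) t ≅ CohB1.ProjSpace n R :=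
  (pullbackLeftPullbackSndIso (CohB1.ProjSpace.toSpec n (ULift.{u} ℤ))
      (specULiftZIsTerminal.from S) t).trans
    ((pullback.congrHom rfl (specULiftZIsTerminal.hom_ext _ _)).trans (overIso' n R))

end Fib

section Conn
variable (n : ℕ) (S : Scheme.{u})

theorem irreducibleSpace_fiber (s : S) :
    IrreducibleSpace ↥((CohB1.ProjSpaceOver.toBase n S).fiber s) := by
  let e := pullbackIso n S (S.residueField s) (S.fromSpecResidueField s)
  have h : IrreducibleSpace ↥(CohB1.ProjSpace n (S.residueField s)) := inferInstance
  let he : ↥(CohB1.ProjSpace n (S.residueField s)) ≃ₜ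
      ↥((CohB1.ProjSpaceOver.toBase n S).fiber s) := (Scheme.homeoOfIso e).symm
  exact he.surjective.irreducibleSpace he.continuous

theorem isPreconnected_preimage_singleton (s : S) :
    _root_.IsPreconnected ((CohB1.ProjSpaceOver.toBase n S).base ⁻¹' {s}) := by
  have := irreducibleSpace_fiber n S s
  rw [← (CohB1.ProjSpaceOver.toBase n S).range_fiberι s, ← Set.image_univ]
  exact (PreirreducibleSpace.isPreirreducible_univ
    (X := ↥((CohB1.ProjSpaceOver.toBase n S).fiber s))).isPreconnected.image _
      ((CohB1.ProjSpaceOver.toBase n S).fiberι s).continuous.continuousOn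

end Conn

end Groth.Agent.Lib.Helper93.ProjOverIso
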