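import Mathlib
import Groth.Agent.Lib.Lead.Allied

set_option autoImplicit false
universe u
open CategoryTheory CategoryTheory.Limits AlgebraicGeometry

namespace Groth.Agent.Lib.Helper93.PropBirat2

/-- A local homomorphism from a valuation ring `R` to a local ring `A` embedded in a field, inducing
a surjection of the ambient fields, is bijective. -/
theorem bijective_of_valuationRing {R A KY KX : Type*} [CommRing R] [IsDomain R] [ValuationRing R]
    [CommRing A] [Field KY] [Field KX] [Algebra R KY] [IsFractionRing R KY]
    (ι : A →+* KX) (hι : Function.Injective ι) (φ : R →+* A) [IsLocalHom φ]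
    (ψ : KY →+* KX) (hψ : Function.Surjective ψ)
    (hc : ι.comp φ = ψ.comp (algebraMap R KY)) : Function.Bijective φ := by
  have hc' : ∀ r, ι (φ r) = ψ (algebraMap R KY r) := fun r => RingHom.congr_fun hc r
  constructor
  · intro r s hrs
    apply IsFractionRing.injective R KY
    apply ψ.injective
    rw [← hc', ← hc', hrs]
  · intro a
    obtain ⟨b, hb⟩ := hψ (ι a)
    have case1 : ∀ r : R, algebraMap R KY r = b → ∃ r, φ r = a := by
      intro r hr
      exact ⟨r, hι (by rw [hc', hr, hb])⟩
    rcases ValuationRing.isInteger_or_isInteger R b with ⟨r, hr⟩ | ⟨r, hr⟩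
    · exact case1 r hr
    · by_cases hb0 : b = 0
      · refine ⟨0, hι ?_⟩
        rw [map_zero, map_zero, ← hb, hb0, map_zero]
      · have h1 : ι (φ r * a) = 1 := by
          rw [map_mul, hc', hr, ← hb, ← map_mul, inv_mul_cancel₀ hb0, map_one]
        have h2 : φ r * a = 1 := hι (by rw [h1, map_one])
        have hu : IsUnit r := IsUnit.of_map φ r (.of_mul_eq_one _ h2)
        obtain ⟨r', hr'⟩ := hu.exists_right_inv
        apply case1 r'
        have : algebraMap R KY r * algebraMap R KY r' = 1 := by
          rw [← map_mul, hr', map_one]
        rw [hr] at this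
        exact (eq_of_inv_mul_eq_one this).symm ▸ rfl

theorem range_comp_of_surjective {A B C : Type*} [Ring A] [Ring B] [Ring C] (g : B →+* C)
    (f : A →+* B) (hf : Function.Surjective f) : (g.comp f).range = g.range := by
  ext c
  constructor
  · rintro ⟨a, rfl⟩
    exact ⟨f a, rfl⟩
  · rintro ⟨b, rfl⟩
    obtain ⟨a, rfl⟩ := hf b
    exact ⟨a, rfl⟩

section Scheme

variable {X Y : Scheme.{u}} [IsIntegral X] [IsIntegral Y] (f : X ⟶ Y)
  (e : f (genericPoint X) = genericPoint Y)

/-- The map of function fields induced by a morphism sending generic point to generic point. -/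
noncomputable def ffMap : Y.functionField ⟶ X.functionField :=
  Y.presheaf.stalkSpecializes (specializes_of_eq e) ≫ f.stalkMap (genericPoint X)

theorem algebraMap_comp_stalkMap (x : X) (y : Y) (hy : f x = y) :
    (algebraMap (X.presheaf.stalk x) X.functionField).comp (f.stalkMap x).hom =
      (ffMap f e).hom.comp ((algebraMap (Y.presheaf.stalk y) Y.functionField).comp
        (Y.presheaf.stalkSpecializes (specializes_of_eq hy.symm)).hom) := by
  subst hy
  have hx : genericPoint X ⤳ x := (genericPoint_spec X).specializes (Set.mem_univ x)
  have hy : genericPoint Y ⤳ f x := (genericPoint_spec Y).specializes (Set.mem_univ _)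
  have h1 := Scheme.Hom.stalkSpecializes_stalkMap f (genericPoint X) x hx
  have h2 : Y.presheaf.stalkSpecializes (specializes_of_eq (rfl : f x = f x).symm) ≫
      Y.presheaf.stalkSpecializes hy ≫ Y.presheaf.stalkSpecializes (specializes_of_eq e) =
      Y.presheaf.stalkSpecializes (f.base.hom.map_specializes hx) := by
    rw [TopCat.Presheaf.stalkSpecializes_comp, TopCat.Presheaf.stalkSpecializes_comp]
  have h3 : f.stalkMap x ≫ X.presheaf.stalkSpecializes hx =
      Y.presheaf.stalkSpecializes (specializes_of_eq (rfl : f x = f x).symm) ≫
      Y.presheaf.stalkSpecializes hy ≫ ffMap f e := by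
    rw [← h1, ← h2]
    simp only [ffMap, Category.assoc]
  exact congrArg CommRingCat.Hom.hom h3

theorem isIso_stalkMap_of_valuationRing (hbij : Function.Bijective (ffMap f e).hom) (x : X)
    [ValuationRing (Y.presheaf.stalk (f x))] : IsIso (f.stalkMap x) := by
  rw [ConcreteCategory.isIso_iff_bijective]
  have hc := algebraMap_comp_stalkMap f e x (f x) rfl
  have hs : (Y.presheaf.stalkSpecializes (specializes_of_eq (rfl : f x = f x).symm)).hom =
      RingHom.id _ := by
    rw [TopCat.Presheaf.stalkSpecializes_refl]; rfl
  rw [hs, RingHom.comp_id] at hc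
  exact bijective_of_valuationRing (algebraMap (X.presheaf.stalk x) X.functionField)
    (IsFractionRing.injective _ _) (f.stalkMap x).hom (ffMap f e).hom hbij.2 hc

theorem range_algebraMap_eq (x : X) (y : Y) (hy : f x = y)
    (hsurj : Function.Surjective (f.stalkMap x).hom) :
    (algebraMap (X.presheaf.stalk x) X.functionField).range =
      ((ffMap f e).hom.comp (algebraMap (Y.presheaf.stalk y) Y.functionField)).range := by
  have hc := algebraMap_comp_stalkMap f e x y hy
  have hsp : Function.Surjective (Y.presheaf.stalkSpecializes (specializes_of_eq hy.symm)).hom := by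
    subst hy
    rw [TopCat.Presheaf.stalkSpecializes_refl]
    exact Function.surjective_id
  rw [← RingHom.comp_assoc] at hc
  rw [← range_comp_of_surjective _ _ hsurj, hc, range_comp_of_surjective _ _ hsp]

/-- A birational morphism (generic point to generic point, iso on function fields), locally of
finite presentation, from a separated integral scheme to an integral scheme all of whose local
rings are valuation rings, is an open immersion. -/
theorem isOpenImmersion_of_valuationRing [X.IsSeparated] [LocallyOfFinitePresentation f]
    (hbij : Function.Bijective (ffMap f e).hom)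
    (hval : ∀ y : Y, ValuationRing (Y.presheaf.stalk y)) : IsOpenImmersion f := by
  have hiso : ∀ x, IsIso (f.stalkMap x) := fun x => by
    haveI := hval (f x)
    exact isIso_stalkMap_of_valuationRing f e hbij x
  have hsurj : ∀ z, Function.Surjective (f.stalkMap z).hom := fun z =>
    ((ConcreteCategory.isIso_iff_bijective _).mp (hiso z)).2
  have hinj : Function.Injective f := by
    intro x x' hxx'
    have h1 := range_algebraMap_eq f e x (f x) rfl (hsurj x)
    have h2 := range_algebraMap_eq f e x' (f x) hxx'.symm (hsurj x')
    have hQ : LocalSubring.range (algebraMap (X.presheaf.stalk x) X.functionField) =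
        LocalSubring.range (algebraMap (X.presheaf.stalk x') X.functionField) :=
      LocalSubring.toSubring_injective (h1.trans h2.symm)
    exact Groth.Agent.Lib.Lead.eq_of_allied x x' _ le_rfl (le_of_eq hQ.symm)
  have hflat : Flat f := by
    rw [Flat.iff_flat_stalkMap]
    intro x
    exact RingHom.Flat.of_bijective ((ConcreteCategory.isIso_iff_bijective _).mp (hiso x))
  have hopen : IsOpenMap f := f.isOpenMap
  exact IsOpenImmersion.of_isIso_stalkMap f
    (.of_continuous_injective_isOpenMap f.continuous hinj hopen)

end Scheme

end Groth.Agent.Lib.Helper93.PropBirat2
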