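import Mathlib

set_option autoImplicit false
universe u
open CategoryTheory CategoryTheory.Limits AlgebraicGeometry

namespace Groth.Agent.Lib.Helper93.PropBirat4

/-- Let `f : X ⟶ Y` be a separated morphism locally of finite type between integral schemes which is
an isomorphism over a nonempty open `W`. If `Spec 𝒪_{Y,y} ⟶ Y` lifts to `X`, then `f` is an
isomorphism over a neighbourhood of `y`. -/
theorem exists_isIso_restrict_of_lift {X Y : Scheme.{u}} [IsIntegral X] [IsIntegral Y]
    (f : X ⟶ Y) [IsSeparated f] [LocallyOfFiniteType f]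
    (W : Y.Opens) (hW : (W : Set Y).Nonempty) (hWiso : IsIso (f ∣_ W))
    (y : Y) (l : Spec (Y.presheaf.stalk y) ⟶ X) (hl : l ≫ f = Y.fromSpecStalk y) :
    ∃ V : Y.Opens, y ∈ V ∧ IsIso (f ∣_ V) := by
  have hηW : genericPoint Y ∈ W :=
    ((genericPoint_spec Y).mem_open_set_iff W.isOpen).mpr (by simpa using hW)
  obtain ⟨U, hyU, g, -, hg⟩ := spread_out_of_isGermInjective' (𝟙 Y) f (x := y) l
    (by rw [hl, Category.comp_id])
  rw [Category.comp_id] at hg
  refine ⟨U, hyU, ?_⟩
  have hrange : Set.range g ⊆ Set.range (f ⁻¹ᵁ U).ι := by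
    rintro _ ⟨u, rfl⟩
    rw [Scheme.Opens.range_ι]
    change f (g u) ∈ U
    rw [← Scheme.Hom.comp_apply, hg]
    exact u.2
  let g' : U.toScheme ⟶ (f ⁻¹ᵁ U).toScheme := IsOpenImmersion.lift (f ⁻¹ᵁ U).ι g hrange
  have hg' : g' ≫ (f ⁻¹ᵁ U).ι = g := IsOpenImmersion.lift_fac _ _ _
  have hsec : g' ≫ (f ∣_ U) = 𝟙 _ := by
    rw [← cancel_mono U.ι, Category.assoc, morphismRestrict_ι, ← Category.assoc, hg', hg,
      Category.id_comp]
  have hsep : IsSeparated (f ∣_ U) := IsZariskiLocalAtTarget.restrict (P := @IsSeparated) (inferInstance : IsSeparated f) U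
  have hci : IsClosedImmersion g' := by
    have : IsClosedImmersion (g' ≫ (f ∣_ U)) := by rw [hsec]; infer_instance
    exact IsClosedImmersion.of_comp g' (f ∣_ U)
  have hne : Nonempty (f ⁻¹ᵁ U) := ⟨g' ⟨y, hyU⟩⟩
  have hne' : Nonempty (f ⁻¹ᵁ U).toScheme := hne
  have hirr : IrreducibleSpace (f ⁻¹ᵁ U).toScheme := inferInstance
  -- injectivity of `f` on `f⁻¹ W`
  have hinj : ∀ a b : X, f a ∈ W → f a = f b → a = b := by
    intro a b ha hab
    have hb : f b ∈ W := hab ▸ ha
    have hbij : Function.Bijective (f ∣_ W) := (f ∣_ W).homeomorph.bijective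
    have : (⟨a, ha⟩ : f ⁻¹ᵁ W) = ⟨b, hb⟩ := by
      apply hbij.1
      apply Subtype.ext
      rw [morphismRestrict_base_coe, morphismRestrict_base_coe]
      exact hab
    exact congrArg Subtype.val this
  have hsurj : Function.Surjective g' := by
    rw [← Set.range_eq_univ]
    have hclosed : IsClosed (Set.range g') := g'.isClosedEmbedding.isClosed_range
    let O : Set (f ⁻¹ᵁ U).toScheme := {z | f z.1 ∈ W}
    have hOopen : IsOpen O :=
      (W.isOpen.preimage f.continuous).preimage continuous_subtype_val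
    have hηU : genericPoint Y ∈ U :=
      ((genericPoint_spec Y).mem_open_set_iff U.isOpen).mpr ⟨y, trivial, hyU⟩
    have hfg : ∀ u : U, f (g' u).1 = u.1 := by
      intro u
      have : (g' ≫ (f ∣_ U)) u = u := by rw [hsec]; rfl
      rw [Scheme.Hom.comp_apply] at this
      rw [← morphismRestrict_base_coe, this]
    have hOne : O.Nonempty := ⟨g' ⟨genericPoint Y, hηU⟩, by
      change f (g' ⟨genericPoint Y, hηU⟩).1 ∈ W
      rw [hfg]; exact hηW⟩
    have hOsub : O ⊆ Set.range g' := by
      intro z hz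
      have hzU : f z.1 ∈ U := z.2
      refine ⟨⟨f z.1, hzU⟩, ?_⟩
      apply Subtype.ext
      apply hinj
      · rw [hfg]; exact hz
      · rw [hfg]
    have hdense : Dense O := hOopen.dense hOne
    exact Set.eq_univ_of_univ_subset (by
      rw [← hdense.closure_eq]
      exact closure_minimal hOsub hclosed)
  have : Surjective g' := ⟨hsurj⟩
  have hiso : IsIso g' := isIso_of_isClosedImmersion_of_surjective g'
  have : IsIso (g' ≫ (f ∣_ U)) := by rw [hsec]; infer_instance
  exact IsIso.of_isIso_comp_left g' (f ∣_ U)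



/-- If the stalk map at `x` is an isomorphism, then `f` is an isomorphism over a neighbourhood
of `f x`. -/
theorem exists_isIso_restrict_of_isIso_stalkMap {X Y : Scheme.{u}} [IsIntegral X] [IsIntegral Y]
    (f : X ⟶ Y) [IsSeparated f] [LocallyOfFiniteType f]
    (W : Y.Opens) (hW : (W : Set Y).Nonempty) (hWiso : IsIso (f ∣_ W))
    (x : X) [IsIso (f.stalkMap x)] :
    ∃ V : Y.Opens, f x ∈ V ∧ IsIso (f ∣_ V) := by
  refine exists_isIso_restrict_of_lift f W hW hWiso (f x)
    (Spec.map (inv (f.stalkMap x)) ≫ X.fromSpecStalk x) ?_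
  rw [Category.assoc, ← Scheme.SpecMap_stalkMap_fromSpecStalk, ← Category.assoc, ← Spec.map_comp,
    IsIso.hom_inv_id, Spec.map_id, Category.id_comp]

/-- If `f` is an isomorphism over an open `V` then its stalk maps at points over `V` are
isomorphisms. -/
theorem isIso_stalkMap_of_isIso_restrict {X Y : Scheme.{u}} (f : X ⟶ Y) (V : Y.Opens)
    [IsIso (f ∣_ V)] (x : X) (hx : f x ∈ V) : IsIso (f.stalkMap x) := by
  have h : IsIso ((f ∣_ V).stalkMap ⟨x, hx⟩) := inferInstance
  exact ((MorphismProperty.isomorphisms CommRingCat).arrow_mk_iso_iff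
    (morphismRestrictStalkMap f V ⟨x, hx⟩)).mp h

end Groth.Agent.Lib.Helper93.PropBirat4
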