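import Mathlib
import Groth.Agent.Lib.Helper64.StalkSpec
import Groth.Agent.Lib.Helper93.Birat
import Groth.Agent.Lib.Helper93.PropBirat2
import Groth.Agent.Lib.Helper93.PropBirat4

set_option autoImplicit false
universe u
open CategoryTheory CategoryTheory.Limits AlgebraicGeometry

namespace Groth.Agent.Lib.Helper93.PropBirat5

open Groth.Agent.Lib.Helper93.PropBirat2 Groth.Agent.Lib.Helper93.PropBirat4
open Groth.Agent.Lib.Helper64.StalkSpec

theorem exists_relPrime_fraction {R A : Type*} [CommRing R] [IsDomain R]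
    [UniqueFactorizationMonoid R] [CommRing A] [IsDomain A] (φ : R →+* A)
    (hφ : Function.Injective φ) (hbir : ∀ t : A, ∃ a b : R, b ≠ 0 ∧ φ a = t * φ b)
    (hns : ¬ Function.Surjective φ) :
    ∃ (a b : R) (t : A), IsRelPrime a b ∧ b ≠ 0 ∧ ¬ IsUnit b ∧ φ a = t * φ b := by
  classical
  let _ : NormalizedGCDMonoid R := Classical.arbitrary _
  rw [Function.Surjective] at hns
  push Not at hns
  obtain ⟨t, ht⟩ := hns
  obtain ⟨a₀, b₀, hb₀, h₀⟩ := hbir t
  obtain ⟨a, b, ha, hb, hu⟩ := extract_gcd a₀ b₀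
  generalize gcd a₀ b₀ = g at ha hb
  have hg : g ≠ 0 := by
    intro h0
    rw [h0, zero_mul] at hb
    exact hb₀ hb
  have hφg : φ g ≠ 0 := fun h => hg (hφ (by rw [h, map_zero]))
  have hab : φ a = t * φ b := by
    apply mul_left_cancel₀ hφg
    rw [← map_mul, ← ha, h₀, hb, map_mul]
    ring
  have hb0 : b ≠ 0 := by
    rintro rfl
    rw [mul_zero] at hb
    exact hb₀ hb
  refine ⟨a, b, t, gcd_isUnit_iff_isRelPrime.mp hu, hb0, ?_, hab⟩
  intro hbu
  obtain ⟨b', hb'⟩ := hbu.exists_right_inv
  apply ht (a * b')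
  rw [map_mul, hab, mul_assoc, ← map_mul, hb', map_one, mul_one]

theorem false_of_relPrime_mem_height_one {R : Type*} [CommRing R] [IsDomain R]
    [UniqueFactorizationMonoid R] (Q : Ideal R) [Q.IsPrime] (hQ : Q.height = 1) {a b : R}
    (hrel : IsRelPrime a b) (ha : a ∈ Q) (hb : b ∈ Q) : False := by
  obtain ⟨π, hπ⟩ := (UniqueFactorizationMonoid.isPrincipal_of_height_eq_one hQ).principal
  rw [hπ] at ha hb
  have ha' : π ∣ a := Ideal.mem_span_singleton.mp ha
  have hb' : π ∣ b := Ideal.mem_span_singleton.mp hb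
  have hu : IsUnit π := hrel ha' hb'
  have : Q = ⊤ := by
    rw [hπ]
    exact Ideal.span_singleton_eq_top.mpr hu
  exact (‹Q.IsPrime›).ne_top this

section Scheme

variable {X Y : Scheme.{u}} [IsIntegral X] [IsIntegral Y] (f : X ⟶ Y)

theorem map_genericPoint_of_isIso_restrict (W : Y.Opens) (hW : (W : Set Y).Nonempty)
    [IsIso (f ∣_ W)] : f (genericPoint X) = genericPoint Y := by
  have hηW : genericPoint Y ∈ W :=
    ((genericPoint_spec Y).mem_open_set_iff W.isOpen).mpr (by simpa using hW)
  obtain ⟨x', hx'⟩ := (f ∣_ W).homeomorph.surjective ⟨genericPoint Y, hηW⟩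
  have hfx' : f x'.1 = genericPoint Y := by
    rw [← morphismRestrict_base_coe]
    exact congrArg Subtype.val hx'
  have h1 : f (genericPoint X) ⤳ genericPoint Y := by
    rw [← hfx']
    exact ((genericPoint_spec X).specializes (Set.mem_univ x'.1)).map f.continuous
  have h2 : genericPoint Y ⤳ f (genericPoint X) :=
    (genericPoint_spec Y).specializes (Set.mem_univ _)
  exact (h1.antisymm h2).eq

theorem bijective_ffMap (W : Y.Opens) (hW : (W : Set Y).Nonempty) [IsIso (f ∣_ W)]
    (e : f (genericPoint X) = genericPoint Y) : Function.Bijective (ffMap f e).hom := by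
  have hηW : f (genericPoint X) ∈ W := by
    rw [e]
    exact ((genericPoint_spec Y).mem_open_set_iff W.isOpen).mpr (by simpa using hW)
  have h1 : IsIso (f.stalkMap (genericPoint X)) :=
    isIso_stalkMap_of_isIso_restrict f W (genericPoint X) hηW
  have h2 : IsIso (Y.presheaf.stalkSpecializes (specializes_of_eq e)) :=
    Groth.Agent.Lib.Helper93.Birat.isIso_stalkSpecializes_of_eq e
  have : IsIso (ffMap f e) := by unfold ffMap; infer_instance
  exact (ConcreteCategory.isIso_iff_bijective _).mp this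

theorem algebraMap_comp_stalkMap' (e : f (genericPoint X) = genericPoint Y) (x : X) :
    (algebraMap (X.presheaf.stalk x) X.functionField).comp (f.stalkMap x).hom =
      (ffMap f e).hom.comp (algebraMap (Y.presheaf.stalk (f x)) Y.functionField) := by
  have hc := algebraMap_comp_stalkMap f e x (f x) rfl
  have hs : (Y.presheaf.stalkSpecializes (specializes_of_eq (rfl : f x = f x).symm)).hom =
      RingHom.id _ := by
    rw [TopCat.Presheaf.stalkSpecializes_refl]; rfl
  rw [hs, RingHom.comp_id] at hc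
  exact hc

theorem stalkMap_injective (e : f (genericPoint X) = genericPoint Y)
    (hψ : Function.Bijective (ffMap f e).hom) (x : X) :
    Function.Injective (f.stalkMap x).hom := by
  have hc := algebraMap_comp_stalkMap' f e x
  intro a b hab
  apply IsFractionRing.injective (Y.presheaf.stalk (f x)) Y.functionField
  apply hψ.1
  have h1 := RingHom.congr_fun hc a
  have h2 := RingHom.congr_fun hc b
  simp only [RingHom.comp_apply] at h1 h2
  rw [← h1, ← h2, hab]

theorem exists_fraction_stalkMap (e : f (genericPoint X) = genericPoint Y)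
    (hψ : Function.Bijective (ffMap f e).hom) (x : X) (t : X.presheaf.stalk x) :
    ∃ a b : Y.presheaf.stalk (f x), b ≠ 0 ∧ (f.stalkMap x).hom a = t * (f.stalkMap x).hom b := by
  have hc := algebraMap_comp_stalkMap' f e x
  obtain ⟨c, hc'⟩ := hψ.2 (algebraMap (X.presheaf.stalk x) X.functionField t)
  obtain ⟨a, b, hb, rfl⟩ := IsFractionRing.div_surjective (A := Y.presheaf.stalk (f x)) c
  refine ⟨a, b, nonZeroDivisors.ne_zero hb, ?_⟩
  apply IsFractionRing.injective (X.presheaf.stalk x) X.functionField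
  have h1 := RingHom.congr_fun hc a
  have h2 := RingHom.congr_fun hc b
  simp only [RingHom.comp_apply] at h1 h2
  rw [map_mul, h1, h2, ← hc', ← map_mul]
  congr 1
  have hb0 : algebraMap (Y.presheaf.stalk (f x)) Y.functionField b ≠ 0 := by
    intro h
    exact nonZeroDivisors.ne_zero hb
      (IsFractionRing.injective (Y.presheaf.stalk (f x)) Y.functionField (by rw [h, map_zero]))
  field_simp

/-- **van der Waerden purity, local form.** Let `f : X ⟶ Y` be a separated birational morphism
locally of finite type of integral locally Noetherian schemes, with `Y` locally factorial. A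
maximal point `ξ` of the exceptional locus has a one-dimensional local ring. -/
theorem ringKrullDim_stalk_eq_one_of_maximal [IsLocallyNoetherian X]
    [IsSeparated f] [LocallyOfFiniteType f]
    (W : Y.Opens) (hW : (W : Set Y).Nonempty) [IsIso (f ∣_ W)]
    (hufd : ∀ y : Y, UniqueFactorizationMonoid (Y.presheaf.stalk y))
    (ξ : X) (hξ : ∀ V : Y.Opens, f ξ ∈ V → ¬ IsIso (f ∣_ V))
    (hmax : ∀ ζ : X, ζ ⤳ ξ → (∀ V : Y.Opens, f ζ ∈ V → ¬ IsIso (f ∣_ V)) → ζ = ξ) :
    ringKrullDim (X.presheaf.stalk ξ) = 1 := by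
  have e : f (genericPoint X) = genericPoint Y := map_genericPoint_of_isIso_restrict f W hW
  have hψ := bijective_ffMap f W hW e
  have hφinj := stalkMap_injective f e hψ ξ
  have hφns : ¬ Function.Surjective (f.stalkMap ξ).hom := by
    intro hs
    have : IsIso (f.stalkMap ξ) := (ConcreteCategory.isIso_iff_bijective _).mpr ⟨hφinj, hs⟩
    obtain ⟨V, hV, hVi⟩ := exists_isIso_restrict_of_isIso_stalkMap f W hW inferInstance ξ
    exact hξ V hV hVi
  have := hufd (f ξ)
  obtain ⟨a, b, t, hrel, hb0, hbu, hab⟩ := exists_relPrime_fraction (f.stalkMap ξ).hom hφinj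
    (exists_fraction_stalkMap f e hψ ξ) hφns
  -- a minimal prime over `φ b`
  have hφb : (f.stalkMap ξ).hom b ∈ IsLocalRing.maximalIdeal (X.presheaf.stalk ξ) := by
    rw [IsLocalRing.mem_maximalIdeal, mem_nonunits_iff]
    intro hu
    exact hbu (IsUnit.of_map (f.stalkMap ξ).hom b hu)
  obtain ⟨P, hP, -⟩ := Ideal.exists_minimalPrimes_le
    (I := Ideal.span {(f.stalkMap ξ).hom b}) (J := IsLocalRing.maximalIdeal (X.presheaf.stalk ξ))
    ((Ideal.span_singleton_le_iff_mem _).mpr hφb)
  have hPprime : P.IsPrime := hP.1.1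
  have hbP : (f.stalkMap ξ).hom b ∈ P := hP.1.2 (Ideal.mem_span_singleton_self _)
  have hPht : P.height = 1 := by
    apply le_antisymm (Ideal.height_le_one_of_isPrincipal_of_mem_minimalPrimes _ _ hP)
    rw [Order.one_le_iff_ne_zero, Ne, Ideal.height_eq_zero_iff_eq_bot]
    rintro rfl
    have : (f.stalkMap ξ).hom b = 0 := by simpa using hbP
    exact hb0 (hφinj (by rw [this, map_zero]))
  obtain ⟨ζ, hζ, hζP⟩ := exists_specializes_primeOf_eq ξ P
  have hdimζ : ringKrullDim (X.presheaf.stalk ζ) = 1 := by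
    rw [ringKrullDim_stalk_eq_height_primeOf hζ, hζP, hPht]
    rfl
  have hζE : ∀ V : Y.Opens, f ζ ∈ V → ¬ IsIso (f ∣_ V) := by
    intro V hV hVi
    have hiso : IsIso (f.stalkMap ζ) := isIso_stalkMap_of_isIso_restrict f V ζ hV
    have h' : f ζ ⤳ f ξ := hζ.map f.continuous
    have hQht : (primeOf h').height = 1 := by
      have h1 := ringKrullDim_stalk_eq_height_primeOf h'
      have h2 : ringKrullDim (Y.presheaf.stalk (f ζ)) = ringKrullDim (X.presheaf.stalk ζ) :=
        ringKrullDim_eq_of_ringEquiv (asIso (f.stalkMap ζ)).commRingCatIsoToRingEquiv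
      rw [h2, hdimζ] at h1
      exact_mod_cast h1.symm
    have hcompat := Scheme.Hom.stalkSpecializes_stalkMap f ζ ξ hζ
    have hmem : ∀ c : Y.presheaf.stalk (f ξ), (f.stalkMap ξ).hom c ∈ P → c ∈ primeOf h' := by
      intro c hc
      rw [← hζP] at hc
      change (X.presheaf.stalkSpecializes hζ).hom ((f.stalkMap ξ).hom c) ∈
        IsLocalRing.maximalIdeal _ at hc
      change (Y.presheaf.stalkSpecializes h').hom c ∈ IsLocalRing.maximalIdeal _
      have h3 : (f.stalkMap ζ).hom ((Y.presheaf.stalkSpecializes h').hom c) =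
          (X.presheaf.stalkSpecializes hζ).hom ((f.stalkMap ξ).hom c) :=
        congrArg (fun g => g.hom c) hcompat
      rw [IsLocalRing.mem_maximalIdeal, mem_nonunits_iff] at hc ⊢
      intro hu
      apply hc
      rw [← h3]
      exact hu.map _
    have haP : (f.stalkMap ξ).hom a ∈ P := by
      rw [hab]
      exact P.mul_mem_left _ hbP
    exact false_of_relPrime_mem_height_one (primeOf h') hQht hrel (hmem a haP) (hmem b hbP)
  have hζξ := hmax ζ hζ hζE
  rw [← hζξ]
  exact hdimζ

end Scheme

end Groth.Agent.Lib.Helper93.PropBirat5
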