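import Mathlib
import Groth.Agent.Lib.Helper93.ProjDimA
import Groth.Agent.Lib.Helper93.ProjDimB
import Groth.Agent.Lib.Helper93.DimThm

set_option autoImplicit false
open TopologicalSpace Topology Order
open Groth.Agent.Lib.Helper73

namespace Groth.Agent.Lib.Helper93.SpecDim

open Groth.Agent.Lib.Helper93.ProjDim

section General

variable {T : Type*} [TopologicalSpace T] [QuasiSober T] [T0Space T] (δ : T → ℕ)
  (ha : ∀ x y : T, x ⤳ y → x ≠ y → δ y < δ x)
  (hb : ∀ x : T, δ x ≠ 0 → ∃ y, x ⤳ y ∧ x ≠ y ∧ δ y + 1 = δ x)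
include ha hb

/-- Dimension of a space closed-embedded in a sober space with a dimension function. -/
theorem dim_eq_iSup_of_isClosedEmbedding {Y : Type*} [TopologicalSpace Y] {g : Y → T}
    (hg : IsClosedEmbedding g) :
    topologicalKrullDim Y = ⨆ y : Y, ((δ (g y) : ℕ) : WithBot ℕ∞) := by
  have : QuasiSober Y := hg.quasiSober
  have : T0Space Y := hg.isEmbedding.t0Space
  let _ : PartialOrder Y :=
    { le := fun x y => x ⤳ y
      le_refl := fun _ => specializes_rfl
      le_trans := fun _ _ _ h1 h2 => h1.trans h2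
      le_antisymm := fun _ _ h1 h2 => (h1.antisymm h2).eq }
  have h : ∀ x y : Y, x ⤳ y ↔ x ≤ y := fun _ _ => Iff.rfl
  rw [topologicalKrullDim_eq_krullDim h, krullDim_eq_iSup_of_dimFun (fun y => δ (g y))]
  · intro x y hxy
    have h1 : x ⤳ y := hxy.le
    have hne : g x ≠ g y := fun e => hxy.ne (hg.injective e)
    exact ha _ _ (h1.map hg.continuous) hne
  · intro x hx
    obtain ⟨z, hz, hne, hδ⟩ := hb (g x) hx
    have hz' : z ∈ Set.range g := hz.mem_closed hg.isClosed_range ⟨x, rfl⟩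
    obtain ⟨y, rfl⟩ := hz'
    have hxy : x ⤳ y := hg.isInducing.specializes_iff.mp hz
    refine ⟨y, lt_of_le_of_ne hxy (fun e => hne (congrArg g e)), hδ⟩

omit hb [QuasiSober T] [T0Space T] in
theorem dimFun_le_of_specializes {x y : T} (hxy : x ⤳ y) : δ y ≤ δ x := by
  by_cases e : x = y
  · rw [e]
  · exact (ha _ _ hxy e).le

/-- Dimension of a closed-embedded space with a generic point. -/
theorem dim_eq_of_isClosedEmbedding_of_generic {Y : Type*} [TopologicalSpace Y] {g : Y → T}
    (hg : IsClosedEmbedding g) (y₀ : Y) (hy₀ : ∀ y, g y₀ ⤳ g y) :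
    topologicalKrullDim Y = ((δ (g y₀) : ℕ) : WithBot ℕ∞) := by
  rw [dim_eq_iSup_of_isClosedEmbedding δ ha hb hg]
  apply le_antisymm
  · refine iSup_le fun y => ?_
    exact_mod_cast dimFun_le_of_specializes δ ha (hy₀ y)
  · exact le_iSup (fun y : Y => ((δ (g y) : ℕ) : WithBot ℕ∞)) y₀

/-- Dimension of the closure of a point in a closed subspace. -/
theorem dim_subtype_closure_singleton {W : Set T} (hW : IsClosed W) (C : Set ↥W) (c : ↥W)
    (hc : closure {c} = C) : topologicalKrullDim ↥C = ((δ c.1 : ℕ) : WithBot ℕ∞) := by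
  have hCc : IsClosed C := by rw [← hc]; exact isClosed_closure
  have hg : IsClosedEmbedding (fun y : ↥C => (y.1.1 : T)) :=
    hW.isClosedEmbedding_subtypeVal.comp hCc.isClosedEmbedding_subtypeVal
  have hcC : c ∈ C := by rw [← hc]; exact subset_closure rfl
  refine dim_eq_of_isClosedEmbedding_of_generic δ ha hb hg ⟨c, hcC⟩ ?_
  intro y
  have : y.1 ∈ closure {c} := by rw [hc]; exact y.2
  have h1 : c ⤳ y.1 := specializes_iff_mem_closure.mpr this
  exact h1.map continuous_subtype_val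

omit ha hb in
/-- Irreducible components of a closed subset are closures of minimal points. -/
theorem exists_generic_of_mem_irreducibleComponents {W : Set T} (hW : IsClosed W) {C : Set ↥W}
    (hC : C ∈ irreducibleComponents ↥W) :
    ∃ c : ↥W, closure {c} = C ∧ ∀ w : ↥W, w.1 ⤳ c.1 → w = c := by
  have : QuasiSober ↥W := hW.isClosedEmbedding_subtypeVal.quasiSober
  have hCc : IsClosed C := isClosed_of_mem_irreducibleComponents C hC
  obtain ⟨c, hc⟩ := QuasiSober.sober hC.1 hCc
  refine ⟨c, hc.def, ?_⟩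
  intro w hw
  have h1 : w ⤳ c := IsInducing.subtypeVal.specializes_iff.mp hw
  have h2 : closure {c} ⊆ closure {w} := specializes_iff_closure_subset.mp h1
  have h3 : closure {w} ⊆ C := hC.2 isIrreducible_singleton.closure (by rw [← hc.def]; exact h2)
  have h4 : w ∈ closure {c} := by rw [hc.def]; exact h3 (subset_closure rfl)
  have h5 : c ⤳ w := specializes_iff_mem_closure.mpr h4
  exact (h1.antisymm h5).eq

end General

section Spec

universe u
variable (k : Type u) [Field k] {R : Type u} [CommRing R] [Algebra k R] [Algebra.FiniteType k R]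

include k in
theorem quotDim_anti (x y : PrimeSpectrum R) (hxy : x ⤳ y) (hne : x ≠ y) :
    quotDim y < quotDim x :=
  quotDim_lt_of_lt k (lt_of_le_of_ne ((PrimeSpectrum.le_iff_specializes x y).mpr hxy) hne)

include k in
theorem quotDim_step (x : PrimeSpectrum R) (hx : quotDim x ≠ 0) :
    ∃ y : PrimeSpectrum R, x ⤳ y ∧ x ≠ y ∧ quotDim y + 1 = quotDim x := by
  have hnm : ¬ x.asIdeal.IsMaximal := fun h => hx (quotDim_eq_zero_of_isMaximal k x h)
  obtain ⟨m, hm, hxm⟩ := Ideal.exists_le_maximal x.asIdeal x.2.ne_top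
  have hne : x.asIdeal ≠ m := fun e => hnm (e ▸ hm)
  obtain ⟨f, hfm, hfx⟩ := SetLike.exists_of_lt (lt_of_le_of_ne hxm hne)
  have hIm : x.asIdeal ⊔ Ideal.span {f} ≤ m :=
    sup_le hxm ((Ideal.span_singleton_le_iff_mem _).mpr hfm)
  have := hm.isPrime
  obtain ⟨q, hq, -⟩ := Ideal.exists_minimalPrimes_le hIm
  have hdim := ringKrullDim_quotient_add_one_of_mem_minimalPrimes (k := k) x.asIdeal q f hfx hq
  have hfq : f ∈ q := hq.1.2 (Ideal.mem_sup_right (Ideal.mem_span_singleton_self f))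
  have hxq : x.asIdeal ≤ q := le_sup_left.trans hq.1.2
  refine ⟨⟨q, hq.1.1⟩, (PrimeSpectrum.le_iff_specializes _ _).mp hxq, ?_, ?_⟩
  · intro e
    apply hfx
    rw [e]
    exact hfq
  · have h1 := coe_quotDim k x
    have h2 := coe_quotDim k (⟨q, hq.1.1⟩ : PrimeSpectrum R)
    rw [← h1] at hdim
    change ringKrullDim (R ⧸ q) + 1 = _ at hdim
    rw [← h2] at hdim
    have : ((quotDim (⟨q, hq.1.1⟩ : PrimeSpectrum R) + 1 : ℕ) : WithBot ℕ∞) =
        ((quotDim x : ℕ) : WithBot ℕ∞) := by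
      push_cast
      exact hdim
    exact_mod_cast this

end Spec

section Affine

universe u
variable {k : Type u} [Field k] {σ : Type u} [Fintype σ]
variable {T : Type*} [TopologicalSpace T] (e : T ≃ₜ PrimeSpectrum (MvPolynomial σ k))

include e in
/-- **Affine dimension theorem** for closed subsets of a space homeomorphic to affine space. -/
theorem affine_dimension_theorem (X Y : Set T) (hX : IsClosed X) (hY : IsClosed Y) (r s : ℕ)
    (hXr : ∀ Z ∈ irreducibleComponents ↥X, topologicalKrullDim ↥Z = r)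
    (hYs : ∀ Z ∈ irreducibleComponents ↥Y, topologicalKrullDim ↥Z = s)
    (Z : Set ↥(X ∩ Y)) (hZ : Z ∈ irreducibleComponents ↥(X ∩ Y)) :
    ((r + s : ℕ) : WithBot ℕ∞) ≤ topologicalKrullDim ↥Z + (Fintype.card σ : WithBot ℕ∞) := by
  have : QuasiSober T := e.isClosedEmbedding.quasiSober
  have : T0Space T := e.isEmbedding.t0Space
  let δ : T → ℕ := fun t => quotDim (e t)
  have ha : ∀ x y : T, x ⤳ y → x ≠ y → δ y < δ x := by
    intro x y hxy hne
    exact quotDim_anti k _ _ (hxy.map e.continuous) (fun h => hne (e.injective h))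
  have hb : ∀ x : T, δ x ≠ 0 → ∃ y, x ⤳ y ∧ x ≠ y ∧ δ y + 1 = δ x := by
    intro x hx
    obtain ⟨y, h1, h2, h3⟩ := quotDim_step k (e x) hx
    refine ⟨e.symm y, ?_, ?_, ?_⟩
    · rw [← e.isInducing.specializes_iff, e.apply_symm_apply]; exact h1
    · intro h
      apply h2
      rw [h, e.apply_symm_apply]
    · simp only [δ, e.apply_symm_apply]; exact h3
  -- generic point of Z
  obtain ⟨c, hc, hcmin⟩ := exists_generic_of_mem_irreducibleComponents (hX.inter hY) hZ
  rw [dim_subtype_closure_singleton δ ha hb (hX.inter hY) Z c hc]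
  -- components of X and Y through c
  obtain ⟨X₁, hX₁, hcX₁⟩ := exists_mem_irreducibleComponents_subset_of_isIrreducible
    ({(⟨c.1, c.2.1⟩ : ↥X)} : Set ↥X) isIrreducible_singleton
  obtain ⟨Y₁, hY₁, hcY₁⟩ := exists_mem_irreducibleComponents_subset_of_isIrreducible
    ({(⟨c.1, c.2.2⟩ : ↥Y)} : Set ↥Y) isIrreducible_singleton
  obtain ⟨ξ, hξ, -⟩ := exists_generic_of_mem_irreducibleComponents hX hX₁
  obtain ⟨η, hη, -⟩ := exists_generic_of_mem_irreducibleComponents hY hY₁
  have hdξ := dim_subtype_closure_singleton δ ha hb hX X₁ ξ hξ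
  have hdη := dim_subtype_closure_singleton δ ha hb hY Y₁ η hη
  rw [hXr X₁ hX₁] at hdξ
  rw [hYs Y₁ hY₁] at hdη
  have hδξ : δ ξ.1 = r := by exact_mod_cast hdξ.symm
  have hδη : δ η.1 = s := by exact_mod_cast hdη.symm
  have hξc : ξ.1 ⤳ c.1 := by
    have h1 : (⟨c.1, c.2.1⟩ : ↥X) ∈ closure {ξ} := by
      rw [hξ]; exact hcX₁ rfl
    exact (specializes_iff_mem_closure.mpr h1).map continuous_subtype_val
  have hηc : η.1 ⤳ c.1 := by
    have h1 : (⟨c.1, c.2.2⟩ : ↥Y) ∈ closure {η} := by
      rw [hη]; exact hcY₁ rfl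
    exact (specializes_iff_mem_closure.mpr h1).map continuous_subtype_val
  -- algebra
  have hPc : (e ξ.1).asIdeal ≤ (e c.1).asIdeal :=
    (PrimeSpectrum.le_iff_specializes _ _).mpr (hξc.map e.continuous)
  have hQc : (e η.1).asIdeal ≤ (e c.1).asIdeal :=
    (PrimeSpectrum.le_iff_specializes _ _).mpr (hηc.map e.continuous)
  have hmin : (e c.1).asIdeal ∈ ((e ξ.1).asIdeal ⊔ (e η.1).asIdeal).minimalPrimes := by
    refine ⟨⟨(e c.1).2, sup_le hPc hQc⟩, ?_⟩
    intro b ⟨hbp, hble⟩ hbc
    let w : T := e.symm ⟨b, hbp⟩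
    have hew : e w = ⟨b, hbp⟩ := e.apply_symm_apply _
    have hξw : ξ.1 ⤳ w := by
      rw [← e.isInducing.specializes_iff, hew]
      exact (PrimeSpectrum.le_iff_specializes _ _).mp (le_sup_left.trans hble)
    have hηw : η.1 ⤳ w := by
      rw [← e.isInducing.specializes_iff, hew]
      exact (PrimeSpectrum.le_iff_specializes _ _).mp (le_sup_right.trans hble)
    have hwc : w ⤳ c.1 := by
      rw [← e.isInducing.specializes_iff, hew]
      exact (PrimeSpectrum.le_iff_specializes _ _).mp hbc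
    have hwX : w ∈ X := hξw.mem_closed hX ξ.2
    have hwY : w ∈ Y := hηw.mem_closed hY η.2
    have := hcmin ⟨w, hwX, hwY⟩ hwc
    have h2 : w = c.1 := congrArg Subtype.val this
    have h3 : (⟨b, hbp⟩ : PrimeSpectrum (MvPolynomial σ k)) = e c.1 := by rw [← hew, h2]
    exact (congrArg PrimeSpectrum.asIdeal h3).ge
  have hCL := DimThm.ringKrullDim_quotient_add_le (e ξ.1).asIdeal (e η.1).asIdeal (e c.1).asIdeal hmin
  rw [← coe_quotDim k (e ξ.1), ← coe_quotDim k (e η.1), ← coe_quotDim k (e c.1)] at hCL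
  have hCL' : δ ξ.1 + δ η.1 ≤ δ c.1 + Fintype.card σ := by exact_mod_cast hCL
  rw [hδξ, hδη] at hCL'
  exact_mod_cast hCL'

end Affine

end Groth.Agent.Lib.Helper93.SpecDim
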