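import Mathlib
import Groth.Agent.Lib.Helper73.DimFT.Scheme
import Groth.Agent.Lib.Helper93.SpecDim
import Groth.Agent.Lib.Helper93.PropBirat5

set_option autoImplicit false
universe u
open CategoryTheory CategoryTheory.Limits AlgebraicGeometry

namespace Groth.Agent.Lib.Helper93.PropBirat6

open Groth.Agent.Lib.Helper73

/-- A dimension function drops by exactly one along some specialization of a point of nonzero
value. -/
theorem IsDimFun.exists_step {T : Type*} [TopologicalSpace T] {δ : T → ℕ} (h : IsDimFun δ) (x : T)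
    (hx : δ x ≠ 0) : ∃ y, x ⤳ y ∧ x ≠ y ∧ δ y + 1 = δ x := by
  let S : Set ℕ := {n | ∃ y, x ⤳ y ∧ y ≠ x ∧ δ y = n}
  have hne : S.Nonempty := by
    obtain ⟨y, -, hxy, hyx⟩ := h.exists_specializes_of_ne_zero x Set.univ isOpen_univ trivial hx
    exact ⟨δ y, y, hxy, hyx, rfl⟩
  have hbdd : BddAbove S := by
    refine ⟨δ x, ?_⟩
    rintro n ⟨y, hxy, hyx, rfl⟩
    exact (h.lt_of_specializes hxy hyx.symm).le
  obtain ⟨y, hxy, hyx, hy⟩ := Nat.sSup_mem hne hbdd
  refine ⟨y, hxy, hyx.symm, ?_⟩
  refine (h.eq_add_one_of_immediate hxy hyx.symm ?_).symm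
  intro z hxz hzy
  by_cases hzx : z = x
  · exact Or.inl hzx
  · right
    have h1 : δ z ≤ δ y := by
      rw [hy]
      exact le_csSup hbdd ⟨z, hxz, hzx, rfl⟩
    by_contra hne'
    have := h.lt_of_specializes hzy hne'
    omega

section Purity

variable (k : Type u) [Field k] {X Y : Scheme.{u}} (πX : X ⟶ Spec (CommRingCat.of k))
  [LocallyOfFiniteType πX] [IsIntegral X] [IsIntegral Y]

attribute [local instance] specializationPreorder in
theorem coheight_add_trdegNat (x : X) :
    (Order.coheight x : ℕ∞) + (trdegNat πX x : ℕ∞) = (trdegNat πX (genericPoint X) : ℕ∞) := by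
  have hδ := isDimFun_trdegNat πX
  apply le_antisymm
  · apply hδ.coheight_add_le
    intro η' _
    exact_mod_cast hδ.le_of_specializes (genericPoint_specializes η')
  · exact hδ.le_coheight_add (genericPoint_specializes x)

theorem topologicalKrullDim_eq_trdegNat_genericPoint' :
    topologicalKrullDim X = ((trdegNat πX (genericPoint X) : ℕ) : WithBot ℕ∞) := by
  have hδ := isDimFun_trdegNat πX
  rw [hδ.topologicalKrullDim_eq_iSup]
  apply le_antisymm
  · refine iSup_le fun x => ?_
    have := hδ.le_of_specializes (genericPoint_specializes x)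
    exact_mod_cast this
  · exact le_iSup (fun x : X => ((trdegNat πX x : ℕ∞) : WithBot ℕ∞)) (genericPoint X)

include πX in
/-- **van der Waerden purity of the exceptional locus.** -/
theorem purity (f : X ⟶ Y) [IsSeparated f] [LocallyOfFiniteType f]
    (hbir : ∃ V : Y.Opens, (V : Set Y).Nonempty ∧ IsIso (f ∣_ V))
    (hufd : ∀ y : Y, UniqueFactorizationMonoid (Y.presheaf.stalk y)) :
    ∀ Z ∈ irreducibleComponents ↥{x : X | ∀ V : Y.Opens, f x ∈ V → ¬ IsIso (f ∣_ V)},
      topologicalKrullDim ↥Z + 1 = topologicalKrullDim X := by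
  intro Z hZ
  obtain ⟨W, hW, hWiso⟩ := hbir
  have : IsLocallyNoetherian X := LocallyOfFiniteType.isLocallyNoetherian πX
  have hδ := isDimFun_trdegNat πX
  have hEclosed : IsClosed {x : X | ∀ V : Y.Opens, f x ∈ V → ¬ IsIso (f ∣_ V)} := by
    rw [← isOpen_compl_iff, isOpen_iff_forall_mem_open]
    intro x hx
    have hx' : ¬ ∀ V : Y.Opens, f x ∈ V → ¬ IsIso (f ∣_ V) := hx
    push Not at hx'
    obtain ⟨V, hxV, hV⟩ := hx'
    refine ⟨(f ⁻¹ᵁ V : Set X), ?_, (f ⁻¹ᵁ V).isOpen, hxV⟩
    intro x' hx' hx'E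
    exact hx'E V hx' hV
  obtain ⟨c, hc, hcmax⟩ := SpecDim.exists_generic_of_mem_irreducibleComponents hEclosed hZ
  have hdimZ : topologicalKrullDim ↥Z = ((trdegNat πX c.1 : ℕ) : WithBot ℕ∞) :=
    SpecDim.dim_subtype_closure_singleton (trdegNat πX)
      (fun x y hxy hne => hδ.lt_of_specializes hxy hne) (fun x hx => IsDimFun.exists_step hδ x hx)
      hEclosed Z c hc
  have h1 : ringKrullDim (X.presheaf.stalk c.1) = 1 :=
    PropBirat5.ringKrullDim_stalk_eq_one_of_maximal f W hW hufd c.1 c.2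
      (fun ζ hζ hζE => congrArg Subtype.val (hcmax ⟨ζ, hζE⟩ hζ))
  rw [AlgebraicGeometry.ringKrullDim_stalk_eq_coheight] at h1
  have h2 := coheight_add_trdegNat k πX c.1
  rw [hdimZ, topologicalKrullDim_eq_trdegNat_genericPoint' k πX]
  have h3 : (Order.coheight c.1 : ℕ∞) = 1 := by exact_mod_cast h1
  rw [h3] at h2
  have h4 : 1 + trdegNat πX c.1 = trdegNat πX (genericPoint X) := by exact_mod_cast h2
  rw [← h4]
  push_cast
  rw [add_comm]

end Purity

end Groth.Agent.Lib.Helper93.PropBirat6
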