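import Mathlib
import Groth.Agent.Lib.Helper93.GenFinite2

/-!
# Quasi-compact dominant morphisms hit generic points (Stacks 01RL)
-/

set_option autoImplicit false
universe u
open CategoryTheory AlgebraicGeometry TopologicalSpace

namespace Groth.Agent.Lib.Helper93.QCDominant

open Groth.Agent.Lib.Helper93.Birat Groth.Agent.Lib.Helper93.GenFinite

/-- (Stacks 01RL) A quasi-compact dominant morphism hits every generic point of an irreducible
component of the target. -/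
theorem exists_map_eq_of_generic {X Y : Scheme.{u}} (f : Y ⟶ X) [QuasiCompact f] [IsDominant f]
    (x : X) (hx : closure {x} ∈ irreducibleComponents X) : ∃ y, f y = x := by
  obtain ⟨V, hV, hxV, -⟩ := exists_isAffineOpen_mem_and_subset (U := ⊤) (x := x) (by simp)
  have hcomp : IsCompact (f ⁻¹ᵁ V : Set Y) := f.isCompact_preimage hV.isCompact
  obtain ⟨s, hs, hsU⟩ := isCompact_iff_finite_and_eq_biUnion_affineOpens.mp hcomp
  have h1 : x ∈ closure (f '' (f ⁻¹ᵁ V : Set Y)) := by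
    rw [mem_closure_iff]
    intro O hO hxO
    obtain ⟨_, ⟨hzO, hzV⟩, ⟨y, rfl⟩⟩ :=
      f.denseRange.inter_open_nonempty (O ∩ V) (hO.inter V.isOpen) ⟨x, hxO, hxV⟩
    exact ⟨f y, hzO, y, hzV, rfl⟩
  have h2 : f '' (f ⁻¹ᵁ V : Set Y) = ⋃ i ∈ s, f '' ((i : Y.Opens) : Set Y) := by
    rw [hsU]
    simp [Set.image_iUnion]
  rw [h2, hs.closure_biUnion] at h1
  obtain ⟨W, hWs, hxW⟩ := Set.mem_iUnion₂.mp h1
  have hWV : W.1 ≤ f ⁻¹ᵁ V := by
    rw [hsU]; exact le_iSup₂ (f := fun (i : Y.affineOpens) (_ : i ∈ s) => (i : Y.Opens)) W hWs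
  let p := hV.primeIdealOf ⟨x, hxV⟩
  have hpmin := primeIdealOf_mem_minimalPrimes hV x hxV hx
  have hker : RingHom.ker (f.appLE V W.1 hWV).hom ≤ p.asIdeal := by
    intro a ha
    by_contra hap
    have hxa : x ∈ X.basicOpen a := (not_mem_primeIdealOf_iff hV x hxV a).mp hap
    rw [mem_closure_iff] at hxW
    obtain ⟨_, hza, ⟨w, hwW, rfl⟩⟩ := hxW _ (X.basicOpen a).isOpen hxa
    have hmem := mem_basicOpen_appLE f hWV a w hwW hza
    have h0 : (f.appLE V W.1 hWV) a = 0 := ha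
    rw [h0] at hmem
    simp at hmem
  have hpmin' : p.asIdeal ∈ ((⊥ : Ideal Γ(Y, W.1)).comap (f.appLE V W.1 hWV).hom).minimalPrimes :=
    ⟨⟨p.isPrime, hker⟩, fun q ⟨hq, _⟩ hqp => hpmin.2 ⟨hq, bot_le⟩ hqp⟩
  obtain ⟨q, hq, -, hqp⟩ :=
    Ideal.exists_comap_eq_of_mem_minimalPrimes (f.appLE V W.1 hWV).hom p.asIdeal hpmin'
  obtain ⟨y, hyW, hy⟩ := exists_point_of_prime W.2 q
  refine ⟨y, ?_⟩
  have hcomap := IsAffineOpen.comap_primeIdealOf_appLE (f := f) V hV W.1 W.2 hWV hyW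
  apply primeIdealOf_injective hV (f y) x (hWV hyW) hxV
  rw [← hcomap]
  apply PrimeSpectrum.ext
  change ((W.2.primeIdealOf ⟨y, hyW⟩).asIdeal).comap (f.appLE V W.1 hWV).hom = p.asIdeal
  rw [hy, hqp]

end Groth.Agent.Lib.Helper93.QCDominant
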