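import Groth.Agent.Lib.Helper93.ProjOverIso
import Groth.Agent.Lib.Helper74.TildePullback
import Groth.Prelude.Def_Twist2

/-!
# helper93: relative projective space over an affine open of the base

For `f : P^r_Y ⟶ Y` and an affine open `V = Spec B` of `Y`: the isomorphism `P^r_B ≅ f⁻¹(V)`, base change of
the twisting sheaves, and the identification of `O(d)|_{f⁻¹ V}` with the direct image of `O(d)` on `P^r_B`.
-/

set_option autoImplicit false
universe u
open CategoryTheory CategoryTheory.Limits AlgebraicGeometry TopologicalSpace Opposite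
open scoped HomogeneousIdeal

namespace Groth.Agent.Lib.Helper93.RelPn


open Groth.Agent.Lib.Helper93.ProjOverIso

attribute [local instance] ULift.algebra'

variable (r : ℕ) (Y : Scheme.{u}) (V : Y.Opens)

/-- the first projection `P^r_Y ⟶ P^r_ℤ` -/
noncomputable abbrev pr : CohB1.ProjSpaceOver r Y ⟶ CohB1.ProjSpace r (ULift.{u} ℤ) :=
  pullback.fst (CohB1.ProjSpace.toSpec r (ULift.{u} ℤ)) (specULiftZIsTerminal.from Y)

/-- the preimage of `V` in `P^r_Y` -/
noncomputable abbrev UU : (CohB1.ProjSpaceOver r Y).Opens :=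
  (CohB1.ProjSpaceOver.toBase r Y) ⁻¹ᵁ V

lemma isPullback_UU :
    IsPullback ((UU r Y V).ι ≫ pr r Y) ((CohB1.ProjSpaceOver.toBase r Y) ∣_ V)
      (CohB1.ProjSpace.toSpec r (ULift.{u} ℤ)) (V.ι ≫ specULiftZIsTerminal.from Y) := by
  have s := isPullback_morphismRestrict (CohB1.ProjSpaceOver.toBase r Y) V
  have t : IsPullback (CohB1.ProjSpaceOver.toBase r Y) (pr r Y)
      (specULiftZIsTerminal.from Y) (CohB1.ProjSpace.toSpec r (ULift.{u} ℤ)) :=
    (IsPullback.of_hasPullback _ _).flip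
  exact (s.paste_vert t).flip

variable {Y V} in
lemma isPullback_ZZ (hV : IsAffineOpen V) :
    IsPullback (bcMap r (ULift.{u} ℤ) Γ(Y, V))
      (CohB1.ProjSpace.toSpec r Γ(Y, V) ≫ hV.isoSpec.inv)
      (CohB1.ProjSpace.toSpec r (ULift.{u} ℤ)) (V.ι ≫ specULiftZIsTerminal.from Y) := by
  refine IsPullback.of_iso (isPullback_projSpace r (R' := ULift.{u} ℤ) (R := Γ(Y, V)))
    (Iso.refl _) (Iso.refl _) hV.isoSpec.symm (Iso.refl _) ?_ ?_ ?_ ?_
  · simp
  · simp
  · simp
  · exact specULiftZIsTerminal.hom_ext _ _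

variable {Y V} in
/-- the isomorphism `P^r_B ≅ f⁻¹(V)`, `B = Γ(Y, V)` -/
noncomputable def φ (hV : IsAffineOpen V) : CohB1.ProjSpace r Γ(Y, V) ≅ ↑(UU r Y V) :=
  (isPullback_ZZ r hV).isoIsPullback _ _ (isPullback_UU r Y V)

variable {Y V} in
lemma φ_hom_comp (hV : IsAffineOpen V) :
    (φ r hV).hom ≫ (UU r Y V).ι ≫ pr r Y = bcMap r (ULift.{u} ℤ) Γ(Y, V) :=
  IsPullback.isoIsPullback_hom_fst _ _ (isPullback_ZZ r hV) (isPullback_UU r Y V)




section BC

variable (n : ℕ) {R' R : Type u} [CommRing R'] [CommRing R] [Algebra R' R] (d : ℤ)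

lemma irrelevant_eq_span_one :
    ((CohB1.polyGrading n R')₊).toIdeal = Ideal.span ((CohB1.polyGrading n R') 1 : Set _) := by
  apply le_antisymm
  · refine (irrelevant_le_span_X n R').trans (Ideal.span_mono ?_)
    rintro _ ⟨i, -, rfl⟩
    exact MvPolynomial.isHomogeneous_X R' i
  · rw [Ideal.span_le]
    intro a ha
    rw [SetLike.mem_coe, mem_irrelevant_iff, MvPolynomial.constantCoeff_eq]
    have ha' : a.IsHomogeneous 1 := (MvPolynomial.mem_homogeneousSubmodule 1 a).mp ha
    by_contra hne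
    have := ha' hne
    simp at this

/-- base change of twisting sheaves on projective space -/
theorem nonempty_pullback_bcMap_iso :
    Nonempty ((Scheme.Modules.pullback (bcMap n R' R)).obj (Twist.twistProjSpace n R' d) ≅
      Twist.twistProjSpace n R d) := by
  let ψ := mapGr n (R' := R') (R := R)
  let v : MvPolynomial (Fin (n + 1)) R' →ₛₗ[ψ.toRingHom] MvPolynomial (Fin (n + 1)) R :=
    ψ.toRingHom.toSemilinearMap
  have hv : ∀ (i : ℕ) (m : MvPolynomial (Fin (n + 1)) R'), m ∈ CohB1.polyGrading n R' i →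
      v m ∈ CohB1.polyGrading n R i := fun i m hm => ψ.map_mem hm
  have hbc : ∀ (Q : Type u) [AddCommGroup Q] [Module (MvPolynomial (Fin (n + 1)) R) Q]
      (w : MvPolynomial (Fin (n + 1)) R' →ₛₗ[ψ.toRingHom] Q),
      ∃! g : MvPolynomial (Fin (n + 1)) R →ₗ[MvPolynomial (Fin (n + 1)) R] Q,
        ∀ m, g (v m) = w m := by
    intro Q _ _ w
    refine ⟨LinearMap.toSpanSingleton _ Q (w 1), fun m => ?_, fun g hg => ?_⟩
    · change (ψ m) • w 1 = w m
      have := w.map_smulₛₗ m 1
      rw [smul_eq_mul, mul_one] at this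
      exact this.symm
    · ext
      have := hg 1
      simpa [v] using this
  have h := Groth.Agent.Lib.Helper74.TildePullback.isIso_nu ψ (irrelevant_le n)
    (CohB1.polyGrading n R') (CohB1.polyGrading n R) v hv d hbc (irrelevant_eq_span_one n)
  exact ⟨@asIso _ _ _ _ _ h⟩

end BC



section Transport

variable {Z W : Scheme.{u}} (e : Z ≅ W) (G : W.Modules)

open Scheme.Modules in
/-- for an isomorphism of schemes the unit `G ⟶ e_* (G|_Z)` is an isomorphism -/
instance isIso_unit_restrict : IsIso ((restrictAdjunction e.hom).unit.app G) := by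
  rw [Scheme.Modules.Hom.isIso_iff_isIso_app]
  intro U
  rw [restrictAdjunction_unit_app_app]
  have h : U ≤ e.hom ''ᵁ (e.hom ⁻¹ᵁ U) := by
    intro x hx
    refine ⟨e.inv.base x, ?_, ?_⟩
    · change e.hom.base (e.inv.base x) ∈ U
      have : e.hom.base (e.inv.base x) = x := by
        rw [← Scheme.Hom.comp_apply, e.inv_hom_id]; rfl
      rw [this]; exact hx
    · change e.hom.base (e.inv.base x) = x
      rw [← Scheme.Hom.comp_apply, e.inv_hom_id]; rfl
  haveI : IsIso (homOfLE (e.hom.image_preimage_le U)) :=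
    ⟨homOfLE h, Subsingleton.elim _ _, Subsingleton.elim _ _⟩
  haveI : IsIso (homOfLE (e.hom.image_preimage_le U)).op := inferInstance
  exact Functor.map_isIso G.presheaf _

open Scheme.Modules in
/-- `G ≅ e_* e^* G` for an isomorphism of schemes `e` -/
noncomputable def isoPushPull : G ≅ (pushforward e.hom).obj ((Scheme.Modules.pullback e.hom).obj G) :=
  asIso ((restrictAdjunction e.hom).unit.app G) ≪≫
    (pushforward e.hom).mapIso ((restrictFunctorIsoPullback e.hom).app G)

end Transport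


section Main

attribute [local instance] ULift.algebra'

variable (r : ℕ) {Y : Scheme.{u}} {V : Y.Opens}

open Scheme.Modules in
/-- `O(d)|_{f⁻¹ V}` is the direct image of `O(d)` on `P^r_B` under `P^r_B ≅ f⁻¹ V` -/
theorem nonempty_restrict_iso (hV : IsAffineOpen V) (d : ℤ) :
    Nonempty ((Twist.twistOver r Y d).restrict (UU r Y V).ι ≅
      (pushforward (φ r hV).hom).obj (Twist.twistProjSpace r Γ(Y, V) d)) := by
  obtain ⟨ι⟩ := nonempty_pullback_bcMap_iso r (R' := ULift.{u} ℤ) (R := Γ(Y, V)) d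
  let O := Twist.twistProjSpace r (ULift.{u} ℤ) d
  let G := (Twist.twistOver r Y d).restrict (UU r Y V).ι
  have e1 : G ≅ (Scheme.Modules.pullback (UU r Y V).ι).obj
      ((Scheme.Modules.pullback (pr r Y)).obj O) :=
    (restrictFunctorIsoPullback (UU r Y V).ι).app (Twist.twistOver r Y d)
  have e3 : (Scheme.Modules.pullback (φ r hV).hom).obj
      ((Scheme.Modules.pullback (UU r Y V).ι).obj ((Scheme.Modules.pullback (pr r Y)).obj O)) ≅
      (Scheme.Modules.pullback ((φ r hV).hom ≫ (UU r Y V).ι)).obj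
        ((Scheme.Modules.pullback (pr r Y)).obj O) :=
    (pullbackComp (φ r hV).hom (UU r Y V).ι).app _
  have e4 : (Scheme.Modules.pullback ((φ r hV).hom ≫ (UU r Y V).ι)).obj
        ((Scheme.Modules.pullback (pr r Y)).obj O) ≅
      (Scheme.Modules.pullback (((φ r hV).hom ≫ (UU r Y V).ι) ≫ pr r Y)).obj O :=
    (pullbackComp ((φ r hV).hom ≫ (UU r Y V).ι) (pr r Y)).app O
  have e5 : (Scheme.Modules.pullback (((φ r hV).hom ≫ (UU r Y V).ι) ≫ pr r Y)).obj O ≅
      (Scheme.Modules.pullback (ProjOverIso.bcMap r (ULift.{u} ℤ) Γ(Y, V))).obj O :=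
    (pullbackCongr (by rw [Category.assoc]; exact φ_hom_comp r hV)).app O
  exact ⟨isoPushPull (φ r hV) G ≪≫ (pushforward (φ r hV).hom).mapIso
    ((Scheme.Modules.pullback (φ r hV).hom).mapIso e1 ≪≫ e3 ≪≫ e4 ≪≫ e5 ≪≫ ι)⟩

end Main

end Groth.Agent.Lib.Helper93.RelPn
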