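import Groth.Agent.Lib.Helper93.RelPn1
import Groth.Agent.Lib.Helper53.ClosedEmbCoh
import Groth.Agent.Lib.Helper53.Restrict
import Groth.Agent.Lib.Helper26.LerayBasis
import Groth.Agent.Lib.Helper26.CechLES
import Groth.Agent.S0844

/-!
# helper93: vanishing of `R^i f_* O(d)` for `f : P^r_Y ⟶ Y`
-/

set_option autoImplicit false
universe u
open CategoryTheory CategoryTheory.Limits AlgebraicGeometry TopologicalSpace Opposite
open ZeroObject

namespace Groth.Agent.Lib.Helper93.RelPn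

section Coh

lemma subsingleton_H_of_iso {T : TopCat.{u}} {A B : CohTop.Ab T} (e : A ≅ B) (p : ℕ)
    (h : Subsingleton (CohTop.H A p)) : Subsingleton (CohTop.H B p) := by
  have hinj : Function.Injective (Sheaf.H.map e.inv p) := by
    intro a b hab
    have := congrArg (Sheaf.H.map e.hom p) hab
    rwa [← Sheaf.H.map_comp_apply, ← Sheaf.H.map_comp_apply, e.inv_hom_id, Sheaf.H.map_id_apply,
      Sheaf.H.map_id_apply] at this
  exact hinj.subsingleton

variable (r : ℕ) {Y : Scheme.{u}} {V : Y.Opens}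

theorem subsingleton_HU (hV : IsAffineOpen V) (d : ℤ) (n : ℕ)
    (h₀ : ¬ (n = 0 ∧ 0 ≤ d)) (hn : ¬ (n = r ∧ d ≤ -((r : ℤ) + 1))) :
    Subsingleton (CohTop.HU (Coh.toAb (Twist.twistOver r Y d)) n (UU r Y V)) := by
  obtain ⟨e1⟩ := Groth.Agent.Lib.Helper53.nonempty_HU_equiv_H_restr
    (X := (CohB1.ProjSpaceOver r Y).toTopCat) (UU r Y V) (Coh.toAb (Twist.twistOver r Y d)) n
  obtain ⟨θ⟩ := nonempty_restrict_iso r hV d
  have hce : Topology.IsClosedEmbedding (φ r hV).hom.base :=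
    (φ r hV).hom.homeomorph.isClosedEmbedding
  have hpc := Groth.Agent.Lib.Helper53.preservesFiniteColimits_push_of_isClosedEmbedding
    (φ r hV).hom.base hce
  obtain ⟨e2⟩ := Groth.Agent.Lib.Helper53.nonempty_hEquiv (φ r hV).hom.base hpc n
    (Coh.toAb (Twist.twistProjSpace r Γ(Y, V) d))
  have h5 : Subsingleton (Coh.HH (CohB1.ProjSpace r Γ(Y, V)) (Twist.twistProjSpace r Γ(Y, V) d) n) :=
    Groth.Agent.S0844.result Γ(Y, V) r d n h₀ hn
  have h6 : Subsingleton (CohTop.H ((CohTop.push (φ r hV).hom.base).obj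
      (Coh.toAb (Twist.twistProjSpace r Γ(Y, V) d))) n) := e2.symm.injective.subsingleton
  have h7 : Subsingleton (CohTop.H (Coh.toAb ((Twist.twistOver r Y d).restrict (UU r Y V).ι)) n) :=
    subsingleton_H_of_iso ((SheafOfModules.toSheaf _).mapIso θ.symm) n h6
  exact ⟨fun a b => e1.injective (@Subsingleton.elim _ h7 _ _)⟩

/-- **`R^i f_* O(d) = 0` on `P^r_Y ⟶ Y`** outside the two exceptional ranges -/
theorem isZero_RpushAb (Y : Scheme.{u}) (i : ℕ) (d : ℤ)
    (h₀ : ¬ (i = 0 ∧ 0 ≤ d)) (hn : ¬ (i = r ∧ d ≤ -((r : ℤ) + 1))) :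
    IsZero ((Coh.RpushAb (CohB1.ProjSpaceOver.toBase r Y) i).obj
      (Coh.toAb (Twist.twistOver r Y d))) := by
  have hB : ∀ (U : Opens Y) (x : Y), x ∈ U → ∃ V ∈ {V : Y.Opens | IsAffineOpen V}, x ∈ V ∧ V ≤ U := by
    intro U x hx
    obtain ⟨_, ⟨V, hV, rfl⟩, hxV, hVU⟩ :=
      Y.isBasis_affineOpens.exists_subset_of_mem_open hx U.2
    exact ⟨V, hV, hxV, hVU⟩
  cases i with
  | zero =>
    let G : CohTop.Ab Y := (Coh.pushAb (CohB1.ProjSpaceOver.toBase r Y)).obj
      (Coh.toAb (Twist.twistOver r Y d))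
    have hZ : IsZero G := by
      let S : ShortComplex (CohTop.Ab Y) := ShortComplex.mk (0 : 0 ⟶ G) (0 : G ⟶ 0) zero_comp
      have hS : S.Exact := by
        refine Groth.Agent.Lib.Helper26.LerayBasis.exact_of_sections_exact_basis S
          {V | IsAffineOpen V} hB (fun V hV s _ => ⟨0, ?_⟩)
        have hsub := subsingleton_HU r (Y := Y) hV d 0 h₀ hn
        have e := Groth.Agent.Lib.Helper26.CechLES.clsEquiv
          (Coh.toAb (Twist.twistOver r Y d)) (UU r Y V)
        exact e.injective (@Subsingleton.elim _ hsub _ _)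
      exact hS.isZero_X₂ rfl rfl
    exact IsZero.of_iso hZ ((Functor.rightDerivedZeroIsoSelf
      (Coh.pushAb (CohB1.ProjSpaceOver.toBase r Y))).app _)
  | succ q =>
    exact Groth.Agent.Lib.Helper26.LerayBasis.isZero_Rpush_succ_of_basis
      (CohB1.ProjSpaceOver.toBase r Y).base (Coh.toAb (Twist.twistOver r Y d))
      {V | IsAffineOpen V} hB q (fun V hV => subsingleton_HU r hV d (q + 1) h₀ hn)

end Coh

end Groth.Agent.Lib.Helper93.RelPn
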