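import Mathlib
import Groth.Agent.S4875

set_option autoImplicit false
universe u

open CategoryTheory CategoryTheory.Limits AlgebraicGeometry TensorProduct

namespace Groth.Agent.Lib.Helper93.SDFRC

section aux

variable {k : Type u} [Field k] {A R : Type u} [CommRing A] [Algebra k A] [CommRing R] [Algebra k R]

/-- every tensor lies in the image of `A ⊗ S` for every subalgebra `S` containing a finite set. -/
theorem exists_finset (x : A ⊗[k] R) : ∃ T : Finset R, ∀ S : Subalgebra k R, (↑T : Set R) ⊆ S →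
    ∃ y : A ⊗[k] S, Algebra.TensorProduct.map (AlgHom.id k A) S.val y = x := by
  classical
  induction x using TensorProduct.induction_on with
  | zero => exact ⟨∅, fun S _ => ⟨0, map_zero _⟩⟩
  | tmul a r =>
    refine ⟨{r}, fun S hS => ⟨a ⊗ₜ ⟨r, hS (by simp)⟩, ?_⟩⟩
    simp
  | add x y hx hy =>
    obtain ⟨T1, h1⟩ := hx
    obtain ⟨T2, h2⟩ := hy
    refine ⟨T1 ∪ T2, fun S hS => ?_⟩
    obtain ⟨y1, hy1⟩ := h1 S (fun z hz => hS (by simp [Finset.mem_coe.mp hz]))
    obtain ⟨y2, hy2⟩ := h2 S (fun z hz => hS (by simp [Finset.mem_coe.mp hz]))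
    exact ⟨y1 + y2, by rw [map_add, hy1, hy2]⟩

theorem map_val_injective (D : Type u) [CommRing D] [Algebra k D] (S : Subalgebra k R) :
    Function.Injective (Algebra.TensorProduct.map (AlgHom.id k D) S.val) := by
  have h : Function.Injective (LinearMap.lTensor D S.val.toLinearMap) :=
    Module.Flat.lTensor_preserves_injective_linearMap _ Subtype.val_injective
  intro x y hxy
  apply h
  have e : ∀ z : D ⊗[k] S, LinearMap.lTensor D S.val.toLinearMap z =
      Algebra.TensorProduct.map (AlgHom.id k D) S.val z := by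
    intro z
    induction z using TensorProduct.induction_on with
    | zero => simp
    | tmul a r => simp
    | add x y hx hy => rw [map_add, map_add, hx, hy]
  rw [e, e, hxy]

end aux

theorem RC {k : Type u} [Field k] {A R : Type u} [CommRing A] [Algebra k A] [CommRing R] [Algebra k R] (b τ : A ⊗[k] R) {Λ : Type u} (C : Λ → Type u) [∀ i, CommRing (C i)] [∀ i, Algebra k (C i)] (ψ : ∀ i, A →ₐ[k] C i) (hSL : ∀ (g x : A), (∀ i, ∃ m : ℕ, ψ i g ^ m * ψ i x = 0) → ∃ m : ℕ, g ^ m * x = 0) (hvan : ∀ i, ∃ m : ℕ, (Algebra.TensorProduct.map (ψ i) (AlgHom.id k R) b) ^ m * Algebra.TensorProduct.map (ψ i) (AlgHom.id k R) τ = 0) : ∃ m : ℕ, b ^ m * τ = 0 := by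
  classical
  obtain ⟨Tb, hTb⟩ := exists_finset b
  obtain ⟨Tτ, hTτ⟩ := exists_finset τ
  let R₀ : Subalgebra k R := Algebra.adjoin k (↑(Tb ∪ Tτ) : Set R)
  have hfg : R₀.FG := ⟨Tb ∪ Tτ, rfl⟩
  obtain ⟨b₀, hb₀⟩ := hTb R₀ (fun z hz => Algebra.subset_adjoin (by simp [Finset.mem_coe.mp hz]))
  obtain ⟨τ₀, hτ₀⟩ := hTτ R₀ (fun z hz => Algebra.subset_adjoin (by simp [Finset.mem_coe.mp hz]))
  have : Algebra.FiniteType k R₀ := (Subalgebra.fg_iff_finiteType R₀).mp hfg
  have : Algebra.FinitePresentation k R₀ := Algebra.FinitePresentation.of_finiteType.mp inferInstance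
  let B₀ := Localization.Away b₀
  have : Algebra.FinitePresentation A (A ⊗[k] R₀) := inferInstance
  have : Algebra.FinitePresentation (A ⊗[k] R₀) B₀ :=
    IsLocalization.Away.finitePresentation b₀
  have : Algebra.FinitePresentation A B₀ :=
    Algebra.FinitePresentation.trans A (A ⊗[k] R₀) B₀
  have : Module.Flat A (A ⊗[k] R₀) := inferInstance
  have : Module.Flat (A ⊗[k] R₀) B₀ := IsLocalization.flat B₀ (Submonoid.powers b₀)
  have : Module.Flat A B₀ := Module.Flat.trans A (A ⊗[k] R₀) B₀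
  obtain ⟨l, hl, hfree⟩ := Groth.Agent.S2591.result (A := A) (B := B₀) B₀
  have hzero : algebraMap (A ⊗[k] R₀) B₀ τ₀ = 0 := by
    refine Groth.Agent.S4875.ringF (A := A) B₀ l hl hfree C (fun i => (ψ i).toRingHom) hSL
      (algebraMap (A ⊗[k] R₀) B₀ τ₀) ?_
    intro i R' _ α β hαβ
    -- descend the vanishing to `C i ⊗ R₀`
    obtain ⟨m, hm⟩ := hvan i
    have hcomm : ∀ x : A ⊗[k] R₀,
        Algebra.TensorProduct.map (ψ i) (AlgHom.id k R)
          (Algebra.TensorProduct.map (AlgHom.id k A) R₀.val x) =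
        Algebra.TensorProduct.map (AlgHom.id k (C i)) R₀.val
          (Algebra.TensorProduct.map (ψ i) (AlgHom.id k R₀) x) := by
      intro x
      induction x using TensorProduct.induction_on with
      | zero => simp
      | tmul a r => simp
      | add x y hx hy => rw [map_add, map_add, map_add, map_add, hx, hy]
    have hm0 : (Algebra.TensorProduct.map (ψ i) (AlgHom.id k R₀) b₀) ^ m *
        Algebra.TensorProduct.map (ψ i) (AlgHom.id k R₀) τ₀ = 0 := by
      apply map_val_injective (C i) R₀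
      rw [map_mul, map_pow, ← hcomm, ← hcomm, hb₀, hτ₀, hm, map_zero]
    -- the ring hom `γ : C i ⊗ R₀ → R'`
    letI : Algebra (C i) R' := α.toAlgebra
    letI : Algebra k R' := (α.comp (algebraMap k (C i))).toAlgebra
    let ι : A ⊗[k] R₀ →+* B₀ := algebraMap (A ⊗[k] R₀) B₀
    have hαβ' : ∀ a : A, α (ψ i a) = β (ι (a ⊗ₜ[k] (1 : R₀))) := by
      intro a
      have h1 := congrArg (fun φ => φ a) hαβ
      simp only [RingHom.comp_apply] at h1
      have h2 : algebraMap A B₀ a = ι (a ⊗ₜ[k] (1 : R₀)) := by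
        rw [IsScalarTower.algebraMap_apply A (A ⊗[k] R₀) B₀]
        rfl
      rw [← h2]
      exact h1
    let f1 : C i →ₐ[k] R' := { α with commutes' := fun c => rfl }
    let f2 : R₀ →ₐ[k] R' :=
      { (β.comp (ι.comp (Algebra.TensorProduct.includeRight : R₀ →ₐ[k] A ⊗[k] R₀).toRingHom)) with
        commutes' := fun c => by
          show β (ι ((1 : A) ⊗ₜ[k] (algebraMap k R₀ c))) = α (algebraMap k (C i) c)
          rw [← (ψ i).commutes c, hαβ']
          congr 2
          rw [Algebra.algebraMap_eq_smul_one, Algebra.algebraMap_eq_smul_one, TensorProduct.smul_tmul] }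
    let γ : C i ⊗[k] R₀ →ₐ[k] R' := Algebra.TensorProduct.productMap f1 f2
    have key : ∀ x : A ⊗[k] R₀,
        γ (Algebra.TensorProduct.map (ψ i) (AlgHom.id k R₀) x) = β (ι x) := by
      intro x
      induction x using TensorProduct.induction_on with
      | zero => simp
      | tmul a r =>
        rw [Algebra.TensorProduct.map_tmul, Algebra.TensorProduct.productMap_apply_tmul]
        show α (ψ i a) * β (ι ((1 : A) ⊗ₜ[k] r)) = _
        rw [hαβ', ← map_mul, ← map_mul, Algebra.TensorProduct.tmul_mul_tmul, mul_one, one_mul]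
      | add x y hx hy => rw [map_add, map_add, map_add, map_add, hx, hy]
    have h3 := congrArg γ hm0
    rw [map_mul, map_pow, key, key, map_zero] at h3
    have hunit : IsUnit (β (ι b₀)) :=
      (IsLocalization.Away.algebraMap_isUnit (S := B₀) b₀).map β
    exact (hunit.pow m).mul_right_eq_zero.mp h3
  obtain ⟨⟨m, n, rfl⟩, hm⟩ := (IsLocalization.map_eq_zero_iff (Submonoid.powers b₀) B₀ τ₀).mp hzero
  refine ⟨n, ?_⟩
  have := congrArg (Algebra.TensorProduct.map (AlgHom.id k A) R₀.val) hm
  simpa [map_mul, map_pow, hb₀, hτ₀] using this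

end Groth.Agent.Lib.Helper93.SDFRC
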