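import Mathlib
import Groth.Agent.Lib.Helper93.ProjFormula
import Groth.Agent.Lib.Helper93.SerreVan
import Groth.Agent.Lib.Helper64.CohPush
import Groth.Agent.Lib.Helper53.ClosedEmbCoh

/-!
# Serre vanishing for closed subschemes of `P^r_A`
-/

set_option autoImplicit false
universe u

open CategoryTheory AlgebraicGeometry TopologicalSpace Opposite

namespace Groth.Agent.Lib.Helper93.SerreVanClosed

open Groth.Agent.Lib.Helper97.TwistExact

/-- cohomology of a module on a closed subscheme agrees with that of its direct image -/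
theorem subsingleton_HH_of_pushforward {X Y : Scheme.{u}} (i : X ⟶ Y) [IsClosedImmersion i]
    (G : X.Modules) (j : ℕ)
    (h : Subsingleton (Coh.HH Y ((Scheme.Modules.pushforward i).obj G) j)) :
    Subsingleton (Coh.HH X G j) := by
  have hce : Topology.IsClosedEmbedding i.base := i.isClosedEmbedding
  have hpc := Groth.Agent.Lib.Helper53.preservesFiniteColimits_push_of_isClosedEmbedding
    i.base hce
  obtain ⟨e⟩ := Groth.Agent.Lib.Helper53.nonempty_hEquiv i.base hpc j (Coh.toAb G)
  have h' : Subsingleton (CohTop.H ((CohTop.push i.base).obj (Coh.toAb G)) j) := h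
  exact e.injective.subsingleton

/-- **Serre vanishing** for a coherent module on a closed subscheme of `P^r_A`, `A` Noetherian. -/
theorem serre_vanishing_closed (A : Type u) [CommRing A] [IsNoetherianRing A] (r : ℕ)
    (X : Scheme.{u}) (i : X ⟶ CohB1.ProjSpace r A) [IsClosedImmersion i]
    (F : X.Modules) (hF : Coh.IsCoh F) :
    ∃ N : ℤ, ∀ n : ℤ, N ≤ n → ∀ j : ℕ, 0 < j →
      Subsingleton (Coh.HH X (CohB1.tensorMod F
        ((Scheme.Modules.pullback i).obj (Twist.twistProjSpace r A n))) j) := by
  have hcoh : Coh.IsCoh ((Scheme.Modules.pushforward i).obj F) :=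
    Groth.Agent.Lib.Helper64.CohPush.isCoh_pushforward_of_isFinite i F hF
  obtain ⟨d₀, h⟩ := Groth.Agent.Lib.Helper93.SerreVan.serre_vanishing r A _ hcoh
  refine ⟨d₀, fun n hn j hj => ?_⟩
  obtain ⟨e⟩ := Groth.Agent.Lib.Helper93.ProjFormula.nonempty_projection_formula i F
    (Twist.twistProjSpace r A n) (Groth.Agent.Lib.Helper93.SerreVan.isInvertible_twist r A n)
  apply subsingleton_HH_of_pushforward i
  exact subsingleton_HH_of_iso' e j (h n hn j hj)

end Groth.Agent.Lib.Helper93.SerreVanClosed
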