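import Mathlib
import Groth.Agent.Lib.Lead.Tw1
import Groth.Agent.Lib.Helper97.TwistExact

set_option autoImplicit false
universe u
open CategoryTheory CategoryTheory.Limits AlgebraicGeometry MonoidalCategory Opposite

namespace Groth.Agent.Lib.Helper93.TwistInv

open Groth.Agent.Lib.Lead.Inv Groth.Agent.Lib.Helper97.TwistExact

variable {X : Scheme.{u}}

/-- forgetful functor to presheaves of modules, typed for the monoidal structure -/
noncomputable def iP : X.Modules ⥤ CohB1.PMod X := Scheme.Modules.toPresheafOfModules X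

theorem iP_obj (M : X.Modules) : iP.obj M = CohB1.toPMod M := rfl

/-- underlying map of presheaves of modules -/
noncomputable def pm {M M' : X.Modules} (φ : M ⟶ M') : CohB1.toPMod M ⟶ CohB1.toPMod M' :=
  (Scheme.Modules.toPresheafOfModules X).map φ

theorem twistF_map (L : X.Modules) {M M' : X.Modules} (φ : M ⟶ M') :
    (twistF L).map φ = (shP X).map (pm φ ▷ CohB1.toPMod L) := rfl

/-- counit of sheafification -/
noncomputable def εP (M : X.Modules) : (shP X).obj (CohB1.toPMod M) ⟶ M :=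
  (PresheafOfModules.sheafificationAdjunction (𝟙 X.ringCatSheaf.obj)).counit.app M

instance (M : X.Modules) : IsIso (εP M) := by
  unfold εP
  have h : IsIso (PresheafOfModules.sheafificationAdjunction.{u} (𝟙 X.ringCatSheaf.obj)).counit :=
    inferInstance
  exact @NatIso.isIso_app_of_isIso _ _ (SheafOfModules X.ringCatSheaf) _ _ _ _ h M

theorem εP_naturality {M M' : X.Modules} (φ : M ⟶ M') :
    (shP X).map (pm φ) ≫ εP M' = εP M ≫ φ :=
  (PresheafOfModules.sheafificationAdjunction (𝟙 X.ringCatSheaf.obj)).counit.naturality φ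

theorem ηP_naturality {P Q : CohB1.PMod X} (ψ : P ⟶ Q) :
    ψ ≫ ηP Q = ηP P ≫ pm ((shP X).map ψ) :=
  (PresheafOfModules.sheafificationAdjunction (𝟙 X.ringCatSheaf.obj)).unit.naturality ψ

section

variable (L L' : X.Modules) (μ : CohB1.tensorMod L L' ≅ Coh.structureModule X)

/-- the pairing `L ⊗ L' → O` at presheaf level -/
noncomputable def ν : CohB1.toPMod L ⊗ CohB1.toPMod L' ⟶ 𝟙_ (CohB1.PMod X) :=
  ηP (CohB1.toPMod L ⊗ CohB1.toPMod L') ≫ pm μ.hom

/-- comparison `(M ⊗ L) ⊗ L'` (presheaf tensor, sheafified once) to the iterated sheaf tensor -/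
noncomputable def cA (M : X.Modules) :
    (shP X).obj ((CohB1.toPMod M ⊗ CohB1.toPMod L) ⊗ CohB1.toPMod L') ⟶
      (twistF L').obj ((twistF L).obj M) :=
  (shP X).map (ηP (CohB1.toPMod M ⊗ CohB1.toPMod L) ▷ CohB1.toPMod L')

noncomputable def cB (M : X.Modules) :
    (shP X).obj ((CohB1.toPMod M ⊗ CohB1.toPMod L) ⊗ CohB1.toPMod L') ⟶ M :=
  (shP X).map (α_ (CohB1.toPMod M) (CohB1.toPMod L) (CohB1.toPMod L')).hom ≫
    (shP X).map (CohB1.toPMod M ◁ ν L L' μ) ≫ (shP X).map (ρ_ (CohB1.toPMod M)).hom ≫ εP M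

variable {L L'}

theorem cA_naturality {M M' : X.Modules} (φ : M ⟶ M') :
    cA L L' M ≫ (twistF L').map ((twistF L).map φ) =
      (shP X).map ((pm φ ▷ CohB1.toPMod L) ▷ CohB1.toPMod L') ≫ cA L L' M' := by
  have h : (ηP (CohB1.toPMod M ⊗ CohB1.toPMod L) ▷ CohB1.toPMod L') ≫
      (pm ((shP X).map (pm φ ▷ CohB1.toPMod L)) ▷ CohB1.toPMod L') =
      ((pm φ ▷ CohB1.toPMod L) ▷ CohB1.toPMod L') ≫
        (ηP (CohB1.toPMod M' ⊗ CohB1.toPMod L) ▷ CohB1.toPMod L') := by
    rw [← comp_whiskerRight, ← comp_whiskerRight, ηP_naturality]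
  have h2 := congrArg (shP X).map h
  rw [Functor.map_comp, Functor.map_comp] at h2
  exact h2

theorem cB_naturality {M M' : X.Modules} (φ : M ⟶ M') :
    (shP X).map ((pm φ ▷ CohB1.toPMod L) ▷ CohB1.toPMod L') ≫ cB L L' μ M' =
      cB L L' μ M ≫ φ := by
  unfold cB
  have e1 : (shP X).map ((pm φ ▷ CohB1.toPMod L) ▷ CohB1.toPMod L') ≫
      (shP X).map (α_ (CohB1.toPMod M') (CohB1.toPMod L) (CohB1.toPMod L')).hom =
      (shP X).map (α_ (CohB1.toPMod M) (CohB1.toPMod L) (CohB1.toPMod L')).hom ≫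
        (shP X).map (pm φ ▷ (CohB1.toPMod L ⊗ CohB1.toPMod L')) := by
    rw [← Functor.map_comp, ← Functor.map_comp]
    congr 1
    exact associator_naturality_left (pm φ) _ _
  have e2 : (shP X).map (pm φ ▷ (CohB1.toPMod L ⊗ CohB1.toPMod L')) ≫
      (shP X).map (CohB1.toPMod M' ◁ ν L L' μ) =
      (shP X).map (CohB1.toPMod M ◁ ν L L' μ) ≫ (shP X).map (pm φ ▷ 𝟙_ (CohB1.PMod X)) := by
    rw [← Functor.map_comp, ← Functor.map_comp]
    congr 1
    exact (whisker_exchange (pm φ) (ν L L' μ)).symm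
  have e3 : (shP X).map (pm φ ▷ 𝟙_ (CohB1.PMod X)) ≫ (shP X).map (ρ_ (CohB1.toPMod M')).hom =
      (shP X).map (ρ_ (CohB1.toPMod M)).hom ≫ (shP X).map (pm φ) := by
    rw [← Functor.map_comp, ← Functor.map_comp]
    congr 1
    exact rightUnitor_naturality (pm φ)
  rw [reassoc_of% e1, reassoc_of% e2, reassoc_of% e3, εP_naturality]
  simp only [Category.assoc]

theorem isIso_cA (hL' : PicF.IsInvertible L') (M : X.Modules) : IsIso (cA L L' M) :=
  isIso_shP_whiskerRight_η (C := L') _ hL'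

theorem isIso_cB (hL : PicF.IsInvertible L) (hL' : PicF.IsInvertible L') (M : X.Modules) :
    IsIso (cB L L' μ M) := by
  unfold cB
  have h3 : IsIso ((shP X).map (CohB1.toPMod M ◁ ηP (CohB1.toPMod L ⊗ CohB1.toPMod L'))) :=
    (assocOK_of_mid_right (A := M) hL hL').h3
  have h4 : IsIso ((shP X).map (CohB1.toPMod M ◁ pm μ.hom)) := by
    haveI : IsIso (pm μ.hom) := ((Scheme.Modules.toPresheafOfModules X).mapIso μ).isIso_hom
    infer_instance
  have h5 : (shP X).map (CohB1.toPMod M ◁ ν L L' μ) =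
      (shP X).map (CohB1.toPMod M ◁ ηP (CohB1.toPMod L ⊗ CohB1.toPMod L')) ≫
        (shP X).map (CohB1.toPMod M ◁ pm μ.hom) := by
    unfold ν
    rw [MonoidalCategory.whiskerLeft_comp, Functor.map_comp]
    rfl
  rw [h5]
  have h6 : IsIso ((shP X).map (α_ (CohB1.toPMod M) (CohB1.toPMod L) (CohB1.toPMod L')).hom) :=
    Functor.map_isIso _ _
  have h7 : IsIso ((shP X).map (ρ_ (CohB1.toPMod M)).hom) := Functor.map_isIso _ _
  have h8 : IsIso (εP M) := inferInstance
  exact IsIso.comp_isIso' h6 (IsIso.comp_isIso' (IsIso.comp_isIso' h3 h4) (IsIso.comp_isIso' h7 h8))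

/-- **Twisting by `L` and then by an inverse `L'` is naturally isomorphic to the identity.** -/
noncomputable def twistTwistIso (hL : PicF.IsInvertible L) (hL' : PicF.IsInvertible L') :
    twistF L ⋙ twistF L' ≅ 𝟭 X.Modules :=
  NatIso.ofComponents (fun M =>
      haveI := isIso_cA (L := L) hL' M
      haveI := isIso_cB μ hL hL' M
      (asIso (cA L L' M)).symm ≪≫ asIso (cB L L' μ M))
    (by
      intro M M' φ
      haveI := isIso_cA (L := L) hL' M
      haveI := isIso_cA (L := L) hL' M'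
      have h1 := cA_naturality (L := L) (L' := L') φ
      have h2 := cB_naturality μ φ
      have h3 : (twistF L').map ((twistF L).map φ) ≫ inv (cA L L' M') =
          inv (cA L L' M) ≫ (shP X).map ((pm φ ▷ CohB1.toPMod L) ▷ CohB1.toPMod L') := by
        rw [IsIso.comp_inv_eq, Category.assoc, IsIso.eq_inv_comp]
        exact h1
      show (twistF L').map ((twistF L).map φ) ≫ (inv (cA L L' M') ≫ cB L L' μ M') =
        (inv (cA L L' M) ≫ cB L L' μ M) ≫ φ
      rw [reassoc_of% h3, h2, Category.assoc])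

end

end Groth.Agent.Lib.Helper93.TwistInv
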