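import Mathlib
import Groth.Agent.Lib.Helper93.TwistInv
import Groth.Agent.Lib.Helper93.SerreVan
import Groth.Agent.Lib.Helper53.ModExt
import Groth.Agent.Lib.Helper53.ModGroth

/-!
# Lifting global sections through an epimorphism with `H^1` of the kernel zero; splitting a short
exact sequence after an invertible twist
-/

set_option autoImplicit false
universe u
open CategoryTheory CategoryTheory.Limits AlgebraicGeometry MonoidalCategory Opposite Abelian

namespace Groth.Agent.Lib.Helper93.SplitLift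

open Groth.Agent.Lib.Lead.Inv Groth.Agent.Lib.Helper97.TwistExact
  Groth.Agent.Lib.Helper93.TwistInv

variable {X : Scheme.{u}}

/-- a global section of `S.X₃` lifts to `S.X₂` when `H^1(X, S.X₁) = 0` -/
theorem exists_lift (S : ShortComplex X.Modules) (hS : S.ShortExact)
    (h1 : Subsingleton (Coh.HH X S.X₁ 1)) (ι : Coh.structureModule X ⟶ S.X₃) :
    ∃ σ : Coh.structureModule X ⟶ S.X₂, σ ≫ S.g = ι := by
  haveI : IsGrothendieckAbelian.{u} X.Modules :=
    Groth.Agent.Lib.Helper53.ModGroth.isGrothendieckAbelian (Opens.grothendieckTopology X)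
      X.ringCatSheaf
  haveI hExt : HasExt.{u} X.Modules := hasExt_of_enoughInjectives _
  haveI : HasExt.{u} (SheafOfModules.{u} X.ringCatSheaf) := hExt
  obtain ⟨e⟩ := Groth.Agent.Lib.Helper53.ModExt.nonempty_ext_unit_equiv
    (Opens.grothendieckTopology X) X.ringCatSheaf S.X₁ 1
  haveI hsub : Subsingleton (Ext.{u} (Coh.structureModule X) S.X₁ 1) :=
    @Equiv.subsingleton _ _ e.toEquiv h1
  obtain ⟨x₂, hx₂⟩ := Ext.covariant_sequence_exact₃ (Coh.structureModule X) hS
    (Ext.mk₀ ι) (rfl : 0 + 1 = 1) (Subsingleton.elim _ _)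
  obtain ⟨σ, rfl⟩ := Ext.addEquiv₀.symm.surjective x₂
  have h2 : (Ext.addEquiv₀.symm σ : Ext (Coh.structureModule X) S.X₂ 0) =
      Ext.mk₀ σ := rfl
  rw [h2, Ext.mk₀_comp_mk₀] at hx₂
  exact ⟨σ, (Ext.mk₀_bijective _ _).1 hx₂⟩

/-- If `S` becomes split after twisting by an invertible `L` (with inverse `L'`), in the sense
that `T g` has a section, then `g` has a section. -/
theorem exists_section_of_twist {L L' : X.Modules}
    (μ : CohB1.tensorMod L L' ≅ Coh.structureModule X)
    (hL : PicF.IsInvertible L) (hL' : PicF.IsInvertible L') {A B : X.Modules} (g : A ⟶ B)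
    (σ' : (twistF L).obj B ⟶ (twistF L).obj A) (hσ' : σ' ≫ (twistF L).map g = 𝟙 _) :
    ∃ s : B ⟶ A, s ≫ g = 𝟙 B := by
  let τ := twistTwistIso μ hL hL'
  refine ⟨τ.inv.app B ≫ (twistF L').map σ' ≫ τ.hom.app A, ?_⟩
  have hn : (twistF L').map ((twistF L).map g) ≫ τ.hom.app B = τ.hom.app A ≫ g :=
    τ.hom.naturality g
  rw [Category.assoc, Category.assoc, ← hn, ← Functor.map_comp_assoc, hσ', CategoryTheory.Functor.map_id,
    Category.id_comp]
  exact τ.inv_hom_id_app B

end Groth.Agent.Lib.Helper93.SplitLift
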